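import Cfsg.Agent.Lib.Spor.ThRel
import Cfsg.Agent.Lib.Comp.CLow
set_option autoImplicit false
set_option linter.all false
set_option maxRecDepth 100000
universe u
namespace CA.ThT2
open CA.CNet CA.CWord CA.CLevel CA.CSimple CA.CPoint CA.CTodd CA.CPres CA.CLow
noncomputable section
def RG : List Word := [[0,0], [2,2], [4,4], [6,6], [8,8], [0,2,0,2,0,2], [0,8,0,8], [2,4,2,4,2,4], [2,6,2,6], [2,8,2,8], [0,7,5,7,5,7,5,7,5], [4,8,4,8], [6,8,6,8,6,8], [2,4,6,8,2,4,6,8,2,4,6,8,2,4,6,8,2,4,6,8,2,4,6,8,2,4,6,8,2,4,6,8], [10,10,5,1], [11,1,10,0], [11,5,10,4], [11,9,10,8], [6,8,11,6,10,6,8,11,6,10], [11,3,5,1,2,10,3,0,4,2,9], [7,11,6,3,5,1,2,7,10,6,3,0,4,2,5,9,7,11,6,3,5,1,2,9,11,13], [12,0,13,1], [12,2,13,3], [12,4,13,5], [12,6,13,7], [12,8,13,9], [12,10,13,11]]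
namespace T0
noncomputable def A_0 : List (ℕ) := [nat_lit 0x1a201e81e9825c25c80ac0ac50230233807807900180a880246b4900600a300200318008d64434034031e81e82145945947a47a4422022031eb1eb20c38c39497097045305303259259213a13a1468c68c423a23a308f08f201d01d1423023041b61b6306235839ab9ab90d58d5846aa6aa335435409801a988d48d4826866a2134006229a81a808370370611c11c411b11b28fc0fc0847847863f63f6417d17d288b88b887c87c864bc4bc4256256290890888a34a3463d43d4410f10f28420420843443461a81a8434434f21a71a708d34d3424b64b6328f28f11a61a60cd2cd2ca4f64f641b31b339a51a510d24d244690690334734708061a308d14d1426886883340343117401284d04d0926826824340340100819f94cf8cf8467a67a333c33c219d99d94ce8ce8407607630900902073873946d46d443be3be3339339212992994ce0ce0466e66e3336336219a99a94cd0cd046666663332332219899894cc0cc0465e65e332e32e216819688cb0cb06656656532a32a21949949cca0ca0864e64e2326326182d82d84c94c94458c6483323323099119108c84c84c640640231f31f098f18f0cc68c7465a06381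00531b180398d0801cc64a6306302317317198b18b10c54c54a6286282313313198918910c44c44a620620230f30f198718710c34c34a618618230b30b198518510c24c24a6106102307307198318310c14c14a6086082303303198118110c04c04a60060022f12ff197f17f04bf4bf445f85f842fb2fb317d17d10be4be445f05f012f72f7197b17b08bd4bd465e85e852e22f3216417910bc4bc465885e032ef2ef097717708bb4bb485d85d862eb2eb217517508ba4ba425d05d032e72e711731730cb94b94a5c85c842e32e3397117110b84b8445c05c032df2df096f16f08b74b75257e5b892be2db400080494b68b68402602632d92d9203483494398398436236232d82d8213c13c146c86c842e42e431431432090890943003004226226308b08b201c01c14b5cb5c45ac5ac3018018216a96a94b50b5045a65a632d22d2216896894b40b404594048305c05c08688688819c19c81ca1ca60e40e42033033080ac0ac2032032300c00c11679678cb38b38a58859a42cc2cc300196590b28b28600600e50032c940000028c02c02c2024024202902920328329820020081ac1ac205f05f08130130c044044459059032c72c7296316310b14b14e58858842c32c311611610cb04b04258058022bf004080100108004040a0100107003003200095fa4004af920000026000,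
  nat_lit 0x42b1a15215110a50a4a85085024274271a1321311095094a84884824234231a1121111085084a840840241f41f1a0ba0f1d0750748838838241b41b1a0d20d04b41064483083013f54172a0b20b09055054682882844134132a09209090450446820820440f40f2a07207090350346818818440b40b2a0520509025024681081044074072a0320309015014680880843f6403220120109005004280080033ff3ff11ff1ff0cff4ff4a7f87f843fb3fb39fd1fd10fe4fe447f07f033f73f709689fb0cc94fd4404c7e813423f311f91f90cfc4fc487e07e053ef3ef11f71f70cfb4fb487d87d853eb3eb11f51f50cfa4fa487d07d053e73e711f31f30cf94f9487c87c853e33e311f11f10cf84f8487c07c053df3df11ef1ef0cf74f7486007b853db3db11ed1ed0cf64f6487b07b053d73d711eb1eb0cf54f5487a87a853d33d311e91e90cf44f4487a07a053cf3cf11e71e70cf34f34879879853cb3cb11e51e50cf24f24879079052ed3c721e31e308f14f14678878813c33c311e11e110f04f04c78078043bf3bf11df1df04ef4ef4677877823bb3bb19dd1dd14ee4ee4806e77043b73b731db1db10ed4ed4a6e876842ef3b321d91d914ec4ec4476076033af3af21d71d714eb4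eb4475875833ab3ab21d51d514ea4ea4475075033a73a721d31d314e94e94474874833a33a321d11d114e84e844740740339f39f21cf1cf14e74e7445de738439b39b11cd1cd0ce64e642730730239739721cb1cb18e54e548728728239339309c91c90ce44e444720720338f38f29c71c71008ce348718718638b38b21c51c514d88e2485dc71052f038729c31c308e14e146708708438338329c11c108e04e046700700437f37f29bf1bf08df4df466f86f8437b37b29bd1bd08de4de466f06f0437737729bb1bb08dd4dd46652028402f02f10380380c3dc3dc2382382227d27d20ed0ed185305308386386222922908a40a40c2a02a0408e08e3076076284504510dd0dd0e6e66e6437237211b89b88cdc0dc026de6de236d36e080b00b080280b080d60d660ed0ed2043843940dc0dce02e02e400a36d48051b614dacdac46d46d4336936920e28e294778778420620633683682081081143d43d4438c38c30fb0fb21b39b3941e81e840e40e430f40f421b31b314d94d9446c86c83363363217b80690074074408408430a00a008998998870870882522526155155207d07d0873c73c23ac3ac30fe0fe103a83a8c120120a0b40b4436236239b09b090d80d8046be6be335e35e09ae9ae88d68d7026b66b62006,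
  nat_lit 0x175205c85c94144144e03e03e400e01b301580704054054c01693c149d49d123f83890304304a30c30c217317318a20a211271270a9369362224224192a12a105c808880b00b020c60c608988988c6c06c0439439431bf1bf28fe0fe10480480e11e0402052052301c01990209268848c48c525825810bc8bc8d26526489309305497497124b24b0c614614817e17e5053053105f05f0c60860884b614c4045045105285284340340692a92a20f80f818e60e615251250836e36e749349320340340924924869229221490490108608614208208c06491e40810812a47247092352346068068448c48c2a45a4589229228691291244884882a43a4389219218690a90a448448428f78f78920d20c6904904428328328f88f8886cc38c89029026480480213c93c946cd1fc806406430801b4297d885891f91f8621c21c447d47d2a3e23e091ed1ec68f48f44287287293f93f88864864627e27e4221221294a94a88a68a686444444447947928d58d588500500643043044784782a3ba3b891d91d868ea8ea41d91d9288b08b086b0224822422424744741853853851cd1cc433633640cf0cf303a03a103ac3ac42ac2ac1472472184a84a8849849868e28e254704702237a379d1b9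1b888da8da246c46c1a35a35851a91a848d28d254614681a33a338519919848be22241bc1bc3232a3291191190a8c68c6746246220140d2909b89b8a33a8c29027460486ba2f98bf4374835c35c2195195193293284658658430830840c90c9305c05c105d05d0449e49e12a12a1195d15d08ac0ac0650c50c525f25f222f22f1d17517488b88b8245b45b1a2d22d0516516448b08b054550da18ad8ad8467867841a41a4605b1ad21321321915d15c88ac8ac518a18a38628629018435c61061064405455483006998bf83544168168316016008978978884084084a24a2625a25a20c00c0085ac5ac2478478316c16c11269268c98c98ca32432440c70c73832032111511504086086309e09e082202208178178a8a209a30ad0ad082602608174494a1c41c470630632013a298d149148833a33a31ac1ac220fa28a40a0174c5fe0c26026027083003018fd00a0c0be8a012ff44f2a27227091351346898898444b44b2a2522509125124689089044474472a2322309115114688888844434432a21221091051046880880443f43f2a1f21f090f50f4687887842fe43b121d21d110e50e4c8708704437437121b21b050d50d4686886824334331a1921914d390c42022860242f42f1a17217110b50b4a858858242b,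
  nat_lit 0x1e110838839850c7d8a39222a61b515718560560412c12c403ea3454ae0791a8ca8c8546146041dc1dc4517517303882a0c084084206a16a316916908958958825825882582586118118228b28b094554542a28a28351351312892890d445444aa20a2044e810020ee8ee884044046254254150f50f128728711435434ca18a18450b50b1285285054254246a10a1025075071a83283154154148a00148313e13e086c06c081814108a06a0665025022280a8095401400e9fe9fe40d31d028f98f98885885869fc9fc419019028bc0bc093f53f469f89f844fb4fb2a7d27d086a86a8642e42e42114f9227c27c093dd3dc643443414f64f6127aa7a90624624c9e89e844f34f312792790487887864ee4ee24f14f11a78278149d49d4834834874ef4ef2277277093b53b4615c15c104d09d0821a76113ad3acc9d49d444e94e92a742741d39d39c80bc10a30354e62272a7294a44a44452c52c34e44e42271a719538938849c29c234e04e0226fa6f9537937849ba9ba34dc4dc226da6d9536936849b29b234d84d8226ba6b940d40d441029ac34d54d5126a26a0d34d34ca1e61e644d24d2387a26885341340699e99e24ce4ce18e00e015335334899899874cb4cb22652650860c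60c63b03b012830e820dc8dc88928928653e53e124b24b1264a6490988988c99099044c74c7126326305315314610c10c203603618118db1071c71cc9889884130130284d8489048c48c43fe3fe326026008cd0cd0930d30c898498460570572260a6089301300211011034bf4bf108f88f8c468468a2f82f840f206c1837037040b80b8402822841bd1bd30e48e4905e85e8a1e41e4706d06d20168498d2f92f8227027024bd4bd225e25e186a06a0831e31e226126109281280c7d07d0423223234bb4bb28990991026c26ce07e07e44ba4ba125ca5c8c124124203c080101c4b81a5ba5b852d92d8496a96a44b44b430ed8ed90a10a10445a45a115215219181180880c80c62fe2fe54b34b3202881c90234234418418434b24b20a58a58892c12c0895e95e621c21c2104104084a04a021c01c0312712711031030c798798a214214407f030183c03c041a81a8405895c44ad4ad283f83f9c0c40c4802a05a60194ac293d13d092ad2ac695495444a94a92a5425408780780620a20a44a74a72a53253081ec1ec62043ee14a54a5125225210644644c94694640df0df10d78d7845f85f8617a17a20ec0ec1a51251142ac2ac894294274a04a0224fa4f880700706082082103c03c100d00f0c128128207c07c201b,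
  nat_lit 0x26b2144944888048042524524320020012d0ad08c5356806b3eb3e159e59e10ff0ff10a4ca4cc418418459d59d12ce2ce0566d66c6b34b3425995991acc2cc142ec2ec80a0b2e35965960909109096556548b28b2865935932138138088d48d422c82c8323623612c92c90ca39644a1f2b20358f58f0858058085845848b1cb1c658d58d2115915896316302b16b1630ff0ff12c52c50d625624a27827840f90f93ac42c41161d61c4b0cb0c314e14e08a08a088298a206b0ab0a11221221048ac2154b160c6b04b04158158110fe8fe909a49a4c552552424224210e90e9049b49b463a63a625805801abfabf955f95f88a40152514d0d910d38d38d5f55f42af8af8257b57b22bd2bd181504d821b4af235785780abbabb895d95d88aeaaea657457422b9ab9895c95c822ba2ba357157112b82b80c3b55bc20d81d4356e56e0ab6ab6895b15b08ad6ad6656a56a2051851895a55a42ad0ad0356756712b32b30c0dd5942060ac850ed5631ab12b10558558442da2da456056032afaaf915795784abaaba155c55c1aadaad895695686ab2ab2510810822ac2ac1c1381388aaeaae255655618cb8cb8499889c250433e226f26f091c91c8d5555544aa8aa835535532aa92a911545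544e4a44a4455055012a7aa78c54c54c237429411d154e0aa6aa68c2f02f04a98a98307e07e2aa48b8047907906212212254b54b18282a51152552441e21e215485481aa3aa3895195186a8aa8a528028021472a20d50d50c2a84a84254154122a02a0194fd4fc8a7ca7c253d53d08ae0ae0d4f14f04a76a76328128128f60f61084c84cea74a74453953910dd0dd0c550550245c45c2171171285b8e88c52c52c245445421b6538229ba9b994d94d88a6aa6a55345343839839903f49c4ca66a6641a11a11139139047e87e8651851825325321a98a9894620620840a40a75305302297a97894b94b86a5aa5a122316208f80281c1f03f4c2e413010af1e22101101194b14b083da3da528e28e38f5037903d83d8415e15e315e15e0883083081f01f0820e0ee40ef0ef304d04d10154154a044a56452a52a1294a948d4a14a02a4ea4e25265262292a9298a5ca5c843e43e21cd1cd0a922920c7387384a46a46314614628ea8ea90534534e40840841d41d411411410c8a08a0237037020e826618cc0cc045b85b8416e16e61735222290a909897497484fc4fc55205203a4a074982403306a3ea3e251e51e1a8ea8e9547147083ae3ae751b51b20a10a10888c88c637637611241241049049144547c0647c47c11e1,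
  nat_lit 0x65a0a5fb2c8d9619602caecae22556561b2ab2a859519504ca6ca6511f6521b28b28859419404946c9e164e64e1326b2691931930cc96c96464a64a1324b24859219206c8ec8e26466461b22b22959119108c86c8676426422320b20899019006c7ec7e1165165131f31f144ec8e8641e41e1240240131eb1e987e18f08440440663b63b231d31d158e58e4e50a50a42906381b1bb1b858d98d84c6ac6a46346343319b19918c98c84c62c6216306301b17b17898b98b86c5ac5a562c62c2315b159d8a98a88c52c5226286281b13b13858998984c4ac4a521c6241b11b11858898884c42c42628b620284e04e1d87ca40c3e4276621e214230fb0f898798786c3ac3a161c61c130db0d91869868cc32c324618618130bb0b858598586c2ac2a26146141b09b09945ec5ec839039076126122308b08898418406c1ec1e160e60e12fa3068d83183023c63c6212c1f920bb85d185e4954c2f0c1641a61a6108e08e0d8298282c12c1226086082303b03982502508c0cc0c26056050b023020d80d80c4c04c0436016012b00300117fd7fcebfcbfc45fd5fd12fe2fe0d7ed7ec2bf4bf421761762afa2fc847d17e08beebee65f65f6204f84f957d57d4e3502ee62565f43109107057cd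7cc641a41a25f25f2194c94c957c57c4857a57a72a42a4211b91b885645646166166115a15a10c412b845e57c06bdebde25ee5ee1af6af6957b17b0855a55a72b62b62139939889109106436436120720710f6af58d7a97a82bd2bd2208a5e81af3af38579979843ea3ea41195e522f22f2156f43788bc6bc625e25e21af0af0857817804bbebbe45de5de31312ee8d771770228e28e21d55db22ed2ed15765764ebb0bb041dc1ee30f40c09032975c6bacbac15d55d5128e0ee184344f4c358ba815d35d312e92e911745744cba0ba041be1be1078078042642646208208207d07d1865065141f064c6b9eb9e15ce5ce12e6ae691731730c3ce3ce427c27c111a11a0458c58c6162162204f04f1ae5ae5957297288b8ab9215c85c812e12e391719718ab8ab8a75c45c422e12e19896d708c51eb82508d0fc08ce0ce0c99c99c4b80b8035bf5bf2adf2df116f56f4e0e243a15bc5bc12ddadd916e96e8cb72b7245b85b812dbadb856d96d86b6ab6a20e10e118d489b842916d0a35235270d95b31ad92d9056c56c443ca3ca45b05b032d7ad790854854426a26a10a20a2189a09a096b96b86b5ab5a55ac5ac22d5ad59d6a96a88b52b5225a85a818a78a78561969c2510b4c35a55a50ad22d20968d68c8b44b44626b,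
  nat_lit 0x731239839809cbdcbc2e5ce5c372d72d13963960dcadcacae54e5447297293b9439411c9dc9c4e4ce4c37257250b7b8968dc91c9024ec4ec2723723239139119c85c848e40e40271f71f0b8f38f0dc75c744e38e38371b71b2b8d38d11c65c64ee30e304717717138b38b0dc55c542518e281707713238938914811c442488e20170f70f1b8738709c35c346e18e18570b70b23853851dc25c248e10e1027077071b8338305c15c1443d8e0837037030b8138109c05c048e00e00623d23d237fb7f89bf9bf82dfadfa36fc6fc137db7d8dbe9be8adf2df242bc2bc395615611be1be04deedee36f66f60b7ab7a888708e06de8de81247247115295290aecaecc5505504248248115395384924924654c54c26f36f31b7937915bc5bc4855c55c7245245237837809bbdbbc6ddcddc168b6ed1b7637605badbac4dd4dd446e96e9337437411b9db9c454054012b72b7194f14f08948824c52cdcc36e56e50b7237209b8db8c8dc4dc466e16e1237037009b7db7c2dbcdbc36dd6dd136e36e0db6db6cadb4db446d96d93b6c36c11b5db5c4dacdac36d56d50b6a36a08688688a1aada612366d21b68b6885b41b404d9ed9e411f6ce1b66b6685b31b30429229246cb6cb336536511b25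b244d90d9016c76c71b6336309b15b146d88d8856c36c3203eb610db05b042d80d8026bf6bf235f35f19af5af4816c16c26bc6bc0b5db5d8dae9ae84d72d7236b86b82b5bb5b9013dad86d6ad6a10c40c4102b35a05acdacc4d64d6446b16b1335835811abdabc4d5cd5c16ad6ad1b5635609aadaac6d54d5456a96a923543541da9da9c8d4cd4c20c30c31b52b5285a91a9041bc31830cb0cb082c82c8808da8c4d44d4436a16a10b5035008225a7c6d3cd3c169d69d101bb4e11a6da6c4d34d3436996990b4c34c09a5da5c8d2cd2c6695695234a34a09a4da4c2d24d24369169113483480da3da3cad1cd1c468d68d385085091a31a304d16d16368a68a085905908599a246d10d101687687134334311a15a14cd08d084683683134134105a05a046d00d00267f67f1b3f33f159f59f48cf8cf8767b67b233d33d099e59e46cf0cf01640168091d33b999d99d88ceacea5674674389c89c918f59ccc5222cc62466722338b38899c19c02cdecde304604613373370d9b59b4acd8cd8466b66b3b35335119a59a44cd0cd036676670b29333059599948cc8cc826636630b313310d9859844cc0cc0309c199206686688634634219c19c318e18e132fb2f8d979978a31631640c80c83b2eb2e919719704cb6cb6365a,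
  nat_lit 0x81f1c0f40f0607607440e9038149522f2c0dc0d8a06a068703303248188182c0bc0b8a05a058702b02a48148142c09c098a04a048702302248108102c07c078a03a038701b01a480c80c2c05c058a02a028701301248088082c03c038a01a018700b00a46a21cb1c024020600e00c4e270041801801140040005f8dffcaffcffc27fd7fd1bfe3fe11fedfecaff4ff427f97f91bfc3fc11fddfdcafecfec27f57f51bfa3fa11fcdfccafe4fe427f17f11bf83f811fbdfbcafdcfdc27ed7ed1bf63f61183dfac8398fd437e97e90bf43f409f9df9ccfccfcc222c22c0bf2bf28df8df902bd0fc620487e22bf0bf089f81f806fbefbe47de7de2beebee89f71f706fb6fb647da7da2becbec89f61f606faefae47d67d62beabea89f51f506fa6fa647d27d22be8be889f41f406f9ef9e47ce7ce2be6be689f31f306f96f9647b07ca0b068e219251f24af90f9027c77c71be33e311f15f14af88f8827c37c31be13e111f05f04af80f8027bf7bf1bdf3df11ef5ef4af78f7827bb7bb1bdd3dd11ee5ee4af70f7027b77b71bdb3db11ed5ed4af68f6827b37b31bd93d911ec5ec4af60f6027af7af1bb93d70deb5eb44128f5827ab7ab0849bd519dc5ea4af50f5027a77a71bd33d311e95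e94af48f4827a37a31bd13d111e85e84af40f40279f79f1bcf3cf11e75e74af38f38279b79b1bcd3cd11e65e64af30f3027977971bcb3cb11e55e54af28f2827937931a39bc90de2de44225af20478f78f2bc73c709e35e346f18f1840fe78b0bc53c50de25e244272f10578778713c33c30de15e148f08f08578378313c13c10de05e048f00f00577f77f13bf3bf0ddf5df48ef8ef8513a13a13bdbbd8dde9de88ef2ef2577877813bbbbb8ddd9dd88eeaeea577477413b9bb98c73ddc88ee2ee227707701bb7bb785db9db841c4eda30c476c1262bb58455dda82ed2ed2276876823b3bb399d99d988ecaeca215f15f08970970c6506504194ec8176376313b13b111d85d84cec0ec0475f75f11261260490490462de2de20b820b1baf3af05d75d744eb8eb8475b75b33ad3ad11d65d644eb0eb017577571bab3ab09d55d546ea8ea8575375323a93a91dd45d448ea0ea0274f74f1ba73a705d35d34427ae98374b74b0ba53a509d25d248e90e90674774723a33a309d15d142e88e88374374313a13a10dd05d04ae80e80473f73f3b9f39f11cf5cf442a22a230aa0aa08a80a80876c898628a28a122522510a339e11cedcec4e74e7437397390b1439c05891cdc8c42e6c37357350b9a39a09ccdccc8e64e646731,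
  nat_lit 0x2e64964008a0b9cba1204c0be82e92ea486b04020bacbb120ca05282ed2ee4809005a0bbcbc1200a5e042c02c4117816e94b74b74c5b85b862dd2dc296e16e10b70b7065b85b822dc2dc096e0049404c04c402602602da013200996d10b68024401200840092cf09679679cb18b38859c00e82ce2c6396716704b3819cc05259a20242c8316216620b20b30e59459a3010008196616604b30b34a59859a12cd007396680804040b18258c58a12c52c4096200404020020c59400e100700308019658cb2c040e00e00e40072c12960960a4010009058058052c00104163162a4020b18a58a59032c52c50163801a0b10b04458258232c02c4215f96000b08afc058600a4002003100280214010008a0040082004002180200410040afca57e57e32bf2bf095f95f98af8af8c57e57c52be2be215f15f0caf8af8457c57c12be00128008008c0040042002000600100028000001000000060000002000000080014e1627e27c4486486326a26a21189188ca762788546546723328a28ff94e96276274446646632a089c215c95c94abcabc4576476116a89b1c4d44d12266264713113048978971c4944b1a166254312912860a08933021449162462445121120388f88f244744716236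2345119118388b88b2445445162262245111110388788724434431621621451091083883883244144114ac8ac844d04d032322322440c409558a2006fd10fe587e87e143ec3e8e1f21f090f70f6587a87a143cc3c8e1e21e090ef0ee5876876143ac3a8e1d21d090e70e658728721438c388e1c21c090df0de524e24e111f91f8e1ba1b882b02b0586d86d14364360e1ae1ac90d50d458658690bd74340619219c70cd0cc186586513004320e18e18c30c50c421a920a091793616186184455655632b52b524304301617e17c50bd0bc385d85d242e42e1616e16c50b50b43167167205942c8410a1602f6056252b82b811551550cad0ad085445445294294142bc2b8caccacc90ad0ac5855855142a42a0e14e14c90a50a4529b29b113f4288e142140909f09e384e84e2426c268e122130c3ad096184a84a33b9c249873e120b08f08e28468461c22c2292112110b08708628428421c20c2092102100b07f07e283e83e1c1ec1e920f20f0b077076283a83a1c1cc1c920e20e0b06f06e28368361c1ac1a920d20d0b067066216a16a1c19419105460c49061060282f82f1c17417060b60b45059058482b82b3415415120a60a4505105018278271c134130a0960947049048582382324114111e0860849041040281f,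
  nat_lit 0x32641a299324d14d1466a26a6534632031a982da0d4416d26a204a5351343203119498d3cd10a6860b8234434608339a30cd180a4c68c682334302510129a120d04d08a64a68443252c511a1192a0d00c952680682534000811a099a0ccd0cc846646622331331299799788cbccbc0660596232e33b281d81d880ec0ec0674676233b33c119e19f0ccf8be4264063c22f731d297b965a4bc8bc505945a093000804975979a0b3409125fe5fc805c019497b97c200ac19925f25f480e40e5497d868a4bf4bf100ce5d8806532928d883488ca4c8045b263c12d92d9018f97714c58c6465dc05292ed2ee4009005a4bbcb49260460682d32d44982182a0b54061260c60e82d62d74984184a00e022d261461681130c04986186a048450d261c61e81721b24988188a09e0b61262462681b10e6498a18aa01a4b65262c62e80132f04002804a4c64001257c582800400c416897b8cb44bd445a200292bf2be01649602000801005be59e92f5010317a96514bd401c65ea5a202f62ce400395f80b6c00005b800402de2c6400817a80c6cb11000600e02f4001016e962a002004005c859082cc003017100400b8cb9c459802292e7024297381210b9cb3005cc04c92e805c297417380c90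17d25d21a252e92e8019186b24ba8c80e5d40ce52ea2e9019117500c84c6425e0026131a066183317e0cbf035861ac0ce3067321199099490c80c806640640032a029181481480cac048065a00a1009009018e0048c048cfc667e016433f327199382d8816cca86654656332b32d119599580cb0c70665a016531e31f280906b24c840a4a64064250670d1299119194170c8900be04c9323324400899214090c908048598232400b118e98e08c70c6d059e636701031b116896514c6c014a6345a2800c30028061811003003006025a283013024969169a0c0cc1125a85aa8305306480c16b20c1cc2125ae070830930a4845889a0c2cc312180242830d30e48a18b920c3cc4123644f08311312496c0d8a0c4cc5121cc0d28315316496c809a0c5cc64a62e62e0318013418c18ca4024b0486321ac52fc2fd282f81314bf817105fc5c862f52ce417a17aa4b3c03105ec5ee90192ea397c815a0be0be520cc1c882fa2fb487297ea434419d05f85f862ed2ff481217f94044bfc80225e622ff0d63833179a4b34bcca5905e632c62f339679671cbccbc4a59e5e492cb2ca417896298bc4bc4c5905e212f12f2197916fa4b04b0105bc5cc62e22e2216e96e80b84b89258858a82e32e6197197180b94b91258c58a82e5,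
  nat_lit 0x38249eb98308f60f6107067b2230538449ec9ed20e14f64a60660453da38441ec9ed24e14e1907b67b893873dc118116790f703dd278878681c127d49e11e0a0768531278077e81c322949df1dea05202a12778772808a3bb402383b24ee8ee8e05e78a807002f49e303b20ee8eed208e15083bc3bd48a4114a0ef8efd238629883c03c148ed13ea0f08f0d23821ee83c43c54838017a0f18f18c0ec78e90143c7400a1e39cbbcc64e78e10e93b53b64076835a4edcee1005877073b331739dc19fa0ed0ed0271276833b43a840e307aa4ea43ed274e0f493a53a440391d520408e9906ce6d093ab3ac40818ef24eb43d1274675c81c536949d79d820da8e8106c86ca83a11de41d69d724714e8926cc6d283af36b41d89d824da8e8126c86c6839f36349cf98ea0e74c75273a600339d35509ce9d394ea0ea8474e74c23ab3ab29d21d194eb0eb8474674423af3af29d01cf94ec0ec8473e73a501939f200c80c80e78ecc4032766931e3b3098b1d994bbce206766140939939840998e124e5ce5902522aa9395394407d0e7a4e4ce4903ac1fc939138e402d1c8201d4121271e71e701d39a402100ea4e6c121071e72090750fe41c89c92475873d072672890fa15541ca9cb244a4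709072e73091330a041cc9cd241080750736736604839c48069ce20034e70e5dc5e0739c05649c51c5a025c0f5271862c638d38d480d1c6a0068e20e71a054838902a49c497608e24e246712634838831a49c416708e20b60a6ea6ee22d827811bc1bc145c850ca6f26f6214312111be1be1444c22ca6fa6fe208b03811c01c014b58060a70270620182d511c21c214b4cb48a70a70e22d22f521c39ba200dc05d26e602c936f37041b71af08dc0dc066de6e6436d36f01b89b680dc8050a058028100d01438058049c050058a02c6dc536e36e11ae00b0cdb80b02034058731e01338161b6a0028db4a6da6da335a36d316096098db43eca38c20420fb36711b41b4141c83d0a20638a20f436611b49b494d90d8ca6d467a436a36b219f1b608d8cc7886d86bc835c35b49ae9b12008c03d26c26bc335d36121ad1ae80d7cd6806c001a501a00d38090029c034d70a6b86b6535b35b19ae00d1cb64c68e0340ca202a02a099f8150c0a8d69000c6b4535a35a316016018d68028e008014300600a280500304028018a00c00460060dc20d01ac90d40350a6b26a853471b3387207200d28d1c60560cc034902b01a41aa940ac198a6ac64e6356356317e1a990d6009466a468a535234641939939cbb4c9c25f868c9327,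
  nat_lit 0x36321699688cb4cbe025a60cc043a2d4018f1dc1cc10bbca6087644304388198200c88c10c582608030033f3d601f997790c18c18060e71213062d121689c190c74b4c05ee056043b30401d998300ed0b4405a4018400c31d01c200c80c0cf60873a5de030500c01811ce80f64c0007b45e203db2f2297919704cbcf7827ba8a032fd4312a2820f951311304842844244b4492a1121195121120484a84c24474452a1321395111110485285424434412a1521595101100485a85c243f43d2a17217950f113ca82a8983416415022720b0113513c482e04c444f3030a1d82f8d0c507d01b61189420421401d047a508908d023a3469424425413a12ca509909d05304b8942842940c38f5a50a90ad02203d2942c42d41458f4250b90bd234085e81a04152217a18110590c126b280854303544a0d20d14fdcd510834836935531d0a0d9ab250700a428388386067419220f1a921061060a64c6a4941841941a9a0c94c9d06421ac83260663c8320c86a25011015021a108940640740878f525021025051a422940a40b412b12f2503103503e422e940e40f40be8fda5041045023c3f09412413408d8472505105501b86a094160d44202202a4434211080c80e910f1ea4204204a4a34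8450814816925625e4206206a47c845d081c81e917d1fb4208208a44787e10824826911b08e420a20aa4370d41082c82e906241740311fa9105d009269c69a8401400492d947a0ffcff9269869683fd3fc493d8d9a0fecd1d07ee68e93f73f7197c17c00fe0fece5f45f203f92fa01fd1fda06cc9ed27f87fa834b34c49ff1ffa0a3c96d2800802834d34e4a01201a0d3d00d269e79264033f529fb1fb08bf8fd9268864c13f63f549a19faa0d0cd0867ea04a83f402549fa02d94fd0f79065e65c93dd3dd117919720f74f79265e66283e03e149991f014f78f7807be7c023e03e111f09f18cf8cccd07c47c6933433541f21f2a4cd8cdd07cc7ce933825341f41f4a4ce477d07d47d691b50e741f61f6a42400ed07dc7e053ee3ee01f781da0fbcfc126767e223f133c41f89f924cf4ec087e47e643b13f3499f1da14fccf6127067a0937b3cc41bb9e424c80358c79062c23c806609e41e420c80f24462a65293c937649e59e520dd4f24a62662453ca32941e49e524dd4dd90796798937737841e69bd20f3cf3926f279a530f30e29e71bc24f34f3906f26f493cf3d041bd9be24f44f4906fa7a2530b30a29e91be20f44f4926fa6fc83d33d449bf9ea88c24e0107aa70483d73d649c09ea94c1cc18a7ac7ac8381,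
  nat_lit 0x4110224a1595021024088285a2408337197d20901129020088085c24073ca419b96c14cdcbe8066c0c450dc0dc106e20f9505104c089684224140d428d00d00868101c087e69c53fd33701ba87200f9437006a082e541541402260d000d65010a85e85e242f42e2a02a03010f89ed269c7fa043227b12009e62094cb6044a679403e6062217420a81058098882e1a8405c05c102e217810c0bf8880880a043d01010120128cba46cd269e5f4634f34e01fe200810d8f3506722e4533925301bb9e580f9c02045ce04a12e72e801a1a0b8113c098404c0be33f401109fa1a88c344bf460b65fe105b05c01a2202010f0bf845fc00e7010010180801200d00b1845fe5d203521b1297d03488be8d3c07f64f604023ce40ef8a19477c40c83be67203783cc01f40019c02002060105ce034102601fa96288044fd008620526067067083386880d1416c08a05fc03f600718039688801c040059a58c32c62ff01929688404cb6445f20cc70d605f020c06b04358be80652366040331328721e50c390c5441c879e81b51de20da889846d477c06f279a03e9003180180400b300440684052102906701a317698bf0bf4064c5f812fc01a316880380bd4b1805e601822ce02b496c96984b64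04c07ee05633172f9019006b01064bb4a0cc1c803c906608331e82439cf4101ce28620e71b501bd1e700fa800c059458a02c8029020e17e00c9c0b0e5a65a2031a2f0280616700b3cb6405f071a702b2ee281598a900acc5c068e0cc03c83a040480899424048441201ce10900e701bd9e780fac02c401658802f12ed01ab16980b50ee0e0325de501900c01c400c880640ac062c73e803b08b281d969900ec24006c87a003ec038280c00c0806002c063a5e003002ee01aa8458822c064060807603633a001f681c080e006005ae61253062ef01ce84580dace7c0764070303839f01f701c00cf8c18061061403b1038019e18500fc0c2407aa61203f130819841aa10f78cbc88345ae32d737a08899b204decf38875875a43cf10321bc9bd10778d904242226536437b21b207a1030048406ca11653631c520899b200df0f408740180036630d01d09d190c310d844f66d6208b36301be98514e7c44c06d274003d13ae218598600e889ec086e678303833e101c04580da8e7c07a461603af31d216b80c08b5c6cc08707aa933e3d521d881c00cf4c2807607e23309018180c18314f54b5c070673a43080e4021c8161cb5002c8030054101833e01c01d880f50c2407e47aa03f3018016b1ea80f58c2007b003292d3,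
  nat_lit 0x1b408da0da089b842c83684304424424023c212811dc76488228200476411023aa1010458864884e850427f2872204a04811e902008f685a047c10e2216216011f46b4e21c106510e10e0a0a0870c69442c434a34a047e10b08858401442c13128d48d680ad45a1235826a51b049528e08de80e21261a37a37811c418d28dc8dc446146c1230a30811b417528d21a264691113a0a0449444422421ba112741f0d738448222519827928ce8d080434682a33014091a118d018e0c8946211108d68d29c4450bc24dc34a14150d728d2a30a009d184c5ce8c2345c2e932308310518118101ae8c022eb2e9223022fa017917c21a6050545f45940cf0ada516862928bc8ba80c545b406d030a5171170e04a8b862e845c0a28830a117116d21b42b6845a45948cf0692116034928b00b8645805e1a2c06e946b4374e10682e70dd060286902e84348348e5fc2b620ad061106d20a9c6b4230e6120746389306301d0151d085084e0301ae14170830a0f86b8820017c81ae8aa80604551a28a2a98094ba0c8aa1a6705b0d3182e8309434c110a0860c844510431228a2881150344e0bc048605e0b4202602e90354134a09804e204d0e220929869c43d0142358108630c40730908601d019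010233a6a240252fb10ce8ce90bf4fd080b65fa045205b02299fa1114d14500508a262e92e7322882e9cbf409ca0ba0c273f406108140138c184098c0c004e705f06018140089c09c044c05010010800650832839043d4484624218030c030c19860e3043ece9c2750204107a3a909d21d284ea83d4838c75043a91de08e29d294e90e9c874875443a53ac19d29d200e981e8a0e41f640723a501d5881101e840c60f40e4036707a01b40e28c7789ec64f651e540134d29ff9ff88ff4ff407fc696334b28f11a59a580d3096c44b64f6127b34e09a71a70cd386cc61ca5f6334f1b2317d93c049e06c8236462060e531009880d9846cc39421ca36663100e408721a784d3cd3cc36436211b12fa097d0730422c0ec20d261e53cc3cc21e61e70cf3039066204f042781b1193c129889e0f30079a2e4525325321298ef8c94cc4007944f002d82fa18d912980ce46c8066e2e403383d0198a8da8c3981a461ce0c4206208c184601d0c0e836ca11c11c203a08f108d88f1423c474a3f63f622740d4106a0420c21043c621e21a51e81e810878f508a2c440a3d451a51eb1eb112b12f0861ca60a4bc4b2217d1f2292ca131503509ca81881a044540c022221195041094482081604434222a08a08011210a8a8128140442,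
  nat_lit 0x19e48cf086a443420c821a10804061ac0886801a400c004057e02090101f848fc08f24478764823c23a911d1fb02080d181090075203a090038f04201cd0022401002806da116908b113018580a240500bc078c00a900500c280280100b000f5207a12e038b0e64873073a439c6d4079e058902c019301603580edc0ed2076032403b09001d000624030068c01800e02ce013080613c249e05c922e44a603cc143018713da49ecd3408021c490e212502380930c3882b5215a18e90c7464286384f24278131209808890441e848f4145810b443c080e18a90c518a022f06d2436856c08b41a490d205c306902f0c34867808b21a890d410d02028ce8435009120480ba602401128120089009016c20480109008003016200800b180444010236911b1f80209047a423c478082223a042300d480680e80e6c025201200802c1038481c0461c0e022c0614016900b01401e380c9402c01405e036291b10e428d880d240680acc03407a038c069483487300c500ac80d21ce03d00e41034809a404c0ac6026032901902c01dc01d80e7c03005a236491b20e538d90d9986c89e006221c831b217201878d9a46cc9ec069c0c690630e20237826a41342b408d60c890640c7023181410190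10d208613c0467028102182ea4174344c0ba098046a05e482f0141417811008cc1a6105e05b482d8129416c09480b61a2305b1a048d00f4010b89b823400c090600253830030a4184094c0c218a045d0da022d82e2417034808b01a6605c026282e06a01010045202204802ff008016281284044239211c222708e11b020988704238231211822c408c03a481d0151c0e8060c07411e0422012480900680e700aca0240120319018480c01c00c2402c05de1c890e41b10189815a40ac068071a0d20315013018b80c80b4c39521ca36403101b428728d980d3c67441ca04e90270630237026811b00a120500c804620430234068a434417408d20bc045f05f28688ce90344095204a0b6035105f181286e243706b4c1b8340042f1a5086e0132409818008aa0c2045c05c017f0311009804405ce1b690db089386d847010506b081b61180420083086d814a40a4198a052054902a03a021080900bb8060060c0cc90660e4017d01580b6419d20ce1ac50670e5017d82fa417c09c08c205004510d1017e81280fd018920c41ba60620dc020a81300ba036c083e1ae1062065483281480bb40a807121ac90d6066017c83380bf035d21ae0be02e9062020b8402420019405d81ac02ea0d7023004000bac6d0e4f036271b4,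
  nat_lit 0x279093c93c81201200290036834802783a402401c6c438c83623620481279493ca402120120529021c680e30e328328718438c42ce1c606480320323032819040c91fc28fe8fe347f0d3406986aa43542d101682c0916012f40979082484094504a24b4925a18040c00b5a45ac8f104782d8916c24d4126931a498c64903243b281d9116488b0d6206b0675233a36891b426e4137085a042c6f1237824c9126095404aa39251c855902ac1d690eb074403a067a433c66d03368e694730a74053a3a251d044902244be825f286494315820ac0ae9257454282a124f49278ba205d02e1217019280c918448c20cb2065899524ca32a81951ae48d7044a422437501ba4c8826411140888d6a46b420d210634a91a510e408710c20860501228035681ab4794a3c91120888a69253452a8295221491089fa04fca1d250e432921927f413f8e1a470c53122981f490fa15548aa8e3247188a5245238603bf1da48ed0a600f0097924bc4b8925c27f212e0e7a473c3e80728252912915501ca87da43ec3d521ea38c03a814848a411480ef89f524fa3b403c110248810c3a461c95924ac3e491f2298494c12f0103086485304b804281d648eb0e780e4c70923842520396072483907d80e9c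3d4075215090a814801de8e0a47049f407840f4907a10201d50f5a47ac61c08524229211256020588ba445c96524b23e4040d298021387f243f8758072426691331c201cb81ba40dc228806e1e890f407201d20452422811d208e15003bc0f7487b8e080f0c03d201e046902305a2011843a421c40d22060f403a51104888146a4a347ac085450e428d2110205000240005f522fa22e040e274493a12c8109816920b40ea90750fe01c8850242804cc073002e901703701ba00b24058715238a18090c0084306007a00e8c1d920ec05e607608a01dc82380eec1c120e01ee03c4006480300780d8415920ac04603621de48ef076a43b421c076a3be91df10301d6147a4a3cd34a51e4b6925b1e948f4887107a4485224221e61211ea48f5088010aca3408121089084001480080000af87ed23f62fa040f1a348d193a010948608346090904801d302402d00e381d4072008490420a001cc8052402805c06e602c036f11348898e280eb8300061805e902f07601dd03800f14009200400c035a097484b82b00e286d5236a3bc03ad06b483587680ed8241212000e900700c1003929a494c50d22863be03ce28f01ff93d88d3496c080024a912528b49458f4810b043d221e242030d1ea02040c52462897c83142b6915b,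
  nat_lit 0x254025593d012b12b1095895822541b222560559425c3b0612e12e04a203c280e021100702ac809009004a101d025000e08034034093e322321119128bc81e240f01050082038901c49f424fa5025281285094215690ab4a24251076243b02f5017a2fc917e1af40d786fa437d28d0946322919124610c88c8905e45e409483ee125825802528fba07dc46c63ee07c903e04a482500f20078078a07c01c201e01f400f828a41442e501722ea917517530c108b185d406d0036036700c01b18160071406c024c02a02a901500e40070070c050038e00a02a300d012380724f15279274a93a91a449d49e124f24e8d278510e14c4a85254224092a0c3105cc890a4484482224224024da4d948905108448448049c14410a20b90451050c22e630c31860bf30c30c31843c95104a8448922449b424da4e2527051102882e6917318640c3060a4304210e1820a660c112108c30608430030461820e210f4071403887a8c1c448122403f881fc1bf48df8e5207286c1236026281310c6486302c2016008920440686022020202985f1014814920a40a430520523834029042300810040068102047f3819a3f980cc0cca06606690330331019819840cc0cc60663d611871ea08c2943849fc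970251a50e327f0bf08878c10860860823e217e30bf121305f8298c14c14ce1800a61084116085f123249185e522f230491820be405f029a414c2fd017e30a91851f809458c28c970970092c530049725e024c0bc8c95895809324b08258246212c0f48c960960093423611e92461945a4d212687a4693422671b71b738730341039839809260d0103802a2834046181a043082180d0306810c38858861820443061c60d020e30e302492490c4304302218218049110c1086248844304300920218910c4904248248a524524909240d0906849342498dba46dd251092839891cc0f8407c24aa525434101a014a90a504540228532429850cc14c104208208248410410420820860ca100608228f20f88f88c45845c223a3f6117d1f140f8941a4a0ca0c85063b2328327911419418120920844f23f041ef1ef48f79370c7bd20863b23de21d91d902418f4047bc0d100683de51ac1ac024206d81214188090c0c404870dc02440d0012247a0091421e048b03420420420123020c40688fe547f0e33840840940c92344064102808103202470409020442c610210210810810247a478420523d091e91e503210b1a4792d9496ca3ca51e4f6228f25b094793d949eca3c069a4f6034b278393c8d8989e49e484f23683279,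
  nat_lit 0x20026e81a900d5370893c93c04db49e026d24f013640d4a91a93a04d848d026b899185f5380211e22e712011932702700c45c45c09c23e404e2259027194b0c9d09d009c806a80354d74a6ba6c2136136529b29b484da4db4a6da6e2137137529ba9bc84de4df4a6fa702138138529c29c484e24e34a71a7221390a59252c52282911f729488fb90a447e0652248c12912910273273107dc7dc09ca9cc12464e64273273147dc7e069cc1ea74d24d24a69079a03cd34d29a69a884d44d54a6aa6b213581c029ac51a74cc1d820ec0ec1460876043b017c518318308eca661c614614099630620bf0bf02650ec2076060d230699484ca4cb4a65a6621331335299a38081c04ce4a67267a133d34129a09a284d10b9126881b240d8219010c98a94c54c64263263a531d32109904c492624c94264925a492ca7d053e494924a1b940dc8dc985fc3a101d01d051b60e808488741c2401a4e1d026091301c740e38e3986fc4c0837e37e04c41b640db0db1c44c6d822281cc71b608d308d0be245f0469023423e911f4bf425f84424221301098098294c1057402ba612530930d0986334919a26041300ffa47fc48d024624661e6091404884894450244e1ce07670910702017017141a80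b9005c0dc906e0782837037081001b100d80d8503002d1036036a41b43c901e42f4917a1c940e48dea46f4451022822831b711438da8459c450474c23223c6132132289008c8c48048009760945049049181f01f9006c0f8097203604ba0494824a5ca12e52e9297407e803f09b484d899204c92ed297623281191f448fa1282094098524c231e818f1a848d425e212f12f5297a27081384be4a5f049a024c24c807807a20930404020020141040f060802fe917f2034101918248c054902a445a922d28441420eda476d2d1096896a94b54b6425b25ba52dd2e10970970435b00f125c0852042879923cc40c82061274893870203804a12250410820821c490e257a12bd2c1296096284b14b24a5906120308235211a0728039039282901c8c0e40e4e054072103a018381c835201a81e120f00f02041030401800a880c00c500620fe907f4ad4256a57252b92b822ea95c61f10be3257016a00b40b4e02605a301a02d080d80a940b49ece4f44f4727b27a193d13d049e81ed20f60f6507107b103883881298414418220a81051df088283d8440d298a0f620a407b07b02538f01078078123c02e6510514428f00f00878094c23c03c004a82530a5425414510510095244804aa27a112a13d209e89e8a4f4364427a,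
  nat_lit 0x14d48a68eaa0754519228ca4685231ce48e729221490735239a43e821f297494ba92a14954992a4ca4e85275284a94294a14a54a92a54a56852b52b0a912959c714714ea56330919816e40b705ba42dc298616e20e10b70b738b90cc088f899904cc36e22661cc313f290214809f924fc4ba825d5214a90a9121489488e3bc3bc75220e940748749c1a43a461221d210921b728748531450877cc28428461e00e7384901d982483a06124124909212440920dda46ec88d0446284914251b428d8eba475d4710a38a3a951d51e428f28fa547c331019832a10cc23e491f0f0a078441d220e20e71441f040f80f81055c45043e03ec81f611a20fb08aa4454454236e22a31b608b308a80f1012c12d009615890ac15740ab8de8855ca0cea34306651a51a428d0f3114693486a2e0e465171c03877077243b94610a30a329519079403c83c900c00c440f29b8502102148108109008408440420a81085054402a02a1408015081840722054112328888c244604b1025812c909612b40958b4a45a42d5016a16a404d063105a8d7194184a9025420291011dd40ee8ee98a18401020020055041000a7c8801c6b0350e2001b0519e0d8406c09f244f856ca27c27c20ae0a4405205214368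34c4148a0085005014a80a812140940d2a06a0885045040a762821c7bc680ea08356514022220a010c8450050008f242e2287479090c94a90a68864a42e4e8129522108d18d5144fc6a8427e430113f13f027d27e08884964253453454fc22210c811104a613f4a4443e414fc178227e90c053e93e8a3549f841aa1aa027d90e193f13f424bc982719025608bc0c80484485823543561217216290c0f910858640835642c31ab1ab027f10ba085c6a923549f484fa4fb4a7da7e213f13f529fa2f0817819048c827f213f8859242c3e681f31d008f98e80c7cc7cc822e3a081d01d0110c08e907402b4a15c4ea51a44f118d20d2013c0690e1aa15c304c0d50277826013b417409dc15c80ae4ed4a76a77213b93bd29de34881a4275493aa78213c13c529e24ee827721e490f279213c93cd29e69e884f418948c4a7aa13d53d929ec434821a4f74a7ba7c213e13e0c4c69f254ec4f938868ce9d3e4275013a13a509e044184ea761c7a09b8e9d810a8085085281a04290440438410a04464dc0c208880c294308870e4bc4bc04af25602580610c61c7ac096230e04b217c08990fd9c5f04802234982619111a308e88f9c45c23ce23e23e111948d0a6e08c9823445c611a11e108d08d027001c8137d37060400a404de,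
  nat_lit 0x2884144144147847884510a8a458457e2902ac00c8148140afe3a691d326d41368e924748909048455292a926941348fea47f56050b02b04958258342c1ac190a088104b0615280a9534205482a8d5e80d4caf434e91a70d9406c8d39036018081b226c209d136409b0cf0c4d857502baae4957257342b9aba255d15d50aeaaec957657742bbabc255e15e50af2af2401601712bcab7881280b86ade14680a356a4ab52b5a15ad5b12ad8ada856d56e4ab7075203a83a880d40d620ea56510248350d5941d88ac809c607e108203f03f0156054ca32e32e316e04e205b8b7015582dc0aae32e919755642ab2aba555c139009cab0955810840842aca55655690ab4ab6955b55c42ae2aea55755790abcabe955f56042b00b6a45b55850ac2ac4956256342b1ab1900f80fc4ac644e252d2274113913945286e0644e4a492521bb10a98a9a454c54c645c4a4417122e02a78b8815407aceaa418465521ed0aa9137a49bc8e50472aaa955555442aa2a91533155069989980553554392e0f51d550884c33e33e627119f40cf93790678348833e294814a22a18a503f201f95312a9817880bc54d4aa6aa7215387d84a9c21281091e448f20b8205c133442e01ec654528041402a2a5515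5190a8ca8e954754842a4078a43c55250a92a94954a54a08112a519234080ca942e2314217108f10829c5c494cc2e2a54628153a20748dd083a43a40a724cc51ba15428cc0b7148b85c522e245c822e15448aa0dd206e94e52a72a74853a21349098f6207b0a052502a76853b53c4a9e0ae205714f52a7aa7c853e53f4a9fa9f9d4014000a80a84250550502a0a9b895108a8a370450514b22a41150a5a452c52c42c43a281d11d1294107e887441cd20e6a6885345354a9aa9b985194d4828c28c0536538392a12a1d4e0620a4baa64325d25d0298a968c4914c08124248052e0920297a98214c0815240a31081885314a98a99214c8a3125183f481fa27249390d0a06854cd2a664e2529627118d1938a09c49c443ee52c427116240b10f08c58814100a00b050500fd407e87e9c5cc3f4214c1fa51d4107187e84c20260418613051c14cc25c39470f69861c440c3da51c828e1ed48f6a96214b080924043c481e21e228838f10c750788e3c03be71e21e1208303e241f0419020c2bc915e0af405787b243d81bd00de0de507706f387a8378545c3d0e0de0427055085302a82aa415426901341de90ef077403b83b9c40840ce0ee49441b81d408a10ea1c41494ce3a837081b8228491414120a0875123a84088204,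
  nat_lit 0x28d312e947014c88d844ba502125d19102cb14081550a600a524ba059221102cb8e29c9fc714c4fe4b8052a1de39438ef18a1ca340a424fe052b287029113e187d8a00c4f837a527c10a38f38919d54479ca24699a128054e2a678fb0d3347f023ec39211bf1bf30770e00c72533c439239204ce1bd38e50de8c3b8728238038e71c00ee087b0e4983d86f4238eb7c10f35be1a4a0798d62071c61ec1ec61ca28028e52c2107287280a8aa8e21bf1bf02a30988952152420b09a250bc0b91aa4a56842e414420fe0fe604e07e182885e081441440a9803e705001f1827028041f80c4e0fc09c107c01d0817828981f007c20620e6104507318178228c0742604a32062307c4ad182c0280c1fc42440fe0fe054b10928c9ae7947905c0ab9c09e904f0b140588b1a458c8d104684f8927c1e740f3aa8957317312b98b9841c05ce10e00e00173464d032695a21935c81ae48f31971d70ce4b6b8415c35c22ae11479970863c6982422718f17c3ae0ae08447970462fab82218518322e0a69056f41bc6b7a0e475bd5be2adcae00d6e56e40b7eb7c95be5bf42dfae02570099d04ce338919c0fc407e07e107441cc41f81c290e15b542daadb256d96dd0b6eb7095b85b942dcadd256e9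6e88aa8aa805bb21d0aaaaaa816f0875043a4de321d137104f09ba04dc4dca26c1b031371a948d48d4916d065c429e376514f5ac28ebad70c75c75c0b5ab56704514f18a0822816a85040b5014c05a914f48a7ad4216a16a52b52b5485aa5ab4ad5ad6216b16b52b5ab5c85ae134489a051202884d5226a42a82155af4ad7ad8216c079523cab6285b15b24ad92d9a16cd6cc80d80da25b35a710aa2d3948f84886b4e40092002924149100a4804a2505124d6926b5a242d12d1a568d6910b48b4a95a55a642d32d3104914c04b4c176509a599184d04d016602ed0176b30959859942ccacd2566966d0b36b38959c59d42ce90624830a4d05263fc91fe59e42cf2cfa567d6810b40b4041ba53a12d00cf8c9c09c0c34630a75925540ac9146996488d9246c2c88164235491a938209c164d2b26b2885945954aca909208496592b2cb2e859752112cbac8a1644a048b2214a414113c2909ac50c84c84c0b12446514114e2a968a508538490ab0cb104115586108a88a8161c505028229c914e58642c32c3a561d6210b101f290f913c409e2c4a56256290b141fe90ff58b42c5ac6256308ad0456b1a958d58e42c70b0a45842c10160b1e958f59042c8077896407fc824424451f012240912c2a5614588ab0ab0a2228,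
  nat_lit 0x1892101918013d880c09ea29a158a53a38a685f1c518754c3063aa728350d18ea8d70c87c7bce43e43e71a050d0a8d0ec994345fcc4042ea550d50d20bfa87885fc5fc0a1c30064b316b29252960480c6e4ea58b0861801b928c00fe1c9689f024b44b451c71c029288fb0c9445c044a2500125115c18979469c840614c420312521025102669408c8404bc0a7851c121021002660c79c848640e9464243190235211a938109c09c00b263480594212113a93a81654a5824ea4e071a427108d214a8c9d469064424ee222121c313b94d149dc6a884ee44204f11f2093b911148785e0843c4ee04fc178110f12f0487887809fa4bc04f218930f58c3813cc7ac09e818461894cc28c48f60c6247b4231224674f5252327aae6153d46240aa49ea05510cc18cb28e8c6106580a3e308051e14618ba8e7085d45d40a4632c41935cc38ba085185d05d0a4a4a9270b804e285c0278c2e02e00b960fe50c905818648c9883242e421923e271840be30c228d14610324095a2ea1184184025702b9c31c31c0984334219219202618ae842d4868645a16a05722633942116813dc18c0ae633a71db10d30ed8d71476ca1009f020011db02702ba0ed813e417c0aea21a04b40d702bb041812d4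2000aee06804b60162019040015e005c406402c3016016080b010012dc03c401ea946017035280b81a0c05c0cce02c066601603202bc80b00db8088c01e042500f020180780b8403c03c097000c2006017024680b011fc03c09b800c035b00a024e80301278160c09e09e60b95493ae5a569972c07ca09e3cc625225202e3ae5941385c40b8c09c05ca17c388c0469446060c82302fa3118185108c08f04461434c3b016e05c525b391212d988904600b823b0050c28f392a147989505c80b8844805c3183028b0ec0142c9500b8417e05151d802850a31c7c4a3c0a7021e051428302848f8814dc680e2243de611210028890878144c9b8e35c3d061ae4f928d7089046b87640a10366054411202820f4014486b809d83de05070e502a18d0014449b80a0c1ca05420d40288069901786740a0a0b804e805e027f8688140034c09ce2b810b41a3306a82e814fc68461aa168053d19f086a86a814f939c6a7e4e4427222138d0938986846848342a7c31a127008d08d0814cd4ccc4424e0153353e38d1a9f0d4cc67c2a7c2b8223955218f607c996f8a60e52e52e729a29a029294a814996e4eb2250234cc53c126614d0149c974651c518228e21208c88f51ca04970c502b2205ba4cc029daaa88a049640a5030a725d,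
  nat_lit 0x18118f38c0845d0808a3021fe45d55d52a39853957597592bacbae85d75d72a3a2eb904044004bae3b881dc1dc38ce8ee044f440063b827a913d13d290f89e8c76c350c27a19470b90ca085c07815461464a1322085079031283e82c1c32813c20faa92607d07d30648df0c9f06f8e3f84a271be0ee28df0841d741740e2f42f405d11c902e92678174c32901940fa907d104408204ca42643c101e037c91be5d042e82e8a57457490ba4ba695d35d442ea2ea155353446ba8468515749522db86808671620a9a84ce21cc591307c2df143e16e081f039805c04d3087c07c016e534c2b729a86591591093f290043e43ccea409a811cc27e32698fd08590110814815615640ed084b81e841ac1ace1d81d81096096301e8589412c6a0e1c41c404bc1381092892812f4314a0c8496424b262213112588988988099250c42631dd28de0de1897c31ca3144be046518a02321321864831c08ac324045728429320fd984b0464a25825831320ed184b0ae8c4ac2580ae025605714d120e72518463c4bc82e050031fc5a308feac1096956b02152afc113c28909210c41c7ac620c1843d811881ed18c413688a482a46afc40a314d1d310a6a8d9c8145340b004002205213090290281684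7b0e30e22071ec51b3ad0ad08484c8ac242a144258b213310209e0d6b028c622221c70a30dc30518631159c21881e24c461bc1bc026426308444444098e04260560563042abe083b4150e10e06a60870ed02bd82a8c21c21c0af40b430cf020381b811980d0158210e06e1023017381b010180d9524806c044103603602a501b8c08959c4044044056608a1a9a867854d422820b40e67048048083b03b181141ccc08ea6a50470a92023823814d00bce0ea08a60750cf283aad6101d411c20ea0ea05ab01d3823823856ad6acc05e19e55ab0eb32b20ab143a81aca1d61147074074281788b1c66c608c336a38519b18418cd8a30466c66c0a3a28c151d182328ea8e98458764ea383aa151c1d8328e28e0d46879822fe1f671d01d0387d8f998718718c3e63ca116158f12d90368c3bc26cc1de13430f259a107907901665564c0da07e709a559184daad8826c26c0ab4134155906d081f84d843c85e8226021010bb108189805d8c5e92cc2214b9834b310a1ac20f38460060062e84a431b91d7190989a0884c84c0b5c1fe21d714d08eb8eb8162875cca60408151b53a0a9829d0d46d4c064084a4120220218918dc8448c6e4e40c404620658429030f69081880c240c40c052c21a09180919c80c948c406b985203,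
  nat_lit 0x13b190e10a044ec2ece2f6260617b5d008bdb0d196c16c00c323ca06185b1030bad9018596cc0c2a2f650ef06d030a0778184c3d8a39037c11c825a18e41401c7217e8ac1cc1e55fb0881307afe158415388c2039071f61f60309308084684680c2239091c817b40bdb09a584d8510c28c2a9615616430b30ba585d8610c30c32961961a430d30da586d8710c38c3a961d61e430f30fa587c85104284285297214393b92f1c8504ac83c63c651f45f92b060f1a078d8312c18c1a860d60d29308bb898347e503f23f2725811b38fc8bb102e82e9017417471780ba08bb05d153045dc61744aa825525538bc92a8c5d8954a9462ee12550dd18d306f0469835cc34c34c81a611c488e305218298252c12af84609520187d2df183e83e8cb102aa50ec0eb38aa894856e05546156ac861295d02aff8bb205d895ce2ec4ac61765fc10be2ff9c3c85f00bfa1e405fe5ff32ac877857fc0fc6bfec00960007b3b0003d198018006c0cc0656056002a8ba8b8180580c49a49a40602606430330318409818e206c0c15e44d22b0309494250251212807a30940ec384a04a1c3b43b40c0ec12208708703040d31836d82cabf0c1672162173b059308d7e55ac2becbec35db56a1afbafaa17d4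27d213ebec85f65f74afbafc217e17e06bbebf072182193afc0bba05dc5dce4ae31e51775f41a51908997d08d8a2b4400415a237393a91b849cc8d4a2b24e05237274391b906a483456902b416690b315940ac91ba48dca91054857a92bd2a4295215e94af4a6485325329299264394c93104a64a64a56057a42b02b002f894c8c97c83444be4be05f220e410710710a20808441c4ae3178257412b92b9484895c8424348225728c29038939081d77864c84be65de192092f9430498ca18c410378126428408ee95818a1093425603ba724d5de2904125945b0934a4c4324326226202f69420c820820c49a55a52ad2b6295b1399ca589c8a48834252732953939903a081c86d24364888244273493995b20ad8ab5255abda524d2ad2126926817b17b46324be0319a19202f70cd017bc7fc2be0b2225eb27e30e10799470935063841f011c21c202698e61c7d564463ea3e845e61f548fa8fa9c7081684bd0bc830775e4303d03d997916e0e156b7030eb5e52adc2f29825979460d612e65e514032efaef984fd78ce35435675e35e34af186f20378378a1461bc30890de38310419c37874c828e28e81475dc4aee2ee097587704bbaad465db1ee40f70f71c9b87b862243dc121f1dc28f70c0a0604604cb0830274b3,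
  nat_lit 0x69a434d34da5a6da710d38d3851a669c18d6b4e1c695a70214611c769c6872b1132b91a1d9e062ca2ca067963e033d0f7019ec7a00cf8516067d1e9033f12c019fc5e40d004ac0681178034110f01a0c5e00d08d0c42552550342b4325a19884ad0cd0c71f768630f4b4495891a24839a52e268916840b40b4158dc90062d027281391a8289c892984e44e4c13e13e06746773310070819d58800cecbb466775d80b3bb3b8d87d9dcac3e27a46776733945b39845999ccac52c7a367316648b30b3159045986c423f0616661b33322da9198576caad612a404609c32ec023097657640cdcc3e75d95da0336893117657686bb2c4015d95d903362ed042702706c40cc2262066c0b10310019819b02cc0c3e766c5da1b36336104984980cd61be066a4a30334823241199bd0cdece096706714338b39259c9634cce4ccc25fb666284432a0d9999910cc8cca966555f3332afc89968834831cad8312556d284aab60427c498aad81be71a90df30930d40437c37c60c60c670e10e108932da0c27c4942b6835210e21a8307084f9438588081c21c205f5126306c83184364364635018a106406438640c598314320231618a30570c818c50c70862831c2314314065f18b18638638597c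62ca190cbe30c80c8032f0641c15d96869800ae065d4c0032da60819703212190316818b65e4b2f32fa197c639231c19c80ce18d48c6866a033466523324186199132132ca5f95951950817a1d8465312c0b298be0d94d94ce2faca6611e655130632b117e82e84cac35e46506511128090099499008c802ca916563f431fb20259019050c82c82711b6410b1492c1d9059048c82c820642259331f1111d8f8a5c2c7cc7c41ee642312c12c0190c9180c884b006451e903230880191c7ac0c9030e064925e032512b0192c5dc0c983f2064d64f0b1c31c0193993ca41ec6c364f2402b1c107a483c9010480c7a963d1f92b1eb10858f58f4e48c41e262323a411d11d158d8a40447432462201bc19102ef04880881244050a828522029428ee8ca14820250a4c662852853158158018e4880c532532063a299031db1e158d18f0e432430763c5e31b1a10b998d0a60cc4ac4a629a1f73b148f4998a58a48c523f2362962903150fc8d8a87a4cc54c5461f71f70315948818b07dc0c5a236062e08f031788e818c045c0c62c6862161f2031910b018cca40ac6a52e3635222331ab1a989658e08c1a3f226386213948b12118788504c48138909c62043102fa91880a410520520721e290090e10a0ca404ed027627671f2,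
  nat_lit 0x2b609521520c914ab8657a54c22bd2ad095e95714ab8ab8855c57a06f32ae037895e8dbc5bcc255a55a62456f129573798cab8ab80de448a524563f2b773770c2c891482cc16406ef166037815294a9491ca48ede856f4245412295724ab9bc50de2de496f26f3437995324a98925049254e92a7248412415424aa0aed057654a92a52474123b7a25bd08e10470470523823820ac952088e093ca53c45c429e6e6237594f24a78add056e53e22b72a0495015d14a80a808540dd656ed2a0114c94c81b9ca640dd044006e96eb131e31e01ba9bb48c6cc6826ed20941049049ca548242344412519f237190488491b902d0ada8daa515c1a240d10d10c9cc9d4e3444e861a212f2b6b11811b59b58431231206d7203036c09181b642440db422806db1b7036e13301b746600dbc2dc06df0b7037002701b841fc0dc4dc8210a10a037191009b99b4c443ada650b32351b69a5f91b41b44a3acd9e11f55ac30ed0ed154c03cce38692861c327e28e187d0c70c3e4238640a514c1c302900548c5304f02298298057e4d618e0ac89c9f5620a4fa384327d1c1026a8e6049f49f409a81f066cf27e1b678e795b41b3ca1f4d9e627d6d112f3b69143f9b4888e619e26d217a3b618bd8db0d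b0ce210d96658e58e03650b081b242c00d90b1e06c75900363361941b43bc0d8a0da06c461b28a4b6615871874ad9ac36114914940a4b65a5b2db2cece429276716cd130eb67158799dc4d9c16c116d562135d8981daddadce176d7425ff6b7281faff81ae40fc0d7016c80b66bd4b5eb5f21af9afd2d7ed8086c06c14b60b6121b09b0881b418a26c20c4282c86220311ad52d6a19656b56b5130535b106543744d6cbc446a45692b52352955a030d2186ace50c30c3102a82a81a982680d4e07e06a801b035480701aa80500d5605c06ac56f035683601ab80b40d5e0da06b05590358b5181ac9a880d66d4036b45e8202c82ca016432d2196196269e18c40c60d6886311d08d4010c56a26a3301ab519c151a8c20aad4630566a3281b2ac91a8d7a48d3ad3a560960a2b4f34f25a79a7d0d3ed3e511c69f234d34e09a7d880c142d2866975db0b4804e11a417dced20d3666905f62b483480d5ad5ac0d1e14265da5db03472ed01a3587c2142bb030a15d82850b20142c9a28acf02ca568b0a1209db45884ec4ec0d18d3675f656a0b4dafb95a6c2c90164d14968a68b4345b4625a302850142d1a968d68e4347347a5a3da410d20d2296916924349349a5a4da510d28d2a9695696434b34ba5a5da610d30d329699,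
  nat_lit 0x77c43be3bea5df5df90efcefe977f78043c03c0a5e05e090f04f06978378443c23c2a5e15e190f0cf0e978778843c43b611e204e08edcedc51384be2bb7bb81424ddbd0edeee0977077143b881e95dc44a46ee21d617717713055bb914075dc8ea6aee4107405a3bb93b689a85ad82edaed8876c0591bb63b59458c12c6ed620c519419448ca097204b84b8a130132212e15f48af8579457c57c4390390076517b03b309801d9c6fc0ed0a8e076976a12ea0788dda893c82de2de916f24141208b18890493124982d6424c24c112d12d01d7c6000ec0b0807611ca03b13b2046c06c00ec618c376475e290d11815d757388ebae9a46ce1cd2ba6ba715490738ae9ea1e474f74f1286a8681d405fc0ea240407521e203a988381d503f40eaa3a2075614b03ab91501d606d80eb238e075a1c003adbae897317300eb8416820b20b291690590630990441645a41500bd2ba50e791d28654a2a015450cc15048a8055202a854522a232c5151151128d28d01cf47980e7c4a4073f17103a005b81d042980e84282074314f03a22c301d144540e8cb1007470fa03a43a5085545540e92e9851af74c231139b89d30894a28e44a822514548a2aee14514514414e44c82262262aee91310594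7b8444ce784625625039db9e1577dcf06c16e7871ab73c0b1a0d51dcf1ce04ddcc443738737286fb9b9d6d1cdc2272ad877376ff192439805bfca94ee60dfa272e72d115e15e01cb0ab40e5655a072a24d039490401ca08700e4ee6636977010b99b9a89c0d5a84e6c4ec9276261213b0b009c5486cae2ae2a3272272038b0d081c5c6840e30442071913f038d0d501c6c85c0e3850e071d27f038f14381c7c85c0e40422072118f039113b086a06a00e46e48217e12d40968969031025c425ae2826d5714291cb828dc51c4863b4e2460a913c3389389941cdc4c60e8e26653505a33899038dc444d08e0ae1e55b65b52b872aa95c15c18a43a166270626f2b83b8490825c1c441241207080d92b8489c8dc255b0ce12e1265b45b403850d481c2d6d00e18e1c209f09f0386af289c404a08dea2d846fc2bc295e15e10af0af00df257862a42ae095e15b1cab8ab0248a57832ad6fc115695681becab0656c57a62ac6f9295e37d8caf0af00df455852ac168137b156119cdbdc4ce6ce606f86972b80b8115a61a64ae0655892ac2bc415e37ca5be5be90df4df696fb6fc437e37ea5bf5bf90dfcdfe96ff23d411eb8025c01c050e02e0266947042b4d2fb89c10924a49254e52a7248292415298920a98a54c57442a6,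
  nat_lit 0x21410f60c401ce01680f2614e053507602eb854017707340b2227a20f91c303a71158853076410923b0084b19b03690eb903f87580a343aa07731d3030d89a10850a400e2827607061ec0312067811cc3fc80ea08e05d60f903a687f8c4f02884278298058c149105487f842a43f80a3829a061c0a2209e84e1c4d1764c2684280705213030f050844d1764e26a13861350a1289a8ee104d4284626a3b470ff831307f8eb943fc1d40baa278058b0a903660eb81875b3021fec4070a25da305109a142884f40f20268061f13502ec3a69162c3fc0d9a1fe05ac0fe230ead601b342880ceeb1606ce61d03c630f81e398780f1b078409e09e041e821820f80a0107e0bc08400d3042082e82108130108645e51697fe20b4826821105a4103616a084581a18d78d782066068ae963ac474b74b04243a602135888109ce70084f7732428c261ddce12c70983ac684a84b38e787f1e12c3f8d09306850e016a1070070020cdb90b0643cc28328482c0d4228e06e068108f036084616a40b5419a60ce0d1106906a9835836441b41ba60de0e11071072983983a441d41da60ee0f1107907a983d83e441f41fa60fe101108108298418424421421a610e111108908a98458464423423a611e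1211091090222f1d6242424a960b607482ac0e0581d81e2a6b0e09607d618903f03e2588588041008a820846d410443bc08231c504120ef0209440c104c0f40827102041407d820a41c81054b7a082b82d12df2df020b20b86f6106247af7b00417bd7820c20c4aa3706237eb83138a641885c496b0f06303820a00a51c0e40309571570100eab228057fd240d40d91ff88bd045efca422f19c2c020e5a072c72ca4ce396426649410e59160e002000afc8bd458018022af483b0a00979c8ffefd6553a7eb3854bf5847684f0efd6fd250a01332bf430191fa1f950fcafca55e71d613f2916248b1798a45845821c41c403f33f4083cc3cc0fcefd450427ea23b83b909fa9f906bccbd427e47e323c5af415f8c1008fc4f9426581e31be50e21c3cc71021f438830f91c428fa8e220711ea88388f6c415315303da8cb81ed053c0f66f6050a514103d905281ec433cef5e11467af0452bd7a5f11f258148f5a97c27ae1381bd5bd60d5b5eb0a8e41d417ac7aa43d53d51d6e1ea86ac8f5411550962bd53cb102a82a80f2af2620cc0cc03ca39211ea5e48ae48f121792791193b2be89e45e38a144f2040a20a203c7bc69562c3fcaf18b58278c2762bc492011e25e2ca25a156278b0fe0bb9bba042a08a46ee8274913a,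
  nat_lit 0x15d037303e9c2202e0c11006c40880b918440788183c160098032605f90bd202883f019981fc0caa3ce717e17430bf101945f870082fce48075d13f386c0a01836069c0bbc42e7136216309b09b817e0698826c42c715b21730ad89f018f08e482b61b405e30ad03769201458183482c04aa2280251032c0f49ca307dcc5184aa428c20718b30fc1c86c918c4363f20715139210d922019cc9004436164516416420b20fd019040d80d440b2076d111030481b882243740d3c17806531ce208f88d017502e4423e23204d005003fe0c01c6bc604c35e40c51af1ca03280850c6bd5b0e24eb6861270df289389c8449c8b0a4ca3e842651f5113288481ff842842d225606e50aa23c59160c5402200a92192065a181385e8c0182f45fca17a0a2065417e02e6085042f45a0a168354719e1ab30cf06c0177c4d80c162b606345b438942b6184a0364a250412412813918940b408688594646a41e512f160031c1400195ca2ce40e522620728c03430b301c4486c0c7a2c80640165091b01181a85dc4e254b70612a09628950e2104a85542254112069d08a108913e9c7383e0c39c1f451ce11f026893f0c7387d4239c2fe215507f03fe8d78161049c0e6e4ca05e616903720a8908bc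5a8645e3cc222f78b03cb024082a8540100039e51750b9025f85e812cc73c82feeec422523a28ae376905702d00c6e534726f298313790e149bc6780e78250070921c11048d101bd82cca2ca43a2165235033c059045644bc0c9e460420f189110794701a1c81c0c4246c063f0b218ad02c90330168419806e06a00a718450949c4043acc2021da5101076208089501ea82ac220222405e9076108011314520770429039a127e1ce03678aa8143c758a308214081a1d620f310301d306580bce45e08320aa03f18eb085448b022a23ac71831d631418ec1c73c764c39e2ea06d017f03a50ea8c73c8940eea45231470a808a3ad81c51c964e4724446239290291cb1a108e4a5c64722b80636168036a1111c874964c43a276521d1ee210e94b848749bc0c4a41206f516503698ac81a284ec416639a4281297114090781b587b40c442b406ee0cc02f43b91c29dc4cc14e08e50a714620538678429c22808e8202056410004010a2942a05200bba1f071cd27d30e687c947347d4639a4fc05240fa03a787f187643f8e3b01fc519b0cf10cd8c201b447980e962a207e518304261418212873c0a1a28e07740fe08eab321c74c524a3a628e061a14908e991c818d48e80daa43a063e21c038385981a2ca040d123120623,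
  nat_lit 0x67230540a4902a02a00d9644a414514503bb11301ddc7b80ef03b8077913503bd09d082842840ef6166413a5b030a410a905204e8a42a29005af21503be3be10520380a0c6290077d063041a05401df809c106a08e077f061041b05381e00368106e460520c25021060968c8305f844184ec120c14603c0852020e08300e482ea078223d38aeb989c2d411010724a0059d6653932ab0189947380f06d2870ae15d038034a9c5702d40e6413a083a1c002ce35e9c6549940abe1f40784694305685701c045700d2c09a0733136041d84f104dc7280b361e421bf195035f0fa015785540f0a15a06975f6384f348182784dc1078bb6704356b30218519010c5f0426037e059a09a109886581afc28c40c8186306411902ae878944201f84210156078615b034c3481c2757d8c13a13c05f711c204e821815a84c00bf81e2309b11a104d928145c03c80a8e26207f90f1084d0619415c31880ae0442057176105d896945482a882a41562152276290d120108684e444344ec320b12d090586e81b001900ad21bc20c506403529309479058083c82ee21e411f02ae0369c3c57fcc1e221005fb15203c38cf01a642740d3611c711c1a5308e0d314471a6c823835a311c0a3088e06594630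310231813606101f610993fc88268848e262422613117628988630c63c6c0231e24021c917003d40e0089402680a9032270c6190306305d1431815c0ace32632610bb02fd05d0814078c2212e48523015203c5bd414941c9084a04a007a921a03c48d38c99082c0f221b440de089036086281a9078c62e03c8060d1f739390f4989c87e464e41720806035384302a182180d8a10c1e20559056184302a842184b40f100b230c40ed10de09b01a684700d3832a40cb18c035a86e8832c2f062f81e2361013202a704d01fe8640e36032261b025528d806f906c04c40be831e07641c90329128017382b882ba440215d5fb2878844083c55200c1c18c04c1088082c1308173c7d02326110507e5fb103f028019584240c1846007925ce03d493b01d78988e34e4be61a720828d3932015f4880234e4327137218309bafb904dc860e27c432613e220209f0d59c3686a8c1b41bc06c206102f105701bac570815a2e007ca21b28fc8b0087e4a3023f2522724428b31221561091059824884b071fa11b30fd0b3147e87e883f44e40629088040284301a8c3100ed8378057c08710888d301a7c32c0d6c23c70bc17d305e08f942f03b0817825810bc17c02a6b0801da8480099e17607fb1af20e50d80128c7000ca22d24109,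
  nat_lit 0x7d044609201f75f7c8b0c208088d58603ef2c409f7c1e4111c9ac57e07df040fc0e85f800c0111efd037e17e0040f3f505f841e01120fc208801331bf126b09f881041122fc40859040044901e0225c24c113097c089989b1be4be482268280913712c70a08951c4b0999e2544ccd1264649232268413415924aca209110510698838844442442a6216219110d10e98878884444444a62262291115116988b88c4446446a6236239111d11e988f8904448448a624624911250b24892880140f44016165fa8310046831580b108ac03c861b0560a1590d820ac0ac0436c35114621b06a30a30086b51714350ac205621b930dc47e823f24e4927437a21be1c130e10e288718724c39439a21ce1d130e90ea88758764c3b43ba21de1e130f10f2887987a4c3d43da21ee1f130f90fa887d87e4c3f43fa21fe18c90feb6828698681c312db0a1a1ae890cb0ce482d5bd1433c31a618deb8b0c70c6276f8642bd6c32104cc4a450c8414820a20a2895905108b04a844142ce673024510b391c0459c920c2ce2ce51672ab215c0b38c91c91c10b454a085b2a5042e15d82174ac410bc566085f2b5215513614ad4aa810c055622b52aa095a95a8218459d02cf0b4985a85b442dc2e261721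7510bb0bc985e85f442fc3026180ad5056a55692ab2a9295595584ad0aa830c24d865a226c09599360caa618485544d8826c26c11548e9109b216449ad0b288591331c2cc2c143420b470b056652aa2a2115a15c04a88a50e55052812b12b4293590090a5168824d24d272b32a909359598c9aca5044d64d608572b1115991304a6ca6c846c53632252b321369368215874810aa484085429b29149158214c8a410a4536929b8524429429a614e15110a90aa9855856442b159a4ace15d10ae52892942a2415115a24ad0aa9055457092b82b1195d958a0ac4a488562dfe6247238195292384a94a940de847066ff2b611560c59c30c334e3180b270cd0c338c50618415c4c48186148713f14038522ed98110110cad62c0769512b3b98b98848f45a4e47a332620b16a20b40d110380494e1c013e60e00b528b5115948004e8c3fa400113a5a339001009d68c7f86b463fa629222b19210e91d9909b4a3a44845292201294490a8ca247f8e524402313a1d218a4b389c9b59906ce2ce435b020b31498661d995af4c32cd7a36655600b5e866195805b4c3c62da31e51e430b68b08c2d8424e16c16c71701fc10bd0ff184e8424c3ca3ca617016138f18f21c5856c02b1cce4722958e3114915908a48a40b1ab1c70a8,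
  nat_lit 0x7d20780bd8c3c02b00b200f210ef099035b83c8c0fc2600ac624405a30f003df8a9906e85500f6e2a8059e22802c094f01f3c1f00d76250709312730498931424c0f00ad624a309309f08498e60198c168e08c14e604601d2823052819bc1d0208c08205f6094104f8508224c288112a1c2413309c03f1050017643884352270087f13802da0789c1e43c8c0f220805d015702c78e3816c43c00d861de086c0ee103681f814642440b480d43077049103b818041dc6f80f8037407b622e02cf9411089c6e00b04408222722e03e701881ae8254a07a126056c27d03310559c2544a8c12a08c07720eb084a84f81eac4cc0c403520863129107089301dc049410d2352076e76e0431892812f92f810d20f6703007a301803c817fc1b081dc37a05b206d028c092102483a00b4a05c306f04a1037836041bc1e8e0d40f6606a07702b28750c1adeac41281d410940ee03e09099c6ec534c3761d241bb15302d00a714810490640844e058322309020b701f3405410ca07a056d1c2033084a816d838410c8ede08628640bb80ce143f072c61f90c857ab13803d70811c1e040cc0f012840780713836039181b00c00c001dc05b302d04351029c49075cc2483b4512409202d30391c0b81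c4c05c0de056f1c3387b8e2183dc730a1ee36e40f71cb107b84b1c3a825cc1d40d405e406b02b704a01eb025462522ac112906c03e10eb9c88c814c446284422313c38a78549853c6ec0a74398414f1da08a78549c5384f0c29c408052d0d020a70ed0c5382dc0f9801c08660ab3adb095196d80f40e1eee445b612902dabb8021a03ac2b6c1a050730fc04023d581eb43d4e0dc1e8606e0780303079901b81b00a2e248053011510ed07c9c7043e8c3824fa51c111520e08798c7043e8e0e01f260700f82838017016f43dc09281e6107012a38ab055985583a80bca1f041560eb18ab094811c81b80f861fe714114c30a09118146c53c0fd629c07120a5282285301f2c05010ceb6c07710a7386802d183401cc10b0e2440d007418680ce0200c1040c0a0dc04d27e210798ed016187040b100e005be15602dc03a083e01000f8819e70a508a30528a0820c5dc8614a08a07b002f0416875816dc3400e2626657e20400301879813589f40fbe1f0081d60503e2850141082940f5e0e804957e203f40e101f81eb40f8cee040a004203f4bb9020704cc0fc2f5c07c70a003f525f01f21dc01136ede07c97ab2020beb8c5ae21c641c2d607d820e04440c001f64808111237207da181044507401f6c328111612407dc,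
  nat_lit 0x2a703eb0b58c8f48f40fae478615d16b38959530492091ce54e47062a723d21539240ca9c9200dfc54a724916731248b610924ab4449254e06ff2bc115712481bf1bf8254c55c072d2a6037e95e81cb8a94edf82ce66fc2ad0397b7f85bf04ace2d816a616c6fc039811e845b05b00e6216a716b23a38ca13b1c838548c464464621a22d3934118189a09a0a33241c319926010cc90684664334631a31a50cd19904438c682214638219a4c0418d0cd04430c68220e214619a31a388620d194990704a4ca4c0be631c18860ce10638cd10338834310e4d042b22b229304419098221c44c04c008828861441c410a21e21ca4d0302223223229071270c9308fc23282bc523f20f38970b41c8fc8fce41e25c716815f312011d1857c58881602ca623415930560ad182c02cce0962ae70b315730590b1189087c0e4563c2728928938f81159c784854c2c4484623e23e310a8b19c8d8580e15e2b860af04a205785781a54418e2c02bc60b412f30af127045bc260c25e49e72b124e28b68cc105b4330e32e4ca619726720cb9329c660330c3302da086f19638b70ca985b82d882dc32e066519802b00b701af45bcc32616c516f15820af91f8c57c57c10dc2b0217b16f39281261c64c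904c4c23e862410fc38e90e58499c72cc4da29261cb16129209331c65a1bc8330330087026604388db821c83a410e63760874223043a8a1021d829810ee08a087823e20af0569c1282b8c094d2a404a01d043c8af01ee81280d28084087a0af03dd83781a4c28010f633432691ff093487b01ef1ee8847cfa4529f23220ca0b688578524e3384da619c67220ce03601a4849810f84d671ff26c30ff934817c07200f7a47c07b923e28ff0910c7f855043fc51011fe16228fe9440c7f48a043fa24411fd29f03e88ca022045780ac216c204e1d239338e99899d99484ce3380671044380e02198070278e08013a604009c202003701a44280c26814071350a238210509810827020841c4087d16328580258c2c055c21601de20ac130384c85d982640fca13209e409903e204c01f88260804e24440061221ff02d10bd81ef87f80f703fc05a71fd02c295b81f404180ac409c06bc043381e022180f099c0cc808c30a50d0033804e9c104278c08213e404101c02ed899982844cce144266509c04003480998c2703cc41382680896135044a093102801080bb408c20a01a9043f0939c4e04a0c27035251381a9209c04f8c4e04942270210710417a30820df104105ec2208160076b1e510e38bd1c3c0420c1e00da50f0,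
  nat_lit 0x121a490caace48648652692631135135249a8668a4d455462432b209351450490cad4e4d44d472b4163212194e1c8bca70c476538124a29c192594e148f090c4478478089f29c414e14e089a48a08538462721a23130a9118849a08c50462462520d2861118951a0a8ca8cc56e57652a32a3215195c0ca8cae4454657212a32a3044f44f0cae2278457313c12b92bb2c4f15a98a28a28c56851432b228a41451450879c8d08514466415423341199199ca888cca54253c1233232094e94e9c8b4a74c46053a5293233114994982274a75053a53a22a123f214e9501cae4abcc57457612af2af194a1579091cabce49e55e92af2b9415c94f18ae4ae4857254432b92b9044e44e22272270e53c544389c29f391d91d8c8288ed0476476515d23b211d142888ec91cc54c54c623815938580b21c8d0aa0447a55052b723c38b4920908f0a84849c542729424f195415d9ca84aa0257457462b12b7315115c1ca806e0e44a53c72b82ab31591599c980980e55249851e52503926127187d0984c49c51062002b7215b94f90a7ca7cc45e494720a20a392589698838834c25a41a727626b30cd1361c668320431631c50ce0c430c70c61c338338e0b231a60c418e306586598634ac8c5544cc619529b39140aa188b06e8e2a245c715014830e88a39c7443f0c3a62a2722e15038dd055185508b0c2a62a660aa1b83113141188948a0e28a2b871060ae382485618568514e44e09240ac158311b0b1988d48d4c2b05366227098385a10098a202c4e2c844c628219439200541c5288a4c294338414a14839150a3988a87948454294067222938a58541852c584829645405b014b02c7058985944b88162496716a0b23025826180782b4c09209a701e04c381f01f1c134928c2d453e523d23d03e915381f4c9200fa854e07d5]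
noncomputable def A : List (List (ℕ)) := [A_0]
noncomputable def K_0 : List (ℕ) := [nat_lit 0x5d720b53d62b21f20e5d33cf24553522121b48c45857064652f4f422f40b3895a850e47f1aa1411281273b133061b42c40f66136d1d91e43575bb4d234d1143491c834a35412a3d138b70870a50d75764236770333b3eb34e76b75b4343f51393d83d640c5795ed6a23fe3665147744f034867873a6385de5344ac3334fa40980f5bc23d38e3d43d24d45a260f73e2136863374ab6be44952e64553c1fd4ed38669945650246e1ab1e71d84351e513723a39146422e4744a41ca34c3c53c311542257764353141521d4f742653023b20a38a54e21c3f624653645e45745f2304251423ca12912611633a32f1db32832611333532912b1922087563ec4671fc52d4f23d73e33fd53e63758d3343324f940144520923c71b3d33363382144044444484001fe4031ac1e643613622d4734913c03e23ac42142724745d4202311251f91173253271121b612c1fb3ed4f13e43fc4022154053fb1ff12413322c2323f92481441181111051fa3fa2161231191f714610411c1f611a107103106100000,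
  nat_lit 0x46c5f65c63e61d45496a31d64144fd66444d4ca1d13b25013b665353855e1ef1cc1f11f363c4296145756a453b4ff4191a82254e264e43e24239348050820c51e51b5c05c25564cb20d5215233ce8e33e845a6ac4712202268a62402112444863e764745b37750455a47e5183cc4721a93ab1bf13d1403e940e36c35332b39a4c16184515ba69f3724b01e978d54b1f458835532c62a38c46a70b51658a36936b83d64133c4114c745070770975870434f4b95451ee3f43d93684813d565234243840d1d34606ad4593de4c668468b3ff3653f313c55757683451559833f3419134ef7279437206e35e463953f5dd34783f5335ac56235667767995c4fb38820f55957d43b81080e6065cf51d24155557c78423e65851f80c3f213b5065ce3993a04d364d5d46bc85772245461a5b561060e21244a3ea46f34683e7f24ec4ee4e021042d42b38533150346d5cb13a3e54621d51e869e1d746144c4eb1d23924fc45c1383903781f01cb3a81c93c63aa42857458f4fe5324186442242224e14e3,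
  nat_lit 0x16b16a16916816716616516416316216116015f15e15d15c15b15a15915815715615515415315215115014f14e14d14c14b14a14914814714514313f13513413213113012f12e12d12212112011f11e11d11b11010f10e10d10c10b10a10910810210167c7c37b936299293f7a366f94b93d9399759403619917b06707c294c93e5c47b87b67b47ba67b99893c3637a447c7a299699e93339d67e1ec5254a039e93b5f55fc4a16bd1c35371cd5481f29975fe5cd3a33606d843d3b351a55f56b3a251024363b1c041e3ae13e4b47f04b11ea66e54a54d5e65873715c194e5ff99b5c597462951736a35233d47944f46b35f1d05111ed1c43431eb3df6761cf6a13ee1a658034444e36495f33e83647b47d7b57b77bb3e07af66d99c5c38356df95e5007cb3409906e15867bd67a5e35e563a99497399a43a8fb55843c8c35da55423f51958980d80b3ef50539c39f6dc5244b562442f66c4bc3a13984c04c96116bb55d5ea1ce3456e06826805f483394f7a142e66b42a54451c43953a5fd5fb,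
  nat_lit 0x2d32d22d12d02cf2ce2cd2cc2cb2ca2c92c82c72c62c52c42c32c22c12c02bf2be2bd2bc2bb2ba2b92b82b72b62b52b42b32b22b12b02af2ae2ad2ac2ab2aa2a92a82a72a62a52a42a32a22a12a029f29e29d29c29b29a29929829729629529429329229129028f28e28d28c28b28a28928828728628528428328228128027f27e27d27c27b27a27927827727627527427327227127026f26e26d26c26b26a26926826726626526426326226126025f25e25d25c25b25a25925825725625525425325225125024f24e24d24c24b24a24923923823723623523423322b22a22922822722321e21a2192182172072062052042032022012001f81f51e31e21e11e01df1de1dd1dc1da1c71c61c51c21c11be1bd1bc1bb1ba1b91b81b71b51b41b31b21b11b01af1ae1ad1a71a51a41a31a21a11a019f19e19d19c19b19a19919819719619519419319119018f18e18d18c18b18a18918818718618518418318218118017f17e17d17c17b17a17917817717617517417317217117016f16e16d16c,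
  nat_lit 0x4cc4c84c54c44c34c24bf4be4bd4bb4ba4b84b74b64b34b24af4ae4ad4aa4a94a84a74a64a54a34a249f49e49d49c49b49a49949849749649549449349249048f48e48d48b48a48948848748548448348247a47847747647547046946846646546345545345244b44744644344244144043f43743343243143042442341f41d41c41b41a41741641341241040a4084074063f83f73f13f03e13dd3dc3db3da3d03cd3cb3c93c83c73c43c23c13bf3be3bd3bc3bb3ba3b93b83b73b53b43b03af3ad3a93a73a63a53a439b39739639539438f38d38738438338238138037f37e37d37c37b37a37937637537437337036f36e35e35d35c35b35a35935835135034b33932e32d32a32432332232132031f31e31d31c31b31a31931831731631531431331231131030f30e30d30c30b30a3093083073063053043033023013002ff2fe2fd2fc2fb2fa2f92f82f72f62f52f42f32f22f12f02ef2ee2ed2ec2eb2ea2e92e82e72e62e52e42e32e22e12e02df2de2dd2dc2db2da2d92d82d72d62d52d4,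
  nat_lit 0x69169068f68e68d68c68a68968868768568368167f67d67567467367267166a66966866766666566366266065f65e65d65c65b65a65965765665565465165064f64c64b64a64964864063f63e63d63663563463363263163062f62e62d62c62862762662562362262162061f61e61d61c61961761661561361260d60c60b60a6096086076056046036026016005fa5f95f85f75f35f25f15f05ef5ee5ec5eb5e95e85e75e25e15e05df5dc5db5d95d85d65d55d25d15d05cc5ca5c95c85c75bf5be5bd5b95b85b75b65b45b35b25b15b05af5ae5ad5ab5aa5a95a75a65a55a45a35a15a059f59e59d59c59b59a59959759659559459359259159058e58c58b58558458358258157f57e57b57a57857357257156f56e56d56c56a56956856756656556456356156055c55b55355255155054f54c54754654354254154053952c52b52a52952852752652252051351250f50c50b50a5095074f84f64f54f34ea4e94e84e74e64e54e44df4de4dd4dc4db4da4d94d84d74d64d54d14d04cf4ce4cd,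
  nat_lit 0x7ca7c97c87c77c67c57c47c17c07bf7be7bc7b37b27b17ae7ad7ac7ab7aa7a97a87a77a67a57a079f79e79d79c79b79a79979879779679579479379279179078f78e78c78b78a78978878778678578378278178077f77e77d77c77b77a77977877777677577377277177076f76e76d76c76a76976876776676576476376276176075f75e75d75c75a75975575475375275175074f74e74d74c74b74a74974874774674574474374274174073f73d73c73b73973873773673573473373273173072f72e72d72c72b72a72972872672572472372171f71e71d71c71a71971871771671571471371271171070f70e70d70c7067057027017006ff6fe6fd6fc6fb6fa6f96f86f76f66f56f46f36f26f16f06ef6ee6ed6ec6eb6ea6e96e86e76e66e56e46e26de6dd6db6da6d96d76d66d56d46d36d26d16d06cf6ce6cd6cc6cb6ca6c96c86c76c66c56c46c36c26c16c06bf6ba6b96b86b76b66b56b46b36b26b16b06af6ae6ab6aa6a96a86a76a66a56a069d69c69b69a698697696695694693692,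
  nat_lit 0x8dd8dc8db8da8d98d88d78d68d58d48d38d28d18d08cf8ce8cd8cc8cb8ca8c98c88c78c68c58c48c28c18c08bf8be8bd8bc8bb8ba8b98b88b78b68b58b48b38b28b18b08af8ae8ad8ac8ab8aa8a98a88a78a58a48a38a28a18a089f89e89d89c89b89a89989889789689589489389289189088f88e88d88c88b88a88988888788688588488388288188087f87e87d87c87b87a87987887787687587487387287187086f86e86d86c86b86a86986886786686586486386286186085f85e85d85c85b85a85985885685585485385285185084f84e84d84c84b84a84984884784684584484384284184083c83b83a83983883783283183082f82e82d82c82b82a82982882782682582482382282182081f81e81d81c81b81a81981881781681581481381281180a8098088078068058048038028018007ff7fe7fd7fc7fb7fa7f97f87f77f67f57f47f37f17ef7ee7ed7ec7eb7ea7e97e87e77e67e57e47e37e27e17e07df7de7dd7dc7db7da7d97d87d77d67d57d47d37d27d17d07cf7ce7cd7cc,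
  nat_lit 0x99d99999599398f98e98d98c98b98a98998898798698598498398298198097f97e97d97c97b97a97997897797697297197096f96e96d96c96b96a96996896796696596496396296196095d95b95a95995895795695595495395295195094d94a94994894794694594494294193a93893793693593493293193092f92e92d92c92b92a92992892792692592492392292192091f91e91d91c91b91a91991891791691591491291191090f90e90d90c90b90a9099089079069059049039029019008ff8fe8fd8fc8fa8f98f88f78f68f58f48f38f28f18f08ef8ee8ed8ec8eb8ea8e98e88e78e68e58e48e28e18e08df8de]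
noncomputable def K : List (List (ℕ)) := [K_0]
noncomputable def R_0 : List (Rule) := [Rule.mk (nat_lit 6) (nat_lit 53) (Steps.bwd (nat_lit 6) (Steps.fwd (nat_lit 12288) (Steps.fwd (nat_lit 4096) Steps.nil))) (nat_lit 28) (nat_lit 1),
  Rule.mk (nat_lit 1) (nat_lit 53) (Steps.fwd (nat_lit 24576) (Steps.fwd (nat_lit 4096) (Steps.bwd (nat_lit 6) Steps.nil))) (nat_lit 30) (nat_lit 0),
  Rule.mk (nat_lit 3) (nat_lit 53) (Steps.fwd (nat_lit 24576) (Steps.fwd (nat_lit 12288) (Steps.bwd (nat_lit 6) Steps.nil))) (nat_lit 32) (nat_lit 0),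
  Rule.mk (nat_lit 5) (nat_lit 53) (Steps.fwd (nat_lit 24576) (Steps.fwd (nat_lit 20480) (Steps.bwd (nat_lit 6) Steps.nil))) (nat_lit 34) (nat_lit 0),
  Rule.mk (nat_lit 1) (nat_lit 53) (Steps.bwd (nat_lit 9) (Steps.fwd (nat_lit 4096) (Steps.fwd (nat_lit 36864) Steps.nil))) (nat_lit 42) (nat_lit 2),
  Rule.mk (nat_lit 2) (nat_lit 53) (Steps.bwd (nat_lit 9) (Steps.fwd (nat_lit 8192) (Steps.fwd (nat_lit 36864) Steps.nil))) (nat_lit 44) (nat_lit 2),
  Rule.mk (nat_lit 3) (nat_lit 53) (Steps.bwd (nat_lit 9) (Steps.fwd (nat_lit 12288) (Steps.fwd (nat_lit 36864) Steps.nil))) (nat_lit 46) (nat_lit 2),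
  Rule.mk (nat_lit 4) (nat_lit 53) (Steps.bwd (nat_lit 9) (Steps.fwd (nat_lit 16384) (Steps.fwd (nat_lit 36864) Steps.nil))) (nat_lit 48) (nat_lit 2),
  Rule.mk (nat_lit 5) (nat_lit 53) (Steps.bwd (nat_lit 9) (Steps.fwd (nat_lit 20480) (Steps.fwd (nat_lit 36864) Steps.nil))) (nat_lit 50) (nat_lit 2),
  Rule.mk (nat_lit 6) (nat_lit 53) (Steps.bwd (nat_lit 9) (Steps.fwd (nat_lit 24576) (Steps.fwd (nat_lit 36864) Steps.nil))) (nat_lit 52) (nat_lit 2),
  Rule.mk (nat_lit 6) (nat_lit 53) (Steps.fwd (nat_lit 12288) (Steps.fwd (nat_lit 4096) (Steps.bwd (nat_lit 6) Steps.nil))) (nat_lit 28) (nat_lit 2),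
  Rule.mk (nat_lit 4) (nat_lit 137) (Steps.bwd (nat_lit 5) (Steps.bwd (nat_lit 7) (Steps.bwd (nat_lit 4) (Steps.bwd (nat_lit 6) (Steps.fwd (nat_lit 16384) (Steps.fwd (nat_lit 20480) (Steps.fwd (nat_lit 24576) (Steps.fwd (nat_lit 16384) (Steps.fwd (nat_lit 28672) Steps.nil))))))))) (nat_lit 36) (nat_lit 1),
  Rule.mk (nat_lit 3) (nat_lit 151) (Steps.bwd (nat_lit 1) (Steps.bwd (nat_lit 2) (Steps.bwd (nat_lit 6) (Steps.fwd (nat_lit 8192) (Steps.fwd (nat_lit 4096) (Steps.fwd (nat_lit 12288) (Steps.fwd (nat_lit 8192) (Steps.fwd (nat_lit 20480) (Steps.fwd (nat_lit 24576) (Steps.fwd (nat_lit 8192) Steps.nil)))))))))) (nat_lit 38) (nat_lit 3),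
  Rule.mk (nat_lit 2) (nat_lit 81) (Steps.fwd (nat_lit 12288) (Steps.bwd (nat_lit 2) (Steps.fwd (nat_lit 12288) (Steps.fwd (nat_lit 8192) (Steps.bwd (nat_lit 3) Steps.nil))))) (nat_lit 14) (nat_lit 1),
  Rule.mk (nat_lit 5) (nat_lit 53) (Steps.bwd (nat_lit 2) (Steps.fwd (nat_lit 20480) (Steps.fwd (nat_lit 8192) Steps.nil))) (nat_lit 18) (nat_lit 0),
  Rule.mk (nat_lit 5) (nat_lit 53) (Steps.bwd (nat_lit 1) (Steps.fwd (nat_lit 20480) (Steps.fwd (nat_lit 4096) Steps.nil))) (nat_lit 12) (nat_lit 0),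
  Rule.mk (nat_lit 2) (nat_lit 361) (Steps.bwd (nat_lit 3) (Steps.bwd (nat_lit 1) (Steps.bwd (nat_lit 2) (Steps.bwd (nat_lit 4) (Steps.bwd (nat_lit 6) (Steps.bwd (nat_lit 4) (Steps.bwd (nat_lit 2) (Steps.bwd (nat_lit 1) (Steps.bwd (nat_lit 3) (Steps.bwd (nat_lit 2) (Steps.bwd (nat_lit 3) (Steps.bwd (nat_lit 5) (Steps.bwd (nat_lit 4) (Steps.bwd (nat_lit 7) (Steps.bwd (nat_lit 4) (Steps.bwd (nat_lit 2) (Steps.bwd (nat_lit 3) (Steps.bwd (nat_lit 1) (Steps.bwd (nat_lit 2) (Steps.fwd (nat_lit 20480) (Steps.fwd (nat_lit 24576) (Steps.bwd (nat_lit 9) (Steps.fwd (nat_lit 16384) (Steps.fwd (nat_lit 24576) (Steps.fwd (nat_lit 16384) Steps.nil))))))))))))))))))))))))) (nat_lit 40) (nat_lit 4),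
  Rule.mk (nat_lit 4) (nat_lit 53) (Steps.bwd (nat_lit 2) (Steps.fwd (nat_lit 16384) (Steps.bwd (nat_lit 2) Steps.nil))) (nat_lit 16) (nat_lit 0),
  Rule.mk (nat_lit 0) (nat_lit 165) (Steps.bwd (nat_lit 2) (Steps.bwd (nat_lit 3) (Steps.bwd (nat_lit 1) (Steps.bwd (nat_lit 2) (Steps.bwd (nat_lit 6) (Steps.fwd (nat_lit 8192) (Steps.fwd (nat_lit 4096) (Steps.fwd (nat_lit 12288) (Steps.fwd (nat_lit 8192) (Steps.fwd (nat_lit 20480) (Steps.fwd (nat_lit 24576) Steps.nil))))))))))) (nat_lit 38) (nat_lit 1),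
  Rule.mk (nat_lit 0) (nat_lit 53) (Steps.fwd (nat_lit 8192) (Steps.fwd (nat_lit 0) (Steps.fwd (nat_lit 8192) Steps.nil))) (nat_lit 54) (nat_lit 0),
  Rule.mk (nat_lit 4) (nat_lit 39) (Steps.bwd (nat_lit 0) (Steps.fwd (nat_lit 16384) Steps.nil)) (nat_lit 54) (nat_lit 0),
  Rule.mk (nat_lit 3) (nat_lit 39) (Steps.bwd (nat_lit 0) (Steps.bwd (nat_lit 3) Steps.nil)) (nat_lit 54) (nat_lit 0),
  Rule.mk (nat_lit 2) (nat_lit 81) (Steps.bwd (nat_lit 3) (Steps.bwd (nat_lit 2) (Steps.fwd (nat_lit 12288) (Steps.fwd (nat_lit 8192) (Steps.fwd (nat_lit 12288) Steps.nil))))) (nat_lit 14) (nat_lit 1),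
  Rule.mk (nat_lit 8) (nat_lit 53) (Steps.bwd (nat_lit 4) (Steps.bwd (nat_lit 9) (Steps.fwd (nat_lit 16384) Steps.nil))) (nat_lit 48) (nat_lit 1),
  Rule.mk (nat_lit 0) (nat_lit 151) (Steps.bwd (nat_lit 5) (Steps.bwd (nat_lit 4) (Steps.bwd (nat_lit 7) (Steps.bwd (nat_lit 4) (Steps.bwd (nat_lit 6) (Steps.fwd (nat_lit 20480) (Steps.fwd (nat_lit 16384) (Steps.fwd (nat_lit 24576) (Steps.fwd (nat_lit 16384) (Steps.fwd (nat_lit 28672) Steps.nil)))))))))) (nat_lit 37) (nat_lit 3),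
  Rule.mk (nat_lit 3) (nat_lit 39) (Steps.bwd (nat_lit 0) (Steps.fwd (nat_lit 12288) Steps.nil)) (nat_lit 54) (nat_lit 0),
  Rule.mk (nat_lit 5) (nat_lit 39) (Steps.bwd (nat_lit 0) (Steps.bwd (nat_lit 5) Steps.nil)) (nat_lit 54) (nat_lit 0),
  Rule.mk (nat_lit 9) (nat_lit 53) (Steps.bwd (nat_lit 7) (Steps.bwd (nat_lit 8) (Steps.fwd (nat_lit 28672) Steps.nil))) (nat_lit 52) (nat_lit 3),
  Rule.mk (nat_lit 8) (nat_lit 53) (Steps.bwd (nat_lit 4) (Steps.bwd (nat_lit 9) (Steps.bwd (nat_lit 4) Steps.nil))) (nat_lit 48) (nat_lit 1),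
  Rule.mk (nat_lit 8) (nat_lit 53) (Steps.bwd (nat_lit 2) (Steps.bwd (nat_lit 9) (Steps.fwd (nat_lit 8192) Steps.nil))) (nat_lit 44) (nat_lit 1),
  Rule.mk (nat_lit 9) (nat_lit 53) (Steps.bwd (nat_lit 1) (Steps.bwd (nat_lit 8) (Steps.fwd (nat_lit 4096) Steps.nil))) (nat_lit 42) (nat_lit 3),
  Rule.mk (nat_lit 4) (nat_lit 81) (Steps.bwd (nat_lit 5) (Steps.bwd (nat_lit 4) (Steps.fwd (nat_lit 20480) (Steps.fwd (nat_lit 16384) (Steps.fwd (nat_lit 20480) Steps.nil))))) (nat_lit 24) (nat_lit 1),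
  Rule.mk (nat_lit 7) (nat_lit 53) (Steps.bwd (nat_lit 5) (Steps.fwd (nat_lit 28672) (Steps.fwd (nat_lit 20480) Steps.nil))) (nat_lit 34) (nat_lit 1),
  Rule.mk (nat_lit 3) (nat_lit 123) (Steps.bwd (nat_lit 4) (Steps.bwd (nat_lit 3) (Steps.bwd (nat_lit 4) (Steps.fwd (nat_lit 12288) (Steps.fwd (nat_lit 4096) (Steps.fwd (nat_lit 16384) (Steps.fwd (nat_lit 12288) (Steps.fwd (nat_lit 16384) Steps.nil)))))))) (nat_lit 20) (nat_lit 5),
  Rule.mk (nat_lit 1) (nat_lit 123) (Steps.bwd (nat_lit 4) (Steps.fwd (nat_lit 12288) (Steps.fwd (nat_lit 16384) (Steps.fwd (nat_lit 12288) (Steps.fwd (nat_lit 16384) (Steps.fwd (nat_lit 12288) (Steps.bwd (nat_lit 4) (Steps.bwd (nat_lit 3) Steps.nil)))))))) (nat_lit 20) (nat_lit 1),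
  Rule.mk (nat_lit 1) (nat_lit 53) (Steps.bwd (nat_lit 5) (Steps.fwd (nat_lit 4096) (Steps.fwd (nat_lit 20480) Steps.nil))) (nat_lit 12) (nat_lit 1),
  Rule.mk (nat_lit 6) (nat_lit 53) (Steps.bwd (nat_lit 3) (Steps.fwd (nat_lit 4096) (Steps.fwd (nat_lit 28672) Steps.nil))) (nat_lit 28) (nat_lit 2),
  Rule.mk (nat_lit 1) (nat_lit 53) (Steps.bwd (nat_lit 7) (Steps.fwd (nat_lit 4096) (Steps.fwd (nat_lit 28672) Steps.nil))) (nat_lit 30) (nat_lit 0),
  Rule.mk (nat_lit 1) (nat_lit 53) (Steps.fwd (nat_lit 32768) (Steps.fwd (nat_lit 4096) (Steps.bwd (nat_lit 8) Steps.nil))) (nat_lit 42) (nat_lit 2),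
  Rule.mk (nat_lit 1) (nat_lit 53) (Steps.bwd (nat_lit 8) (Steps.fwd (nat_lit 4096) (Steps.fwd (nat_lit 32768) Steps.nil))) (nat_lit 42) (nat_lit 0),
  Rule.mk (nat_lit 7) (nat_lit 137) (Steps.bwd (nat_lit 4) (Steps.bwd (nat_lit 6) (Steps.bwd (nat_lit 4) (Steps.fwd (nat_lit 20480) (Steps.fwd (nat_lit 24576) (Steps.fwd (nat_lit 16384) (Steps.bwd (nat_lit 6) (Steps.fwd (nat_lit 16384) (Steps.fwd (nat_lit 20480) Steps.nil))))))))) (nat_lit 36) (nat_lit 3),
  Rule.mk (nat_lit 1) (nat_lit 53) (Steps.fwd (nat_lit 28672) (Steps.fwd (nat_lit 4096) (Steps.bwd (nat_lit 7) Steps.nil))) (nat_lit 30) (nat_lit 2),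
  Rule.mk (nat_lit 5) (nat_lit 53) (Steps.bwd (nat_lit 6) (Steps.fwd (nat_lit 20480) (Steps.bwd (nat_lit 7) Steps.nil))) (nat_lit 34) (nat_lit 2),
  Rule.mk (nat_lit 1) (nat_lit 53) (Steps.fwd (nat_lit 20480) (Steps.fwd (nat_lit 4096) (Steps.bwd (nat_lit 5) Steps.nil))) (nat_lit 12) (nat_lit 1),
  Rule.mk (nat_lit 3) (nat_lit 53) (Steps.fwd (nat_lit 4096) (Steps.bwd (nat_lit 6) (Steps.fwd (nat_lit 28672) Steps.nil))) (nat_lit 28) (nat_lit 3),
  Rule.mk (nat_lit 3) (nat_lit 53) (Steps.bwd (nat_lit 5) (Steps.bwd (nat_lit 3) (Steps.fwd (nat_lit 20480) Steps.nil))) (nat_lit 22) (nat_lit 1),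
  Rule.mk (nat_lit 7) (nat_lit 53) (Steps.fwd (nat_lit 24576) (Steps.fwd (nat_lit 4096) (Steps.bwd (nat_lit 3) Steps.nil))) (nat_lit 29) (nat_lit 3),
  Rule.mk (nat_lit 8) (nat_lit 53) (Steps.bwd (nat_lit 3) (Steps.bwd (nat_lit 9) (Steps.bwd (nat_lit 3) Steps.nil))) (nat_lit 46) (nat_lit 1),
  Rule.mk (nat_lit 6) (nat_lit 53) (Steps.fwd (nat_lit 32768) (Steps.fwd (nat_lit 24576) (Steps.bwd (nat_lit 8) Steps.nil))) (nat_lit 52) (nat_lit 2),
  Rule.mk (nat_lit 2) (nat_lit 361) (Steps.bwd (nat_lit 3) (Steps.bwd (nat_lit 1) (Steps.bwd (nat_lit 2) (Steps.bwd (nat_lit 4) (Steps.bwd (nat_lit 6) (Steps.bwd (nat_lit 4) (Steps.bwd (nat_lit 2) (Steps.bwd (nat_lit 1) (Steps.bwd (nat_lit 3) (Steps.bwd (nat_lit 2) (Steps.bwd (nat_lit 3) (Steps.bwd (nat_lit 5) (Steps.bwd (nat_lit 4) (Steps.fwd (nat_lit 24576) (Steps.fwd (nat_lit 16384) (Steps.fwd (nat_lit 8192) (Steps.fwd (nat_lit 12288) (Steps.fwd (nat_lit 4096) (Steps.fwd (nat_lit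 8192) (Steps.fwd (nat_lit 20480) (Steps.fwd (nat_lit 24576) (Steps.bwd (nat_lit 9) (Steps.fwd (nat_lit 16384) (Steps.fwd (nat_lit 24576) (Steps.fwd (nat_lit 16384) Steps.nil))))))))))))))))))))))))) (nat_lit 40) (nat_lit 4),
  Rule.mk (nat_lit 6) (nat_lit 151) (Steps.fwd (nat_lit 8192) (Steps.fwd (nat_lit 4096) (Steps.fwd (nat_lit 12288) (Steps.fwd (nat_lit 8192) (Steps.fwd (nat_lit 20480) (Steps.bwd (nat_lit 7) (Steps.bwd (nat_lit 2) (Steps.bwd (nat_lit 3) (Steps.bwd (nat_lit 1) (Steps.bwd (nat_lit 2) Steps.nil)))))))))) (nat_lit 38) (nat_lit 6),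
  Rule.mk (nat_lit 8) (nat_lit 53) (Steps.bwd (nat_lit 5) (Steps.fwd (nat_lit 32768) (Steps.fwd (nat_lit 20480) Steps.nil))) (nat_lit 50) (nat_lit 1),
  Rule.mk (nat_lit 7) (nat_lit 53) (Steps.bwd (nat_lit 7) (Steps.fwd (nat_lit 4096) (Steps.fwd (nat_lit 12288) Steps.nil))) (nat_lit 29) (nat_lit 3),
  Rule.mk (nat_lit 4) (nat_lit 445) (Steps.bwd (nat_lit 5) (Steps.bwd (nat_lit 2) (Steps.bwd (nat_lit 3) (Steps.bwd (nat_lit 4) (Steps.bwd (nat_lit 5) (Steps.bwd (nat_lit 2) (Steps.bwd (nat_lit 3) (Steps.bwd (nat_lit 4) (Steps.bwd (nat_lit 5) (Steps.bwd (nat_lit 2) (Steps.bwd (nat_lit 3) (Steps.bwd (nat_lit 4) (Steps.bwd (nat_lit 5) (Steps.bwd (nat_lit 2) (Steps.bwd (nat_lit 3) (Steps.bwd (nat_lit 4) (Steps.bwd (nat_lit 5) (Steps.bwd (nat_lit 2) (Steps.bwd (nat_lit 3) (Steps.bwd (nat_lit 4) (Steps.bwd (nat_lit 5) (Steps.bwd (nat_lit 2) (Steps.bwd (nat_lit 3) (Steps.bwd (nat_lit 4) (Steps.bwd (nat_lit 5) (Steps.bwd (nat_lit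 2) (Steps.bwd (nat_lit 3) (Steps.bwd (nat_lit 4) (Steps.fwd (nat_lit 20480) (Steps.fwd (nat_lit 8192) (Steps.bwd (nat_lit 3) Steps.nil))))))))))))))))))))))))))))))) (nat_lit 26) (nat_lit 3),
  Rule.mk (nat_lit 2) (nat_lit 53) (Steps.fwd (nat_lit 16384) (Steps.fwd (nat_lit 8192) (Steps.bwd (nat_lit 4) Steps.nil))) (nat_lit 16) (nat_lit 1),
  Rule.mk (nat_lit 4) (nat_lit 81) (Steps.fwd (nat_lit 20480) (Steps.fwd (nat_lit 16384) (Steps.fwd (nat_lit 20480) (Steps.bwd (nat_lit 4) (Steps.bwd (nat_lit 5) Steps.nil))))) (nat_lit 24) (nat_lit 1),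
  Rule.mk (nat_lit 4) (nat_lit 53) (Steps.fwd (nat_lit 8192) (Steps.fwd (nat_lit 16384) (Steps.bwd (nat_lit 2) Steps.nil))) (nat_lit 16) (nat_lit 0),
  Rule.mk (nat_lit 0) (nat_lit 67) (Steps.fwd (nat_lit 20480) (Steps.fwd (nat_lit 8192) (Steps.bwd (nat_lit 5) (Steps.bwd (nat_lit 2) Steps.nil)))) (nat_lit 18) (nat_lit 1),
  Rule.mk (nat_lit 2) (nat_lit 39) (Steps.bwd (nat_lit 0) (Steps.bwd (nat_lit 2) Steps.nil)) (nat_lit 54) (nat_lit 0),
  Rule.mk (nat_lit 5) (nat_lit 39) (Steps.bwd (nat_lit 0) (Steps.fwd (nat_lit 20480) Steps.nil)) (nat_lit 54) (nat_lit 0),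
  Rule.mk (nat_lit 9) (nat_lit 53) (Steps.fwd (nat_lit 8192) (Steps.bwd (nat_lit 8) (Steps.bwd (nat_lit 2) Steps.nil))) (nat_lit 44) (nat_lit 3),
  Rule.mk (nat_lit 8) (nat_lit 53) (Steps.fwd (nat_lit 12288) (Steps.bwd (nat_lit 9) (Steps.bwd (nat_lit 3) Steps.nil))) (nat_lit 46) (nat_lit 1),
  Rule.mk (nat_lit 9) (nat_lit 53) (Steps.fwd (nat_lit 4096) (Steps.bwd (nat_lit 8) (Steps.bwd (nat_lit 1) Steps.nil))) (nat_lit 42) (nat_lit 3),
  Rule.mk (nat_lit 8) (nat_lit 53) (Steps.fwd (nat_lit 8192) (Steps.bwd (nat_lit 9) (Steps.bwd (nat_lit 2) Steps.nil))) (nat_lit 44) (nat_lit 1)]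
noncomputable def R_1 : List (Rule) := [Rule.mk (nat_lit 9) (nat_lit 53) (Steps.fwd (nat_lit 16384) (Steps.bwd (nat_lit 8) (Steps.bwd (nat_lit 4) Steps.nil))) (nat_lit 48) (nat_lit 3),
  Rule.mk (nat_lit 8) (nat_lit 53) (Steps.fwd (nat_lit 24576) (Steps.bwd (nat_lit 9) (Steps.bwd (nat_lit 6) Steps.nil))) (nat_lit 53) (nat_lit 2),
  Rule.mk (nat_lit 9) (nat_lit 53) (Steps.bwd (nat_lit 5) (Steps.bwd (nat_lit 8) (Steps.bwd (nat_lit 5) Steps.nil))) (nat_lit 50) (nat_lit 3),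
  Rule.mk (nat_lit 0) (nat_lit 67) (Steps.fwd (nat_lit 32768) (Steps.fwd (nat_lit 16384) (Steps.fwd (nat_lit 36864) (Steps.bwd (nat_lit 4) Steps.nil)))) (nat_lit 48) (nat_lit 2),
  Rule.mk (nat_lit 8) (nat_lit 39) (Steps.bwd (nat_lit 0) (Steps.fwd (nat_lit 32768) Steps.nil)) (nat_lit 54) (nat_lit 0),
  Rule.mk (nat_lit 9) (nat_lit 53) (Steps.fwd (nat_lit 28672) (Steps.bwd (nat_lit 8) (Steps.bwd (nat_lit 7) Steps.nil))) (nat_lit 53) (nat_lit 0),
  Rule.mk (nat_lit 0) (nat_lit 67) (Steps.fwd (nat_lit 16384) (Steps.bwd (nat_lit 9) (Steps.bwd (nat_lit 4) (Steps.fwd (nat_lit 36864) Steps.nil)))) (nat_lit 48) (nat_lit 1),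
  Rule.mk (nat_lit 1) (nat_lit 123) (Steps.fwd (nat_lit 16384) (Steps.fwd (nat_lit 12288) (Steps.bwd (nat_lit 4) (Steps.bwd (nat_lit 3) (Steps.bwd (nat_lit 4) (Steps.fwd (nat_lit 12288) (Steps.fwd (nat_lit 16384) (Steps.fwd (nat_lit 12288) Steps.nil)))))))) (nat_lit 20) (nat_lit 1),
  Rule.mk (nat_lit 6) (nat_lit 53) (Steps.bwd (nat_lit 6) (Steps.bwd (nat_lit 3) (Steps.fwd (nat_lit 4096) Steps.nil))) (nat_lit 28) (nat_lit 1),
  Rule.mk (nat_lit 8) (nat_lit 53) (Steps.bwd (nat_lit 6) (Steps.fwd (nat_lit 32768) (Steps.bwd (nat_lit 7) Steps.nil))) (nat_lit 52) (nat_lit 1),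
  Rule.mk (nat_lit 9) (nat_lit 53) (Steps.bwd (nat_lit 4) (Steps.bwd (nat_lit 8) (Steps.fwd (nat_lit 16384) Steps.nil))) (nat_lit 48) (nat_lit 3),
  Rule.mk (nat_lit 5) (nat_lit 53) (Steps.bwd (nat_lit 7) (Steps.bwd (nat_lit 5) (Steps.bwd (nat_lit 6) Steps.nil))) (nat_lit 34) (nat_lit 0),
  Rule.mk (nat_lit 7) (nat_lit 53) (Steps.fwd (nat_lit 4096) (Steps.bwd (nat_lit 3) (Steps.bwd (nat_lit 7) Steps.nil))) (nat_lit 29) (nat_lit 0),
  Rule.mk (nat_lit 3) (nat_lit 53) (Steps.fwd (nat_lit 28672) (Steps.bwd (nat_lit 3) (Steps.bwd (nat_lit 7) Steps.nil))) (nat_lit 32) (nat_lit 2),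
  Rule.mk (nat_lit 7) (nat_lit 151) (Steps.bwd (nat_lit 2) (Steps.bwd (nat_lit 1) (Steps.bwd (nat_lit 3) (Steps.bwd (nat_lit 2) (Steps.fwd (nat_lit 28672) (Steps.bwd (nat_lit 5) (Steps.fwd (nat_lit 8192) (Steps.fwd (nat_lit 12288) (Steps.fwd (nat_lit 4096) (Steps.fwd (nat_lit 8192) Steps.nil)))))))))) (nat_lit 39) (nat_lit 6),
  Rule.mk (nat_lit 5) (nat_lit 53) (Steps.bwd (nat_lit 2) (Steps.fwd (nat_lit 20480) (Steps.bwd (nat_lit 2) Steps.nil))) (nat_lit 18) (nat_lit 0),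
  Rule.mk (nat_lit 9) (nat_lit 53) (Steps.fwd (nat_lit 8192) (Steps.fwd (nat_lit 36864) (Steps.bwd (nat_lit 2) Steps.nil))) (nat_lit 44) (nat_lit 3),
  Rule.mk (nat_lit 8) (nat_lit 53) (Steps.bwd (nat_lit 6) (Steps.fwd (nat_lit 32768) (Steps.fwd (nat_lit 24576) Steps.nil))) (nat_lit 52) (nat_lit 1),
  Rule.mk (nat_lit 9) (nat_lit 53) (Steps.bwd (nat_lit 2) (Steps.bwd (nat_lit 8) (Steps.fwd (nat_lit 8192) Steps.nil))) (nat_lit 44) (nat_lit 3),
  Rule.mk (nat_lit 7) (nat_lit 53) (Steps.bwd (nat_lit 9) (Steps.fwd (nat_lit 28672) (Steps.fwd (nat_lit 36864) Steps.nil))) (nat_lit 53) (nat_lit 3),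
  Rule.mk (nat_lit 6) (nat_lit 53) (Steps.bwd (nat_lit 9) (Steps.bwd (nat_lit 7) (Steps.fwd (nat_lit 36864) Steps.nil))) (nat_lit 52) (nat_lit 2),
  Rule.mk (nat_lit 8) (nat_lit 53) (Steps.bwd (nat_lit 1) (Steps.bwd (nat_lit 9) (Steps.fwd (nat_lit 4096) Steps.nil))) (nat_lit 42) (nat_lit 1),
  Rule.mk (nat_lit 5) (nat_lit 53) (Steps.fwd (nat_lit 12288) (Steps.bwd (nat_lit 5) (Steps.fwd (nat_lit 12288) Steps.nil))) (nat_lit 22) (nat_lit 0),
  Rule.mk (nat_lit 5) (nat_lit 53) (Steps.bwd (nat_lit 1) (Steps.bwd (nat_lit 5) (Steps.bwd (nat_lit 1) Steps.nil))) (nat_lit 12) (nat_lit 0),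
  Rule.mk (nat_lit 5) (nat_lit 53) (Steps.fwd (nat_lit 8192) (Steps.bwd (nat_lit 5) (Steps.fwd (nat_lit 8192) Steps.nil))) (nat_lit 18) (nat_lit 0),
  Rule.mk (nat_lit 4) (nat_lit 445) (Steps.bwd (nat_lit 5) (Steps.bwd (nat_lit 2) (Steps.bwd (nat_lit 3) (Steps.bwd (nat_lit 4) (Steps.bwd (nat_lit 5) (Steps.bwd (nat_lit 2) (Steps.bwd (nat_lit 3) (Steps.bwd (nat_lit 4) (Steps.bwd (nat_lit 5) (Steps.bwd (nat_lit 2) (Steps.bwd (nat_lit 3) (Steps.bwd (nat_lit 4) (Steps.bwd (nat_lit 5) (Steps.bwd (nat_lit 2) (Steps.bwd (nat_lit 3) (Steps.bwd (nat_lit 4) (Steps.bwd (nat_lit 5) (Steps.bwd (nat_lit 2) (Steps.bwd (nat_lit 3) (Steps.bwd (nat_lit 4) (Steps.bwd (nat_lit 5) (Steps.bwd (nat_lit 2) (Steps.bwd (nat_lit 3) (Steps.bwd (nat_lit 4) (Steps.bwd (nat_lit 5) (Steps.bwd (nat_lit 2) (Steps.bwd (nat_lit 3) (Steps.bwd (nat_lit 4) (Steps.fwd (nat_lit 20480) (Steps.fwd (nat_lit 8192) (Steps.fwd (nat_lit 12288) Steps.nil)))))))))))))))))))))))))))))))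 (nat_lit 26) (nat_lit 3),
  Rule.mk (nat_lit 9) (nat_lit 53) (Steps.fwd (nat_lit 16384) (Steps.fwd (nat_lit 36864) (Steps.bwd (nat_lit 4) Steps.nil))) (nat_lit 48) (nat_lit 3),
  Rule.mk (nat_lit 8) (nat_lit 53) (Steps.fwd (nat_lit 20480) (Steps.bwd (nat_lit 9) (Steps.bwd (nat_lit 5) Steps.nil))) (nat_lit 50) (nat_lit 1),
  Rule.mk (nat_lit 0) (nat_lit 67) (Steps.fwd (nat_lit 32768) (Steps.fwd (nat_lit 8192) (Steps.bwd (nat_lit 8) (Steps.bwd (nat_lit 2) Steps.nil)))) (nat_lit 44) (nat_lit 2),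
  Rule.mk (nat_lit 9) (nat_lit 53) (Steps.fwd (nat_lit 12288) (Steps.bwd (nat_lit 8) (Steps.bwd (nat_lit 3) Steps.nil))) (nat_lit 46) (nat_lit 3),
  Rule.mk (nat_lit 8) (nat_lit 53) (Steps.fwd (nat_lit 16384) (Steps.bwd (nat_lit 9) (Steps.bwd (nat_lit 4) Steps.nil))) (nat_lit 48) (nat_lit 1),
  Rule.mk (nat_lit 9) (nat_lit 53) (Steps.fwd (nat_lit 20480) (Steps.bwd (nat_lit 8) (Steps.bwd (nat_lit 5) Steps.nil))) (nat_lit 50) (nat_lit 3),
  Rule.mk (nat_lit 0) (nat_lit 67) (Steps.bwd (nat_lit 5) (Steps.bwd (nat_lit 2) (Steps.bwd (nat_lit 5) (Steps.fwd (nat_lit 8192) Steps.nil)))) (nat_lit 18) (nat_lit 1),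
  Rule.mk (nat_lit 5) (nat_lit 53) (Steps.bwd (nat_lit 2) (Steps.bwd (nat_lit 5) (Steps.bwd (nat_lit 2) Steps.nil))) (nat_lit 18) (nat_lit 0),
  Rule.mk (nat_lit 5) (nat_lit 53) (Steps.bwd (nat_lit 3) (Steps.bwd (nat_lit 5) (Steps.fwd (nat_lit 12288) Steps.nil))) (nat_lit 22) (nat_lit 0),
  Rule.mk (nat_lit 2) (nat_lit 53) (Steps.bwd (nat_lit 5) (Steps.bwd (nat_lit 2) (Steps.bwd (nat_lit 5) Steps.nil))) (nat_lit 18) (nat_lit 1),
  Rule.mk (nat_lit 7) (nat_lit 53) (Steps.bwd (nat_lit 5) (Steps.bwd (nat_lit 6) (Steps.bwd (nat_lit 5) Steps.nil))) (nat_lit 34) (nat_lit 1),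
  Rule.mk (nat_lit 8) (nat_lit 53) (Steps.fwd (nat_lit 20480) (Steps.fwd (nat_lit 32768) (Steps.bwd (nat_lit 5) Steps.nil))) (nat_lit 50) (nat_lit 1),
  Rule.mk (nat_lit 2) (nat_lit 81) (Steps.bwd (nat_lit 1) (Steps.fwd (nat_lit 8192) (Steps.fwd (nat_lit 4096) (Steps.bwd (nat_lit 2) (Steps.fwd (nat_lit 4096) Steps.nil))))) (nat_lit 10) (nat_lit 0),
  Rule.mk (nat_lit 2) (nat_lit 81) (Steps.bwd (nat_lit 3) (Steps.bwd (nat_lit 2) (Steps.bwd (nat_lit 3) (Steps.bwd (nat_lit 2) (Steps.bwd (nat_lit 3) Steps.nil))))) (nat_lit 14) (nat_lit 1),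
  Rule.mk (nat_lit 2) (nat_lit 151) (Steps.bwd (nat_lit 3) (Steps.bwd (nat_lit 1) (Steps.bwd (nat_lit 2) (Steps.bwd (nat_lit 6) (Steps.bwd (nat_lit 2) (Steps.bwd (nat_lit 1) (Steps.bwd (nat_lit 3) (Steps.bwd (nat_lit 2) (Steps.bwd (nat_lit 5) (Steps.fwd (nat_lit 24576) Steps.nil)))))))))) (nat_lit 38) (nat_lit 2),
  Rule.mk (nat_lit 4) (nat_lit 53) (Steps.fwd (nat_lit 8192) (Steps.bwd (nat_lit 4) (Steps.bwd (nat_lit 2) Steps.nil))) (nat_lit 16) (nat_lit 0),
  Rule.mk (nat_lit 5) (nat_lit 53) (Steps.fwd (nat_lit 8192) (Steps.bwd (nat_lit 5) (Steps.bwd (nat_lit 2) Steps.nil))) (nat_lit 18) (nat_lit 0),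
  Rule.mk (nat_lit 8) (nat_lit 53) (Steps.bwd (nat_lit 2) (Steps.fwd (nat_lit 32768) (Steps.bwd (nat_lit 2) Steps.nil))) (nat_lit 44) (nat_lit 1),
  Rule.mk (nat_lit 9) (nat_lit 53) (Steps.fwd (nat_lit 12288) (Steps.bwd (nat_lit 8) (Steps.fwd (nat_lit 12288) Steps.nil))) (nat_lit 46) (nat_lit 3),
  Rule.mk (nat_lit 8) (nat_lit 53) (Steps.bwd (nat_lit 1) (Steps.bwd (nat_lit 9) (Steps.bwd (nat_lit 1) Steps.nil))) (nat_lit 42) (nat_lit 1),
  Rule.mk (nat_lit 5) (nat_lit 53) (Steps.bwd (nat_lit 8) (Steps.fwd (nat_lit 20480) (Steps.bwd (nat_lit 9) Steps.nil))) (nat_lit 50) (nat_lit 0),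
  Rule.mk (nat_lit 5) (nat_lit 53) (Steps.fwd (nat_lit 4096) (Steps.bwd (nat_lit 5) (Steps.bwd (nat_lit 1) Steps.nil))) (nat_lit 12) (nat_lit 0),
  Rule.mk (nat_lit 5) (nat_lit 53) (Steps.fwd (nat_lit 24576) (Steps.bwd (nat_lit 5) (Steps.bwd (nat_lit 6) Steps.nil))) (nat_lit 34) (nat_lit 0),
  Rule.mk (nat_lit 9) (nat_lit 53) (Steps.bwd (nat_lit 5) (Steps.bwd (nat_lit 8) (Steps.fwd (nat_lit 20480) Steps.nil))) (nat_lit 50) (nat_lit 3),
  Rule.mk (nat_lit 5) (nat_lit 53) (Steps.fwd (nat_lit 4096) (Steps.bwd (nat_lit 5) (Steps.fwd (nat_lit 4096) Steps.nil))) (nat_lit 12) (nat_lit 0),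
  Rule.mk (nat_lit 3) (nat_lit 361) (Steps.bwd (nat_lit 2) (Steps.bwd (nat_lit 3) (Steps.bwd (nat_lit 5) (Steps.bwd (nat_lit 4) (Steps.bwd (nat_lit 7) (Steps.bwd (nat_lit 4) (Steps.bwd (nat_lit 2) (Steps.bwd (nat_lit 3) (Steps.bwd (nat_lit 1) (Steps.bwd (nat_lit 2) (Steps.bwd (nat_lit 5) (Steps.bwd (nat_lit 7) (Steps.fwd (nat_lit 32768) (Steps.bwd (nat_lit 4) (Steps.fwd (nat_lit 24576) (Steps.fwd (nat_lit 16384) (Steps.fwd (nat_lit 8192) (Steps.fwd (nat_lit 12288) (Steps.fwd (nat_lit 4096) (Steps.fwd (nat_lit 8192) (Steps.fwd (nat_lit 16384) (Steps.bwd (nat_lit 6) (Steps.fwd (nat_lit 16384) (Steps.bwd (nat_lit 2) (Steps.fwd (nat_lit 4096) Steps.nil))))))))))))))))))))))))) (nat_lit 40) (nat_lit 13),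
  Rule.mk (nat_lit 0) (nat_lit 95) (Steps.fwd (nat_lit 8192) (Steps.fwd (nat_lit 12288) (Steps.fwd (nat_lit 8192) (Steps.bwd (nat_lit 3) (Steps.bwd (nat_lit 2) (Steps.bwd (nat_lit 3) Steps.nil)))))) (nat_lit 14) (nat_lit 0),
  Rule.mk (nat_lit 2) (nat_lit 39) (Steps.bwd (nat_lit 0) (Steps.fwd (nat_lit 8192) Steps.nil)) (nat_lit 54) (nat_lit 0),
  Rule.mk (nat_lit 3) (nat_lit 53) (Steps.fwd (nat_lit 20480) (Steps.fwd (nat_lit 12288) (Steps.bwd (nat_lit 5) Steps.nil))) (nat_lit 22) (nat_lit 1),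
  Rule.mk (nat_lit 2) (nat_lit 81) (Steps.bwd (nat_lit 1) (Steps.bwd (nat_lit 2) (Steps.fwd (nat_lit 4096) (Steps.fwd (nat_lit 8192) (Steps.fwd (nat_lit 4096) Steps.nil))))) (nat_lit 10) (nat_lit 0),
  Rule.mk (nat_lit 3) (nat_lit 81) (Steps.bwd (nat_lit 2) (Steps.bwd (nat_lit 3) (Steps.fwd (nat_lit 8192) (Steps.fwd (nat_lit 12288) (Steps.fwd (nat_lit 8192) Steps.nil))))) (nat_lit 14) (nat_lit 0),
  Rule.mk (nat_lit 4) (nat_lit 445) (Steps.bwd (nat_lit 5) (Steps.bwd (nat_lit 2) (Steps.bwd (nat_lit 3) (Steps.bwd (nat_lit 4) (Steps.bwd (nat_lit 5) (Steps.bwd (nat_lit 2) (Steps.bwd (nat_lit 3) (Steps.bwd (nat_lit 4) (Steps.bwd (nat_lit 5) (Steps.bwd (nat_lit 2) (Steps.bwd (nat_lit 3) (Steps.bwd (nat_lit 4) (Steps.bwd (nat_lit 5) (Steps.bwd (nat_lit 2) (Steps.bwd (nat_lit 3) (Steps.bwd (nat_lit 4) (Steps.bwd (nat_lit 5) (Steps.bwd (nat_lit 2) (Steps.bwd (nat_lit 3) (Steps.bwd (nat_lit 4) (Steps.bwd (nat_lit 5) (Steps.bwd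 (nat_lit 2) (Steps.bwd (nat_lit 3) (Steps.bwd (nat_lit 4) (Steps.fwd (nat_lit 20480) (Steps.fwd (nat_lit 8192) (Steps.bwd (nat_lit 3) (Steps.fwd (nat_lit 16384) (Steps.bwd (nat_lit 5) (Steps.bwd (nat_lit 2) (Steps.bwd (nat_lit 3) Steps.nil))))))))))))))))))))))))))))))) (nat_lit 26) (nat_lit 3),
  Rule.mk (nat_lit 3) (nat_lit 123) (Steps.fwd (nat_lit 16384) (Steps.fwd (nat_lit 12288) (Steps.bwd (nat_lit 4) (Steps.bwd (nat_lit 3) (Steps.bwd (nat_lit 1) (Steps.fwd (nat_lit 16384) (Steps.bwd (nat_lit 3) (Steps.bwd (nat_lit 4) Steps.nil)))))))) (nat_lit 20) (nat_lit 5),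
  Rule.mk (nat_lit 3) (nat_lit 123) (Steps.fwd (nat_lit 4096) (Steps.bwd (nat_lit 4) (Steps.fwd (nat_lit 12288) (Steps.fwd (nat_lit 16384) (Steps.fwd (nat_lit 12288) (Steps.bwd (nat_lit 4) (Steps.bwd (nat_lit 3) (Steps.bwd (nat_lit 4) Steps.nil)))))))) (nat_lit 20) (nat_lit 0),
  Rule.mk (nat_lit 0) (nat_lit 137) (Steps.bwd (nat_lit 1) (Steps.bwd (nat_lit 3) (Steps.bwd (nat_lit 4) (Steps.fwd (nat_lit 12288) (Steps.fwd (nat_lit 16384) (Steps.fwd (nat_lit 12288) (Steps.bwd (nat_lit 4) (Steps.bwd (nat_lit 3) (Steps.bwd (nat_lit 4) Steps.nil))))))))) (nat_lit 21) (nat_lit 8),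
  Rule.mk (nat_lit 1) (nat_lit 39) (Steps.bwd (nat_lit 0) (Steps.bwd (nat_lit 1) Steps.nil)) (nat_lit 54) (nat_lit 0),
  Rule.mk (nat_lit 0) (nat_lit 53) (Steps.fwd (nat_lit 12288) (Steps.fwd (nat_lit 0) (Steps.bwd (nat_lit 3) Steps.nil))) (nat_lit 54) (nat_lit 0),
  Rule.mk (nat_lit 0) (nat_lit 53) (Steps.fwd (nat_lit 8192) (Steps.fwd (nat_lit 0) (Steps.bwd (nat_lit 2) Steps.nil))) (nat_lit 54) (nat_lit 0)]
noncomputable def R_2 : List (Rule) := [Rule.mk (nat_lit 3) (nat_lit 53) (Steps.bwd (nat_lit 0) (Steps.fwd (nat_lit 12288) (Steps.fwd (nat_lit 0) Steps.nil))) (nat_lit 54) (nat_lit 0),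
  Rule.mk (nat_lit 0) (nat_lit 53) (Steps.fwd (nat_lit 20480) (Steps.fwd (nat_lit 0) (Steps.bwd (nat_lit 5) Steps.nil))) (nat_lit 54) (nat_lit 0),
  Rule.mk (nat_lit 4) (nat_lit 39) (Steps.bwd (nat_lit 0) (Steps.bwd (nat_lit 4) Steps.nil)) (nat_lit 54) (nat_lit 0),
  Rule.mk (nat_lit 3) (nat_lit 53) (Steps.bwd (nat_lit 6) (Steps.fwd (nat_lit 12288) (Steps.fwd (nat_lit 24576) Steps.nil))) (nat_lit 32) (nat_lit 2),
  Rule.mk (nat_lit 3) (nat_lit 53) (Steps.fwd (nat_lit 28672) (Steps.fwd (nat_lit 12288) (Steps.bwd (nat_lit 7) Steps.nil))) (nat_lit 32) (nat_lit 2),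
  Rule.mk (nat_lit 1) (nat_lit 53) (Steps.fwd (nat_lit 20480) (Steps.bwd (nat_lit 1) (Steps.bwd (nat_lit 5) Steps.nil))) (nat_lit 12) (nat_lit 1),
  Rule.mk (nat_lit 1) (nat_lit 53) (Steps.bwd (nat_lit 9) (Steps.bwd (nat_lit 1) (Steps.fwd (nat_lit 36864) Steps.nil))) (nat_lit 42) (nat_lit 2),
  Rule.mk (nat_lit 0) (nat_lit 375) (Steps.bwd (nat_lit 6) (Steps.fwd (nat_lit 20480) (Steps.fwd (nat_lit 8192) (Steps.fwd (nat_lit 4096) (Steps.fwd (nat_lit 12288) (Steps.fwd (nat_lit 8192) (Steps.bwd (nat_lit 4) (Steps.bwd (nat_lit 6) (Steps.fwd (nat_lit 16384) (Steps.fwd (nat_lit 20480) (Steps.fwd (nat_lit 12288) (Steps.fwd (nat_lit 8192) (Steps.fwd (nat_lit 12288) (Steps.fwd (nat_lit 4096) (Steps.fwd (nat_lit 8192) (Steps.fwd (nat_lit 16384) (Steps.fwd (nat_lit 24576) (Steps.fwd (nat_lit 16384) (Steps.bwd (nat_lit 2) (Steps.bwd (nat_lit 1) (Steps.bwd (nat_lit 3) (Steps.bwd (nat_lit 2) (Steps.bwd (nat_lit 4) (Steps.bwd (nat_lit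 6) (Steps.bwd (nat_lit 4) (Steps.fwd (nat_lit 36864) Steps.nil)))))))))))))))))))))))))) (nat_lit 41) (nat_lit 1),
  Rule.mk (nat_lit 0) (nat_lit 53) (Steps.bwd (nat_lit 2) (Steps.fwd (nat_lit 0) (Steps.bwd (nat_lit 2) Steps.nil))) (nat_lit 54) (nat_lit 0),
  Rule.mk (nat_lit 7) (nat_lit 39) (Steps.bwd (nat_lit 0) (Steps.bwd (nat_lit 6) Steps.nil)) (nat_lit 54) (nat_lit 0),
  Rule.mk (nat_lit 9) (nat_lit 39) (Steps.bwd (nat_lit 0) (Steps.fwd (nat_lit 36864) Steps.nil)) (nat_lit 54) (nat_lit 0),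
  Rule.mk (nat_lit 0) (nat_lit 53) (Steps.bwd (nat_lit 1) (Steps.fwd (nat_lit 0) (Steps.bwd (nat_lit 1) Steps.nil))) (nat_lit 54) (nat_lit 0),
  Rule.mk (nat_lit 9) (nat_lit 39) (Steps.bwd (nat_lit 0) (Steps.bwd (nat_lit 8) Steps.nil)) (nat_lit 54) (nat_lit 0),
  Rule.mk (nat_lit 0) (nat_lit 53) (Steps.bwd (nat_lit 3) (Steps.fwd (nat_lit 0) (Steps.bwd (nat_lit 3) Steps.nil))) (nat_lit 54) (nat_lit 0),
  Rule.mk (nat_lit 0) (nat_lit 53) (Steps.fwd (nat_lit 8192) (Steps.bwd (nat_lit 0) (Steps.fwd (nat_lit 8192) Steps.nil))) (nat_lit 54) (nat_lit 0),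
  Rule.mk (nat_lit 0) (nat_lit 53) (Steps.fwd (nat_lit 12288) (Steps.fwd (nat_lit 0) (Steps.fwd (nat_lit 12288) Steps.nil))) (nat_lit 54) (nat_lit 0),
  Rule.mk (nat_lit 0) (nat_lit 53) (Steps.fwd (nat_lit 24576) (Steps.fwd (nat_lit 0) (Steps.bwd (nat_lit 6) Steps.nil))) (nat_lit 54) (nat_lit 0),
  Rule.mk (nat_lit 8) (nat_lit 39) (Steps.bwd (nat_lit 0) (Steps.bwd (nat_lit 9) Steps.nil)) (nat_lit 54) (nat_lit 0),
  Rule.mk (nat_lit 0) (nat_lit 53) (Steps.bwd (nat_lit 4) (Steps.fwd (nat_lit 0) (Steps.bwd (nat_lit 4) Steps.nil))) (nat_lit 54) (nat_lit 0),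
  Rule.mk (nat_lit 0) (nat_lit 53) (Steps.fwd (nat_lit 16384) (Steps.fwd (nat_lit 0) (Steps.bwd (nat_lit 4) Steps.nil))) (nat_lit 54) (nat_lit 0),
  Rule.mk (nat_lit 0) (nat_lit 53) (Steps.bwd (nat_lit 5) (Steps.fwd (nat_lit 0) (Steps.fwd (nat_lit 20480) Steps.nil))) (nat_lit 54) (nat_lit 0),
  Rule.mk (nat_lit 0) (nat_lit 53) (Steps.bwd (nat_lit 7) (Steps.bwd (nat_lit 0) (Steps.bwd (nat_lit 6) Steps.nil))) (nat_lit 54) (nat_lit 0),
  Rule.mk (nat_lit 0) (nat_lit 53) (Steps.bwd (nat_lit 2) (Steps.fwd (nat_lit 0) (Steps.fwd (nat_lit 8192) Steps.nil))) (nat_lit 54) (nat_lit 0),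
  Rule.mk (nat_lit 0) (nat_lit 53) (Steps.bwd (nat_lit 6) (Steps.fwd (nat_lit 0) (Steps.fwd (nat_lit 24576) Steps.nil))) (nat_lit 54) (nat_lit 0),
  Rule.mk (nat_lit 0) (nat_lit 53) (Steps.bwd (nat_lit 8) (Steps.bwd (nat_lit 0) (Steps.bwd (nat_lit 9) Steps.nil))) (nat_lit 54) (nat_lit 0),
  Rule.mk (nat_lit 0) (nat_lit 53) (Steps.bwd (nat_lit 2) (Steps.bwd (nat_lit 0) (Steps.bwd (nat_lit 2) Steps.nil))) (nat_lit 54) (nat_lit 0),
  Rule.mk (nat_lit 6) (nat_lit 39) (Steps.bwd (nat_lit 0) (Steps.bwd (nat_lit 7) Steps.nil)) (nat_lit 54) (nat_lit 0),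
  Rule.mk (nat_lit 0) (nat_lit 53) (Steps.bwd (nat_lit 1) (Steps.fwd (nat_lit 0) (Steps.fwd (nat_lit 4096) Steps.nil))) (nat_lit 54) (nat_lit 0),
  Rule.mk (nat_lit 8) (nat_lit 53) (Steps.fwd (nat_lit 4096) (Steps.bwd (nat_lit 9) (Steps.bwd (nat_lit 1) Steps.nil))) (nat_lit 42) (nat_lit 1),
  Rule.mk (nat_lit 3) (nat_lit 53) (Steps.bwd (nat_lit 8) (Steps.fwd (nat_lit 12288) (Steps.bwd (nat_lit 9) Steps.nil))) (nat_lit 46) (nat_lit 0),
  Rule.mk (nat_lit 5) (nat_lit 53) (Steps.fwd (nat_lit 12288) (Steps.fwd (nat_lit 20480) (Steps.bwd (nat_lit 3) Steps.nil))) (nat_lit 22) (nat_lit 0),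
  Rule.mk (nat_lit 0) (nat_lit 67) (Steps.bwd (nat_lit 5) (Steps.fwd (nat_lit 32768) (Steps.bwd (nat_lit 5) (Steps.fwd (nat_lit 36864) Steps.nil)))) (nat_lit 50) (nat_lit 1),
  Rule.mk (nat_lit 2) (nat_lit 53) (Steps.bwd (nat_lit 4) (Steps.bwd (nat_lit 2) (Steps.bwd (nat_lit 4) Steps.nil))) (nat_lit 16) (nat_lit 1),
  Rule.mk (nat_lit 5) (nat_lit 53) (Steps.fwd (nat_lit 8192) (Steps.fwd (nat_lit 20480) (Steps.bwd (nat_lit 2) Steps.nil))) (nat_lit 18) (nat_lit 0),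
  Rule.mk (nat_lit 8) (nat_lit 53) (Steps.bwd (nat_lit 6) (Steps.bwd (nat_lit 9) (Steps.fwd (nat_lit 24576) Steps.nil))) (nat_lit 52) (nat_lit 1),
  Rule.mk (nat_lit 9) (nat_lit 53) (Steps.bwd (nat_lit 3) (Steps.bwd (nat_lit 8) (Steps.fwd (nat_lit 12288) Steps.nil))) (nat_lit 46) (nat_lit 3),
  Rule.mk (nat_lit 9) (nat_lit 53) (Steps.fwd (nat_lit 24576) (Steps.bwd (nat_lit 8) (Steps.bwd (nat_lit 6) Steps.nil))) (nat_lit 52) (nat_lit 3),
  Rule.mk (nat_lit 2) (nat_lit 81) (Steps.bwd (nat_lit 3) (Steps.fwd (nat_lit 8192) (Steps.fwd (nat_lit 12288) (Steps.fwd (nat_lit 8192) (Steps.fwd (nat_lit 12288) Steps.nil))))) (nat_lit 14) (nat_lit 1),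
  Rule.mk (nat_lit 1) (nat_lit 81) (Steps.bwd (nat_lit 2) (Steps.fwd (nat_lit 4096) (Steps.bwd (nat_lit 2) (Steps.fwd (nat_lit 4096) (Steps.fwd (nat_lit 8192) Steps.nil))))) (nat_lit 10) (nat_lit 1),
  Rule.mk (nat_lit 2) (nat_lit 81) (Steps.fwd (nat_lit 12288) (Steps.fwd (nat_lit 8192) (Steps.fwd (nat_lit 12288) (Steps.bwd (nat_lit 2) (Steps.bwd (nat_lit 3) Steps.nil))))) (nat_lit 14) (nat_lit 1),
  Rule.mk (nat_lit 2) (nat_lit 53) (Steps.bwd (nat_lit 4) (Steps.bwd (nat_lit 2) (Steps.fwd (nat_lit 16384) Steps.nil))) (nat_lit 16) (nat_lit 1),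
  Rule.mk (nat_lit 0) (nat_lit 95) (Steps.bwd (nat_lit 2) (Steps.bwd (nat_lit 3) (Steps.fwd (nat_lit 8192) (Steps.fwd (nat_lit 12288) (Steps.bwd (nat_lit 2) (Steps.fwd (nat_lit 12288) Steps.nil)))))) (nat_lit 14) (nat_lit 0),
  Rule.mk (nat_lit 2) (nat_lit 53) (Steps.bwd (nat_lit 5) (Steps.fwd (nat_lit 8192) (Steps.fwd (nat_lit 20480) Steps.nil))) (nat_lit 18) (nat_lit 1),
  Rule.mk (nat_lit 2) (nat_lit 53) (Steps.bwd (nat_lit 4) (Steps.fwd (nat_lit 8192) (Steps.fwd (nat_lit 16384) Steps.nil))) (nat_lit 16) (nat_lit 1),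
  Rule.mk (nat_lit 8) (nat_lit 53) (Steps.bwd (nat_lit 2) (Steps.fwd (nat_lit 32768) (Steps.fwd (nat_lit 8192) Steps.nil))) (nat_lit 44) (nat_lit 1),
  Rule.mk (nat_lit 4) (nat_lit 53) (Steps.bwd (nat_lit 2) (Steps.bwd (nat_lit 4) (Steps.bwd (nat_lit 2) Steps.nil))) (nat_lit 16) (nat_lit 0),
  Rule.mk (nat_lit 8) (nat_lit 53) (Steps.fwd (nat_lit 8192) (Steps.fwd (nat_lit 32768) (Steps.bwd (nat_lit 2) Steps.nil))) (nat_lit 44) (nat_lit 1),
  Rule.mk (nat_lit 3) (nat_lit 81) (Steps.bwd (nat_lit 2) (Steps.bwd (nat_lit 3) (Steps.bwd (nat_lit 2) (Steps.fwd (nat_lit 12288) (Steps.bwd (nat_lit 2) Steps.nil))))) (nat_lit 14) (nat_lit 0),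
  Rule.mk (nat_lit 6) (nat_lit 151) (Steps.bwd (nat_lit 2) (Steps.bwd (nat_lit 1) (Steps.bwd (nat_lit 3) (Steps.bwd (nat_lit 2) (Steps.bwd (nat_lit 5) (Steps.bwd (nat_lit 7) (Steps.bwd (nat_lit 2) (Steps.bwd (nat_lit 3) (Steps.bwd (nat_lit 1) (Steps.bwd (nat_lit 2) Steps.nil)))))))))) (nat_lit 38) (nat_lit 6),
  Rule.mk (nat_lit 1) (nat_lit 53) (Steps.bwd (nat_lit 6) (Steps.bwd (nat_lit 6) (Steps.fwd (nat_lit 12288) Steps.nil))) (nat_lit 28) (nat_lit 0),
  Rule.mk (nat_lit 2) (nat_lit 81) (Steps.fwd (nat_lit 4096) (Steps.fwd (nat_lit 8192) (Steps.bwd (nat_lit 1) (Steps.fwd (nat_lit 8192) (Steps.fwd (nat_lit 4096) Steps.nil))))) (nat_lit 10) (nat_lit 0),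
  Rule.mk (nat_lit 6) (nat_lit 361) (Steps.bwd (nat_lit 4) (Steps.bwd (nat_lit 2) (Steps.bwd (nat_lit 1) (Steps.bwd (nat_lit 3) (Steps.bwd (nat_lit 2) (Steps.bwd (nat_lit 3) (Steps.bwd (nat_lit 5) (Steps.bwd (nat_lit 4) (Steps.bwd (nat_lit 7) (Steps.bwd (nat_lit 4) (Steps.bwd (nat_lit 2) (Steps.bwd (nat_lit 3) (Steps.bwd (nat_lit 1) (Steps.bwd (nat_lit 2) (Steps.fwd (nat_lit 20480) (Steps.fwd (nat_lit 24576) (Steps.bwd (nat_lit 9) (Steps.bwd (nat_lit 4) (Steps.bwd (nat_lit 7) (Steps.fwd (nat_lit 16384) (Steps.fwd (nat_lit 8192) (Steps.fwd (nat_lit 12288) (Steps.bwd (nat_lit 1) (Steps.fwd (nat_lit 8192) (Steps.fwd (nat_lit 16384) Steps.nil))))))))))))))))))))))))) (nat_lit 40) (nat_lit 9),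
  Rule.mk (nat_lit 4) (nat_lit 445) (Steps.bwd (nat_lit 5) (Steps.bwd (nat_lit 2) (Steps.bwd (nat_lit 3) (Steps.bwd (nat_lit 4) (Steps.bwd (nat_lit 5) (Steps.bwd (nat_lit 2) (Steps.bwd (nat_lit 3) (Steps.bwd (nat_lit 4) (Steps.bwd (nat_lit 5) (Steps.bwd (nat_lit 2) (Steps.bwd (nat_lit 3) (Steps.bwd (nat_lit 4) (Steps.bwd (nat_lit 5) (Steps.bwd (nat_lit 2) (Steps.bwd (nat_lit 3) (Steps.bwd (nat_lit 4) (Steps.bwd (nat_lit 5) (Steps.bwd (nat_lit 2) (Steps.bwd (nat_lit 3) (Steps.bwd (nat_lit 4) (Steps.bwd (nat_lit 5) (Steps.bwd (nat_lit 2) (Steps.bwd (nat_lit 3) (Steps.fwd (nat_lit 16384) (Steps.bwd (nat_lit 5) (Steps.bwd (nat_lit 2) (Steps.fwd (nat_lit 12288) (Steps.bwd (nat_lit 4) (Steps.bwd (nat_lit 5) (Steps.bwd (nat_lit 2) (Steps.bwd (nat_lit 3) Steps.nil))))))))))))))))))))))))))))))) (nat_lit 26) (nat_lit 3),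
  Rule.mk (nat_lit 9) (nat_lit 53) (Steps.bwd (nat_lit 1) (Steps.fwd (nat_lit 36864) (Steps.fwd (nat_lit 4096) Steps.nil))) (nat_lit 42) (nat_lit 3),
  Rule.mk (nat_lit 8) (nat_lit 53) (Steps.bwd (nat_lit 1) (Steps.fwd (nat_lit 32768) (Steps.fwd (nat_lit 4096) Steps.nil))) (nat_lit 42) (nat_lit 1),
  Rule.mk (nat_lit 6) (nat_lit 151) (Steps.bwd (nat_lit 2) (Steps.bwd (nat_lit 1) (Steps.fwd (nat_lit 12288) (Steps.fwd (nat_lit 8192) (Steps.fwd (nat_lit 20480) (Steps.bwd (nat_lit 7) (Steps.fwd (nat_lit 8192) (Steps.fwd (nat_lit 12288) (Steps.bwd (nat_lit 1) (Steps.fwd (nat_lit 8192) Steps.nil)))))))))) (nat_lit 38) (nat_lit 6),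
  Rule.mk (nat_lit 3) (nat_lit 151) (Steps.bwd (nat_lit 1) (Steps.bwd (nat_lit 2) (Steps.bwd (nat_lit 7) (Steps.fwd (nat_lit 8192) (Steps.fwd (nat_lit 4096) (Steps.bwd (nat_lit 3) (Steps.fwd (nat_lit 8192) (Steps.bwd (nat_lit 6) (Steps.bwd (nat_lit 5) (Steps.bwd (nat_lit 2) Steps.nil)))))))))) (nat_lit 39) (nat_lit 3),
  Rule.mk (nat_lit 9) (nat_lit 53) (Steps.bwd (nat_lit 3) (Steps.fwd (nat_lit 36864) (Steps.fwd (nat_lit 12288) Steps.nil))) (nat_lit 46) (nat_lit 3),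
  Rule.mk (nat_lit 8) (nat_lit 53) (Steps.bwd (nat_lit 3) (Steps.fwd (nat_lit 32768) (Steps.fwd (nat_lit 12288) Steps.nil))) (nat_lit 46) (nat_lit 1),
  Rule.mk (nat_lit 1) (nat_lit 53) (Steps.bwd (nat_lit 8) (Steps.fwd (nat_lit 4096) (Steps.bwd (nat_lit 9) Steps.nil))) (nat_lit 42) (nat_lit 0),
  Rule.mk (nat_lit 7) (nat_lit 53) (Steps.fwd (nat_lit 36864) (Steps.bwd (nat_lit 6) (Steps.bwd (nat_lit 9) Steps.nil))) (nat_lit 52) (nat_lit 0),
  Rule.mk (nat_lit 8) (nat_lit 53) (Steps.bwd (nat_lit 7) (Steps.fwd (nat_lit 32768) (Steps.bwd (nat_lit 6) Steps.nil))) (nat_lit 53) (nat_lit 2),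
  Rule.mk (nat_lit 3) (nat_lit 151) (Steps.fwd (nat_lit 8192) (Steps.bwd (nat_lit 5) (Steps.fwd (nat_lit 24576) (Steps.fwd (nat_lit 8192) (Steps.fwd (nat_lit 12288) (Steps.fwd (nat_lit 4096) (Steps.fwd (nat_lit 8192) (Steps.fwd (nat_lit 28672) (Steps.bwd (nat_lit 2) (Steps.fwd (nat_lit 4096) Steps.nil)))))))))) (nat_lit 38) (nat_lit 9),
  Rule.mk (nat_lit 4) (nat_lit 361) (Steps.bwd (nat_lit 7) (Steps.bwd (nat_lit 4) (Steps.bwd (nat_lit 2) (Steps.bwd (nat_lit 3) (Steps.bwd (nat_lit 1) (Steps.bwd (nat_lit 2) (Steps.bwd (nat_lit 5) (Steps.bwd (nat_lit 7) (Steps.fwd (nat_lit 32768) (Steps.fwd (nat_lit 16384) (Steps.bwd (nat_lit 7) (Steps.bwd (nat_lit 4) (Steps.fwd (nat_lit 8192) (Steps.bwd (nat_lit 3) (Steps.bwd (nat_lit 1) (Steps.bwd (nat_lit 2) (Steps.fwd (nat_lit 16384) (Steps.fwd (nat_lit 28672) (Steps.bwd (nat_lit 4) (Steps.fwd (nat_lit 8192) (Steps.fwd (nat_lit 4096) (Steps.fwd (nat_lit 12288) (Steps.fwd (nat_lit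 8192) (Steps.fwd (nat_lit 12288) (Steps.fwd (nat_lit 20480) Steps.nil))))))))))))))))))))))))) (nat_lit 40) (nat_lit 17)]
noncomputable def R_3 : List (Rule) := [Rule.mk (nat_lit 6) (nat_lit 137) (Steps.fwd (nat_lit 20480) (Steps.fwd (nat_lit 16384) (Steps.fwd (nat_lit 24576) (Steps.fwd (nat_lit 16384) (Steps.bwd (nat_lit 6) (Steps.fwd (nat_lit 20480) (Steps.bwd (nat_lit 4) (Steps.bwd (nat_lit 7) (Steps.bwd (nat_lit 4) Steps.nil))))))))) (nat_lit 37) (nat_lit 3),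
  Rule.mk (nat_lit 0) (nat_lit 165) (Steps.bwd (nat_lit 3) (Steps.bwd (nat_lit 1) (Steps.bwd (nat_lit 2) (Steps.bwd (nat_lit 7) (Steps.fwd (nat_lit 8192) (Steps.fwd (nat_lit 4096) (Steps.fwd (nat_lit 12288) (Steps.fwd (nat_lit 8192) (Steps.bwd (nat_lit 6) (Steps.fwd (nat_lit 20480) (Steps.bwd (nat_lit 2) Steps.nil))))))))))) (nat_lit 39) (nat_lit 2),
  Rule.mk (nat_lit 0) (nat_lit 53) (Steps.bwd (nat_lit 4) (Steps.fwd (nat_lit 0) (Steps.fwd (nat_lit 16384) Steps.nil))) (nat_lit 54) (nat_lit 0),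
  Rule.mk (nat_lit 7) (nat_lit 39) (Steps.bwd (nat_lit 0) (Steps.fwd (nat_lit 28672) Steps.nil)) (nat_lit 54) (nat_lit 0),
  Rule.mk (nat_lit 5) (nat_lit 53) (Steps.bwd (nat_lit 3) (Steps.fwd (nat_lit 20480) (Steps.bwd (nat_lit 3) Steps.nil))) (nat_lit 22) (nat_lit 0),
  Rule.mk (nat_lit 5) (nat_lit 445) (Steps.bwd (nat_lit 2) (Steps.bwd (nat_lit 3) (Steps.bwd (nat_lit 4) (Steps.bwd (nat_lit 5) (Steps.bwd (nat_lit 2) (Steps.bwd (nat_lit 3) (Steps.bwd (nat_lit 4) (Steps.bwd (nat_lit 5) (Steps.bwd (nat_lit 2) (Steps.bwd (nat_lit 3) (Steps.bwd (nat_lit 4) (Steps.bwd (nat_lit 5) (Steps.bwd (nat_lit 2) (Steps.bwd (nat_lit 3) (Steps.bwd (nat_lit 4) (Steps.bwd (nat_lit 5) (Steps.bwd (nat_lit 2) (Steps.bwd (nat_lit 3) (Steps.fwd (nat_lit 16384) (Steps.fwd (nat_lit 20480) (Steps.fwd (nat_lit 8192) (Steps.fwd (nat_lit 12288) (Steps.bwd (nat_lit 4) (Steps.fwd (nat_lit 20480) (Steps.fwd (nat_lit 8192) (Steps.bwd (nat_lit 3) (Steps.fwd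 (nat_lit 16384) (Steps.fwd (nat_lit 20480) (Steps.fwd (nat_lit 8192) (Steps.fwd (nat_lit 12288) (Steps.fwd (nat_lit 16384) Steps.nil))))))))))))))))))))))))))))))) (nat_lit 26) (nat_lit 0),
  Rule.mk (nat_lit 4) (nat_lit 81) (Steps.fwd (nat_lit 20480) (Steps.fwd (nat_lit 16384) (Steps.fwd (nat_lit 20480) (Steps.fwd (nat_lit 16384) (Steps.bwd (nat_lit 5) Steps.nil))))) (nat_lit 24) (nat_lit 1),
  Rule.mk (nat_lit 6) (nat_lit 53) (Steps.bwd (nat_lit 6) (Steps.bwd (nat_lit 3) (Steps.bwd (nat_lit 1) Steps.nil))) (nat_lit 28) (nat_lit 1),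
  Rule.mk (nat_lit 1) (nat_lit 53) (Steps.bwd (nat_lit 6) (Steps.bwd (nat_lit 1) (Steps.fwd (nat_lit 24576) Steps.nil))) (nat_lit 30) (nat_lit 2),
  Rule.mk (nat_lit 5) (nat_lit 53) (Steps.fwd (nat_lit 4096) (Steps.fwd (nat_lit 20480) (Steps.bwd (nat_lit 1) Steps.nil))) (nat_lit 12) (nat_lit 0),
  Rule.mk (nat_lit 3) (nat_lit 53) (Steps.fwd (nat_lit 24576) (Steps.fwd (nat_lit 24576) (Steps.bwd (nat_lit 1) Steps.nil))) (nat_lit 29) (nat_lit 2),
  Rule.mk (nat_lit 7) (nat_lit 53) (Steps.bwd (nat_lit 1) (Steps.bwd (nat_lit 6) (Steps.bwd (nat_lit 1) Steps.nil))) (nat_lit 30) (nat_lit 1),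
  Rule.mk (nat_lit 6) (nat_lit 53) (Steps.bwd (nat_lit 9) (Steps.fwd (nat_lit 24576) (Steps.bwd (nat_lit 8) Steps.nil))) (nat_lit 52) (nat_lit 2),
  Rule.mk (nat_lit 6) (nat_lit 53) (Steps.fwd (nat_lit 12288) (Steps.bwd (nat_lit 1) (Steps.bwd (nat_lit 6) Steps.nil))) (nat_lit 28) (nat_lit 2),
  Rule.mk (nat_lit 8) (nat_lit 53) (Steps.fwd (nat_lit 24576) (Steps.fwd (nat_lit 32768) (Steps.bwd (nat_lit 6) Steps.nil))) (nat_lit 53) (nat_lit 2),
  Rule.mk (nat_lit 3) (nat_lit 123) (Steps.bwd (nat_lit 4) (Steps.fwd (nat_lit 12288) (Steps.fwd (nat_lit 16384) (Steps.fwd (nat_lit 12288) (Steps.fwd (nat_lit 4096) (Steps.bwd (nat_lit 4) (Steps.bwd (nat_lit 3) (Steps.fwd (nat_lit 16384) Steps.nil)))))))) (nat_lit 20) (nat_lit 5),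
  Rule.mk (nat_lit 1) (nat_lit 123) (Steps.fwd (nat_lit 16384) (Steps.fwd (nat_lit 12288) (Steps.bwd (nat_lit 4) (Steps.bwd (nat_lit 3) (Steps.bwd (nat_lit 4) (Steps.bwd (nat_lit 3) (Steps.fwd (nat_lit 16384) (Steps.fwd (nat_lit 12288) Steps.nil)))))))) (nat_lit 20) (nat_lit 1),
  Rule.mk (nat_lit 7) (nat_lit 137) (Steps.bwd (nat_lit 4) (Steps.bwd (nat_lit 6) (Steps.bwd (nat_lit 4) (Steps.bwd (nat_lit 5) (Steps.bwd (nat_lit 7) (Steps.bwd (nat_lit 4) (Steps.bwd (nat_lit 6) (Steps.fwd (nat_lit 16384) (Steps.bwd (nat_lit 5) Steps.nil))))))))) (nat_lit 36) (nat_lit 3),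
  Rule.mk (nat_lit 3) (nat_lit 151) (Steps.bwd (nat_lit 1) (Steps.bwd (nat_lit 2) (Steps.bwd (nat_lit 6) (Steps.bwd (nat_lit 2) (Steps.fwd (nat_lit 4096) (Steps.fwd (nat_lit 12288) (Steps.fwd (nat_lit 8192) (Steps.fwd (nat_lit 20480) (Steps.fwd (nat_lit 24576) (Steps.fwd (nat_lit 8192) Steps.nil)))))))))) (nat_lit 38) (nat_lit 3),
  Rule.mk (nat_lit 7) (nat_lit 361) (Steps.bwd (nat_lit 4) (Steps.bwd (nat_lit 2) (Steps.bwd (nat_lit 3) (Steps.bwd (nat_lit 1) (Steps.bwd (nat_lit 2) (Steps.bwd (nat_lit 4) (Steps.bwd (nat_lit 6) (Steps.bwd (nat_lit 4) (Steps.bwd (nat_lit 2) (Steps.bwd (nat_lit 1) (Steps.bwd (nat_lit 3) (Steps.bwd (nat_lit 2) (Steps.bwd (nat_lit 3) (Steps.bwd (nat_lit 5) (Steps.bwd (nat_lit 4) (Steps.bwd (nat_lit 7) (Steps.bwd (nat_lit 4) (Steps.bwd (nat_lit 2) (Steps.bwd (nat_lit 3) (Steps.bwd (nat_lit 1) (Steps.bwd (nat_lit 2) (Steps.fwd (nat_lit 20480) (Steps.fwd (nat_lit 24576) (Steps.fwd (nat_lit 32768)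 (Steps.fwd (nat_lit 16384) Steps.nil))))))))))))))))))))))))) (nat_lit 40) (nat_lit 2),
  Rule.mk (nat_lit 7) (nat_lit 53) (Steps.fwd (nat_lit 4096) (Steps.fwd (nat_lit 12288) (Steps.bwd (nat_lit 7) Steps.nil))) (nat_lit 29) (nat_lit 0),
  Rule.mk (nat_lit 5) (nat_lit 53) (Steps.fwd (nat_lit 28672) (Steps.fwd (nat_lit 20480) (Steps.bwd (nat_lit 7) Steps.nil))) (nat_lit 34) (nat_lit 2),
  Rule.mk (nat_lit 0) (nat_lit 165) (Steps.bwd (nat_lit 2) (Steps.bwd (nat_lit 3) (Steps.bwd (nat_lit 1) (Steps.bwd (nat_lit 2) (Steps.bwd (nat_lit 6) (Steps.bwd (nat_lit 2) (Steps.fwd (nat_lit 4096) (Steps.fwd (nat_lit 12288) (Steps.fwd (nat_lit 8192) (Steps.fwd (nat_lit 20480) (Steps.fwd (nat_lit 24576) Steps.nil))))))))))) (nat_lit 38) (nat_lit 1),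
  Rule.mk (nat_lit 8) (nat_lit 53) (Steps.bwd (nat_lit 7) (Steps.bwd (nat_lit 9) (Steps.fwd (nat_lit 28672) Steps.nil))) (nat_lit 53) (nat_lit 2),
  Rule.mk (nat_lit 4) (nat_lit 445) (Steps.bwd (nat_lit 5) (Steps.bwd (nat_lit 2) (Steps.bwd (nat_lit 3) (Steps.bwd (nat_lit 4) (Steps.bwd (nat_lit 5) (Steps.bwd (nat_lit 2) (Steps.bwd (nat_lit 3) (Steps.bwd (nat_lit 4) (Steps.bwd (nat_lit 5) (Steps.bwd (nat_lit 2) (Steps.bwd (nat_lit 3) (Steps.bwd (nat_lit 4) (Steps.bwd (nat_lit 5) (Steps.bwd (nat_lit 2) (Steps.bwd (nat_lit 3) (Steps.bwd (nat_lit 4) (Steps.bwd (nat_lit 5) (Steps.bwd (nat_lit 2) (Steps.bwd (nat_lit 3) (Steps.bwd (nat_lit 4) (Steps.fwd (nat_lit 20480) (Steps.fwd (nat_lit 8192) (Steps.fwd (nat_lit 12288) (Steps.bwd (nat_lit 4) (Steps.fwd (nat_lit 20480) (Steps.bwd (nat_lit 2) (Steps.fwd (nat_lit 12288) (Steps.fwd (nat_lit 16384) (Steps.fwd (nat_lit 20480) (Steps.fwd (nat_lit 8192) (Steps.fwd (nat_lit 12288)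 Steps.nil))))))))))))))))))))))))))))))) (nat_lit 26) (nat_lit 3),
  Rule.mk (nat_lit 2) (nat_lit 53) (Steps.bwd (nat_lit 4) (Steps.fwd (nat_lit 8192) (Steps.bwd (nat_lit 4) Steps.nil))) (nat_lit 16) (nat_lit 1),
  Rule.mk (nat_lit 4) (nat_lit 81) (Steps.fwd (nat_lit 20480) (Steps.fwd (nat_lit 16384) (Steps.bwd (nat_lit 5) (Steps.bwd (nat_lit 4) (Steps.bwd (nat_lit 5) Steps.nil))))) (nat_lit 24) (nat_lit 1),
  Rule.mk (nat_lit 5) (nat_lit 53) (Steps.bwd (nat_lit 3) (Steps.bwd (nat_lit 5) (Steps.bwd (nat_lit 3) Steps.nil))) (nat_lit 22) (nat_lit 0),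
  Rule.mk (nat_lit 6) (nat_lit 53) (Steps.bwd (nat_lit 3) (Steps.fwd (nat_lit 4096) (Steps.bwd (nat_lit 6) Steps.nil))) (nat_lit 28) (nat_lit 2),
  Rule.mk (nat_lit 7) (nat_lit 137) (Steps.bwd (nat_lit 4) (Steps.bwd (nat_lit 6) (Steps.bwd (nat_lit 4) (Steps.bwd (nat_lit 5) (Steps.bwd (nat_lit 7) (Steps.bwd (nat_lit 4) (Steps.bwd (nat_lit 6) (Steps.bwd (nat_lit 4) (Steps.bwd (nat_lit 5) Steps.nil))))))))) (nat_lit 36) (nat_lit 3),
  Rule.mk (nat_lit 7) (nat_lit 53) (Steps.bwd (nat_lit 1) (Steps.fwd (nat_lit 12288) (Steps.bwd (nat_lit 7) Steps.nil))) (nat_lit 29) (nat_lit 0),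
  Rule.mk (nat_lit 3) (nat_lit 151) (Steps.bwd (nat_lit 1) (Steps.bwd (nat_lit 2) (Steps.bwd (nat_lit 6) (Steps.fwd (nat_lit 8192) (Steps.bwd (nat_lit 1) (Steps.bwd (nat_lit 3) (Steps.fwd (nat_lit 8192) (Steps.fwd (nat_lit 20480) (Steps.fwd (nat_lit 24576) (Steps.fwd (nat_lit 8192) Steps.nil)))))))))) (nat_lit 38) (nat_lit 3),
  Rule.mk (nat_lit 7) (nat_lit 361) (Steps.bwd (nat_lit 4) (Steps.bwd (nat_lit 2) (Steps.bwd (nat_lit 3) (Steps.bwd (nat_lit 1) (Steps.bwd (nat_lit 2) (Steps.bwd (nat_lit 4) (Steps.bwd (nat_lit 6) (Steps.bwd (nat_lit 4) (Steps.bwd (nat_lit 2) (Steps.bwd (nat_lit 1) (Steps.bwd (nat_lit 3) (Steps.bwd (nat_lit 2) (Steps.bwd (nat_lit 3) (Steps.bwd (nat_lit 5) (Steps.bwd (nat_lit 4) (Steps.bwd (nat_lit 7) (Steps.bwd (nat_lit 4) (Steps.bwd (nat_lit 2) (Steps.bwd (nat_lit 3) (Steps.bwd (nat_lit 1) (Steps.bwd (nat_lit 2) (Steps.fwd (nat_lit 20480) (Steps.fwd (nat_lit 24576) (Steps.bwd (nat_lit 9) (Steps.bwd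 (nat_lit 4) Steps.nil))))))))))))))))))))))))) (nat_lit 40) (nat_lit 2),
  Rule.mk (nat_lit 1) (nat_lit 53) (Steps.fwd (nat_lit 28672) (Steps.bwd (nat_lit 1) (Steps.bwd (nat_lit 7) Steps.nil))) (nat_lit 30) (nat_lit 2),
  Rule.mk (nat_lit 0) (nat_lit 165) (Steps.bwd (nat_lit 2) (Steps.bwd (nat_lit 3) (Steps.bwd (nat_lit 1) (Steps.bwd (nat_lit 2) (Steps.bwd (nat_lit 6) (Steps.fwd (nat_lit 8192) (Steps.bwd (nat_lit 1) (Steps.fwd (nat_lit 12288) (Steps.fwd (nat_lit 8192) (Steps.fwd (nat_lit 20480) (Steps.fwd (nat_lit 24576) Steps.nil))))))))))) (nat_lit 38) (nat_lit 1),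
  Rule.mk (nat_lit 2) (nat_lit 81) (Steps.bwd (nat_lit 3) (Steps.bwd (nat_lit 2) (Steps.bwd (nat_lit 3) (Steps.fwd (nat_lit 8192) (Steps.fwd (nat_lit 12288) Steps.nil))))) (nat_lit 14) (nat_lit 1),
  Rule.mk (nat_lit 4) (nat_lit 445) (Steps.bwd (nat_lit 5) (Steps.bwd (nat_lit 2) (Steps.bwd (nat_lit 3) (Steps.bwd (nat_lit 4) (Steps.bwd (nat_lit 5) (Steps.bwd (nat_lit 2) (Steps.bwd (nat_lit 3) (Steps.bwd (nat_lit 4) (Steps.bwd (nat_lit 5) (Steps.bwd (nat_lit 2) (Steps.bwd (nat_lit 3) (Steps.bwd (nat_lit 4) (Steps.bwd (nat_lit 5) (Steps.bwd (nat_lit 2) (Steps.bwd (nat_lit 3) (Steps.bwd (nat_lit 4) (Steps.bwd (nat_lit 5) (Steps.bwd (nat_lit 2) (Steps.bwd (nat_lit 3) (Steps.bwd (nat_lit 4) (Steps.fwd (nat_lit 20480) (Steps.fwd (nat_lit 8192) (Steps.fwd (nat_lit 12288) (Steps.fwd (nat_lit 16384) (Steps.fwd (nat_lit 20480) (Steps.fwd (nat_lit 8192) (Steps.fwd (nat_lit 12288) (Steps.fwd (nat_lit 16384) (Steps.bwd (nat_lit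 5) (Steps.bwd (nat_lit 2) (Steps.bwd (nat_lit 3) Steps.nil))))))))))))))))))))))))))))))) (nat_lit 26) (nat_lit 3),
  Rule.mk (nat_lit 8) (nat_lit 53) (Steps.bwd (nat_lit 5) (Steps.bwd (nat_lit 9) (Steps.bwd (nat_lit 5) Steps.nil))) (nat_lit 50) (nat_lit 1),
  Rule.mk (nat_lit 3) (nat_lit 123) (Steps.bwd (nat_lit 4) (Steps.fwd (nat_lit 12288) (Steps.fwd (nat_lit 16384) (Steps.bwd (nat_lit 3) (Steps.fwd (nat_lit 4096) (Steps.bwd (nat_lit 4) (Steps.bwd (nat_lit 3) (Steps.fwd (nat_lit 16384) Steps.nil)))))))) (nat_lit 20) (nat_lit 5),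
  Rule.mk (nat_lit 7) (nat_lit 137) (Steps.bwd (nat_lit 4) (Steps.bwd (nat_lit 6) (Steps.bwd (nat_lit 4) (Steps.bwd (nat_lit 5) (Steps.bwd (nat_lit 7) (Steps.bwd (nat_lit 4) (Steps.bwd (nat_lit 6) (Steps.fwd (nat_lit 16384) (Steps.fwd (nat_lit 20480) Steps.nil))))))))) (nat_lit 36) (nat_lit 3),
  Rule.mk (nat_lit 8) (nat_lit 53) (Steps.fwd (nat_lit 28672) (Steps.bwd (nat_lit 9) (Steps.bwd (nat_lit 7) Steps.nil))) (nat_lit 52) (nat_lit 1),
  Rule.mk (nat_lit 7) (nat_lit 361) (Steps.bwd (nat_lit 4) (Steps.bwd (nat_lit 2) (Steps.bwd (nat_lit 3) (Steps.bwd (nat_lit 1) (Steps.bwd (nat_lit 2) (Steps.bwd (nat_lit 4) (Steps.bwd (nat_lit 6) (Steps.bwd (nat_lit 4) (Steps.bwd (nat_lit 2) (Steps.bwd (nat_lit 1) (Steps.bwd (nat_lit 3) (Steps.bwd (nat_lit 2) (Steps.bwd (nat_lit 3) (Steps.bwd (nat_lit 5) (Steps.bwd (nat_lit 4) (Steps.bwd (nat_lit 7) (Steps.bwd (nat_lit 4) (Steps.fwd (nat_lit 8192) (Steps.bwd (nat_lit 3) (Steps.bwd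 (nat_lit 1) (Steps.bwd (nat_lit 2) (Steps.fwd (nat_lit 20480) (Steps.fwd (nat_lit 24576) (Steps.fwd (nat_lit 32768) (Steps.fwd (nat_lit 16384) Steps.nil))))))))))))))))))))))))) (nat_lit 40) (nat_lit 2),
  Rule.mk (nat_lit 8) (nat_lit 53) (Steps.fwd (nat_lit 28672) (Steps.fwd (nat_lit 32768) (Steps.bwd (nat_lit 7) Steps.nil))) (nat_lit 52) (nat_lit 1),
  Rule.mk (nat_lit 9) (nat_lit 53) (Steps.fwd (nat_lit 28672) (Steps.fwd (nat_lit 36864) (Steps.bwd (nat_lit 7) Steps.nil))) (nat_lit 53) (nat_lit 0),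
  Rule.mk (nat_lit 6) (nat_lit 137) (Steps.bwd (nat_lit 5) (Steps.bwd (nat_lit 4) (Steps.bwd (nat_lit 7) (Steps.bwd (nat_lit 4) (Steps.bwd (nat_lit 6) (Steps.fwd (nat_lit 20480) (Steps.fwd (nat_lit 16384) (Steps.bwd (nat_lit 7) (Steps.bwd (nat_lit 4) Steps.nil))))))))) (nat_lit 37) (nat_lit 3),
  Rule.mk (nat_lit 7) (nat_lit 53) (Steps.bwd (nat_lit 9) (Steps.bwd (nat_lit 6) (Steps.bwd (nat_lit 8) Steps.nil))) (nat_lit 53) (nat_lit 3),
  Rule.mk (nat_lit 9) (nat_lit 53) (Steps.bwd (nat_lit 7) (Steps.bwd (nat_lit 8) (Steps.bwd (nat_lit 6) Steps.nil))) (nat_lit 52) (nat_lit 3),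
  Rule.mk (nat_lit 8) (nat_lit 53) (Steps.bwd (nat_lit 3) (Steps.bwd (nat_lit 9) (Steps.fwd (nat_lit 12288) Steps.nil))) (nat_lit 46) (nat_lit 1),
  Rule.mk (nat_lit 3) (nat_lit 445) (Steps.bwd (nat_lit 4) (Steps.bwd (nat_lit 5) (Steps.bwd (nat_lit 2) (Steps.bwd (nat_lit 3) (Steps.bwd (nat_lit 4) (Steps.bwd (nat_lit 5) (Steps.bwd (nat_lit 2) (Steps.bwd (nat_lit 3) (Steps.bwd (nat_lit 4) (Steps.bwd (nat_lit 5) (Steps.bwd (nat_lit 2) (Steps.bwd (nat_lit 3) (Steps.bwd (nat_lit 4) (Steps.bwd (nat_lit 5) (Steps.bwd (nat_lit 2) (Steps.bwd (nat_lit 3) (Steps.bwd (nat_lit 4) (Steps.bwd (nat_lit 5) (Steps.bwd (nat_lit 2) (Steps.bwd (nat_lit 3) (Steps.bwd (nat_lit 4) (Steps.bwd (nat_lit 5) (Steps.bwd (nat_lit 2) (Steps.fwd (nat_lit 12288) (Steps.bwd (nat_lit 4) (Steps.fwd (nat_lit 20480) (Steps.bwd (nat_lit 2) (Steps.fwd (nat_lit 12288) (Steps.fwd (nat_lit 16384) (Steps.fwd (nat_lit 20480) (Steps.bwd (nat_lit 2) Steps.nil)))))))))))))))))))))))))))))))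 (nat_lit 26) (nat_lit 2),
  Rule.mk (nat_lit 1) (nat_lit 53) (Steps.bwd (nat_lit 6) (Steps.fwd (nat_lit 28672) (Steps.bwd (nat_lit 3) Steps.nil))) (nat_lit 28) (nat_lit 0),
  Rule.mk (nat_lit 9) (nat_lit 53) (Steps.bwd (nat_lit 3) (Steps.bwd (nat_lit 8) (Steps.bwd (nat_lit 3) Steps.nil))) (nat_lit 46) (nat_lit 3),
  Rule.mk (nat_lit 0) (nat_lit 67) (Steps.bwd (nat_lit 5) (Steps.bwd (nat_lit 2) (Steps.fwd (nat_lit 20480) (Steps.bwd (nat_lit 2) Steps.nil)))) (nat_lit 18) (nat_lit 1),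
  Rule.mk (nat_lit 9) (nat_lit 53) (Steps.bwd (nat_lit 5) (Steps.fwd (nat_lit 36864) (Steps.fwd (nat_lit 20480) Steps.nil))) (nat_lit 50) (nat_lit 3),
  Rule.mk (nat_lit 8) (nat_lit 53) (Steps.bwd (nat_lit 5) (Steps.bwd (nat_lit 9) (Steps.fwd (nat_lit 20480) Steps.nil))) (nat_lit 50) (nat_lit 1),
  Rule.mk (nat_lit 9) (nat_lit 53) (Steps.bwd (nat_lit 4) (Steps.fwd (nat_lit 36864) (Steps.fwd (nat_lit 16384) Steps.nil))) (nat_lit 48) (nat_lit 3),
  Rule.mk (nat_lit 3) (nat_lit 123) (Steps.bwd (nat_lit 4) (Steps.fwd (nat_lit 12288) (Steps.bwd (nat_lit 4) (Steps.fwd (nat_lit 12288) (Steps.bwd (nat_lit 1) (Steps.fwd (nat_lit 16384) (Steps.bwd (nat_lit 3) (Steps.fwd (nat_lit 16384) Steps.nil)))))))) (nat_lit 20) (nat_lit 5),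
  Rule.mk (nat_lit 1) (nat_lit 123) (Steps.bwd (nat_lit 4) (Steps.fwd (nat_lit 12288) (Steps.fwd (nat_lit 16384) (Steps.bwd (nat_lit 3) (Steps.fwd (nat_lit 16384) (Steps.bwd (nat_lit 3) (Steps.fwd (nat_lit 16384) (Steps.fwd (nat_lit 12288) Steps.nil)))))))) (nat_lit 20) (nat_lit 1),
  Rule.mk (nat_lit 8) (nat_lit 53) (Steps.bwd (nat_lit 1) (Steps.fwd (nat_lit 32768) (Steps.bwd (nat_lit 1) Steps.nil))) (nat_lit 42) (nat_lit 1),
  Rule.mk (nat_lit 7) (nat_lit 361) (Steps.bwd (nat_lit 4) (Steps.bwd (nat_lit 2) (Steps.bwd (nat_lit 3) (Steps.bwd (nat_lit 1) (Steps.bwd (nat_lit 2) (Steps.bwd (nat_lit 4) (Steps.bwd (nat_lit 6) (Steps.bwd (nat_lit 4) (Steps.bwd (nat_lit 2) (Steps.bwd (nat_lit 1) (Steps.bwd (nat_lit 3) (Steps.bwd (nat_lit 2) (Steps.bwd (nat_lit 3) (Steps.bwd (nat_lit 5) (Steps.bwd (nat_lit 4) (Steps.bwd (nat_lit 7) (Steps.bwd (nat_lit 4) (Steps.fwd (nat_lit 8192) (Steps.bwd (nat_lit 3) (Steps.bwd (nat_lit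 1) (Steps.bwd (nat_lit 2) (Steps.fwd (nat_lit 20480) (Steps.bwd (nat_lit 7) (Steps.fwd (nat_lit 32768) (Steps.bwd (nat_lit 4) Steps.nil))))))))))))))))))))))))) (nat_lit 40) (nat_lit 2),
  Rule.mk (nat_lit 6) (nat_lit 137) (Steps.bwd (nat_lit 5) (Steps.bwd (nat_lit 4) (Steps.bwd (nat_lit 7) (Steps.bwd (nat_lit 4) (Steps.bwd (nat_lit 6) (Steps.fwd (nat_lit 20480) (Steps.bwd (nat_lit 4) (Steps.bwd (nat_lit 7) (Steps.bwd (nat_lit 4) Steps.nil))))))))) (nat_lit 37) (nat_lit 3),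
  Rule.mk (nat_lit 4) (nat_lit 445) (Steps.bwd (nat_lit 5) (Steps.bwd (nat_lit 2) (Steps.bwd (nat_lit 3) (Steps.bwd (nat_lit 4) (Steps.bwd (nat_lit 5) (Steps.bwd (nat_lit 2) (Steps.bwd (nat_lit 3) (Steps.bwd (nat_lit 4) (Steps.bwd (nat_lit 5) (Steps.bwd (nat_lit 2) (Steps.bwd (nat_lit 3) (Steps.bwd (nat_lit 4) (Steps.bwd (nat_lit 5) (Steps.bwd (nat_lit 2) (Steps.bwd (nat_lit 3) (Steps.bwd (nat_lit 4) (Steps.bwd (nat_lit 5) (Steps.bwd (nat_lit 2) (Steps.bwd (nat_lit 3) (Steps.bwd (nat_lit 4) (Steps.bwd (nat_lit 5) (Steps.fwd (nat_lit 8192) (Steps.fwd (nat_lit 12288) (Steps.fwd (nat_lit 16384) (Steps.fwd (nat_lit 20480) (Steps.fwd (nat_lit 8192) (Steps.bwd (nat_lit 3) (Steps.fwd (nat_lit 16384) (Steps.fwd (nat_lit 20480) (Steps.fwd (nat_lit 8192) (Steps.fwd (nat_lit 12288) Steps.nil))))))))))))))))))))))))))))))) (nat_lit 26) (nat_lit 3),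
  Rule.mk (nat_lit 2) (nat_lit 53) (Steps.bwd (nat_lit 8) (Steps.bwd (nat_lit 2) (Steps.bwd (nat_lit 9) Steps.nil))) (nat_lit 44) (nat_lit 0),
  Rule.mk (nat_lit 9) (nat_lit 53) (Steps.fwd (nat_lit 20480) (Steps.fwd (nat_lit 36864) (Steps.bwd (nat_lit 5) Steps.nil))) (nat_lit 50) (nat_lit 3),
  Rule.mk (nat_lit 2) (nat_lit 53) (Steps.fwd (nat_lit 32768) (Steps.bwd (nat_lit 2) (Steps.bwd (nat_lit 8) Steps.nil))) (nat_lit 44) (nat_lit 2)]
noncomputable def R_4 : List (Rule) := [Rule.mk (nat_lit 6) (nat_lit 53) (Steps.bwd (nat_lit 8) (Steps.bwd (nat_lit 7) (Steps.bwd (nat_lit 9) Steps.nil))) (nat_lit 53) (nat_lit 1),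
  Rule.mk (nat_lit 9) (nat_lit 53) (Steps.bwd (nat_lit 7) (Steps.fwd (nat_lit 36864) (Steps.bwd (nat_lit 6) Steps.nil))) (nat_lit 52) (nat_lit 3),
  Rule.mk (nat_lit 5) (nat_lit 445) (Steps.bwd (nat_lit 2) (Steps.bwd (nat_lit 3) (Steps.bwd (nat_lit 4) (Steps.bwd (nat_lit 5) (Steps.bwd (nat_lit 2) (Steps.bwd (nat_lit 3) (Steps.bwd (nat_lit 4) (Steps.bwd (nat_lit 5) (Steps.bwd (nat_lit 2) (Steps.bwd (nat_lit 3) (Steps.bwd (nat_lit 4) (Steps.bwd (nat_lit 5) (Steps.bwd (nat_lit 2) (Steps.bwd (nat_lit 3) (Steps.bwd (nat_lit 4) (Steps.bwd (nat_lit 5) (Steps.bwd (nat_lit 2) (Steps.bwd (nat_lit 3) (Steps.bwd (nat_lit 4) (Steps.bwd (nat_lit 5) (Steps.bwd (nat_lit 2) (Steps.bwd (nat_lit 3) (Steps.bwd (nat_lit 4) (Steps.bwd (nat_lit 5) (Steps.bwd (nat_lit 2) (Steps.bwd (nat_lit 3) (Steps.fwd (nat_lit 16384) (Steps.bwd (nat_lit 5) (Steps.bwd (nat_lit 2) (Steps.bwd (nat_lit 3) (Steps.fwd (nat_lit 16384) Steps.nil)))))))))))))))))))))))))))))))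 (nat_lit 26) (nat_lit 0),
  Rule.mk (nat_lit 4) (nat_lit 81) (Steps.fwd (nat_lit 20480) (Steps.fwd (nat_lit 16384) (Steps.bwd (nat_lit 5) (Steps.fwd (nat_lit 16384) (Steps.bwd (nat_lit 5) Steps.nil))))) (nat_lit 24) (nat_lit 1),
  Rule.mk (nat_lit 9) (nat_lit 53) (Steps.bwd (nat_lit 4) (Steps.fwd (nat_lit 36864) (Steps.bwd (nat_lit 4) Steps.nil))) (nat_lit 48) (nat_lit 3),
  Rule.mk (nat_lit 2) (nat_lit 53) (Steps.fwd (nat_lit 32768) (Steps.fwd (nat_lit 8192) (Steps.bwd (nat_lit 8) Steps.nil))) (nat_lit 44) (nat_lit 2),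
  Rule.mk (nat_lit 2) (nat_lit 53) (Steps.bwd (nat_lit 9) (Steps.bwd (nat_lit 2) (Steps.bwd (nat_lit 8) Steps.nil))) (nat_lit 44) (nat_lit 2),
  Rule.mk (nat_lit 9) (nat_lit 53) (Steps.bwd (nat_lit 2) (Steps.fwd (nat_lit 36864) (Steps.bwd (nat_lit 2) Steps.nil))) (nat_lit 44) (nat_lit 3),
  Rule.mk (nat_lit 5) (nat_lit 53) (Steps.bwd (nat_lit 1) (Steps.bwd (nat_lit 5) (Steps.fwd (nat_lit 4096) Steps.nil))) (nat_lit 12) (nat_lit 0),
  Rule.mk (nat_lit 3) (nat_lit 81) (Steps.bwd (nat_lit 2) (Steps.bwd (nat_lit 3) (Steps.bwd (nat_lit 2) (Steps.bwd (nat_lit 3) (Steps.bwd (nat_lit 2) Steps.nil))))) (nat_lit 14) (nat_lit 0),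
  Rule.mk (nat_lit 8) (nat_lit 53) (Steps.fwd (nat_lit 12288) (Steps.fwd (nat_lit 32768) (Steps.bwd (nat_lit 3) Steps.nil))) (nat_lit 46) (nat_lit 1),
  Rule.mk (nat_lit 9) (nat_lit 53) (Steps.fwd (nat_lit 12288) (Steps.fwd (nat_lit 36864) (Steps.bwd (nat_lit 3) Steps.nil))) (nat_lit 46) (nat_lit 3),
  Rule.mk (nat_lit 1) (nat_lit 151) (Steps.bwd (nat_lit 3) (Steps.bwd (nat_lit 2) (Steps.bwd (nat_lit 5) (Steps.bwd (nat_lit 7) (Steps.bwd (nat_lit 2) (Steps.bwd (nat_lit 3) (Steps.bwd (nat_lit 1) (Steps.bwd (nat_lit 2) (Steps.fwd (nat_lit 28672) (Steps.bwd (nat_lit 2) Steps.nil)))))))))) (nat_lit 38) (nat_lit 8),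
  Rule.mk (nat_lit 9) (nat_lit 53) (Steps.fwd (nat_lit 4096) (Steps.fwd (nat_lit 36864) (Steps.bwd (nat_lit 1) Steps.nil))) (nat_lit 42) (nat_lit 3),
  Rule.mk (nat_lit 2) (nat_lit 81) (Steps.bwd (nat_lit 1) (Steps.bwd (nat_lit 2) (Steps.fwd (nat_lit 4096) (Steps.bwd (nat_lit 2) (Steps.bwd (nat_lit 1) Steps.nil))))) (nat_lit 10) (nat_lit 0),
  Rule.mk (nat_lit 6) (nat_lit 361) (Steps.bwd (nat_lit 4) (Steps.bwd (nat_lit 2) (Steps.bwd (nat_lit 1) (Steps.bwd (nat_lit 3) (Steps.bwd (nat_lit 2) (Steps.bwd (nat_lit 3) (Steps.bwd (nat_lit 5) (Steps.bwd (nat_lit 4) (Steps.bwd (nat_lit 7) (Steps.bwd (nat_lit 4) (Steps.bwd (nat_lit 2) (Steps.bwd (nat_lit 3) (Steps.bwd (nat_lit 1) (Steps.fwd (nat_lit 8192) (Steps.fwd (nat_lit 20480) (Steps.fwd (nat_lit 24576) (Steps.fwd (nat_lit 32768) (Steps.fwd (nat_lit 16384) (Steps.bwd (nat_lit 7) (Steps.fwd (nat_lit 16384) (Steps.bwd (nat_lit 2) (Steps.bwd (nat_lit 3) (Steps.bwd (nat_lit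 1) (Steps.bwd (nat_lit 2) (Steps.fwd (nat_lit 16384) Steps.nil))))))))))))))))))))))))) (nat_lit 40) (nat_lit 9),
  Rule.mk (nat_lit 0) (nat_lit 67) (Steps.fwd (nat_lit 28672) (Steps.bwd (nat_lit 8) (Steps.bwd (nat_lit 7) (Steps.fwd (nat_lit 32768) Steps.nil)))) (nat_lit 53) (nat_lit 0),
  Rule.mk (nat_lit 8) (nat_lit 53) (Steps.bwd (nat_lit 7) (Steps.fwd (nat_lit 32768) (Steps.fwd (nat_lit 28672) Steps.nil))) (nat_lit 53) (nat_lit 2),
  Rule.mk (nat_lit 4) (nat_lit 445) (Steps.bwd (nat_lit 5) (Steps.bwd (nat_lit 2) (Steps.bwd (nat_lit 3) (Steps.bwd (nat_lit 4) (Steps.bwd (nat_lit 5) (Steps.bwd (nat_lit 2) (Steps.bwd (nat_lit 3) (Steps.bwd (nat_lit 4) (Steps.bwd (nat_lit 5) (Steps.bwd (nat_lit 2) (Steps.bwd (nat_lit 3) (Steps.bwd (nat_lit 4) (Steps.bwd (nat_lit 5) (Steps.bwd (nat_lit 2) (Steps.bwd (nat_lit 3) (Steps.bwd (nat_lit 4) (Steps.bwd (nat_lit 5) (Steps.bwd (nat_lit 2) (Steps.bwd (nat_lit 3) (Steps.bwd (nat_lit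 4) (Steps.fwd (nat_lit 20480) (Steps.bwd (nat_lit 2) (Steps.bwd (nat_lit 3) (Steps.fwd (nat_lit 16384) (Steps.bwd (nat_lit 5) (Steps.bwd (nat_lit 2) (Steps.bwd (nat_lit 3) (Steps.fwd (nat_lit 16384) (Steps.bwd (nat_lit 5) (Steps.bwd (nat_lit 2) (Steps.bwd (nat_lit 3) Steps.nil))))))))))))))))))))))))))))))) (nat_lit 26) (nat_lit 3),
  Rule.mk (nat_lit 8) (nat_lit 53) (Steps.fwd (nat_lit 16384) (Steps.fwd (nat_lit 32768) (Steps.bwd (nat_lit 4) Steps.nil))) (nat_lit 48) (nat_lit 1),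
  Rule.mk (nat_lit 6) (nat_lit 151) (Steps.bwd (nat_lit 2) (Steps.bwd (nat_lit 1) (Steps.fwd (nat_lit 12288) (Steps.fwd (nat_lit 8192) (Steps.fwd (nat_lit 20480) (Steps.bwd (nat_lit 7) (Steps.bwd (nat_lit 2) (Steps.bwd (nat_lit 3) (Steps.bwd (nat_lit 1) (Steps.bwd (nat_lit 2) Steps.nil)))))))))) (nat_lit 38) (nat_lit 6),
  Rule.mk (nat_lit 1) (nat_lit 53) (Steps.bwd (nat_lit 7) (Steps.bwd (nat_lit 1) (Steps.bwd (nat_lit 6) Steps.nil))) (nat_lit 30) (nat_lit 0),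
  Rule.mk (nat_lit 5) (nat_lit 53) (Steps.bwd (nat_lit 7) (Steps.fwd (nat_lit 20480) (Steps.bwd (nat_lit 6) Steps.nil))) (nat_lit 34) (nat_lit 0),
  Rule.mk (nat_lit 5) (nat_lit 53) (Steps.bwd (nat_lit 8) (Steps.bwd (nat_lit 5) (Steps.bwd (nat_lit 9) Steps.nil))) (nat_lit 50) (nat_lit 0),
  Rule.mk (nat_lit 4) (nat_lit 361) (Steps.bwd (nat_lit 7) (Steps.bwd (nat_lit 4) (Steps.bwd (nat_lit 2) (Steps.bwd (nat_lit 3) (Steps.bwd (nat_lit 1) (Steps.bwd (nat_lit 2) (Steps.bwd (nat_lit 5) (Steps.fwd (nat_lit 24576) (Steps.fwd (nat_lit 32768) (Steps.bwd (nat_lit 4) (Steps.bwd (nat_lit 7) (Steps.bwd (nat_lit 4) (Steps.fwd (nat_lit 8192) (Steps.fwd (nat_lit 12288) (Steps.bwd (nat_lit 1) (Steps.bwd (nat_lit 2) (Steps.fwd (nat_lit 16384) (Steps.fwd (nat_lit 28672) (Steps.fwd (nat_lit 16384) (Steps.fwd (nat_lit 8192) (Steps.fwd (nat_lit 4096) (Steps.fwd (nat_lit 12288) (Steps.fwd (nat_lit 8192) (Steps.fwd (nat_lit 12288) (Steps.fwd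 (nat_lit 20480) Steps.nil))))))))))))))))))))))))) (nat_lit 40) (nat_lit 17),
  Rule.mk (nat_lit 6) (nat_lit 137) (Steps.bwd (nat_lit 5) (Steps.fwd (nat_lit 16384) (Steps.fwd (nat_lit 24576) (Steps.fwd (nat_lit 16384) (Steps.fwd (nat_lit 28672) (Steps.fwd (nat_lit 20480) (Steps.bwd (nat_lit 4) (Steps.bwd (nat_lit 7) (Steps.bwd (nat_lit 4) Steps.nil))))))))) (nat_lit 37) (nat_lit 3),
  Rule.mk (nat_lit 9) (nat_lit 53) (Steps.bwd (nat_lit 6) (Steps.bwd (nat_lit 8) (Steps.fwd (nat_lit 24576) Steps.nil))) (nat_lit 53) (nat_lit 0),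
  Rule.mk (nat_lit 1) (nat_lit 151) (Steps.fwd (nat_lit 8192) (Steps.bwd (nat_lit 6) (Steps.fwd (nat_lit 8192) (Steps.fwd (nat_lit 4096) (Steps.fwd (nat_lit 12288) (Steps.fwd (nat_lit 8192) (Steps.bwd (nat_lit 5) (Steps.bwd (nat_lit 7) (Steps.fwd (nat_lit 8192) (Steps.fwd (nat_lit 12288) Steps.nil)))))))))) (nat_lit 38) (nat_lit 4),
  Rule.mk (nat_lit 9) (nat_lit 53) (Steps.bwd (nat_lit 1) (Steps.fwd (nat_lit 36864) (Steps.bwd (nat_lit 1) Steps.nil))) (nat_lit 42) (nat_lit 3),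
  Rule.mk (nat_lit 5) (nat_lit 53) (Steps.fwd (nat_lit 32768) (Steps.fwd (nat_lit 20480) (Steps.bwd (nat_lit 8) Steps.nil))) (nat_lit 50) (nat_lit 2),
  Rule.mk (nat_lit 5) (nat_lit 445) (Steps.bwd (nat_lit 2) (Steps.bwd (nat_lit 3) (Steps.bwd (nat_lit 4) (Steps.bwd (nat_lit 5) (Steps.bwd (nat_lit 2) (Steps.bwd (nat_lit 3) (Steps.bwd (nat_lit 4) (Steps.bwd (nat_lit 5) (Steps.bwd (nat_lit 2) (Steps.bwd (nat_lit 3) (Steps.bwd (nat_lit 4) (Steps.bwd (nat_lit 5) (Steps.bwd (nat_lit 2) (Steps.bwd (nat_lit 3) (Steps.bwd (nat_lit 4) (Steps.bwd (nat_lit 5) (Steps.bwd (nat_lit 2) (Steps.bwd (nat_lit 3) (Steps.fwd (nat_lit 16384) (Steps.bwd (nat_lit 5) (Steps.bwd (nat_lit 2) (Steps.fwd (nat_lit 12288) (Steps.bwd (nat_lit 4) (Steps.fwd (nat_lit 20480) (Steps.fwd (nat_lit 8192) (Steps.bwd (nat_lit 3) (Steps.bwd (nat_lit 4) (Steps.fwd (nat_lit 20480) (Steps.fwd (nat_lit 8192) (Steps.fwd (nat_lit 12288) (Steps.fwd (nat_lit 16384)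 Steps.nil))))))))))))))))))))))))))))))) (nat_lit 26) (nat_lit 0),
  Rule.mk (nat_lit 3) (nat_lit 151) (Steps.bwd (nat_lit 1) (Steps.bwd (nat_lit 2) (Steps.bwd (nat_lit 6) (Steps.bwd (nat_lit 2) (Steps.fwd (nat_lit 4096) (Steps.bwd (nat_lit 3) (Steps.bwd (nat_lit 2) (Steps.fwd (nat_lit 20480) (Steps.fwd (nat_lit 24576) (Steps.bwd (nat_lit 2) Steps.nil)))))))))) (nat_lit 38) (nat_lit 3),
  Rule.mk (nat_lit 1) (nat_lit 361) (Steps.bwd (nat_lit 2) (Steps.bwd (nat_lit 4) (Steps.bwd (nat_lit 6) (Steps.bwd (nat_lit 4) (Steps.bwd (nat_lit 2) (Steps.bwd (nat_lit 1) (Steps.bwd (nat_lit 3) (Steps.bwd (nat_lit 2) (Steps.bwd (nat_lit 3) (Steps.bwd (nat_lit 5) (Steps.fwd (nat_lit 16384) (Steps.fwd (nat_lit 24576) (Steps.bwd (nat_lit 4) (Steps.bwd (nat_lit 2) (Steps.fwd (nat_lit 12288) (Steps.bwd (nat_lit 1) (Steps.bwd (nat_lit 2) (Steps.bwd (nat_lit 5) (Steps.fwd (nat_lit 24576) (Steps.fwd (nat_lit 32768) (Steps.fwd (nat_lit 16384)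 (Steps.bwd (nat_lit 7) (Steps.bwd (nat_lit 4) (Steps.bwd (nat_lit 2) (Steps.fwd (nat_lit 12288) Steps.nil))))))))))))))))))))))))) (nat_lit 40) (nat_lit 6),
  Rule.mk (nat_lit 4) (nat_lit 445) (Steps.bwd (nat_lit 5) (Steps.bwd (nat_lit 2) (Steps.bwd (nat_lit 3) (Steps.bwd (nat_lit 4) (Steps.bwd (nat_lit 5) (Steps.bwd (nat_lit 2) (Steps.bwd (nat_lit 3) (Steps.bwd (nat_lit 4) (Steps.bwd (nat_lit 5) (Steps.bwd (nat_lit 2) (Steps.bwd (nat_lit 3) (Steps.bwd (nat_lit 4) (Steps.bwd (nat_lit 5) (Steps.bwd (nat_lit 2) (Steps.bwd (nat_lit 3) (Steps.bwd (nat_lit 4) (Steps.bwd (nat_lit 5) (Steps.bwd (nat_lit 2) (Steps.bwd (nat_lit 3) (Steps.bwd (nat_lit 4) (Steps.fwd (nat_lit 20480) (Steps.fwd (nat_lit 8192) (Steps.fwd (nat_lit 12288) (Steps.bwd (nat_lit 4) (Steps.fwd (nat_lit 20480) (Steps.fwd (nat_lit 8192) (Steps.fwd (nat_lit 12288) (Steps.fwd (nat_lit 16384) (Steps.bwd (nat_lit 5) (Steps.fwd (nat_lit 8192) (Steps.fwd (nat_lit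 12288) Steps.nil))))))))))))))))))))))))))))))) (nat_lit 26) (nat_lit 3),
  Rule.mk (nat_lit 2) (nat_lit 53) (Steps.fwd (nat_lit 16384) (Steps.bwd (nat_lit 2) (Steps.bwd (nat_lit 4) Steps.nil))) (nat_lit 16) (nat_lit 1),
  Rule.mk (nat_lit 0) (nat_lit 67) (Steps.fwd (nat_lit 8192) (Steps.fwd (nat_lit 20480) (Steps.bwd (nat_lit 2) (Steps.bwd (nat_lit 5) Steps.nil)))) (nat_lit 18) (nat_lit 0),
  Rule.mk (nat_lit 5) (nat_lit 81) (Steps.bwd (nat_lit 4) (Steps.fwd (nat_lit 20480) (Steps.bwd (nat_lit 4) (Steps.bwd (nat_lit 5) (Steps.bwd (nat_lit 4) Steps.nil))))) (nat_lit 24) (nat_lit 0),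
  Rule.mk (nat_lit 2) (nat_lit 53) (Steps.fwd (nat_lit 16384) (Steps.bwd (nat_lit 2) (Steps.fwd (nat_lit 16384) Steps.nil))) (nat_lit 16) (nat_lit 1),
  Rule.mk (nat_lit 3) (nat_lit 53) (Steps.bwd (nat_lit 5) (Steps.bwd (nat_lit 3) (Steps.bwd (nat_lit 5) Steps.nil))) (nat_lit 22) (nat_lit 1),
  Rule.mk (nat_lit 1) (nat_lit 361) (Steps.bwd (nat_lit 2) (Steps.bwd (nat_lit 4) (Steps.bwd (nat_lit 6) (Steps.fwd (nat_lit 16384) (Steps.bwd (nat_lit 2) (Steps.fwd (nat_lit 4096) (Steps.bwd (nat_lit 3) (Steps.bwd (nat_lit 2) (Steps.fwd (nat_lit 12288) (Steps.fwd (nat_lit 20480) (Steps.fwd (nat_lit 16384) (Steps.fwd (nat_lit 24576) (Steps.fwd (nat_lit 16384) (Steps.fwd (nat_lit 8192) (Steps.fwd (nat_lit 12288) (Steps.fwd (nat_lit 4096) (Steps.fwd (nat_lit 8192) (Steps.fwd (nat_lit 20480) (Steps.bwd (nat_lit 7) (Steps.fwd (nat_lit 32768) (Steps.bwd (nat_lit 4) (Steps.fwd (nat_lit 24576) (Steps.fwd (nat_lit 16384) (Steps.fwd (nat_lit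 8192) (Steps.fwd (nat_lit 12288) Steps.nil))))))))))))))))))))))))) (nat_lit 40) (nat_lit 6),
  Rule.mk (nat_lit 1) (nat_lit 53) (Steps.fwd (nat_lit 32768) (Steps.bwd (nat_lit 1) (Steps.fwd (nat_lit 36864) Steps.nil))) (nat_lit 42) (nat_lit 2),
  Rule.mk (nat_lit 5) (nat_lit 361) (Steps.fwd (nat_lit 12288) (Steps.fwd (nat_lit 8192) (Steps.fwd (nat_lit 12288) (Steps.bwd (nat_lit 1) (Steps.bwd (nat_lit 2) (Steps.bwd (nat_lit 4) (Steps.fwd (nat_lit 24576) (Steps.fwd (nat_lit 16384) (Steps.fwd (nat_lit 8192) (Steps.fwd (nat_lit 4096) (Steps.fwd (nat_lit 12288) (Steps.fwd (nat_lit 8192) (Steps.fwd (nat_lit 16384) (Steps.fwd (nat_lit 28672) (Steps.bwd (nat_lit 4) (Steps.fwd (nat_lit 36864) (Steps.bwd (nat_lit 6) (Steps.bwd (nat_lit 5) (Steps.bwd (nat_lit 2) (Steps.bwd (nat_lit 1) (Steps.bwd (nat_lit 3) (Steps.bwd (nat_lit 2) (Steps.bwd (nat_lit 4) (Steps.bwd (nat_lit 6) (Steps.fwd (nat_lit 16384) Steps.nil)))))))))))))))))))))))))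 (nat_lit 41) (nat_lit 11),
  Rule.mk (nat_lit 0) (nat_lit 95) (Steps.fwd (nat_lit 20480) (Steps.fwd (nat_lit 16384) (Steps.fwd (nat_lit 20480) (Steps.fwd (nat_lit 16384) (Steps.fwd (nat_lit 20480) (Steps.bwd (nat_lit 4) Steps.nil)))))) (nat_lit 24) (nat_lit 1),
  Rule.mk (nat_lit 0) (nat_lit 53) (Steps.bwd (nat_lit 5) (Steps.fwd (nat_lit 0) (Steps.bwd (nat_lit 5) Steps.nil))) (nat_lit 54) (nat_lit 0),
  Rule.mk (nat_lit 0) (nat_lit 53) (Steps.bwd (nat_lit 8) (Steps.fwd (nat_lit 0) (Steps.fwd (nat_lit 32768) Steps.nil))) (nat_lit 54) (nat_lit 0),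
  Rule.mk (nat_lit 0) (nat_lit 53) (Steps.fwd (nat_lit 36864) (Steps.fwd (nat_lit 0) (Steps.fwd (nat_lit 32768) Steps.nil))) (nat_lit 54) (nat_lit 0),
  Rule.mk (nat_lit 0) (nat_lit 53) (Steps.bwd (nat_lit 4) (Steps.bwd (nat_lit 0) (Steps.fwd (nat_lit 16384) Steps.nil))) (nat_lit 54) (nat_lit 0),
  Rule.mk (nat_lit 0) (nat_lit 53) (Steps.bwd (nat_lit 5) (Steps.bwd (nat_lit 0) (Steps.bwd (nat_lit 5) Steps.nil))) (nat_lit 54) (nat_lit 0),
  Rule.mk (nat_lit 0) (nat_lit 53) (Steps.fwd (nat_lit 4096) (Steps.fwd (nat_lit 0) (Steps.fwd (nat_lit 4096) Steps.nil))) (nat_lit 54) (nat_lit 0),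
  Rule.mk (nat_lit 0) (nat_lit 53) (Steps.fwd (nat_lit 36864) (Steps.bwd (nat_lit 0) (Steps.fwd (nat_lit 32768) Steps.nil))) (nat_lit 54) (nat_lit 0),
  Rule.mk (nat_lit 0) (nat_lit 67) (Steps.bwd (nat_lit 3) (Steps.bwd (nat_lit 0) (Steps.fwd (nat_lit 12288) (Steps.fwd (nat_lit 0) Steps.nil)))) (nat_lit 54) (nat_lit 0),
  Rule.mk (nat_lit 0) (nat_lit 53) (Steps.bwd (nat_lit 8) (Steps.fwd (nat_lit 0) (Steps.bwd (nat_lit 9) Steps.nil))) (nat_lit 54) (nat_lit 0),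
  Rule.mk (nat_lit 0) (nat_lit 53) (Steps.fwd (nat_lit 36864) (Steps.fwd (nat_lit 0) (Steps.bwd (nat_lit 9) Steps.nil))) (nat_lit 54) (nat_lit 0),
  Rule.mk (nat_lit 1) (nat_lit 39) (Steps.bwd (nat_lit 0) (Steps.fwd (nat_lit 4096) Steps.nil)) (nat_lit 54) (nat_lit 0),
  Rule.mk (nat_lit 0) (nat_lit 53) (Steps.fwd (nat_lit 20480) (Steps.bwd (nat_lit 0) (Steps.fwd (nat_lit 20480) Steps.nil))) (nat_lit 54) (nat_lit 0),
  Rule.mk (nat_lit 0) (nat_lit 39) (Steps.fwd (nat_lit 0) (Steps.fwd (nat_lit 0) Steps.nil)) (nat_lit 54) (nat_lit 0),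
  Rule.mk (nat_lit 0) (nat_lit 53) (Steps.fwd (nat_lit 16384) (Steps.bwd (nat_lit 0) (Steps.bwd (nat_lit 4) Steps.nil))) (nat_lit 54) (nat_lit 0),
  Rule.mk (nat_lit 0) (nat_lit 53) (Steps.fwd (nat_lit 16384) (Steps.fwd (nat_lit 0) (Steps.fwd (nat_lit 16384) Steps.nil))) (nat_lit 54) (nat_lit 0),
  Rule.mk (nat_lit 0) (nat_lit 53) (Steps.fwd (nat_lit 24576) (Steps.fwd (nat_lit 0) (Steps.fwd (nat_lit 28672) Steps.nil))) (nat_lit 54) (nat_lit 0),
  Rule.mk (nat_lit 0) (nat_lit 53) (Steps.fwd (nat_lit 20480) (Steps.fwd (nat_lit 0) (Steps.fwd (nat_lit 20480) Steps.nil))) (nat_lit 54) (nat_lit 0),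
  Rule.mk (nat_lit 4) (nat_lit 81) (Steps.fwd (nat_lit 20480) (Steps.bwd (nat_lit 4) (Steps.bwd (nat_lit 5) (Steps.fwd (nat_lit 16384) (Steps.bwd (nat_lit 5) Steps.nil))))) (nat_lit 24) (nat_lit 1),
  Rule.mk (nat_lit 4) (nat_lit 53) (Steps.fwd (nat_lit 32768) (Steps.bwd (nat_lit 4) (Steps.bwd (nat_lit 8) Steps.nil))) (nat_lit 48) (nat_lit 2),
  Rule.mk (nat_lit 1) (nat_lit 123) (Steps.bwd (nat_lit 4) (Steps.bwd (nat_lit 3) (Steps.bwd (nat_lit 4) (Steps.fwd (nat_lit 12288) (Steps.fwd (nat_lit 16384) (Steps.bwd (nat_lit 3) (Steps.fwd (nat_lit 16384) (Steps.fwd (nat_lit 12288) Steps.nil)))))))) (nat_lit 20) (nat_lit 1),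
  Rule.mk (nat_lit 1) (nat_lit 53) (Steps.bwd (nat_lit 5) (Steps.bwd (nat_lit 1) (Steps.bwd (nat_lit 5) Steps.nil))) (nat_lit 12) (nat_lit 1)]
noncomputable def R_5 : List (Rule) := [Rule.mk (nat_lit 3) (nat_lit 123) (Steps.fwd (nat_lit 16384) (Steps.bwd (nat_lit 3) (Steps.fwd (nat_lit 16384) (Steps.fwd (nat_lit 12288) (Steps.fwd (nat_lit 4096) (Steps.bwd (nat_lit 4) (Steps.fwd (nat_lit 12288) (Steps.bwd (nat_lit 4) Steps.nil)))))))) (nat_lit 20) (nat_lit 5),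
  Rule.mk (nat_lit 4) (nat_lit 123) (Steps.fwd (nat_lit 12288) (Steps.fwd (nat_lit 4096) (Steps.bwd (nat_lit 4) (Steps.fwd (nat_lit 12288) (Steps.fwd (nat_lit 16384) (Steps.bwd (nat_lit 3) (Steps.fwd (nat_lit 16384) (Steps.fwd (nat_lit 12288) Steps.nil)))))))) (nat_lit 20) (nat_lit 8),
  Rule.mk (nat_lit 4) (nat_lit 53) (Steps.bwd (nat_lit 9) (Steps.bwd (nat_lit 4) (Steps.fwd (nat_lit 36864) Steps.nil))) (nat_lit 48) (nat_lit 2),
  Rule.mk (nat_lit 3) (nat_lit 123) (Steps.fwd (nat_lit 16384) (Steps.fwd (nat_lit 12288) (Steps.fwd (nat_lit 4096) (Steps.bwd (nat_lit 4) (Steps.bwd (nat_lit 3) (Steps.bwd (nat_lit 4) (Steps.bwd (nat_lit 3) (Steps.bwd (nat_lit 4) Steps.nil)))))))) (nat_lit 20) (nat_lit 7),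
  Rule.mk (nat_lit 0) (nat_lit 67) (Steps.bwd (nat_lit 3) (Steps.bwd (nat_lit 5) (Steps.fwd (nat_lit 12288) (Steps.fwd (nat_lit 20480) Steps.nil)))) (nat_lit 22) (nat_lit 0),
  Rule.mk (nat_lit 0) (nat_lit 67) (Steps.bwd (nat_lit 2) (Steps.bwd (nat_lit 0) (Steps.fwd (nat_lit 8192) (Steps.fwd (nat_lit 0) Steps.nil)))) (nat_lit 54) (nat_lit 0),
  Rule.mk (nat_lit 0) (nat_lit 53) (Steps.bwd (nat_lit 8) (Steps.bwd (nat_lit 0) (Steps.fwd (nat_lit 32768) Steps.nil))) (nat_lit 54) (nat_lit 0),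
  Rule.mk (nat_lit 0) (nat_lit 53) (Steps.bwd (nat_lit 3) (Steps.fwd (nat_lit 0) (Steps.fwd (nat_lit 12288) Steps.nil))) (nat_lit 54) (nat_lit 0),
  Rule.mk (nat_lit 0) (nat_lit 53) (Steps.fwd (nat_lit 36864) (Steps.bwd (nat_lit 0) (Steps.bwd (nat_lit 9) Steps.nil))) (nat_lit 54) (nat_lit 0),
  Rule.mk (nat_lit 1) (nat_lit 53) (Steps.bwd (nat_lit 0) (Steps.bwd (nat_lit 1) (Steps.fwd (nat_lit 0) Steps.nil))) (nat_lit 54) (nat_lit 0),
  Rule.mk (nat_lit 0) (nat_lit 53) (Steps.bwd (nat_lit 3) (Steps.bwd (nat_lit 0) (Steps.fwd (nat_lit 12288) Steps.nil))) (nat_lit 54) (nat_lit 0),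
  Rule.mk (nat_lit 0) (nat_lit 53) (Steps.bwd (nat_lit 6) (Steps.bwd (nat_lit 0) (Steps.fwd (nat_lit 24576) Steps.nil))) (nat_lit 54) (nat_lit 0),
  Rule.mk (nat_lit 0) (nat_lit 53) (Steps.fwd (nat_lit 28672) (Steps.bwd (nat_lit 0) (Steps.bwd (nat_lit 7) Steps.nil))) (nat_lit 54) (nat_lit 0),
  Rule.mk (nat_lit 0) (nat_lit 53) (Steps.bwd (nat_lit 3) (Steps.bwd (nat_lit 0) (Steps.bwd (nat_lit 3) Steps.nil))) (nat_lit 54) (nat_lit 0),
  Rule.mk (nat_lit 6) (nat_lit 39) (Steps.bwd (nat_lit 0) (Steps.fwd (nat_lit 24576) Steps.nil)) (nat_lit 54) (nat_lit 0),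
  Rule.mk (nat_lit 0) (nat_lit 53) (Steps.bwd (nat_lit 1) (Steps.bwd (nat_lit 0) (Steps.fwd (nat_lit 4096) Steps.nil))) (nat_lit 54) (nat_lit 0),
  Rule.mk (nat_lit 0) (nat_lit 53) (Steps.fwd (nat_lit 20480) (Steps.bwd (nat_lit 0) (Steps.bwd (nat_lit 5) Steps.nil))) (nat_lit 54) (nat_lit 0),
  Rule.mk (nat_lit 0) (nat_lit 53) (Steps.bwd (nat_lit 5) (Steps.bwd (nat_lit 0) (Steps.fwd (nat_lit 20480) Steps.nil))) (nat_lit 54) (nat_lit 0),
  Rule.mk (nat_lit 5) (nat_lit 53) (Steps.bwd (nat_lit 9) (Steps.bwd (nat_lit 5) (Steps.bwd (nat_lit 8) Steps.nil))) (nat_lit 50) (nat_lit 2),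
  Rule.mk (nat_lit 3) (nat_lit 81) (Steps.fwd (nat_lit 8192) (Steps.fwd (nat_lit 12288) (Steps.fwd (nat_lit 8192) (Steps.bwd (nat_lit 3) (Steps.bwd (nat_lit 2) Steps.nil))))) (nat_lit 14) (nat_lit 0),
  Rule.mk (nat_lit 3) (nat_lit 123) (Steps.fwd (nat_lit 16384) (Steps.fwd (nat_lit 12288) (Steps.fwd (nat_lit 16384) (Steps.fwd (nat_lit 12288) (Steps.bwd (nat_lit 1) (Steps.fwd (nat_lit 16384) (Steps.bwd (nat_lit 3) (Steps.bwd (nat_lit 4) Steps.nil)))))))) (nat_lit 20) (nat_lit 5),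
  Rule.mk (nat_lit 3) (nat_lit 53) (Steps.fwd (nat_lit 20480) (Steps.bwd (nat_lit 3) (Steps.bwd (nat_lit 5) Steps.nil))) (nat_lit 22) (nat_lit 1),
  Rule.mk (nat_lit 3) (nat_lit 53) (Steps.fwd (nat_lit 32768) (Steps.bwd (nat_lit 3) (Steps.fwd (nat_lit 36864) Steps.nil))) (nat_lit 46) (nat_lit 2),
  Rule.mk (nat_lit 0) (nat_lit 95) (Steps.bwd (nat_lit 2) (Steps.bwd (nat_lit 3) (Steps.fwd (nat_lit 8192) (Steps.bwd (nat_lit 3) (Steps.fwd (nat_lit 8192) (Steps.fwd (nat_lit 12288) Steps.nil)))))) (nat_lit 14) (nat_lit 0),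
  Rule.mk (nat_lit 1) (nat_lit 123) (Steps.fwd (nat_lit 16384) (Steps.fwd (nat_lit 12288) (Steps.fwd (nat_lit 16384) (Steps.bwd (nat_lit 3) (Steps.bwd (nat_lit 4) (Steps.bwd (nat_lit 3) (Steps.fwd (nat_lit 16384) (Steps.fwd (nat_lit 12288) Steps.nil)))))))) (nat_lit 20) (nat_lit 1),
  Rule.mk (nat_lit 1) (nat_lit 81) (Steps.fwd (nat_lit 8192) (Steps.fwd (nat_lit 4096) (Steps.fwd (nat_lit 8192) (Steps.bwd (nat_lit 1) (Steps.bwd (nat_lit 2) Steps.nil))))) (nat_lit 10) (nat_lit 1),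
  Rule.mk (nat_lit 6) (nat_lit 53) (Steps.fwd (nat_lit 12288) (Steps.fwd (nat_lit 4096) (Steps.fwd (nat_lit 28672) Steps.nil))) (nat_lit 28) (nat_lit 2),
  Rule.mk (nat_lit 1) (nat_lit 53) (Steps.bwd (nat_lit 6) (Steps.fwd (nat_lit 4096) (Steps.fwd (nat_lit 24576) Steps.nil))) (nat_lit 30) (nat_lit 2),
  Rule.mk (nat_lit 3) (nat_lit 53) (Steps.fwd (nat_lit 4096) (Steps.bwd (nat_lit 6) (Steps.bwd (nat_lit 6) Steps.nil))) (nat_lit 28) (nat_lit 3),
  Rule.mk (nat_lit 3) (nat_lit 53) (Steps.bwd (nat_lit 9) (Steps.bwd (nat_lit 3) (Steps.fwd (nat_lit 36864) Steps.nil))) (nat_lit 46) (nat_lit 2),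
  Rule.mk (nat_lit 3) (nat_lit 123) (Steps.fwd (nat_lit 16384) (Steps.fwd (nat_lit 12288) (Steps.fwd (nat_lit 16384) (Steps.fwd (nat_lit 12288) (Steps.bwd (nat_lit 4) (Steps.bwd (nat_lit 3) (Steps.fwd (nat_lit 4096) (Steps.bwd (nat_lit 4) Steps.nil)))))))) (nat_lit 20) (nat_lit 3),
  Rule.mk (nat_lit 1) (nat_lit 123) (Steps.fwd (nat_lit 16384) (Steps.fwd (nat_lit 12288) (Steps.fwd (nat_lit 16384) (Steps.fwd (nat_lit 12288) (Steps.bwd (nat_lit 4) (Steps.bwd (nat_lit 3) (Steps.bwd (nat_lit 4) (Steps.fwd (nat_lit 12288) Steps.nil)))))))) (nat_lit 20) (nat_lit 1),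
  Rule.mk (nat_lit 2) (nat_lit 81) (Steps.fwd (nat_lit 4096) (Steps.fwd (nat_lit 8192) (Steps.fwd (nat_lit 4096) (Steps.bwd (nat_lit 2) (Steps.bwd (nat_lit 1) Steps.nil))))) (nat_lit 10) (nat_lit 0),
  Rule.mk (nat_lit 5) (nat_lit 53) (Steps.fwd (nat_lit 32768) (Steps.bwd (nat_lit 5) (Steps.bwd (nat_lit 8) Steps.nil))) (nat_lit 50) (nat_lit 2),
  Rule.mk (nat_lit 3) (nat_lit 123) (Steps.bwd (nat_lit 4) (Steps.bwd (nat_lit 3) (Steps.bwd (nat_lit 1) (Steps.bwd (nat_lit 4) (Steps.fwd (nat_lit 12288) (Steps.fwd (nat_lit 16384) (Steps.fwd (nat_lit 12288) (Steps.fwd (nat_lit 16384) Steps.nil)))))))) (nat_lit 20) (nat_lit 7),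
  Rule.mk (nat_lit 0) (nat_lit 95) (Steps.fwd (nat_lit 12288) (Steps.fwd (nat_lit 8192) (Steps.fwd (nat_lit 12288) (Steps.bwd (nat_lit 2) (Steps.fwd (nat_lit 12288) (Steps.fwd (nat_lit 8192) Steps.nil)))))) (nat_lit 14) (nat_lit 1),
  Rule.mk (nat_lit 1) (nat_lit 123) (Steps.bwd (nat_lit 4) (Steps.bwd (nat_lit 3) (Steps.bwd (nat_lit 4) (Steps.fwd (nat_lit 12288) (Steps.fwd (nat_lit 16384) (Steps.fwd (nat_lit 12288) (Steps.fwd (nat_lit 16384) (Steps.bwd (nat_lit 3) Steps.nil)))))))) (nat_lit 20) (nat_lit 1),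
  Rule.mk (nat_lit 4) (nat_lit 53) (Steps.fwd (nat_lit 32768) (Steps.bwd (nat_lit 4) (Steps.fwd (nat_lit 36864) Steps.nil))) (nat_lit 48) (nat_lit 2),
  Rule.mk (nat_lit 1) (nat_lit 123) (Steps.bwd (nat_lit 4) (Steps.fwd (nat_lit 12288) (Steps.fwd (nat_lit 16384) (Steps.bwd (nat_lit 3) (Steps.fwd (nat_lit 16384) (Steps.fwd (nat_lit 12288) (Steps.bwd (nat_lit 4) (Steps.bwd (nat_lit 3) Steps.nil)))))))) (nat_lit 20) (nat_lit 1),
  Rule.mk (nat_lit 1) (nat_lit 53) (Steps.bwd (nat_lit 9) (Steps.bwd (nat_lit 1) (Steps.bwd (nat_lit 8) Steps.nil))) (nat_lit 42) (nat_lit 2),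
  Rule.mk (nat_lit 1) (nat_lit 81) (Steps.fwd (nat_lit 8192) (Steps.bwd (nat_lit 1) (Steps.fwd (nat_lit 8192) (Steps.bwd (nat_lit 1) (Steps.bwd (nat_lit 2) Steps.nil))))) (nat_lit 10) (nat_lit 1),
  Rule.mk (nat_lit 3) (nat_lit 123) (Steps.fwd (nat_lit 16384) (Steps.fwd (nat_lit 12288) (Steps.fwd (nat_lit 16384) (Steps.bwd (nat_lit 1) (Steps.bwd (nat_lit 3) (Steps.bwd (nat_lit 4) (Steps.bwd (nat_lit 3) (Steps.bwd (nat_lit 4) Steps.nil)))))))) (nat_lit 21) (nat_lit 5),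
  Rule.mk (nat_lit 3) (nat_lit 53) (Steps.bwd (nat_lit 5) (Steps.fwd (nat_lit 12288) (Steps.fwd (nat_lit 20480) Steps.nil))) (nat_lit 22) (nat_lit 1),
  Rule.mk (nat_lit 1) (nat_lit 123) (Steps.bwd (nat_lit 4) (Steps.bwd (nat_lit 3) (Steps.bwd (nat_lit 4) (Steps.bwd (nat_lit 3) (Steps.bwd (nat_lit 4) (Steps.fwd (nat_lit 12288) (Steps.fwd (nat_lit 16384) (Steps.fwd (nat_lit 12288) Steps.nil)))))))) (nat_lit 20) (nat_lit 1),
  Rule.mk (nat_lit 1) (nat_lit 81) (Steps.bwd (nat_lit 2) (Steps.bwd (nat_lit 1) (Steps.fwd (nat_lit 8192) (Steps.fwd (nat_lit 4096) (Steps.fwd (nat_lit 8192) Steps.nil))))) (nat_lit 10) (nat_lit 1),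
  Rule.mk (nat_lit 7) (nat_lit 53) (Steps.bwd (nat_lit 1) (Steps.bwd (nat_lit 6) (Steps.fwd (nat_lit 4096) Steps.nil))) (nat_lit 30) (nat_lit 1),
  Rule.mk (nat_lit 3) (nat_lit 53) (Steps.fwd (nat_lit 24576) (Steps.bwd (nat_lit 7) (Steps.bwd (nat_lit 1) Steps.nil))) (nat_lit 29) (nat_lit 2),
  Rule.mk (nat_lit 7) (nat_lit 53) (Steps.bwd (nat_lit 1) (Steps.bwd (nat_lit 3) (Steps.bwd (nat_lit 7) Steps.nil))) (nat_lit 29) (nat_lit 0),
  Rule.mk (nat_lit 6) (nat_lit 53) (Steps.fwd (nat_lit 4096) (Steps.bwd (nat_lit 7) (Steps.bwd (nat_lit 1) Steps.nil))) (nat_lit 30) (nat_lit 3),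
  Rule.mk (nat_lit 3) (nat_lit 53) (Steps.bwd (nat_lit 6) (Steps.bwd (nat_lit 3) (Steps.bwd (nat_lit 7) Steps.nil))) (nat_lit 32) (nat_lit 2),
  Rule.mk (nat_lit 5) (nat_lit 53) (Steps.bwd (nat_lit 6) (Steps.bwd (nat_lit 5) (Steps.bwd (nat_lit 7) Steps.nil))) (nat_lit 34) (nat_lit 2),
  Rule.mk (nat_lit 7) (nat_lit 53) (Steps.bwd (nat_lit 5) (Steps.fwd (nat_lit 28672) (Steps.bwd (nat_lit 5) Steps.nil))) (nat_lit 34) (nat_lit 1),
  Rule.mk (nat_lit 4) (nat_lit 123) (Steps.bwd (nat_lit 3) (Steps.bwd (nat_lit 4) (Steps.bwd (nat_lit 3) (Steps.bwd (nat_lit 4) (Steps.bwd (nat_lit 3) (Steps.fwd (nat_lit 16384) (Steps.bwd (nat_lit 3) (Steps.bwd (nat_lit 1) Steps.nil)))))))) (nat_lit 20) (nat_lit 2),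
  Rule.mk (nat_lit 0) (nat_lit 137) (Steps.bwd (nat_lit 3) (Steps.bwd (nat_lit 4) (Steps.bwd (nat_lit 3) (Steps.bwd (nat_lit 4) (Steps.bwd (nat_lit 3) (Steps.fwd (nat_lit 16384) (Steps.bwd (nat_lit 3) (Steps.fwd (nat_lit 16384) (Steps.bwd (nat_lit 1) Steps.nil))))))))) (nat_lit 21) (nat_lit 0),
  Rule.mk (nat_lit 4) (nat_lit 53) (Steps.bwd (nat_lit 9) (Steps.bwd (nat_lit 4) (Steps.bwd (nat_lit 8) Steps.nil))) (nat_lit 48) (nat_lit 2),
  Rule.mk (nat_lit 1) (nat_lit 123) (Steps.bwd (nat_lit 3) (Steps.bwd (nat_lit 4) (Steps.bwd (nat_lit 3) (Steps.fwd (nat_lit 16384) (Steps.bwd (nat_lit 3) (Steps.fwd (nat_lit 16384) (Steps.bwd (nat_lit 3) (Steps.bwd (nat_lit 4) Steps.nil)))))))) (nat_lit 21) (nat_lit 0),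
  Rule.mk (nat_lit 7) (nat_lit 151) (Steps.bwd (nat_lit 2) (Steps.bwd (nat_lit 3) (Steps.bwd (nat_lit 1) (Steps.fwd (nat_lit 8192) (Steps.bwd (nat_lit 6) (Steps.fwd (nat_lit 8192) (Steps.fwd (nat_lit 4096) (Steps.bwd (nat_lit 3) (Steps.fwd (nat_lit 8192) (Steps.bwd (nat_lit 5) Steps.nil)))))))))) (nat_lit 38) (nat_lit 1),
  Rule.mk (nat_lit 6) (nat_lit 53) (Steps.bwd (nat_lit 5) (Steps.bwd (nat_lit 7) (Steps.fwd (nat_lit 20480) Steps.nil))) (nat_lit 34) (nat_lit 3),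
  Rule.mk (nat_lit 1) (nat_lit 151) (Steps.fwd (nat_lit 12288) (Steps.fwd (nat_lit 8192) (Steps.bwd (nat_lit 6) (Steps.fwd (nat_lit 20480) (Steps.fwd (nat_lit 8192) (Steps.fwd (nat_lit 12288) (Steps.fwd (nat_lit 4096) (Steps.fwd (nat_lit 8192) (Steps.bwd (nat_lit 7) (Steps.bwd (nat_lit 2) Steps.nil)))))))))) (nat_lit 39) (nat_lit 8),
  Rule.mk (nat_lit 7) (nat_lit 53) (Steps.bwd (nat_lit 5) (Steps.bwd (nat_lit 6) (Steps.fwd (nat_lit 20480) Steps.nil))) (nat_lit 34) (nat_lit 1),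
  Rule.mk (nat_lit 4) (nat_lit 137) (Steps.bwd (nat_lit 5) (Steps.bwd (nat_lit 7) (Steps.bwd (nat_lit 4) (Steps.fwd (nat_lit 28672) (Steps.fwd (nat_lit 16384) (Steps.bwd (nat_lit 5) (Steps.bwd (nat_lit 7) (Steps.fwd (nat_lit 16384) (Steps.fwd (nat_lit 28672) Steps.nil))))))))) (nat_lit 36) (nat_lit 1),
  Rule.mk (nat_lit 2) (nat_lit 151) (Steps.bwd (nat_lit 3) (Steps.bwd (nat_lit 1) (Steps.bwd (nat_lit 2) (Steps.bwd (nat_lit 6) (Steps.fwd (nat_lit 8192) (Steps.fwd (nat_lit 4096) (Steps.fwd (nat_lit 12288) (Steps.bwd (nat_lit 2) (Steps.bwd (nat_lit 5) (Steps.bwd (nat_lit 7) Steps.nil)))))))))) (nat_lit 38) (nat_lit 2),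
  Rule.mk (nat_lit 4) (nat_lit 361) (Steps.bwd (nat_lit 2) (Steps.bwd (nat_lit 3) (Steps.bwd (nat_lit 1) (Steps.bwd (nat_lit 2) (Steps.bwd (nat_lit 4) (Steps.bwd (nat_lit 6) (Steps.bwd (nat_lit 4) (Steps.bwd (nat_lit 2) (Steps.bwd (nat_lit 1) (Steps.bwd (nat_lit 3) (Steps.bwd (nat_lit 2) (Steps.bwd (nat_lit 3) (Steps.bwd (nat_lit 5) (Steps.bwd (nat_lit 4) (Steps.bwd (nat_lit 7) (Steps.bwd (nat_lit 4) (Steps.bwd (nat_lit 2) (Steps.bwd (nat_lit 3) (Steps.bwd (nat_lit 1) (Steps.bwd (nat_lit 2) (Steps.bwd (nat_lit 5) (Steps.fwd (nat_lit 24576) (Steps.fwd (nat_lit 32768) (Steps.fwd (nat_lit 16384) (Steps.fwd (nat_lit 24576) Steps.nil))))))))))))))))))))))))) (nat_lit 40) (nat_lit 3),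
  Rule.mk (nat_lit 6) (nat_lit 53) (Steps.bwd (nat_lit 5) (Steps.fwd (nat_lit 24576) (Steps.fwd (nat_lit 20480) Steps.nil))) (nat_lit 34) (nat_lit 3)]
noncomputable def R_6 : List (Rule) := [Rule.mk (nat_lit 0) (nat_lit 165) (Steps.bwd (nat_lit 2) (Steps.bwd (nat_lit 3) (Steps.bwd (nat_lit 1) (Steps.bwd (nat_lit 2) (Steps.fwd (nat_lit 24576) (Steps.fwd (nat_lit 8192) (Steps.fwd (nat_lit 4096) (Steps.fwd (nat_lit 12288) (Steps.bwd (nat_lit 2) (Steps.bwd (nat_lit 6) (Steps.bwd (nat_lit 5) Steps.nil))))))))))) (nat_lit 39) (nat_lit 1),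
  Rule.mk (nat_lit 5) (nat_lit 53) (Steps.bwd (nat_lit 6) (Steps.fwd (nat_lit 20480) (Steps.fwd (nat_lit 24576) Steps.nil))) (nat_lit 34) (nat_lit 2),
  Rule.mk (nat_lit 6) (nat_lit 53) (Steps.bwd (nat_lit 3) (Steps.bwd (nat_lit 1) (Steps.bwd (nat_lit 6) Steps.nil))) (nat_lit 28) (nat_lit 2),
  Rule.mk (nat_lit 4) (nat_lit 123) (Steps.bwd (nat_lit 3) (Steps.bwd (nat_lit 4) (Steps.bwd (nat_lit 3) (Steps.fwd (nat_lit 16384) (Steps.fwd (nat_lit 12288) (Steps.bwd (nat_lit 4) (Steps.fwd (nat_lit 12288) (Steps.fwd (nat_lit 4096) Steps.nil)))))))) (nat_lit 20) (nat_lit 2),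
  Rule.mk (nat_lit 1) (nat_lit 123) (Steps.fwd (nat_lit 16384) (Steps.fwd (nat_lit 12288) (Steps.bwd (nat_lit 4) (Steps.bwd (nat_lit 3) (Steps.fwd (nat_lit 16384) (Steps.fwd (nat_lit 12288) (Steps.bwd (nat_lit 4) (Steps.bwd (nat_lit 3) Steps.nil)))))))) (nat_lit 20) (nat_lit 1),
  Rule.mk (nat_lit 1) (nat_lit 123) (Steps.fwd (nat_lit 12288) (Steps.fwd (nat_lit 16384) (Steps.fwd (nat_lit 12288) (Steps.bwd (nat_lit 4) (Steps.bwd (nat_lit 3) (Steps.fwd (nat_lit 16384) (Steps.fwd (nat_lit 12288) (Steps.bwd (nat_lit 4) Steps.nil)))))))) (nat_lit 21) (nat_lit 0),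
  Rule.mk (nat_lit 7) (nat_lit 151) (Steps.fwd (nat_lit 8192) (Steps.fwd (nat_lit 12288) (Steps.fwd (nat_lit 4096) (Steps.fwd (nat_lit 8192) (Steps.bwd (nat_lit 6) (Steps.fwd (nat_lit 8192) (Steps.bwd (nat_lit 1) (Steps.fwd (nat_lit 12288) (Steps.fwd (nat_lit 8192) (Steps.fwd (nat_lit 20480) Steps.nil)))))))))) (nat_lit 38) (nat_lit 1),
  Rule.mk (nat_lit 6) (nat_lit 53) (Steps.fwd (nat_lit 32768) (Steps.bwd (nat_lit 7) (Steps.fwd (nat_lit 36864) Steps.nil))) (nat_lit 52) (nat_lit 2),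
  Rule.mk (nat_lit 2) (nat_lit 151) (Steps.bwd (nat_lit 3) (Steps.bwd (nat_lit 1) (Steps.bwd (nat_lit 2) (Steps.bwd (nat_lit 6) (Steps.fwd (nat_lit 8192) (Steps.fwd (nat_lit 4096) (Steps.bwd (nat_lit 3) (Steps.fwd (nat_lit 8192) (Steps.fwd (nat_lit 20480) (Steps.fwd (nat_lit 24576) Steps.nil)))))))))) (nat_lit 38) (nat_lit 2),
  Rule.mk (nat_lit 2) (nat_lit 81) (Steps.fwd (nat_lit 12288) (Steps.fwd (nat_lit 8192) (Steps.bwd (nat_lit 3) (Steps.bwd (nat_lit 2) (Steps.bwd (nat_lit 3) Steps.nil))))) (nat_lit 14) (nat_lit 1),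
  Rule.mk (nat_lit 7) (nat_lit 151) (Steps.fwd (nat_lit 8192) (Steps.bwd (nat_lit 1) (Steps.bwd (nat_lit 3) (Steps.fwd (nat_lit 8192) (Steps.fwd (nat_lit 28672) (Steps.fwd (nat_lit 20480) (Steps.bwd (nat_lit 2) (Steps.bwd (nat_lit 3) (Steps.bwd (nat_lit 1) (Steps.bwd (nat_lit 2) Steps.nil)))))))))) (nat_lit 39) (nat_lit 6),
  Rule.mk (nat_lit 1) (nat_lit 53) (Steps.bwd (nat_lit 7) (Steps.bwd (nat_lit 1) (Steps.fwd (nat_lit 28672) Steps.nil))) (nat_lit 30) (nat_lit 0),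
  Rule.mk (nat_lit 7) (nat_lit 361) (Steps.bwd (nat_lit 4) (Steps.bwd (nat_lit 2) (Steps.bwd (nat_lit 3) (Steps.bwd (nat_lit 1) (Steps.bwd (nat_lit 2) (Steps.bwd (nat_lit 4) (Steps.bwd (nat_lit 6) (Steps.bwd (nat_lit 4) (Steps.bwd (nat_lit 2) (Steps.bwd (nat_lit 1) (Steps.bwd (nat_lit 3) (Steps.bwd (nat_lit 2) (Steps.bwd (nat_lit 3) (Steps.bwd (nat_lit 5) (Steps.bwd (nat_lit 4) (Steps.bwd (nat_lit 7) (Steps.bwd (nat_lit 4) (Steps.bwd (nat_lit 2) (Steps.bwd (nat_lit 3) (Steps.bwd (nat_lit 1) (Steps.bwd (nat_lit 2) (Steps.bwd (nat_lit 5) (Steps.fwd (nat_lit 24576) (Steps.bwd (nat_lit 9) (Steps.bwd (nat_lit 4) Steps.nil))))))))))))))))))))))))) (nat_lit 40) (nat_lit 2),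
  Rule.mk (nat_lit 1) (nat_lit 53) (Steps.bwd (nat_lit 9) (Steps.fwd (nat_lit 4096) (Steps.bwd (nat_lit 8) Steps.nil))) (nat_lit 42) (nat_lit 2),
  Rule.mk (nat_lit 7) (nat_lit 53) (Steps.bwd (nat_lit 9) (Steps.fwd (nat_lit 28672) (Steps.bwd (nat_lit 8) Steps.nil))) (nat_lit 53) (nat_lit 3),
  Rule.mk (nat_lit 5) (nat_lit 53) (Steps.bwd (nat_lit 6) (Steps.bwd (nat_lit 5) (Steps.fwd (nat_lit 24576) Steps.nil))) (nat_lit 34) (nat_lit 2),
  Rule.mk (nat_lit 4) (nat_lit 53) (Steps.bwd (nat_lit 9) (Steps.fwd (nat_lit 16384) (Steps.bwd (nat_lit 8) Steps.nil))) (nat_lit 48) (nat_lit 2),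
  Rule.mk (nat_lit 1) (nat_lit 53) (Steps.bwd (nat_lit 8) (Steps.bwd (nat_lit 1) (Steps.bwd (nat_lit 9) Steps.nil))) (nat_lit 42) (nat_lit 0),
  Rule.mk (nat_lit 6) (nat_lit 53) (Steps.bwd (nat_lit 9) (Steps.bwd (nat_lit 7) (Steps.bwd (nat_lit 8) Steps.nil))) (nat_lit 52) (nat_lit 2),
  Rule.mk (nat_lit 3) (nat_lit 53) (Steps.bwd (nat_lit 1) (Steps.bwd (nat_lit 6) (Steps.bwd (nat_lit 6) Steps.nil))) (nat_lit 28) (nat_lit 3),
  Rule.mk (nat_lit 8) (nat_lit 53) (Steps.bwd (nat_lit 7) (Steps.bwd (nat_lit 9) (Steps.bwd (nat_lit 6) Steps.nil))) (nat_lit 53) (nat_lit 2),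
  Rule.mk (nat_lit 5) (nat_lit 81) (Steps.bwd (nat_lit 4) (Steps.bwd (nat_lit 5) (Steps.bwd (nat_lit 4) (Steps.bwd (nat_lit 5) (Steps.bwd (nat_lit 4) Steps.nil))))) (nat_lit 24) (nat_lit 0),
  Rule.mk (nat_lit 1) (nat_lit 53) (Steps.bwd (nat_lit 5) (Steps.fwd (nat_lit 4096) (Steps.bwd (nat_lit 5) Steps.nil))) (nat_lit 12) (nat_lit 1),
  Rule.mk (nat_lit 2) (nat_lit 151) (Steps.bwd (nat_lit 3) (Steps.bwd (nat_lit 1) (Steps.bwd (nat_lit 2) (Steps.bwd (nat_lit 6) (Steps.bwd (nat_lit 2) (Steps.fwd (nat_lit 4096) (Steps.fwd (nat_lit 12288) (Steps.fwd (nat_lit 8192) (Steps.bwd (nat_lit 5) (Steps.fwd (nat_lit 24576) Steps.nil)))))))))) (nat_lit 38) (nat_lit 2),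
  Rule.mk (nat_lit 8) (nat_lit 53) (Steps.bwd (nat_lit 2) (Steps.bwd (nat_lit 9) (Steps.bwd (nat_lit 2) Steps.nil))) (nat_lit 44) (nat_lit 1),
  Rule.mk (nat_lit 9) (nat_lit 53) (Steps.fwd (nat_lit 20480) (Steps.bwd (nat_lit 8) (Steps.fwd (nat_lit 20480) Steps.nil))) (nat_lit 50) (nat_lit 3),
  Rule.mk (nat_lit 7) (nat_lit 361) (Steps.bwd (nat_lit 4) (Steps.bwd (nat_lit 2) (Steps.bwd (nat_lit 3) (Steps.bwd (nat_lit 1) (Steps.bwd (nat_lit 2) (Steps.bwd (nat_lit 4) (Steps.bwd (nat_lit 6) (Steps.bwd (nat_lit 4) (Steps.bwd (nat_lit 2) (Steps.bwd (nat_lit 1) (Steps.bwd (nat_lit 3) (Steps.bwd (nat_lit 2) (Steps.bwd (nat_lit 3) (Steps.bwd (nat_lit 5) (Steps.bwd (nat_lit 4) (Steps.bwd (nat_lit 7) (Steps.bwd (nat_lit 4) (Steps.bwd (nat_lit 2) (Steps.bwd (nat_lit 3) (Steps.bwd (nat_lit 1) (Steps.bwd (nat_lit 2) (Steps.bwd (nat_lit 5) (Steps.fwd (nat_lit 24576) (Steps.fwd (nat_lit 32768) (Steps.bwd (nat_lit 4) Steps.nil)))))))))))))))))))))))))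 (nat_lit 40) (nat_lit 2),
  Rule.mk (nat_lit 7) (nat_lit 53) (Steps.fwd (nat_lit 20480) (Steps.fwd (nat_lit 28672) (Steps.bwd (nat_lit 5) Steps.nil))) (nat_lit 34) (nat_lit 1),
  Rule.mk (nat_lit 0) (nat_lit 165) (Steps.bwd (nat_lit 2) (Steps.bwd (nat_lit 3) (Steps.bwd (nat_lit 1) (Steps.bwd (nat_lit 2) (Steps.fwd (nat_lit 24576) (Steps.bwd (nat_lit 2) (Steps.fwd (nat_lit 4096) (Steps.fwd (nat_lit 12288) (Steps.fwd (nat_lit 8192) (Steps.bwd (nat_lit 6) (Steps.bwd (nat_lit 5) Steps.nil))))))))))) (nat_lit 39) (nat_lit 1),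
  Rule.mk (nat_lit 0) (nat_lit 151) (Steps.bwd (nat_lit 5) (Steps.bwd (nat_lit 4) (Steps.bwd (nat_lit 7) (Steps.bwd (nat_lit 4) (Steps.bwd (nat_lit 6) (Steps.fwd (nat_lit 20480) (Steps.bwd (nat_lit 4) (Steps.fwd (nat_lit 24576) (Steps.fwd (nat_lit 16384) (Steps.fwd (nat_lit 28672) Steps.nil)))))))))) (nat_lit 37) (nat_lit 3),
  Rule.mk (nat_lit 9) (nat_lit 53) (Steps.bwd (nat_lit 4) (Steps.bwd (nat_lit 8) (Steps.bwd (nat_lit 4) Steps.nil))) (nat_lit 48) (nat_lit 3),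
  Rule.mk (nat_lit 9) (nat_lit 53) (Steps.bwd (nat_lit 2) (Steps.bwd (nat_lit 8) (Steps.bwd (nat_lit 2) Steps.nil))) (nat_lit 44) (nat_lit 3),
  Rule.mk (nat_lit 2) (nat_lit 81) (Steps.fwd (nat_lit 12288) (Steps.bwd (nat_lit 2) (Steps.bwd (nat_lit 3) (Steps.bwd (nat_lit 2) (Steps.bwd (nat_lit 3) Steps.nil))))) (nat_lit 14) (nat_lit 1),
  Rule.mk (nat_lit 5) (nat_lit 445) (Steps.bwd (nat_lit 2) (Steps.bwd (nat_lit 3) (Steps.bwd (nat_lit 4) (Steps.bwd (nat_lit 5) (Steps.bwd (nat_lit 2) (Steps.bwd (nat_lit 3) (Steps.bwd (nat_lit 4) (Steps.bwd (nat_lit 5) (Steps.bwd (nat_lit 2) (Steps.bwd (nat_lit 3) (Steps.bwd (nat_lit 4) (Steps.bwd (nat_lit 5) (Steps.bwd (nat_lit 2) (Steps.bwd (nat_lit 3) (Steps.bwd (nat_lit 4) (Steps.bwd (nat_lit 5) (Steps.bwd (nat_lit 2) (Steps.bwd (nat_lit 3) (Steps.bwd (nat_lit 4) (Steps.bwd (nat_lit 5) (Steps.bwd (nat_lit 2) (Steps.bwd (nat_lit 3) (Steps.bwd (nat_lit 4) (Steps.bwd (nat_lit 5) (Steps.bwd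 (nat_lit 2) (Steps.fwd (nat_lit 12288) (Steps.bwd (nat_lit 4) (Steps.bwd (nat_lit 5) (Steps.fwd (nat_lit 8192) (Steps.fwd (nat_lit 12288) (Steps.fwd (nat_lit 16384) Steps.nil))))))))))))))))))))))))))))))) (nat_lit 26) (nat_lit 0),
  Rule.mk (nat_lit 0) (nat_lit 67) (Steps.fwd (nat_lit 8192) (Steps.fwd (nat_lit 20480) (Steps.fwd (nat_lit 8192) (Steps.bwd (nat_lit 5) Steps.nil)))) (nat_lit 18) (nat_lit 0),
  Rule.mk (nat_lit 1) (nat_lit 151) (Steps.fwd (nat_lit 8192) (Steps.bwd (nat_lit 7) (Steps.fwd (nat_lit 8192) (Steps.fwd (nat_lit 4096) (Steps.fwd (nat_lit 12288) (Steps.fwd (nat_lit 8192) (Steps.bwd (nat_lit 6) (Steps.bwd (nat_lit 5) (Steps.bwd (nat_lit 2) (Steps.fwd (nat_lit 12288) Steps.nil)))))))))) (nat_lit 39) (nat_lit 4),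
  Rule.mk (nat_lit 0) (nat_lit 95) (Steps.fwd (nat_lit 16384) (Steps.fwd (nat_lit 20480) (Steps.bwd (nat_lit 4) (Steps.fwd (nat_lit 20480) (Steps.bwd (nat_lit 4) (Steps.bwd (nat_lit 5) Steps.nil)))))) (nat_lit 24) (nat_lit 0),
  Rule.mk (nat_lit 4) (nat_lit 81) (Steps.fwd (nat_lit 20480) (Steps.bwd (nat_lit 4) (Steps.fwd (nat_lit 20480) (Steps.bwd (nat_lit 4) (Steps.bwd (nat_lit 5) Steps.nil))))) (nat_lit 24) (nat_lit 1),
  Rule.mk (nat_lit 4) (nat_lit 53) (Steps.bwd (nat_lit 2) (Steps.bwd (nat_lit 4) (Steps.fwd (nat_lit 8192) Steps.nil))) (nat_lit 16) (nat_lit 0),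
  Rule.mk (nat_lit 0) (nat_lit 95) (Steps.bwd (nat_lit 4) (Steps.bwd (nat_lit 5) (Steps.fwd (nat_lit 16384) (Steps.fwd (nat_lit 20480) (Steps.fwd (nat_lit 16384) (Steps.bwd (nat_lit 5) Steps.nil)))))) (nat_lit 24) (nat_lit 0),
  Rule.mk (nat_lit 4) (nat_lit 81) (Steps.bwd (nat_lit 5) (Steps.fwd (nat_lit 16384) (Steps.fwd (nat_lit 20480) (Steps.fwd (nat_lit 16384) (Steps.bwd (nat_lit 5) Steps.nil))))) (nat_lit 24) (nat_lit 1),
  Rule.mk (nat_lit 1) (nat_lit 81) (Steps.bwd (nat_lit 2) (Steps.fwd (nat_lit 4096) (Steps.fwd (nat_lit 8192) (Steps.bwd (nat_lit 1) (Steps.fwd (nat_lit 8192) Steps.nil))))) (nat_lit 10) (nat_lit 1),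
  Rule.mk (nat_lit 7) (nat_lit 151) (Steps.bwd (nat_lit 2) (Steps.fwd (nat_lit 4096) (Steps.bwd (nat_lit 3) (Steps.bwd (nat_lit 2) (Steps.bwd (nat_lit 6) (Steps.bwd (nat_lit 5) (Steps.bwd (nat_lit 2) (Steps.bwd (nat_lit 3) (Steps.fwd (nat_lit 4096) (Steps.bwd (nat_lit 2) Steps.nil)))))))))) (nat_lit 39) (nat_lit 6),
  Rule.mk (nat_lit 0) (nat_lit 151) (Steps.fwd (nat_lit 24576) (Steps.fwd (nat_lit 16384) (Steps.bwd (nat_lit 6) (Steps.bwd (nat_lit 4) (Steps.fwd (nat_lit 20480) (Steps.bwd (nat_lit 7) (Steps.fwd (nat_lit 16384) (Steps.fwd (nat_lit 28672) (Steps.fwd (nat_lit 16384) (Steps.fwd (nat_lit 20480) Steps.nil)))))))))) (nat_lit 36) (nat_lit 2),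
  Rule.mk (nat_lit 0) (nat_lit 53) (Steps.fwd (nat_lit 4096) (Steps.bwd (nat_lit 0) (Steps.fwd (nat_lit 4096) Steps.nil))) (nat_lit 54) (nat_lit 0),
  Rule.mk (nat_lit 0) (nat_lit 53) (Steps.fwd (nat_lit 28672) (Steps.fwd (nat_lit 0) (Steps.bwd (nat_lit 7) Steps.nil))) (nat_lit 54) (nat_lit 0),
  Rule.mk (nat_lit 0) (nat_lit 53) (Steps.fwd (nat_lit 16384) (Steps.bwd (nat_lit 0) (Steps.fwd (nat_lit 16384) Steps.nil))) (nat_lit 54) (nat_lit 0),
  Rule.mk (nat_lit 0) (nat_lit 53) (Steps.fwd (nat_lit 12288) (Steps.bwd (nat_lit 0) (Steps.fwd (nat_lit 12288) Steps.nil))) (nat_lit 54) (nat_lit 0),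
  Rule.mk (nat_lit 0) (nat_lit 53) (Steps.fwd (nat_lit 4096) (Steps.fwd (nat_lit 0) (Steps.bwd (nat_lit 1) Steps.nil))) (nat_lit 54) (nat_lit 0),
  Rule.mk (nat_lit 0) (nat_lit 53) (Steps.fwd (nat_lit 28672) (Steps.bwd (nat_lit 0) (Steps.fwd (nat_lit 24576) Steps.nil))) (nat_lit 54) (nat_lit 0),
  Rule.mk (nat_lit 0) (nat_lit 53) (Steps.bwd (nat_lit 4) (Steps.bwd (nat_lit 0) (Steps.bwd (nat_lit 4) Steps.nil))) (nat_lit 54) (nat_lit 0),
  Rule.mk (nat_lit 0) (nat_lit 53) (Steps.bwd (nat_lit 6) (Steps.fwd (nat_lit 0) (Steps.bwd (nat_lit 7) Steps.nil))) (nat_lit 54) (nat_lit 0),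
  Rule.mk (nat_lit 0) (nat_lit 53) (Steps.fwd (nat_lit 24576) (Steps.bwd (nat_lit 0) (Steps.fwd (nat_lit 28672) Steps.nil))) (nat_lit 54) (nat_lit 0),
  Rule.mk (nat_lit 0) (nat_lit 53) (Steps.bwd (nat_lit 7) (Steps.bwd (nat_lit 0) (Steps.fwd (nat_lit 28672) Steps.nil))) (nat_lit 54) (nat_lit 0),
  Rule.mk (nat_lit 0) (nat_lit 53) (Steps.bwd (nat_lit 7) (Steps.fwd (nat_lit 0) (Steps.fwd (nat_lit 28672) Steps.nil))) (nat_lit 54) (nat_lit 0),
  Rule.mk (nat_lit 0) (nat_lit 53) (Steps.bwd (nat_lit 2) (Steps.bwd (nat_lit 0) (Steps.fwd (nat_lit 8192) Steps.nil))) (nat_lit 54) (nat_lit 0),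
  Rule.mk (nat_lit 0) (nat_lit 53) (Steps.fwd (nat_lit 8192) (Steps.bwd (nat_lit 0) (Steps.bwd (nat_lit 2) Steps.nil))) (nat_lit 54) (nat_lit 0),
  Rule.mk (nat_lit 1) (nat_lit 123) (Steps.bwd (nat_lit 4) (Steps.bwd (nat_lit 3) (Steps.bwd (nat_lit 4) (Steps.fwd (nat_lit 12288) (Steps.fwd (nat_lit 16384) (Steps.fwd (nat_lit 12288) (Steps.fwd (nat_lit 16384) (Steps.fwd (nat_lit 12288) Steps.nil)))))))) (nat_lit 20) (nat_lit 1),
  Rule.mk (nat_lit 7) (nat_lit 137) (Steps.bwd (nat_lit 4) (Steps.bwd (nat_lit 6) (Steps.bwd (nat_lit 4) (Steps.bwd (nat_lit 5) (Steps.bwd (nat_lit 7) (Steps.bwd (nat_lit 4) (Steps.fwd (nat_lit 28672) (Steps.fwd (nat_lit 16384) (Steps.bwd (nat_lit 5) Steps.nil))))))))) (nat_lit 36) (nat_lit 3),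
  Rule.mk (nat_lit 0) (nat_lit 95) (Steps.fwd (nat_lit 16384) (Steps.bwd (nat_lit 5) (Steps.fwd (nat_lit 16384) (Steps.fwd (nat_lit 20480) (Steps.fwd (nat_lit 16384) (Steps.bwd (nat_lit 5) Steps.nil)))))) (nat_lit 24) (nat_lit 0),
  Rule.mk (nat_lit 7) (nat_lit 53) (Steps.bwd (nat_lit 7) (Steps.fwd (nat_lit 4096) (Steps.bwd (nat_lit 3) Steps.nil))) (nat_lit 29) (nat_lit 3),
  Rule.mk (nat_lit 3) (nat_lit 53) (Steps.bwd (nat_lit 7) (Steps.bwd (nat_lit 7) (Steps.fwd (nat_lit 4096) Steps.nil))) (nat_lit 29) (nat_lit 2),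
  Rule.mk (nat_lit 0) (nat_lit 67) (Steps.bwd (nat_lit 7) (Steps.fwd (nat_lit 20480) (Steps.fwd (nat_lit 28672) (Steps.fwd (nat_lit 20480) Steps.nil)))) (nat_lit 34) (nat_lit 0),
  Rule.mk (nat_lit 1) (nat_lit 53) (Steps.bwd (nat_lit 0) (Steps.fwd (nat_lit 4096) (Steps.fwd (nat_lit 0) Steps.nil))) (nat_lit 54) (nat_lit 0)]
noncomputable def R_7 : List (Rule) := [Rule.mk (nat_lit 0) (nat_lit 95) (Steps.bwd (nat_lit 5) (Steps.bwd (nat_lit 4) (Steps.fwd (nat_lit 20480) (Steps.fwd (nat_lit 16384) (Steps.bwd (nat_lit 5) (Steps.fwd (nat_lit 16384) Steps.nil)))))) (nat_lit 24) (nat_lit 1),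
  Rule.mk (nat_lit 3) (nat_lit 445) (Steps.bwd (nat_lit 4) (Steps.bwd (nat_lit 5) (Steps.bwd (nat_lit 2) (Steps.bwd (nat_lit 3) (Steps.bwd (nat_lit 4) (Steps.bwd (nat_lit 5) (Steps.bwd (nat_lit 2) (Steps.bwd (nat_lit 3) (Steps.bwd (nat_lit 4) (Steps.bwd (nat_lit 5) (Steps.bwd (nat_lit 2) (Steps.bwd (nat_lit 3) (Steps.bwd (nat_lit 4) (Steps.bwd (nat_lit 5) (Steps.bwd (nat_lit 2) (Steps.bwd (nat_lit 3) (Steps.bwd (nat_lit 4) (Steps.bwd (nat_lit 5) (Steps.bwd (nat_lit 2) (Steps.bwd (nat_lit 3) (Steps.fwd (nat_lit 16384) (Steps.fwd (nat_lit 20480) (Steps.bwd (nat_lit 2) (Steps.bwd (nat_lit 3) (Steps.bwd (nat_lit 4) (Steps.fwd (nat_lit 20480) (Steps.fwd (nat_lit 8192) (Steps.fwd (nat_lit 12288) (Steps.bwd (nat_lit 4) (Steps.bwd (nat_lit 5) (Steps.fwd (nat_lit 8192) Steps.nil))))))))))))))))))))))))))))))) (nat_lit 26) (nat_lit 2),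
  Rule.mk (nat_lit 1) (nat_lit 123) (Steps.fwd (nat_lit 16384) (Steps.fwd (nat_lit 12288) (Steps.bwd (nat_lit 4) (Steps.bwd (nat_lit 3) (Steps.fwd (nat_lit 16384) (Steps.fwd (nat_lit 12288) (Steps.fwd (nat_lit 16384) (Steps.bwd (nat_lit 3) Steps.nil)))))))) (nat_lit 20) (nat_lit 1),
  Rule.mk (nat_lit 0) (nat_lit 137) (Steps.fwd (nat_lit 12288) (Steps.bwd (nat_lit 4) (Steps.bwd (nat_lit 3) (Steps.fwd (nat_lit 16384) (Steps.fwd (nat_lit 12288) (Steps.fwd (nat_lit 16384) (Steps.fwd (nat_lit 4096) (Steps.bwd (nat_lit 3) (Steps.bwd (nat_lit 4) Steps.nil))))))))) (nat_lit 21) (nat_lit 2),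
  Rule.mk (nat_lit 8) (nat_lit 53) (Steps.bwd (nat_lit 0) (Steps.fwd (nat_lit 32768) (Steps.fwd (nat_lit 0) Steps.nil))) (nat_lit 54) (nat_lit 0),
  Rule.mk (nat_lit 5) (nat_lit 81) (Steps.bwd (nat_lit 4) (Steps.fwd (nat_lit 20480) (Steps.fwd (nat_lit 16384) (Steps.bwd (nat_lit 5) (Steps.fwd (nat_lit 16384) Steps.nil))))) (nat_lit 24) (nat_lit 0),
  Rule.mk (nat_lit 2) (nat_lit 81) (Steps.fwd (nat_lit 12288) (Steps.bwd (nat_lit 2) (Steps.bwd (nat_lit 3) (Steps.fwd (nat_lit 8192) (Steps.bwd (nat_lit 3) Steps.nil))))) (nat_lit 14) (nat_lit 1),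
  Rule.mk (nat_lit 0) (nat_lit 67) (Steps.fwd (nat_lit 16384) (Steps.fwd (nat_lit 8192) (Steps.bwd (nat_lit 4) (Steps.fwd (nat_lit 8192) Steps.nil)))) (nat_lit 16) (nat_lit 1),
  Rule.mk (nat_lit 0) (nat_lit 67) (Steps.fwd (nat_lit 8192) (Steps.bwd (nat_lit 5) (Steps.fwd (nat_lit 8192) (Steps.fwd (nat_lit 20480) Steps.nil)))) (nat_lit 18) (nat_lit 0),
  Rule.mk (nat_lit 4) (nat_lit 81) (Steps.bwd (nat_lit 5) (Steps.bwd (nat_lit 4) (Steps.bwd (nat_lit 5) (Steps.bwd (nat_lit 4) (Steps.bwd (nat_lit 5) Steps.nil))))) (nat_lit 24) (nat_lit 1),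
  Rule.mk (nat_lit 2) (nat_lit 81) (Steps.fwd (nat_lit 12288) (Steps.bwd (nat_lit 2) (Steps.bwd (nat_lit 3) (Steps.bwd (nat_lit 2) (Steps.fwd (nat_lit 12288) Steps.nil))))) (nat_lit 14) (nat_lit 1),
  Rule.mk (nat_lit 0) (nat_lit 67) (Steps.bwd (nat_lit 2) (Steps.fwd (nat_lit 16384) (Steps.fwd (nat_lit 8192) (Steps.bwd (nat_lit 4) Steps.nil)))) (nat_lit 16) (nat_lit 0),
  Rule.mk (nat_lit 1) (nat_lit 123) (Steps.fwd (nat_lit 16384) (Steps.fwd (nat_lit 12288) (Steps.fwd (nat_lit 16384) (Steps.bwd (nat_lit 3) (Steps.fwd (nat_lit 16384) (Steps.fwd (nat_lit 12288) (Steps.bwd (nat_lit 4) (Steps.bwd (nat_lit 3) Steps.nil)))))))) (nat_lit 20) (nat_lit 1),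
  Rule.mk (nat_lit 9) (nat_lit 53) (Steps.fwd (nat_lit 24576) (Steps.fwd (nat_lit 36864) (Steps.bwd (nat_lit 6) Steps.nil))) (nat_lit 52) (nat_lit 3),
  Rule.mk (nat_lit 6) (nat_lit 361) (Steps.bwd (nat_lit 4) (Steps.bwd (nat_lit 2) (Steps.bwd (nat_lit 1) (Steps.bwd (nat_lit 3) (Steps.bwd (nat_lit 2) (Steps.bwd (nat_lit 3) (Steps.bwd (nat_lit 5) (Steps.bwd (nat_lit 4) (Steps.bwd (nat_lit 7) (Steps.bwd (nat_lit 4) (Steps.bwd (nat_lit 2) (Steps.bwd (nat_lit 3) (Steps.bwd (nat_lit 1) (Steps.bwd (nat_lit 2) (Steps.bwd (nat_lit 5) (Steps.fwd (nat_lit 24576) (Steps.bwd (nat_lit 9) (Steps.bwd (nat_lit 4) (Steps.bwd (nat_lit 7) (Steps.fwd (nat_lit 16384) (Steps.bwd (nat_lit 2) (Steps.bwd (nat_lit 3) (Steps.bwd (nat_lit 1) (Steps.fwd (nat_lit 8192) (Steps.fwd (nat_lit 16384) Steps.nil))))))))))))))))))))))))) (nat_lit 40) (nat_lit 9),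
  Rule.mk (nat_lit 0) (nat_lit 67) (Steps.bwd (nat_lit 2) (Steps.bwd (nat_lit 5) (Steps.fwd (nat_lit 8192) (Steps.fwd (nat_lit 20480) Steps.nil)))) (nat_lit 18) (nat_lit 0),
  Rule.mk (nat_lit 0) (nat_lit 67) (Steps.bwd (nat_lit 1) (Steps.bwd (nat_lit 5) (Steps.fwd (nat_lit 4096) (Steps.fwd (nat_lit 20480) Steps.nil)))) (nat_lit 12) (nat_lit 0),
  Rule.mk (nat_lit 0) (nat_lit 67) (Steps.bwd (nat_lit 3) (Steps.bwd (nat_lit 5) (Steps.bwd (nat_lit 3) (Steps.fwd (nat_lit 20480) Steps.nil)))) (nat_lit 22) (nat_lit 0),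
  Rule.mk (nat_lit 6) (nat_lit 53) (Steps.fwd (nat_lit 28672) (Steps.fwd (nat_lit 12288) (Steps.fwd (nat_lit 4096) Steps.nil))) (nat_lit 28) (nat_lit 1),
  Rule.mk (nat_lit 3) (nat_lit 81) (Steps.bwd (nat_lit 2) (Steps.fwd (nat_lit 12288) (Steps.fwd (nat_lit 8192) (Steps.bwd (nat_lit 3) (Steps.fwd (nat_lit 8192) Steps.nil))))) (nat_lit 14) (nat_lit 0),
  Rule.mk (nat_lit 4) (nat_lit 123) (Steps.bwd (nat_lit 3) (Steps.bwd (nat_lit 4) (Steps.bwd (nat_lit 3) (Steps.fwd (nat_lit 16384) (Steps.fwd (nat_lit 12288) (Steps.fwd (nat_lit 16384) (Steps.fwd (nat_lit 12288) (Steps.fwd (nat_lit 4096) Steps.nil)))))))) (nat_lit 20) (nat_lit 2),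
  Rule.mk (nat_lit 6) (nat_lit 151) (Steps.bwd (nat_lit 2) (Steps.fwd (nat_lit 4096) (Steps.fwd (nat_lit 12288) (Steps.fwd (nat_lit 8192) (Steps.bwd (nat_lit 5) (Steps.fwd (nat_lit 24576) (Steps.fwd (nat_lit 8192) (Steps.bwd (nat_lit 3) (Steps.bwd (nat_lit 1) (Steps.fwd (nat_lit 8192) Steps.nil)))))))))) (nat_lit 38) (nat_lit 6),
  Rule.mk (nat_lit 5) (nat_lit 151) (Steps.bwd (nat_lit 2) (Steps.fwd (nat_lit 12288) (Steps.fwd (nat_lit 4096) (Steps.fwd (nat_lit 8192) (Steps.bwd (nat_lit 7) (Steps.bwd (nat_lit 2) (Steps.bwd (nat_lit 1) (Steps.bwd (nat_lit 3) (Steps.bwd (nat_lit 2) (Steps.fwd (nat_lit 28672) Steps.nil)))))))))) (nat_lit 39) (nat_lit 1),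
  Rule.mk (nat_lit 0) (nat_lit 95) (Steps.bwd (nat_lit 4) (Steps.fwd (nat_lit 20480) (Steps.bwd (nat_lit 4) (Steps.fwd (nat_lit 20480) (Steps.bwd (nat_lit 4) (Steps.bwd (nat_lit 5) Steps.nil)))))) (nat_lit 24) (nat_lit 0),
  Rule.mk (nat_lit 7) (nat_lit 53) (Steps.bwd (nat_lit 7) (Steps.bwd (nat_lit 1) (Steps.fwd (nat_lit 12288) Steps.nil))) (nat_lit 29) (nat_lit 3),
  Rule.mk (nat_lit 3) (nat_lit 445) (Steps.bwd (nat_lit 4) (Steps.bwd (nat_lit 5) (Steps.bwd (nat_lit 2) (Steps.bwd (nat_lit 3) (Steps.bwd (nat_lit 4) (Steps.bwd (nat_lit 5) (Steps.bwd (nat_lit 2) (Steps.bwd (nat_lit 3) (Steps.bwd (nat_lit 4) (Steps.bwd (nat_lit 5) (Steps.bwd (nat_lit 2) (Steps.bwd (nat_lit 3) (Steps.bwd (nat_lit 4) (Steps.fwd (nat_lit 20480) (Steps.fwd (nat_lit 8192) (Steps.bwd (nat_lit 3) (Steps.bwd (nat_lit 4) (Steps.fwd (nat_lit 20480) (Steps.fwd (nat_lit 8192) (Steps.fwd (nat_lit 12288) (Steps.fwd (nat_lit 16384) (Steps.fwd (nat_lit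 20480) (Steps.fwd (nat_lit 8192) (Steps.bwd (nat_lit 3) (Steps.bwd (nat_lit 4) (Steps.bwd (nat_lit 5) (Steps.bwd (nat_lit 2) (Steps.fwd (nat_lit 12288) (Steps.fwd (nat_lit 16384) (Steps.fwd (nat_lit 20480) (Steps.fwd (nat_lit 8192) Steps.nil))))))))))))))))))))))))))))))) (nat_lit 26) (nat_lit 2),
  Rule.mk (nat_lit 3) (nat_lit 123) (Steps.fwd (nat_lit 16384) (Steps.fwd (nat_lit 12288) (Steps.fwd (nat_lit 4096) (Steps.fwd (nat_lit 16384) (Steps.fwd (nat_lit 12288) (Steps.bwd (nat_lit 4) (Steps.bwd (nat_lit 3) (Steps.bwd (nat_lit 4) Steps.nil)))))))) (nat_lit 20) (nat_lit 7),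
  Rule.mk (nat_lit 1) (nat_lit 123) (Steps.bwd (nat_lit 3) (Steps.bwd (nat_lit 4) (Steps.bwd (nat_lit 3) (Steps.fwd (nat_lit 16384) (Steps.fwd (nat_lit 12288) (Steps.fwd (nat_lit 16384) (Steps.bwd (nat_lit 3) (Steps.bwd (nat_lit 4) Steps.nil)))))))) (nat_lit 21) (nat_lit 0),
  Rule.mk (nat_lit 0) (nat_lit 67) (Steps.fwd (nat_lit 12288) (Steps.fwd (nat_lit 20480) (Steps.fwd (nat_lit 12288) (Steps.bwd (nat_lit 5) Steps.nil)))) (nat_lit 22) (nat_lit 0),
  Rule.mk (nat_lit 0) (nat_lit 95) (Steps.fwd (nat_lit 12288) (Steps.fwd (nat_lit 8192) (Steps.fwd (nat_lit 12288) (Steps.bwd (nat_lit 2) (Steps.bwd (nat_lit 3) (Steps.bwd (nat_lit 2) Steps.nil)))))) (nat_lit 14) (nat_lit 1),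
  Rule.mk (nat_lit 1) (nat_lit 123) (Steps.fwd (nat_lit 12288) (Steps.bwd (nat_lit 4) (Steps.fwd (nat_lit 12288) (Steps.fwd (nat_lit 16384) (Steps.bwd (nat_lit 3) (Steps.bwd (nat_lit 4) (Steps.bwd (nat_lit 3) (Steps.fwd (nat_lit 16384) Steps.nil)))))))) (nat_lit 21) (nat_lit 0),
  Rule.mk (nat_lit 1) (nat_lit 123) (Steps.bwd (nat_lit 3) (Steps.bwd (nat_lit 4) (Steps.bwd (nat_lit 3) (Steps.bwd (nat_lit 4) (Steps.bwd (nat_lit 3) (Steps.bwd (nat_lit 4) (Steps.fwd (nat_lit 12288) (Steps.fwd (nat_lit 16384) Steps.nil)))))))) (nat_lit 21) (nat_lit 0),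
  Rule.mk (nat_lit 7) (nat_lit 151) (Steps.bwd (nat_lit 2) (Steps.bwd (nat_lit 1) (Steps.bwd (nat_lit 3) (Steps.bwd (nat_lit 2) (Steps.bwd (nat_lit 6) (Steps.bwd (nat_lit 5) (Steps.fwd (nat_lit 8192) (Steps.bwd (nat_lit 3) (Steps.bwd (nat_lit 1) (Steps.fwd (nat_lit 8192) Steps.nil)))))))))) (nat_lit 39) (nat_lit 6),
  Rule.mk (nat_lit 3) (nat_lit 53) (Steps.bwd (nat_lit 7) (Steps.fwd (nat_lit 24576) (Steps.fwd (nat_lit 4096) Steps.nil))) (nat_lit 29) (nat_lit 2),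
  Rule.mk (nat_lit 1) (nat_lit 151) (Steps.bwd (nat_lit 2) (Steps.bwd (nat_lit 7) (Steps.bwd (nat_lit 2) (Steps.fwd (nat_lit 4096) (Steps.bwd (nat_lit 3) (Steps.fwd (nat_lit 8192) (Steps.bwd (nat_lit 6) (Steps.bwd (nat_lit 5) (Steps.bwd (nat_lit 2) (Steps.bwd (nat_lit 3) Steps.nil)))))))))) (nat_lit 39) (nat_lit 4),
  Rule.mk (nat_lit 3) (nat_lit 123) (Steps.bwd (nat_lit 4) (Steps.fwd (nat_lit 12288) (Steps.bwd (nat_lit 4) (Steps.fwd (nat_lit 12288) (Steps.bwd (nat_lit 1) (Steps.fwd (nat_lit 16384) (Steps.fwd (nat_lit 12288) (Steps.fwd (nat_lit 16384) Steps.nil)))))))) (nat_lit 20) (nat_lit 5),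
  Rule.mk (nat_lit 1) (nat_lit 123) (Steps.fwd (nat_lit 16384) (Steps.bwd (nat_lit 3) (Steps.bwd (nat_lit 4) (Steps.fwd (nat_lit 12288) (Steps.bwd (nat_lit 4) (Steps.fwd (nat_lit 12288) (Steps.fwd (nat_lit 16384) (Steps.bwd (nat_lit 3) Steps.nil)))))))) (nat_lit 20) (nat_lit 1),
  Rule.mk (nat_lit 1) (nat_lit 123) (Steps.bwd (nat_lit 4) (Steps.fwd (nat_lit 12288) (Steps.bwd (nat_lit 4) (Steps.fwd (nat_lit 12288) (Steps.fwd (nat_lit 16384) (Steps.bwd (nat_lit 3) (Steps.fwd (nat_lit 16384) (Steps.fwd (nat_lit 12288) Steps.nil)))))))) (nat_lit 20) (nat_lit 1),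
  Rule.mk (nat_lit 3) (nat_lit 123) (Steps.bwd (nat_lit 4) (Steps.bwd (nat_lit 3) (Steps.fwd (nat_lit 4096) (Steps.fwd (nat_lit 16384) (Steps.fwd (nat_lit 12288) (Steps.bwd (nat_lit 4) (Steps.fwd (nat_lit 12288) (Steps.fwd (nat_lit 16384) Steps.nil)))))))) (nat_lit 20) (nat_lit 7),
  Rule.mk (nat_lit 1) (nat_lit 123) (Steps.bwd (nat_lit 4) (Steps.bwd (nat_lit 3) (Steps.fwd (nat_lit 16384) (Steps.fwd (nat_lit 12288) (Steps.bwd (nat_lit 4) (Steps.fwd (nat_lit 12288) (Steps.fwd (nat_lit 16384) (Steps.fwd (nat_lit 12288) Steps.nil)))))))) (nat_lit 20) (nat_lit 1),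
  Rule.mk (nat_lit 6) (nat_lit 137) (Steps.bwd (nat_lit 4) (Steps.fwd (nat_lit 20480) (Steps.bwd (nat_lit 7) (Steps.bwd (nat_lit 4) (Steps.fwd (nat_lit 28672) (Steps.fwd (nat_lit 16384) (Steps.bwd (nat_lit 5) (Steps.fwd (nat_lit 24576) (Steps.fwd (nat_lit 16384) Steps.nil))))))))) (nat_lit 36) (nat_lit 0),
  Rule.mk (nat_lit 7) (nat_lit 137) (Steps.bwd (nat_lit 4) (Steps.bwd (nat_lit 6) (Steps.fwd (nat_lit 20480) (Steps.fwd (nat_lit 16384) (Steps.fwd (nat_lit 24576) (Steps.fwd (nat_lit 16384) (Steps.bwd (nat_lit 6) (Steps.bwd (nat_lit 5) (Steps.fwd (nat_lit 16384) Steps.nil))))))))) (nat_lit 37) (nat_lit 1),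
  Rule.mk (nat_lit 1) (nat_lit 151) (Steps.bwd (nat_lit 2) (Steps.bwd (nat_lit 6) (Steps.fwd (nat_lit 8192) (Steps.fwd (nat_lit 4096) (Steps.fwd (nat_lit 12288) (Steps.bwd (nat_lit 2) (Steps.bwd (nat_lit 5) (Steps.fwd (nat_lit 24576) (Steps.fwd (nat_lit 8192) (Steps.bwd (nat_lit 3) Steps.nil)))))))))) (nat_lit 38) (nat_lit 4),
  Rule.mk (nat_lit 8) (nat_lit 53) (Steps.fwd (nat_lit 4096) (Steps.fwd (nat_lit 32768) (Steps.bwd (nat_lit 1) Steps.nil))) (nat_lit 42) (nat_lit 1),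
  Rule.mk (nat_lit 1) (nat_lit 81) (Steps.bwd (nat_lit 2) (Steps.fwd (nat_lit 4096) (Steps.bwd (nat_lit 2) (Steps.bwd (nat_lit 1) (Steps.bwd (nat_lit 2) Steps.nil))))) (nat_lit 10) (nat_lit 1),
  Rule.mk (nat_lit 7) (nat_lit 151) (Steps.bwd (nat_lit 2) (Steps.fwd (nat_lit 4096) (Steps.fwd (nat_lit 12288) (Steps.fwd (nat_lit 8192) (Steps.bwd (nat_lit 6) (Steps.bwd (nat_lit 5) (Steps.fwd (nat_lit 8192) (Steps.bwd (nat_lit 3) (Steps.bwd (nat_lit 1) (Steps.bwd (nat_lit 2) Steps.nil)))))))))) (nat_lit 39) (nat_lit 6),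
  Rule.mk (nat_lit 9) (nat_lit 53) (Steps.bwd (nat_lit 7) (Steps.fwd (nat_lit 36864) (Steps.fwd (nat_lit 28672) Steps.nil))) (nat_lit 52) (nat_lit 3),
  Rule.mk (nat_lit 4) (nat_lit 123) (Steps.fwd (nat_lit 12288) (Steps.bwd (nat_lit 1) (Steps.fwd (nat_lit 16384) (Steps.fwd (nat_lit 12288) (Steps.fwd (nat_lit 16384) (Steps.fwd (nat_lit 12288) (Steps.fwd (nat_lit 16384) (Steps.fwd (nat_lit 12288) Steps.nil)))))))) (nat_lit 20) (nat_lit 8),
  Rule.mk (nat_lit 6) (nat_lit 361) (Steps.bwd (nat_lit 4) (Steps.bwd (nat_lit 2) (Steps.bwd (nat_lit 1) (Steps.bwd (nat_lit 3) (Steps.bwd (nat_lit 2) (Steps.bwd (nat_lit 3) (Steps.bwd (nat_lit 5) (Steps.bwd (nat_lit 4) (Steps.bwd (nat_lit 7) (Steps.bwd (nat_lit 4) (Steps.fwd (nat_lit 8192) (Steps.fwd (nat_lit 12288) (Steps.fwd (nat_lit 4096) (Steps.fwd (nat_lit 8192) (Steps.fwd (nat_lit 20480) (Steps.fwd (nat_lit 24576) (Steps.bwd (nat_lit 9) (Steps.fwd (nat_lit 16384) (Steps.fwd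 (nat_lit 24576) (Steps.bwd (nat_lit 4) (Steps.fwd (nat_lit 8192) (Steps.bwd (nat_lit 3) (Steps.bwd (nat_lit 1) (Steps.fwd (nat_lit 8192) (Steps.fwd (nat_lit 16384) Steps.nil))))))))))))))))))))))))) (nat_lit 40) (nat_lit 9),
  Rule.mk (nat_lit 3) (nat_lit 445) (Steps.bwd (nat_lit 4) (Steps.bwd (nat_lit 5) (Steps.bwd (nat_lit 2) (Steps.bwd (nat_lit 3) (Steps.bwd (nat_lit 4) (Steps.bwd (nat_lit 5) (Steps.bwd (nat_lit 2) (Steps.bwd (nat_lit 3) (Steps.bwd (nat_lit 4) (Steps.bwd (nat_lit 5) (Steps.bwd (nat_lit 2) (Steps.fwd (nat_lit 12288) (Steps.fwd (nat_lit 16384) (Steps.bwd (nat_lit 5) (Steps.bwd (nat_lit 2) (Steps.fwd (nat_lit 12288) (Steps.bwd (nat_lit 4) (Steps.fwd (nat_lit 20480) (Steps.fwd (nat_lit 8192) (Steps.fwd (nat_lit 12288) (Steps.fwd (nat_lit 16384) (Steps.bwd (nat_lit 5) (Steps.fwd (nat_lit 8192) (Steps.fwd (nat_lit 12288) (Steps.fwd (nat_lit 16384) (Steps.fwd (nat_lit 20480) (Steps.bwd (nat_lit 2) (Steps.fwd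 (nat_lit 12288) (Steps.fwd (nat_lit 16384) (Steps.bwd (nat_lit 5) (Steps.fwd (nat_lit 8192) Steps.nil))))))))))))))))))))))))))))))) (nat_lit 26) (nat_lit 2),
  Rule.mk (nat_lit 1) (nat_lit 123) (Steps.bwd (nat_lit 4) (Steps.fwd (nat_lit 12288) (Steps.fwd (nat_lit 16384) (Steps.fwd (nat_lit 12288) (Steps.fwd (nat_lit 16384) (Steps.fwd (nat_lit 12288) (Steps.fwd (nat_lit 16384) (Steps.bwd (nat_lit 3) Steps.nil)))))))) (nat_lit 20) (nat_lit 1),
  Rule.mk (nat_lit 3) (nat_lit 123) (Steps.fwd (nat_lit 16384) (Steps.fwd (nat_lit 12288) (Steps.fwd (nat_lit 4096) (Steps.fwd (nat_lit 16384) (Steps.fwd (nat_lit 12288) (Steps.fwd (nat_lit 16384) (Steps.bwd (nat_lit 3) (Steps.bwd (nat_lit 4) Steps.nil)))))))) (nat_lit 20) (nat_lit 7),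
  Rule.mk (nat_lit 1) (nat_lit 123) (Steps.fwd (nat_lit 12288) (Steps.fwd (nat_lit 16384) (Steps.fwd (nat_lit 12288) (Steps.fwd (nat_lit 16384) (Steps.fwd (nat_lit 12288) (Steps.fwd (nat_lit 16384) (Steps.bwd (nat_lit 3) (Steps.bwd (nat_lit 4) Steps.nil)))))))) (nat_lit 21) (nat_lit 0),
  Rule.mk (nat_lit 1) (nat_lit 53) (Steps.fwd (nat_lit 20480) (Steps.bwd (nat_lit 1) (Steps.fwd (nat_lit 20480) Steps.nil))) (nat_lit 12) (nat_lit 1),
  Rule.mk (nat_lit 6) (nat_lit 53) (Steps.fwd (nat_lit 12288) (Steps.bwd (nat_lit 1) (Steps.fwd (nat_lit 28672) Steps.nil))) (nat_lit 28) (nat_lit 2),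
  Rule.mk (nat_lit 7) (nat_lit 53) (Steps.bwd (nat_lit 1) (Steps.fwd (nat_lit 12288) (Steps.fwd (nat_lit 24576) Steps.nil))) (nat_lit 29) (nat_lit 0),
  Rule.mk (nat_lit 6) (nat_lit 53) (Steps.bwd (nat_lit 5) (Steps.bwd (nat_lit 7) (Steps.bwd (nat_lit 5) Steps.nil))) (nat_lit 34) (nat_lit 3),
  Rule.mk (nat_lit 1) (nat_lit 151) (Steps.fwd (nat_lit 8192) (Steps.bwd (nat_lit 6) (Steps.fwd (nat_lit 8192) (Steps.bwd (nat_lit 1) (Steps.fwd (nat_lit 12288) (Steps.fwd (nat_lit 8192) (Steps.bwd (nat_lit 5) (Steps.bwd (nat_lit 7) (Steps.bwd (nat_lit 2) (Steps.bwd (nat_lit 3) Steps.nil)))))))))) (nat_lit 38) (nat_lit 4),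
  Rule.mk (nat_lit 1) (nat_lit 151) (Steps.fwd (nat_lit 12288) (Steps.fwd (nat_lit 8192) (Steps.bwd (nat_lit 6) (Steps.bwd (nat_lit 5) (Steps.bwd (nat_lit 2) (Steps.bwd (nat_lit 3) (Steps.fwd (nat_lit 4096) (Steps.bwd (nat_lit 2) (Steps.bwd (nat_lit 7) (Steps.bwd (nat_lit 2) Steps.nil)))))))))) (nat_lit 39) (nat_lit 8),
  Rule.mk (nat_lit 0) (nat_lit 137) (Steps.fwd (nat_lit 16384) (Steps.fwd (nat_lit 4096) (Steps.bwd (nat_lit 3) (Steps.bwd (nat_lit 4) (Steps.fwd (nat_lit 12288) (Steps.fwd (nat_lit 16384) (Steps.fwd (nat_lit 12288) (Steps.fwd (nat_lit 16384) (Steps.fwd (nat_lit 12288) Steps.nil))))))))) (nat_lit 21) (nat_lit 7),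
  Rule.mk (nat_lit 4) (nat_lit 123) (Steps.bwd (nat_lit 3) (Steps.bwd (nat_lit 4) (Steps.bwd (nat_lit 3) (Steps.bwd (nat_lit 4) (Steps.bwd (nat_lit 3) (Steps.bwd (nat_lit 4) (Steps.fwd (nat_lit 12288) (Steps.bwd (nat_lit 1) Steps.nil)))))))) (nat_lit 20) (nat_lit 2),
  Rule.mk (nat_lit 1) (nat_lit 123) (Steps.fwd (nat_lit 12288) (Steps.fwd (nat_lit 16384) (Steps.fwd (nat_lit 12288) (Steps.fwd (nat_lit 16384) (Steps.fwd (nat_lit 12288) (Steps.bwd (nat_lit 4) (Steps.bwd (nat_lit 3) (Steps.bwd (nat_lit 4) Steps.nil)))))))) (nat_lit 21) (nat_lit 0),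
  Rule.mk (nat_lit 7) (nat_lit 53) (Steps.fwd (nat_lit 24576) (Steps.bwd (nat_lit 1) (Steps.bwd (nat_lit 3) Steps.nil))) (nat_lit 29) (nat_lit 3),
  Rule.mk (nat_lit 3) (nat_lit 361) (Steps.bwd (nat_lit 1) (Steps.bwd (nat_lit 2) (Steps.bwd (nat_lit 4) (Steps.bwd (nat_lit 6) (Steps.fwd (nat_lit 16384) (Steps.fwd (nat_lit 8192) (Steps.fwd (nat_lit 4096) (Steps.fwd (nat_lit 12288) (Steps.fwd (nat_lit 8192) (Steps.fwd (nat_lit 12288) (Steps.fwd (nat_lit 20480) (Steps.fwd (nat_lit 16384) (Steps.bwd (nat_lit 7) (Steps.fwd (nat_lit 16384) (Steps.fwd (nat_lit 8192) (Steps.fwd (nat_lit 12288) (Steps.fwd (nat_lit 4096) (Steps.fwd (nat_lit 8192) (Steps.bwd (nat_lit 5) (Steps.fwd (nat_lit 24576) (Steps.bwd (nat_lit 9) (Steps.bwd (nat_lit 4) (Steps.fwd (nat_lit 24576) (Steps.fwd (nat_lit 16384) (Steps.fwd (nat_lit 8192) Steps.nil))))))))))))))))))))))))) (nat_lit 40) (nat_lit 5)]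
noncomputable def R_8 : List (Rule) := [Rule.mk (nat_lit 3) (nat_lit 53) (Steps.bwd (nat_lit 7) (Steps.bwd (nat_lit 7) (Steps.bwd (nat_lit 1) Steps.nil))) (nat_lit 29) (nat_lit 2),
  Rule.mk (nat_lit 6) (nat_lit 137) (Steps.bwd (nat_lit 4) (Steps.bwd (nat_lit 5) (Steps.bwd (nat_lit 7) (Steps.bwd (nat_lit 4) (Steps.fwd (nat_lit 28672) (Steps.fwd (nat_lit 16384) (Steps.bwd (nat_lit 5) (Steps.fwd (nat_lit 24576) (Steps.fwd (nat_lit 16384) Steps.nil))))))))) (nat_lit 36) (nat_lit 0),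
  Rule.mk (nat_lit 3) (nat_lit 361) (Steps.bwd (nat_lit 1) (Steps.bwd (nat_lit 2) (Steps.bwd (nat_lit 4) (Steps.bwd (nat_lit 6) (Steps.bwd (nat_lit 4) (Steps.bwd (nat_lit 2) (Steps.bwd (nat_lit 1) (Steps.bwd (nat_lit 3) (Steps.bwd (nat_lit 2) (Steps.bwd (nat_lit 3) (Steps.bwd (nat_lit 5) (Steps.bwd (nat_lit 4) (Steps.bwd (nat_lit 7) (Steps.bwd (nat_lit 4) (Steps.bwd (nat_lit 2) (Steps.bwd (nat_lit 3) (Steps.bwd (nat_lit 1) (Steps.bwd (nat_lit 2) (Steps.fwd (nat_lit 20480) (Steps.bwd (nat_lit 7) (Steps.bwd (nat_lit 9) (Steps.fwd (nat_lit 16384) (Steps.bwd (nat_lit 7) (Steps.fwd (nat_lit 16384) (Steps.bwd (nat_lit 2) Steps.nil))))))))))))))))))))))))) (nat_lit 40) (nat_lit 5),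
  Rule.mk (nat_lit 0) (nat_lit 137) (Steps.fwd (nat_lit 4096) (Steps.fwd (nat_lit 12288) (Steps.fwd (nat_lit 16384) (Steps.fwd (nat_lit 12288) (Steps.bwd (nat_lit 4) (Steps.bwd (nat_lit 3) (Steps.bwd (nat_lit 4) (Steps.fwd (nat_lit 12288) (Steps.bwd (nat_lit 4) Steps.nil))))))))) (nat_lit 21) (nat_lit 8),
  Rule.mk (nat_lit 0) (nat_lit 165) (Steps.bwd (nat_lit 2) (Steps.bwd (nat_lit 3) (Steps.bwd (nat_lit 1) (Steps.bwd (nat_lit 2) (Steps.bwd (nat_lit 6) (Steps.bwd (nat_lit 2) (Steps.fwd (nat_lit 4096) (Steps.fwd (nat_lit 12288) (Steps.fwd (nat_lit 8192) (Steps.bwd (nat_lit 5) (Steps.bwd (nat_lit 7) Steps.nil))))))))))) (nat_lit 38) (nat_lit 1),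
  Rule.mk (nat_lit 0) (nat_lit 53) (Steps.bwd (nat_lit 7) (Steps.fwd (nat_lit 0) (Steps.bwd (nat_lit 6) Steps.nil))) (nat_lit 54) (nat_lit 0),
  Rule.mk (nat_lit 5) (nat_lit 53) (Steps.bwd (nat_lit 2) (Steps.bwd (nat_lit 5) (Steps.fwd (nat_lit 8192) Steps.nil))) (nat_lit 18) (nat_lit 0),
  Rule.mk (nat_lit 0) (nat_lit 95) (Steps.bwd (nat_lit 5) (Steps.bwd (nat_lit 4) (Steps.bwd (nat_lit 5) (Steps.bwd (nat_lit 4) (Steps.fwd (nat_lit 20480) (Steps.fwd (nat_lit 16384) Steps.nil)))))) (nat_lit 24) (nat_lit 1),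
  Rule.mk (nat_lit 4) (nat_lit 445) (Steps.bwd (nat_lit 5) (Steps.bwd (nat_lit 2) (Steps.bwd (nat_lit 3) (Steps.bwd (nat_lit 4) (Steps.bwd (nat_lit 5) (Steps.bwd (nat_lit 2) (Steps.bwd (nat_lit 3) (Steps.bwd (nat_lit 4) (Steps.bwd (nat_lit 5) (Steps.bwd (nat_lit 2) (Steps.bwd (nat_lit 3) (Steps.bwd (nat_lit 4) (Steps.bwd (nat_lit 5) (Steps.fwd (nat_lit 8192) (Steps.fwd (nat_lit 12288) (Steps.bwd (nat_lit 4) (Steps.fwd (nat_lit 20480) (Steps.bwd (nat_lit 2) (Steps.fwd (nat_lit 12288) (Steps.fwd (nat_lit 16384) (Steps.bwd (nat_lit 5) (Steps.bwd (nat_lit 2) (Steps.fwd (nat_lit 12288) (Steps.bwd (nat_lit 4) (Steps.fwd (nat_lit 20480) (Steps.fwd (nat_lit 8192) (Steps.fwd (nat_lit 12288) (Steps.bwd (nat_lit 4) (Steps.fwd (nat_lit 20480) (Steps.fwd (nat_lit 8192) (Steps.bwd (nat_lit 3) Steps.nil))))))))))))))))))))))))))))))) (nat_lit 26) (nat_lit 3),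
  Rule.mk (nat_lit 0) (nat_lit 95) (Steps.fwd (nat_lit 16384) (Steps.fwd (nat_lit 20480) (Steps.fwd (nat_lit 16384) (Steps.bwd (nat_lit 5) (Steps.bwd (nat_lit 4) (Steps.bwd (nat_lit 5) Steps.nil)))))) (nat_lit 24) (nat_lit 0),
  Rule.mk (nat_lit 0) (nat_lit 67) (Steps.bwd (nat_lit 5) (Steps.fwd (nat_lit 8192) (Steps.fwd (nat_lit 20480) (Steps.bwd (nat_lit 2) Steps.nil)))) (nat_lit 18) (nat_lit 1),
  Rule.mk (nat_lit 5) (nat_lit 53) (Steps.fwd (nat_lit 12288) (Steps.fwd (nat_lit 20480) (Steps.fwd (nat_lit 12288) Steps.nil))) (nat_lit 22) (nat_lit 0),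
  Rule.mk (nat_lit 4) (nat_lit 81) (Steps.fwd (nat_lit 20480) (Steps.bwd (nat_lit 4) (Steps.fwd (nat_lit 20480) (Steps.fwd (nat_lit 16384) (Steps.bwd (nat_lit 5) Steps.nil))))) (nat_lit 24) (nat_lit 1),
  Rule.mk (nat_lit 0) (nat_lit 137) (Steps.fwd (nat_lit 16384) (Steps.fwd (nat_lit 12288) (Steps.fwd (nat_lit 16384) (Steps.fwd (nat_lit 4096) (Steps.fwd (nat_lit 12288) (Steps.fwd (nat_lit 16384) (Steps.bwd (nat_lit 3) (Steps.fwd (nat_lit 16384) (Steps.fwd (nat_lit 12288) Steps.nil))))))))) (nat_lit 21) (nat_lit 5),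
  Rule.mk (nat_lit 1) (nat_lit 123) (Steps.bwd (nat_lit 3) (Steps.fwd (nat_lit 16384) (Steps.fwd (nat_lit 12288) (Steps.fwd (nat_lit 16384) (Steps.fwd (nat_lit 12288) (Steps.fwd (nat_lit 16384) (Steps.bwd (nat_lit 3) (Steps.bwd (nat_lit 4) Steps.nil)))))))) (nat_lit 21) (nat_lit 0),
  Rule.mk (nat_lit 1) (nat_lit 123) (Steps.fwd (nat_lit 12288) (Steps.fwd (nat_lit 16384) (Steps.bwd (nat_lit 3) (Steps.bwd (nat_lit 4) (Steps.bwd (nat_lit 3) (Steps.bwd (nat_lit 4) (Steps.fwd (nat_lit 12288) (Steps.bwd (nat_lit 4) Steps.nil)))))))) (nat_lit 21) (nat_lit 0),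
  Rule.mk (nat_lit 2) (nat_lit 81) (Steps.bwd (nat_lit 1) (Steps.bwd (nat_lit 2) (Steps.bwd (nat_lit 1) (Steps.bwd (nat_lit 2) (Steps.bwd (nat_lit 1) Steps.nil))))) (nat_lit 10) (nat_lit 0),
  Rule.mk (nat_lit 0) (nat_lit 67) (Steps.bwd (nat_lit 2) (Steps.fwd (nat_lit 16384) (Steps.bwd (nat_lit 2) (Steps.fwd (nat_lit 16384) Steps.nil)))) (nat_lit 16) (nat_lit 0),
  Rule.mk (nat_lit 7) (nat_lit 361) (Steps.bwd (nat_lit 9) (Steps.bwd (nat_lit 4) (Steps.bwd (nat_lit 7) (Steps.bwd (nat_lit 4) (Steps.bwd (nat_lit 2) (Steps.bwd (nat_lit 3) (Steps.bwd (nat_lit 1) (Steps.bwd (nat_lit 2) (Steps.fwd (nat_lit 16384) (Steps.fwd (nat_lit 28672) (Steps.fwd (nat_lit 16384) (Steps.fwd (nat_lit 8192) (Steps.fwd (nat_lit 4096) (Steps.fwd (nat_lit 12288) (Steps.fwd (nat_lit 8192) (Steps.fwd (nat_lit 12288) (Steps.bwd (nat_lit 5) (Steps.bwd (nat_lit 4) (Steps.bwd (nat_lit 7) (Steps.bwd (nat_lit 4) (Steps.bwd (nat_lit 2) (Steps.fwd (nat_lit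 12288) (Steps.bwd (nat_lit 1) (Steps.fwd (nat_lit 8192) (Steps.fwd (nat_lit 20480) Steps.nil))))))))))))))))))))))))) (nat_lit 40) (nat_lit 25),
  Rule.mk (nat_lit 7) (nat_lit 361) (Steps.fwd (nat_lit 32768) (Steps.fwd (nat_lit 16384) (Steps.fwd (nat_lit 24576) (Steps.fwd (nat_lit 16384) (Steps.bwd (nat_lit 2) (Steps.fwd (nat_lit 12288) (Steps.bwd (nat_lit 1) (Steps.fwd (nat_lit 8192) (Steps.bwd (nat_lit 4) (Steps.bwd (nat_lit 6) (Steps.bwd (nat_lit 4) (Steps.bwd (nat_lit 2) (Steps.fwd (nat_lit 4096) (Steps.bwd (nat_lit 3) (Steps.fwd (nat_lit 8192) (Steps.fwd (nat_lit 12288) (Steps.fwd (nat_lit 20480) (Steps.fwd (nat_lit 16384) (Steps.fwd (nat_lit 24576) (Steps.fwd (nat_lit 16384) (Steps.bwd (nat_lit 2) (Steps.fwd (nat_lit 12288) (Steps.bwd (nat_lit 1) (Steps.fwd (nat_lit 8192) (Steps.fwd (nat_lit 20480) Steps.nil))))))))))))))))))))))))) (nat_lit 40) (nat_lit 25),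
  Rule.mk (nat_lit 7) (nat_lit 53) (Steps.fwd (nat_lit 20480) (Steps.bwd (nat_lit 6) (Steps.bwd (nat_lit 5) Steps.nil))) (nat_lit 34) (nat_lit 1),
  Rule.mk (nat_lit 6) (nat_lit 137) (Steps.bwd (nat_lit 4) (Steps.bwd (nat_lit 5) (Steps.bwd (nat_lit 7) (Steps.bwd (nat_lit 4) (Steps.bwd (nat_lit 6) (Steps.bwd (nat_lit 4) (Steps.fwd (nat_lit 20480) (Steps.fwd (nat_lit 24576) (Steps.fwd (nat_lit 16384) Steps.nil))))))))) (nat_lit 36) (nat_lit 0),
  Rule.mk (nat_lit 1) (nat_lit 53) (Steps.fwd (nat_lit 24576) (Steps.bwd (nat_lit 1) (Steps.bwd (nat_lit 6) Steps.nil))) (nat_lit 30) (nat_lit 0),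
  Rule.mk (nat_lit 2) (nat_lit 151) (Steps.bwd (nat_lit 3) (Steps.bwd (nat_lit 1) (Steps.bwd (nat_lit 2) (Steps.fwd (nat_lit 28672) (Steps.fwd (nat_lit 8192) (Steps.bwd (nat_lit 1) (Steps.fwd (nat_lit 12288) (Steps.fwd (nat_lit 8192) (Steps.bwd (nat_lit 5) (Steps.fwd (nat_lit 24576) Steps.nil)))))))))) (nat_lit 38) (nat_lit 2),
  Rule.mk (nat_lit 2) (nat_lit 81) (Steps.fwd (nat_lit 12288) (Steps.bwd (nat_lit 2) (Steps.fwd (nat_lit 12288) (Steps.bwd (nat_lit 2) (Steps.bwd (nat_lit 3) Steps.nil))))) (nat_lit 14) (nat_lit 1),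
  Rule.mk (nat_lit 7) (nat_lit 361) (Steps.bwd (nat_lit 4) (Steps.bwd (nat_lit 2) (Steps.bwd (nat_lit 3) (Steps.bwd (nat_lit 1) (Steps.bwd (nat_lit 2) (Steps.bwd (nat_lit 4) (Steps.bwd (nat_lit 6) (Steps.bwd (nat_lit 4) (Steps.bwd (nat_lit 2) (Steps.bwd (nat_lit 1) (Steps.bwd (nat_lit 3) (Steps.bwd (nat_lit 2) (Steps.bwd (nat_lit 3) (Steps.bwd (nat_lit 5) (Steps.bwd (nat_lit 4) (Steps.bwd (nat_lit 7) (Steps.bwd (nat_lit 4) (Steps.bwd (nat_lit 2) (Steps.bwd (nat_lit 3) (Steps.bwd (nat_lit 1) (Steps.bwd (nat_lit 2) (Steps.fwd (nat_lit 20480) (Steps.bwd (nat_lit 7) (Steps.bwd (nat_lit 9) (Steps.bwd (nat_lit 4) Steps.nil))))))))))))))))))))))))) (nat_lit 40) (nat_lit 2),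
  Rule.mk (nat_lit 1) (nat_lit 53) (Steps.fwd (nat_lit 12288) (Steps.fwd (nat_lit 24576) (Steps.bwd (nat_lit 7) Steps.nil))) (nat_lit 29) (nat_lit 1),
  Rule.mk (nat_lit 2) (nat_lit 361) (Steps.bwd (nat_lit 3) (Steps.bwd (nat_lit 1) (Steps.bwd (nat_lit 2) (Steps.bwd (nat_lit 4) (Steps.bwd (nat_lit 6) (Steps.bwd (nat_lit 4) (Steps.bwd (nat_lit 2) (Steps.bwd (nat_lit 1) (Steps.bwd (nat_lit 3) (Steps.bwd (nat_lit 2) (Steps.bwd (nat_lit 3) (Steps.bwd (nat_lit 5) (Steps.bwd (nat_lit 4) (Steps.bwd (nat_lit 7) (Steps.bwd (nat_lit 4) (Steps.bwd (nat_lit 2) (Steps.bwd (nat_lit 3) (Steps.bwd (nat_lit 1) (Steps.bwd (nat_lit 2) (Steps.fwd (nat_lit 20480) (Steps.bwd (nat_lit 7) (Steps.bwd (nat_lit 9) (Steps.bwd (nat_lit 4) (Steps.fwd (nat_lit 24576) (Steps.fwd (nat_lit 16384) Steps.nil))))))))))))))))))))))))) (nat_lit 40) (nat_lit 4),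
  Rule.mk (nat_lit 3) (nat_lit 151) (Steps.bwd (nat_lit 1) (Steps.bwd (nat_lit 2) (Steps.fwd (nat_lit 28672) (Steps.fwd (nat_lit 8192) (Steps.fwd (nat_lit 4096) (Steps.fwd (nat_lit 12288) (Steps.bwd (nat_lit 2) (Steps.fwd (nat_lit 20480) (Steps.fwd (nat_lit 24576) (Steps.fwd (nat_lit 8192) Steps.nil)))))))))) (nat_lit 38) (nat_lit 3),
  Rule.mk (nat_lit 2) (nat_lit 361) (Steps.bwd (nat_lit 3) (Steps.bwd (nat_lit 1) (Steps.bwd (nat_lit 2) (Steps.bwd (nat_lit 4) (Steps.bwd (nat_lit 6) (Steps.bwd (nat_lit 4) (Steps.bwd (nat_lit 2) (Steps.bwd (nat_lit 1) (Steps.bwd (nat_lit 3) (Steps.bwd (nat_lit 2) (Steps.bwd (nat_lit 3) (Steps.bwd (nat_lit 5) (Steps.bwd (nat_lit 4) (Steps.bwd (nat_lit 7) (Steps.bwd (nat_lit 4) (Steps.bwd (nat_lit 2) (Steps.bwd (nat_lit 3) (Steps.bwd (nat_lit 1) (Steps.fwd (nat_lit 8192) (Steps.bwd (nat_lit 5) (Steps.bwd (nat_lit 7) (Steps.bwd (nat_lit 9) (Steps.fwd (nat_lit 16384) (Steps.fwd (nat_lit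 24576) (Steps.bwd (nat_lit 4) Steps.nil))))))))))))))))))))))))) (nat_lit 40) (nat_lit 4),
  Rule.mk (nat_lit 0) (nat_lit 165) (Steps.bwd (nat_lit 2) (Steps.bwd (nat_lit 3) (Steps.bwd (nat_lit 1) (Steps.fwd (nat_lit 8192) (Steps.fwd (nat_lit 28672) (Steps.bwd (nat_lit 2) (Steps.fwd (nat_lit 4096) (Steps.fwd (nat_lit 12288) (Steps.fwd (nat_lit 8192) (Steps.fwd (nat_lit 20480) (Steps.fwd (nat_lit 24576) Steps.nil))))))))))) (nat_lit 38) (nat_lit 1),
  Rule.mk (nat_lit 0) (nat_lit 151) (Steps.bwd (nat_lit 5) (Steps.bwd (nat_lit 4) (Steps.bwd (nat_lit 7) (Steps.bwd (nat_lit 4) (Steps.bwd (nat_lit 6) (Steps.bwd (nat_lit 5) (Steps.fwd (nat_lit 16384) (Steps.bwd (nat_lit 7) (Steps.fwd (nat_lit 16384) (Steps.fwd (nat_lit 28672) Steps.nil)))))))))) (nat_lit 37) (nat_lit 3),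
  Rule.mk (nat_lit 6) (nat_lit 53) (Steps.bwd (nat_lit 3) (Steps.bwd (nat_lit 7) (Steps.fwd (nat_lit 12288) Steps.nil))) (nat_lit 32) (nat_lit 3),
  Rule.mk (nat_lit 7) (nat_lit 137) (Steps.bwd (nat_lit 4) (Steps.bwd (nat_lit 6) (Steps.bwd (nat_lit 4) (Steps.bwd (nat_lit 5) (Steps.bwd (nat_lit 7) (Steps.bwd (nat_lit 4) (Steps.bwd (nat_lit 6) (Steps.bwd (nat_lit 4) (Steps.fwd (nat_lit 20480) Steps.nil))))))))) (nat_lit 36) (nat_lit 3),
  Rule.mk (nat_lit 2) (nat_lit 151) (Steps.bwd (nat_lit 3) (Steps.bwd (nat_lit 1) (Steps.bwd (nat_lit 2) (Steps.fwd (nat_lit 28672) (Steps.fwd (nat_lit 8192) (Steps.fwd (nat_lit 4096) (Steps.bwd (nat_lit 3) (Steps.fwd (nat_lit 8192) (Steps.fwd (nat_lit 20480) (Steps.fwd (nat_lit 24576) Steps.nil)))))))))) (nat_lit 38) (nat_lit 2),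
  Rule.mk (nat_lit 5) (nat_lit 53) (Steps.fwd (nat_lit 28672) (Steps.bwd (nat_lit 5) (Steps.bwd (nat_lit 7) Steps.nil))) (nat_lit 34) (nat_lit 2),
  Rule.mk (nat_lit 6) (nat_lit 137) (Steps.bwd (nat_lit 5) (Steps.bwd (nat_lit 4) (Steps.bwd (nat_lit 7) (Steps.bwd (nat_lit 4) (Steps.bwd (nat_lit 6) (Steps.bwd (nat_lit 5) (Steps.bwd (nat_lit 4) (Steps.bwd (nat_lit 7) (Steps.bwd (nat_lit 4) Steps.nil))))))))) (nat_lit 37) (nat_lit 3),
  Rule.mk (nat_lit 1) (nat_lit 53) (Steps.bwd (nat_lit 3) (Steps.bwd (nat_lit 7) (Steps.bwd (nat_lit 7) Steps.nil))) (nat_lit 29) (nat_lit 1),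
  Rule.mk (nat_lit 0) (nat_lit 151) (Steps.fwd (nat_lit 24576) (Steps.fwd (nat_lit 16384) (Steps.fwd (nat_lit 28672) (Steps.fwd (nat_lit 16384) (Steps.fwd (nat_lit 20480) (Steps.bwd (nat_lit 7) (Steps.fwd (nat_lit 16384) (Steps.fwd (nat_lit 28672) (Steps.fwd (nat_lit 16384) (Steps.fwd (nat_lit 20480) Steps.nil)))))))))) (nat_lit 36) (nat_lit 2),
  Rule.mk (nat_lit 7) (nat_lit 361) (Steps.bwd (nat_lit 4) (Steps.bwd (nat_lit 2) (Steps.bwd (nat_lit 3) (Steps.bwd (nat_lit 1) (Steps.bwd (nat_lit 2) (Steps.bwd (nat_lit 4) (Steps.bwd (nat_lit 6) (Steps.bwd (nat_lit 4) (Steps.bwd (nat_lit 2) (Steps.bwd (nat_lit 1) (Steps.bwd (nat_lit 3) (Steps.bwd (nat_lit 2) (Steps.bwd (nat_lit 3) (Steps.fwd (nat_lit 20480) (Steps.fwd (nat_lit 16384) (Steps.fwd (nat_lit 24576) (Steps.fwd (nat_lit 16384) (Steps.fwd (nat_lit 8192) (Steps.bwd (nat_lit 3) (Steps.bwd (nat_lit 1) (Steps.bwd (nat_lit 2) (Steps.bwd (nat_lit 5) (Steps.fwd (nat_lit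 24576) (Steps.bwd (nat_lit 9) (Steps.bwd (nat_lit 4) Steps.nil))))))))))))))))))))))))) (nat_lit 40) (nat_lit 2),
  Rule.mk (nat_lit 6) (nat_lit 137) (Steps.bwd (nat_lit 5) (Steps.bwd (nat_lit 4) (Steps.bwd (nat_lit 7) (Steps.bwd (nat_lit 4) (Steps.fwd (nat_lit 28672) (Steps.fwd (nat_lit 20480) (Steps.bwd (nat_lit 4) (Steps.bwd (nat_lit 7) (Steps.bwd (nat_lit 4) Steps.nil))))))))) (nat_lit 37) (nat_lit 3),
  Rule.mk (nat_lit 2) (nat_lit 361) (Steps.bwd (nat_lit 1) (Steps.bwd (nat_lit 3) (Steps.bwd (nat_lit 2) (Steps.bwd (nat_lit 3) (Steps.bwd (nat_lit 5) (Steps.bwd (nat_lit 4) (Steps.bwd (nat_lit 7) (Steps.bwd (nat_lit 4) (Steps.bwd (nat_lit 2) (Steps.bwd (nat_lit 3) (Steps.bwd (nat_lit 1) (Steps.fwd (nat_lit 8192) (Steps.bwd (nat_lit 5) (Steps.bwd (nat_lit 7) (Steps.bwd (nat_lit 9) (Steps.bwd (nat_lit 4) (Steps.bwd (nat_lit 7) (Steps.fwd (nat_lit 16384) (Steps.fwd (nat_lit 8192) (Steps.bwd (nat_lit 3) (Steps.bwd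 (nat_lit 1) (Steps.fwd (nat_lit 8192) (Steps.fwd (nat_lit 16384) (Steps.bwd (nat_lit 6) (Steps.bwd (nat_lit 4) Steps.nil))))))))))))))))))))))))) (nat_lit 40) (nat_lit 11),
  Rule.mk (nat_lit 0) (nat_lit 165) (Steps.bwd (nat_lit 2) (Steps.bwd (nat_lit 3) (Steps.bwd (nat_lit 1) (Steps.fwd (nat_lit 8192) (Steps.fwd (nat_lit 28672) (Steps.fwd (nat_lit 8192) (Steps.bwd (nat_lit 1) (Steps.bwd (nat_lit 3) (Steps.bwd (nat_lit 2) (Steps.bwd (nat_lit 5) (Steps.fwd (nat_lit 24576) Steps.nil))))))))))) (nat_lit 38) (nat_lit 1),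
  Rule.mk (nat_lit 1) (nat_lit 151) (Steps.bwd (nat_lit 3) (Steps.fwd (nat_lit 8192) (Steps.fwd (nat_lit 28672) (Steps.bwd (nat_lit 5) (Steps.bwd (nat_lit 2) (Steps.bwd (nat_lit 3) (Steps.bwd (nat_lit 1) (Steps.fwd (nat_lit 8192) (Steps.fwd (nat_lit 24576) (Steps.fwd (nat_lit 8192) Steps.nil)))))))))) (nat_lit 39) (nat_lit 8),
  Rule.mk (nat_lit 5) (nat_lit 53) (Steps.fwd (nat_lit 12288) (Steps.bwd (nat_lit 5) (Steps.bwd (nat_lit 3) Steps.nil))) (nat_lit 22) (nat_lit 0),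
  Rule.mk (nat_lit 1) (nat_lit 361) (Steps.bwd (nat_lit 3) (Steps.bwd (nat_lit 2) (Steps.bwd (nat_lit 3) (Steps.bwd (nat_lit 5) (Steps.bwd (nat_lit 4) (Steps.bwd (nat_lit 7) (Steps.bwd (nat_lit 4) (Steps.bwd (nat_lit 2) (Steps.bwd (nat_lit 3) (Steps.fwd (nat_lit 4096) (Steps.bwd (nat_lit 2) (Steps.fwd (nat_lit 20480) (Steps.fwd (nat_lit 24576) (Steps.bwd (nat_lit 9) (Steps.fwd (nat_lit 16384) (Steps.fwd (nat_lit 24576) (Steps.bwd (nat_lit 4) (Steps.bwd (nat_lit 2) (Steps.fwd (nat_lit 12288) (Steps.bwd (nat_lit 1) (Steps.fwd (nat_lit 8192) (Steps.fwd (nat_lit 16384) (Steps.fwd (nat_lit 28672) (Steps.bwd (nat_lit 4) (Steps.bwd (nat_lit 2) Steps.nil))))))))))))))))))))))))) (nat_lit 40) (nat_lit 12),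
  Rule.mk (nat_lit 3) (nat_lit 445) (Steps.bwd (nat_lit 4) (Steps.bwd (nat_lit 5) (Steps.bwd (nat_lit 2) (Steps.bwd (nat_lit 3) (Steps.bwd (nat_lit 4) (Steps.bwd (nat_lit 5) (Steps.bwd (nat_lit 2) (Steps.bwd (nat_lit 3) (Steps.bwd (nat_lit 4) (Steps.bwd (nat_lit 5) (Steps.bwd (nat_lit 2) (Steps.bwd (nat_lit 3) (Steps.bwd (nat_lit 4) (Steps.bwd (nat_lit 5) (Steps.bwd (nat_lit 2) (Steps.bwd (nat_lit 3) (Steps.bwd (nat_lit 4) (Steps.bwd (nat_lit 5) (Steps.bwd (nat_lit 2) (Steps.fwd (nat_lit 12288) (Steps.bwd (nat_lit 4) (Steps.bwd (nat_lit 5) (Steps.fwd (nat_lit 8192) (Steps.bwd (nat_lit 3) (Steps.bwd (nat_lit 4) (Steps.bwd (nat_lit 5) (Steps.bwd (nat_lit 2) (Steps.fwd (nat_lit 12288) (Steps.fwd (nat_lit 16384) (Steps.fwd (nat_lit 20480) (Steps.fwd (nat_lit 8192) Steps.nil))))))))))))))))))))))))))))))) (nat_lit 26) (nat_lit 2),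
  Rule.mk (nat_lit 1) (nat_lit 123) (Steps.bwd (nat_lit 4) (Steps.fwd (nat_lit 12288) (Steps.fwd (nat_lit 16384) (Steps.bwd (nat_lit 3) (Steps.bwd (nat_lit 4) (Steps.bwd (nat_lit 3) (Steps.fwd (nat_lit 16384) (Steps.bwd (nat_lit 3) Steps.nil)))))))) (nat_lit 20) (nat_lit 1),
  Rule.mk (nat_lit 0) (nat_lit 137) (Steps.fwd (nat_lit 16384) (Steps.fwd (nat_lit 12288) (Steps.bwd (nat_lit 4) (Steps.fwd (nat_lit 12288) (Steps.fwd (nat_lit 16384) (Steps.fwd (nat_lit 12288) (Steps.bwd (nat_lit 4) (Steps.fwd (nat_lit 4096) (Steps.bwd (nat_lit 3) Steps.nil))))))))) (nat_lit 21) (nat_lit 1),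
  Rule.mk (nat_lit 7) (nat_lit 53) (Steps.fwd (nat_lit 12288) (Steps.bwd (nat_lit 6) (Steps.bwd (nat_lit 3) Steps.nil))) (nat_lit 32) (nat_lit 1),
  Rule.mk (nat_lit 1) (nat_lit 53) (Steps.fwd (nat_lit 28672) (Steps.fwd (nat_lit 28672) (Steps.fwd (nat_lit 12288) Steps.nil))) (nat_lit 28) (nat_lit 0),
  Rule.mk (nat_lit 0) (nat_lit 137) (Steps.bwd (nat_lit 3) (Steps.bwd (nat_lit 4) (Steps.fwd (nat_lit 12288) (Steps.fwd (nat_lit 16384) (Steps.bwd (nat_lit 3) (Steps.bwd (nat_lit 1) (Steps.bwd (nat_lit 4) (Steps.fwd (nat_lit 12288) (Steps.fwd (nat_lit 16384) Steps.nil))))))))) (nat_lit 20) (nat_lit 4),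
  Rule.mk (nat_lit 1) (nat_lit 123) (Steps.bwd (nat_lit 4) (Steps.fwd (nat_lit 12288) (Steps.fwd (nat_lit 16384) (Steps.bwd (nat_lit 3) (Steps.bwd (nat_lit 4) (Steps.fwd (nat_lit 12288) (Steps.fwd (nat_lit 16384) (Steps.fwd (nat_lit 12288) Steps.nil)))))))) (nat_lit 20) (nat_lit 1),
  Rule.mk (nat_lit 6) (nat_lit 53) (Steps.bwd (nat_lit 3) (Steps.bwd (nat_lit 7) (Steps.bwd (nat_lit 3) Steps.nil))) (nat_lit 32) (nat_lit 3),
  Rule.mk (nat_lit 6) (nat_lit 151) (Steps.fwd (nat_lit 8192) (Steps.bwd (nat_lit 1) (Steps.fwd (nat_lit 12288) (Steps.bwd (nat_lit 2) (Steps.bwd (nat_lit 5) (Steps.bwd (nat_lit 7) (Steps.fwd (nat_lit 8192) (Steps.fwd (nat_lit 12288) (Steps.fwd (nat_lit 4096) (Steps.fwd (nat_lit 8192) Steps.nil)))))))))) (nat_lit 38) (nat_lit 6),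
  Rule.mk (nat_lit 1) (nat_lit 53) (Steps.bwd (nat_lit 6) (Steps.bwd (nat_lit 6) (Steps.bwd (nat_lit 3) Steps.nil))) (nat_lit 28) (nat_lit 0),
  Rule.mk (nat_lit 1) (nat_lit 53) (Steps.bwd (nat_lit 6) (Steps.fwd (nat_lit 4096) (Steps.bwd (nat_lit 7) Steps.nil))) (nat_lit 30) (nat_lit 2),
  Rule.mk (nat_lit 2) (nat_lit 445) (Steps.bwd (nat_lit 3) (Steps.fwd (nat_lit 16384) (Steps.bwd (nat_lit 5) (Steps.bwd (nat_lit 2) (Steps.bwd (nat_lit 3) (Steps.bwd (nat_lit 4) (Steps.bwd (nat_lit 5) (Steps.fwd (nat_lit 8192) (Steps.bwd (nat_lit 3) (Steps.fwd (nat_lit 16384) (Steps.bwd (nat_lit 5) (Steps.fwd (nat_lit 8192) (Steps.fwd (nat_lit 12288) (Steps.fwd (nat_lit 16384) (Steps.fwd (nat_lit 20480) (Steps.fwd (nat_lit 8192) (Steps.bwd (nat_lit 3) (Steps.fwd (nat_lit 16384) (Steps.bwd (nat_lit 5) (Steps.fwd (nat_lit 8192) (Steps.bwd (nat_lit 3) (Steps.bwd (nat_lit 4) (Steps.fwd (nat_lit 20480) (Steps.fwd (nat_lit 8192) (Steps.fwd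 (nat_lit 12288) (Steps.bwd (nat_lit 4) (Steps.fwd (nat_lit 20480) (Steps.fwd (nat_lit 8192) (Steps.fwd (nat_lit 12288) (Steps.fwd (nat_lit 16384) (Steps.bwd (nat_lit 5) Steps.nil))))))))))))))))))))))))))))))) (nat_lit 26) (nat_lit 1),
  Rule.mk (nat_lit 7) (nat_lit 137) (Steps.bwd (nat_lit 4) (Steps.bwd (nat_lit 6) (Steps.bwd (nat_lit 4) (Steps.bwd (nat_lit 5) (Steps.bwd (nat_lit 7) (Steps.bwd (nat_lit 4) (Steps.fwd (nat_lit 28672) (Steps.fwd (nat_lit 16384) (Steps.fwd (nat_lit 20480) Steps.nil))))))))) (nat_lit 36) (nat_lit 3),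
  Rule.mk (nat_lit 3) (nat_lit 151) (Steps.bwd (nat_lit 1) (Steps.fwd (nat_lit 8192) (Steps.bwd (nat_lit 6) (Steps.fwd (nat_lit 8192) (Steps.fwd (nat_lit 4096) (Steps.fwd (nat_lit 12288) (Steps.bwd (nat_lit 2) (Steps.bwd (nat_lit 5) (Steps.bwd (nat_lit 7) (Steps.fwd (nat_lit 8192) Steps.nil)))))))))) (nat_lit 38) (nat_lit 3),
  Rule.mk (nat_lit 7) (nat_lit 361) (Steps.bwd (nat_lit 4) (Steps.bwd (nat_lit 2) (Steps.bwd (nat_lit 3) (Steps.bwd (nat_lit 1) (Steps.bwd (nat_lit 2) (Steps.bwd (nat_lit 4) (Steps.bwd (nat_lit 6) (Steps.bwd (nat_lit 4) (Steps.bwd (nat_lit 2) (Steps.bwd (nat_lit 1) (Steps.bwd (nat_lit 3) (Steps.bwd (nat_lit 2) (Steps.bwd (nat_lit 3) (Steps.bwd (nat_lit 5) (Steps.bwd (nat_lit 4) (Steps.bwd (nat_lit 7) (Steps.bwd (nat_lit 4) (Steps.bwd (nat_lit 2) (Steps.bwd (nat_lit 3) (Steps.bwd (nat_lit 1) (Steps.fwd (nat_lit 8192) (Steps.bwd (nat_lit 5) (Steps.fwd (nat_lit 24576) (Steps.bwd (nat_lit 9) (Steps.fwd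 (nat_lit 16384) Steps.nil))))))))))))))))))))))))) (nat_lit 40) (nat_lit 2),
  Rule.mk (nat_lit 6) (nat_lit 137) (Steps.bwd (nat_lit 5) (Steps.bwd (nat_lit 4) (Steps.bwd (nat_lit 7) (Steps.fwd (nat_lit 16384) (Steps.bwd (nat_lit 6) (Steps.bwd (nat_lit 5) (Steps.fwd (nat_lit 16384) (Steps.bwd (nat_lit 7) (Steps.bwd (nat_lit 4) Steps.nil))))))))) (nat_lit 37) (nat_lit 3),
  Rule.mk (nat_lit 0) (nat_lit 165) (Steps.bwd (nat_lit 2) (Steps.bwd (nat_lit 3) (Steps.bwd (nat_lit 1) (Steps.fwd (nat_lit 8192) (Steps.fwd (nat_lit 28672) (Steps.bwd (nat_lit 2) (Steps.fwd (nat_lit 4096) (Steps.fwd (nat_lit 12288) (Steps.fwd (nat_lit 8192) (Steps.bwd (nat_lit 5) (Steps.fwd (nat_lit 24576) Steps.nil))))))))))) (nat_lit 38) (nat_lit 1),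
  Rule.mk (nat_lit 0) (nat_lit 151) (Steps.bwd (nat_lit 5) (Steps.bwd (nat_lit 4) (Steps.bwd (nat_lit 7) (Steps.fwd (nat_lit 16384) (Steps.bwd (nat_lit 6) (Steps.fwd (nat_lit 20480) (Steps.bwd (nat_lit 4) (Steps.fwd (nat_lit 24576) (Steps.bwd (nat_lit 4) (Steps.fwd (nat_lit 28672) Steps.nil)))))))))) (nat_lit 37) (nat_lit 3)]
noncomputable def R_9 : List (Rule) := [Rule.mk (nat_lit 4) (nat_lit 445) (Steps.bwd (nat_lit 5) (Steps.bwd (nat_lit 2) (Steps.bwd (nat_lit 3) (Steps.bwd (nat_lit 4) (Steps.bwd (nat_lit 5) (Steps.bwd (nat_lit 2) (Steps.bwd (nat_lit 3) (Steps.bwd (nat_lit 4) (Steps.bwd (nat_lit 5) (Steps.bwd (nat_lit 2) (Steps.bwd (nat_lit 3) (Steps.bwd (nat_lit 4) (Steps.fwd (nat_lit 20480) (Steps.fwd (nat_lit 8192) (Steps.fwd (nat_lit 12288) (Steps.fwd (nat_lit 16384) (Steps.bwd (nat_lit 5) (Steps.fwd (nat_lit 8192) (Steps.fwd (nat_lit 12288) (Steps.fwd (nat_lit 16384) (Steps.bwd (nat_lit 5) (Steps.bwd (nat_lit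 2) (Steps.fwd (nat_lit 12288) (Steps.bwd (nat_lit 4) (Steps.fwd (nat_lit 20480) (Steps.bwd (nat_lit 2) (Steps.bwd (nat_lit 3) (Steps.fwd (nat_lit 16384) (Steps.fwd (nat_lit 20480) (Steps.fwd (nat_lit 8192) (Steps.fwd (nat_lit 12288) Steps.nil))))))))))))))))))))))))))))))) (nat_lit 26) (nat_lit 3),
  Rule.mk (nat_lit 3) (nat_lit 123) (Steps.bwd (nat_lit 4) (Steps.bwd (nat_lit 3) (Steps.fwd (nat_lit 4096) (Steps.bwd (nat_lit 4) (Steps.fwd (nat_lit 12288) (Steps.fwd (nat_lit 16384) (Steps.fwd (nat_lit 12288) (Steps.bwd (nat_lit 4) Steps.nil)))))))) (nat_lit 20) (nat_lit 7),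
  Rule.mk (nat_lit 1) (nat_lit 123) (Steps.fwd (nat_lit 12288) (Steps.fwd (nat_lit 16384) (Steps.bwd (nat_lit 3) (Steps.bwd (nat_lit 4) (Steps.fwd (nat_lit 12288) (Steps.fwd (nat_lit 16384) (Steps.fwd (nat_lit 12288) (Steps.bwd (nat_lit 4) Steps.nil)))))))) (nat_lit 21) (nat_lit 0),
  Rule.mk (nat_lit 5) (nat_lit 81) (Steps.bwd (nat_lit 4) (Steps.fwd (nat_lit 20480) (Steps.fwd (nat_lit 16384) (Steps.fwd (nat_lit 20480) (Steps.bwd (nat_lit 4) Steps.nil))))) (nat_lit 24) (nat_lit 0),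
  Rule.mk (nat_lit 1) (nat_lit 123) (Steps.bwd (nat_lit 4) (Steps.fwd (nat_lit 12288) (Steps.bwd (nat_lit 4) (Steps.bwd (nat_lit 3) (Steps.fwd (nat_lit 16384) (Steps.fwd (nat_lit 12288) (Steps.bwd (nat_lit 4) (Steps.bwd (nat_lit 3) Steps.nil)))))))) (nat_lit 20) (nat_lit 1),
  Rule.mk (nat_lit 1) (nat_lit 123) (Steps.bwd (nat_lit 3) (Steps.bwd (nat_lit 4) (Steps.fwd (nat_lit 12288) (Steps.bwd (nat_lit 4) (Steps.bwd (nat_lit 3) (Steps.fwd (nat_lit 16384) (Steps.fwd (nat_lit 12288) (Steps.bwd (nat_lit 4) Steps.nil)))))))) (nat_lit 21) (nat_lit 0),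
  Rule.mk (nat_lit 1) (nat_lit 123) (Steps.fwd (nat_lit 12288) (Steps.bwd (nat_lit 4) (Steps.bwd (nat_lit 3) (Steps.fwd (nat_lit 16384) (Steps.fwd (nat_lit 12288) (Steps.bwd (nat_lit 4) (Steps.bwd (nat_lit 3) (Steps.fwd (nat_lit 16384) Steps.nil)))))))) (nat_lit 21) (nat_lit 0),
  Rule.mk (nat_lit 0) (nat_lit 137) (Steps.fwd (nat_lit 16384) (Steps.fwd (nat_lit 12288) (Steps.bwd (nat_lit 1) (Steps.bwd (nat_lit 4) (Steps.fwd (nat_lit 12288) (Steps.fwd (nat_lit 16384) (Steps.bwd (nat_lit 3) (Steps.fwd (nat_lit 16384) (Steps.fwd (nat_lit 12288) Steps.nil))))))))) (nat_lit 20) (nat_lit 7),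
  Rule.mk (nat_lit 4) (nat_lit 123) (Steps.bwd (nat_lit 3) (Steps.bwd (nat_lit 4) (Steps.bwd (nat_lit 3) (Steps.bwd (nat_lit 4) (Steps.fwd (nat_lit 12288) (Steps.bwd (nat_lit 4) (Steps.bwd (nat_lit 3) (Steps.bwd (nat_lit 1) Steps.nil)))))))) (nat_lit 20) (nat_lit 2),
  Rule.mk (nat_lit 1) (nat_lit 123) (Steps.bwd (nat_lit 4) (Steps.bwd (nat_lit 3) (Steps.bwd (nat_lit 4) (Steps.fwd (nat_lit 12288) (Steps.bwd (nat_lit 4) (Steps.bwd (nat_lit 3) (Steps.fwd (nat_lit 16384) (Steps.fwd (nat_lit 12288) Steps.nil)))))))) (nat_lit 20) (nat_lit 1),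
  Rule.mk (nat_lit 5) (nat_lit 81) (Steps.bwd (nat_lit 4) (Steps.bwd (nat_lit 5) (Steps.fwd (nat_lit 16384) (Steps.bwd (nat_lit 5) (Steps.bwd (nat_lit 4) Steps.nil))))) (nat_lit 24) (nat_lit 0),
  Rule.mk (nat_lit 0) (nat_lit 95) (Steps.bwd (nat_lit 1) (Steps.fwd (nat_lit 8192) (Steps.fwd (nat_lit 4096) (Steps.fwd (nat_lit 8192) (Steps.fwd (nat_lit 4096) (Steps.bwd (nat_lit 2) Steps.nil)))))) (nat_lit 10) (nat_lit 0),
  Rule.mk (nat_lit 2) (nat_lit 81) (Steps.bwd (nat_lit 3) (Steps.bwd (nat_lit 2) (Steps.fwd (nat_lit 12288) (Steps.bwd (nat_lit 2) (Steps.bwd (nat_lit 3) Steps.nil))))) (nat_lit 14) (nat_lit 1),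
  Rule.mk (nat_lit 7) (nat_lit 361) (Steps.bwd (nat_lit 4) (Steps.bwd (nat_lit 2) (Steps.bwd (nat_lit 3) (Steps.bwd (nat_lit 1) (Steps.bwd (nat_lit 2) (Steps.bwd (nat_lit 4) (Steps.bwd (nat_lit 6) (Steps.bwd (nat_lit 4) (Steps.bwd (nat_lit 2) (Steps.bwd (nat_lit 1) (Steps.bwd (nat_lit 3) (Steps.bwd (nat_lit 2) (Steps.bwd (nat_lit 3) (Steps.bwd (nat_lit 5) (Steps.bwd (nat_lit 4) (Steps.bwd (nat_lit 7) (Steps.bwd (nat_lit 4) (Steps.bwd (nat_lit 2) (Steps.bwd (nat_lit 3) (Steps.bwd (nat_lit 1) (Steps.bwd (nat_lit 2) (Steps.bwd (nat_lit 5) (Steps.fwd (nat_lit 24576) (Steps.bwd (nat_lit 9) (Steps.fwd (nat_lit 16384) Steps.nil))))))))))))))))))))))))) (nat_lit 40) (nat_lit 2),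
  Rule.mk (nat_lit 6) (nat_lit 137) (Steps.bwd (nat_lit 5) (Steps.bwd (nat_lit 4) (Steps.bwd (nat_lit 7) (Steps.bwd (nat_lit 4) (Steps.bwd (nat_lit 6) (Steps.bwd (nat_lit 5) (Steps.fwd (nat_lit 16384) (Steps.bwd (nat_lit 7) (Steps.bwd (nat_lit 4) Steps.nil))))))))) (nat_lit 37) (nat_lit 3),
  Rule.mk (nat_lit 6) (nat_lit 137) (Steps.bwd (nat_lit 5) (Steps.bwd (nat_lit 4) (Steps.bwd (nat_lit 7) (Steps.bwd (nat_lit 4) (Steps.bwd (nat_lit 6) (Steps.fwd (nat_lit 20480) (Steps.fwd (nat_lit 16384) (Steps.fwd (nat_lit 24576) (Steps.bwd (nat_lit 4) Steps.nil))))))))) (nat_lit 37) (nat_lit 3),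
  Rule.mk (nat_lit 2) (nat_lit 361) (Steps.bwd (nat_lit 3) (Steps.bwd (nat_lit 1) (Steps.bwd (nat_lit 2) (Steps.bwd (nat_lit 4) (Steps.bwd (nat_lit 6) (Steps.bwd (nat_lit 4) (Steps.bwd (nat_lit 2) (Steps.bwd (nat_lit 1) (Steps.bwd (nat_lit 3) (Steps.bwd (nat_lit 2) (Steps.bwd (nat_lit 3) (Steps.bwd (nat_lit 5) (Steps.bwd (nat_lit 4) (Steps.bwd (nat_lit 7) (Steps.bwd (nat_lit 4) (Steps.fwd (nat_lit 8192) (Steps.bwd (nat_lit 3) (Steps.bwd (nat_lit 1) (Steps.fwd (nat_lit 8192) (Steps.bwd (nat_lit 5) (Steps.fwd (nat_lit 24576) (Steps.bwd (nat_lit 9) (Steps.fwd (nat_lit 16384) (Steps.bwd (nat_lit 7) (Steps.fwd (nat_lit 16384) Steps.nil))))))))))))))))))))))))) (nat_lit 40) (nat_lit 4),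
  Rule.mk (nat_lit 2) (nat_lit 151) (Steps.bwd (nat_lit 3) (Steps.bwd (nat_lit 1) (Steps.bwd (nat_lit 2) (Steps.fwd (nat_lit 28672) (Steps.fwd (nat_lit 8192) (Steps.bwd (nat_lit 1) (Steps.fwd (nat_lit 12288) (Steps.fwd (nat_lit 8192) (Steps.bwd (nat_lit 5) (Steps.bwd (nat_lit 7) Steps.nil)))))))))) (nat_lit 38) (nat_lit 2),
  Rule.mk (nat_lit 1) (nat_lit 81) (Steps.fwd (nat_lit 8192) (Steps.bwd (nat_lit 1) (Steps.bwd (nat_lit 2) (Steps.fwd (nat_lit 4096) (Steps.bwd (nat_lit 2) Steps.nil))))) (nat_lit 10) (nat_lit 1),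
  Rule.mk (nat_lit 4) (nat_lit 123) (Steps.fwd (nat_lit 12288) (Steps.bwd (nat_lit 1) (Steps.bwd (nat_lit 4) (Steps.bwd (nat_lit 3) (Steps.bwd (nat_lit 4) (Steps.fwd (nat_lit 12288) (Steps.fwd (nat_lit 16384) (Steps.bwd (nat_lit 3) Steps.nil)))))))) (nat_lit 20) (nat_lit 8),
  Rule.mk (nat_lit 2) (nat_lit 361) (Steps.bwd (nat_lit 3) (Steps.bwd (nat_lit 1) (Steps.bwd (nat_lit 2) (Steps.bwd (nat_lit 4) (Steps.bwd (nat_lit 6) (Steps.bwd (nat_lit 4) (Steps.fwd (nat_lit 8192) (Steps.fwd (nat_lit 4096) (Steps.bwd (nat_lit 3) (Steps.bwd (nat_lit 2) (Steps.fwd (nat_lit 12288) (Steps.fwd (nat_lit 20480) (Steps.bwd (nat_lit 4) (Steps.bwd (nat_lit 7) (Steps.fwd (nat_lit 16384) (Steps.fwd (nat_lit 8192) (Steps.bwd (nat_lit 3) (Steps.bwd (nat_lit 1) (Steps.fwd (nat_lit 8192) (Steps.fwd (nat_lit 20480) (Steps.fwd (nat_lit 24576) (Steps.bwd (nat_lit 9) (Steps.fwd (nat_lit 16384) (Steps.fwd (nat_lit 24576) (Steps.fwd (nat_lit 16384)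 Steps.nil))))))))))))))))))))))))) (nat_lit 40) (nat_lit 4),
  Rule.mk (nat_lit 7) (nat_lit 137) (Steps.bwd (nat_lit 4) (Steps.bwd (nat_lit 6) (Steps.bwd (nat_lit 4) (Steps.bwd (nat_lit 5) (Steps.fwd (nat_lit 24576) (Steps.fwd (nat_lit 16384) (Steps.fwd (nat_lit 28672) (Steps.fwd (nat_lit 16384) (Steps.fwd (nat_lit 20480) Steps.nil))))))))) (nat_lit 36) (nat_lit 3),
  Rule.mk (nat_lit 3) (nat_lit 53) (Steps.bwd (nat_lit 6) (Steps.fwd (nat_lit 12288) (Steps.bwd (nat_lit 7) Steps.nil))) (nat_lit 32) (nat_lit 2),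
  Rule.mk (nat_lit 4) (nat_lit 137) (Steps.bwd (nat_lit 5) (Steps.fwd (nat_lit 24576) (Steps.bwd (nat_lit 4) (Steps.bwd (nat_lit 6) (Steps.fwd (nat_lit 16384) (Steps.bwd (nat_lit 5) (Steps.bwd (nat_lit 7) (Steps.bwd (nat_lit 4) (Steps.bwd (nat_lit 6) Steps.nil))))))))) (nat_lit 36) (nat_lit 1),
  Rule.mk (nat_lit 6) (nat_lit 53) (Steps.bwd (nat_lit 5) (Steps.fwd (nat_lit 24576) (Steps.bwd (nat_lit 5) Steps.nil))) (nat_lit 34) (nat_lit 3),
  Rule.mk (nat_lit 2) (nat_lit 361) (Steps.bwd (nat_lit 3) (Steps.bwd (nat_lit 1) (Steps.bwd (nat_lit 2) (Steps.bwd (nat_lit 4) (Steps.fwd (nat_lit 28672) (Steps.fwd (nat_lit 16384) (Steps.fwd (nat_lit 8192) (Steps.fwd (nat_lit 4096) (Steps.fwd (nat_lit 12288) (Steps.fwd (nat_lit 8192) (Steps.bwd (nat_lit 3) (Steps.fwd (nat_lit 20480) (Steps.bwd (nat_lit 4) (Steps.bwd (nat_lit 7) (Steps.fwd (nat_lit 16384) (Steps.bwd (nat_lit 2) (Steps.fwd (nat_lit 12288) (Steps.bwd (nat_lit 1) (Steps.bwd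 (nat_lit 2) (Steps.bwd (nat_lit 5) (Steps.bwd (nat_lit 7) (Steps.bwd (nat_lit 9) (Steps.fwd (nat_lit 16384) (Steps.bwd (nat_lit 7) (Steps.bwd (nat_lit 4) Steps.nil))))))))))))))))))))))))) (nat_lit 40) (nat_lit 4),
  Rule.mk (nat_lit 3) (nat_lit 53) (Steps.bwd (nat_lit 1) (Steps.fwd (nat_lit 28672) (Steps.bwd (nat_lit 6) Steps.nil))) (nat_lit 28) (nat_lit 3),
  Rule.mk (nat_lit 4) (nat_lit 137) (Steps.bwd (nat_lit 5) (Steps.fwd (nat_lit 24576) (Steps.fwd (nat_lit 16384) (Steps.fwd (nat_lit 28672) (Steps.bwd (nat_lit 4) (Steps.bwd (nat_lit 5) (Steps.bwd (nat_lit 7) (Steps.bwd (nat_lit 4) (Steps.bwd (nat_lit 6) Steps.nil))))))))) (nat_lit 36) (nat_lit 1),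
  Rule.mk (nat_lit 2) (nat_lit 151) (Steps.bwd (nat_lit 3) (Steps.bwd (nat_lit 1) (Steps.bwd (nat_lit 2) (Steps.bwd (nat_lit 6) (Steps.bwd (nat_lit 2) (Steps.bwd (nat_lit 1) (Steps.fwd (nat_lit 12288) (Steps.fwd (nat_lit 8192) (Steps.fwd (nat_lit 20480) (Steps.bwd (nat_lit 7) Steps.nil)))))))))) (nat_lit 38) (nat_lit 2),
  Rule.mk (nat_lit 7) (nat_lit 151) (Steps.fwd (nat_lit 8192) (Steps.fwd (nat_lit 4096) (Steps.bwd (nat_lit 3) (Steps.bwd (nat_lit 2) (Steps.fwd (nat_lit 28672) (Steps.bwd (nat_lit 5) (Steps.bwd (nat_lit 2) (Steps.bwd (nat_lit 3) (Steps.bwd (nat_lit 1) (Steps.bwd (nat_lit 2) Steps.nil)))))))))) (nat_lit 39) (nat_lit 6),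
  Rule.mk (nat_lit 1) (nat_lit 361) (Steps.bwd (nat_lit 3) (Steps.bwd (nat_lit 2) (Steps.bwd (nat_lit 3) (Steps.bwd (nat_lit 5) (Steps.bwd (nat_lit 4) (Steps.bwd (nat_lit 7) (Steps.bwd (nat_lit 4) (Steps.bwd (nat_lit 2) (Steps.bwd (nat_lit 3) (Steps.bwd (nat_lit 1) (Steps.bwd (nat_lit 2) (Steps.bwd (nat_lit 5) (Steps.fwd (nat_lit 24576) (Steps.bwd (nat_lit 9) (Steps.bwd (nat_lit 4) (Steps.fwd (nat_lit 24576) (Steps.fwd (nat_lit 16384) (Steps.fwd (nat_lit 8192) (Steps.fwd (nat_lit 12288) (Steps.bwd (nat_lit 1) (Steps.bwd (nat_lit 2) (Steps.fwd (nat_lit 16384) (Steps.fwd (nat_lit 28672) (Steps.bwd (nat_lit 4) (Steps.bwd (nat_lit 2) Steps.nil))))))))))))))))))))))))) (nat_lit 40) (nat_lit 12),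
  Rule.mk (nat_lit 6) (nat_lit 151) (Steps.fwd (nat_lit 20480) (Steps.fwd (nat_lit 8192) (Steps.fwd (nat_lit 12288) (Steps.fwd (nat_lit 4096) (Steps.bwd (nat_lit 2) (Steps.bwd (nat_lit 7) (Steps.fwd (nat_lit 8192) (Steps.fwd (nat_lit 4096) (Steps.fwd (nat_lit 12288) (Steps.fwd (nat_lit 8192) Steps.nil)))))))))) (nat_lit 39) (nat_lit 0),
  Rule.mk (nat_lit 2) (nat_lit 151) (Steps.bwd (nat_lit 3) (Steps.bwd (nat_lit 1) (Steps.bwd (nat_lit 2) (Steps.bwd (nat_lit 6) (Steps.fwd (nat_lit 8192) (Steps.fwd (nat_lit 4096) (Steps.fwd (nat_lit 12288) (Steps.bwd (nat_lit 2) (Steps.fwd (nat_lit 20480) (Steps.bwd (nat_lit 7) Steps.nil)))))))))) (nat_lit 38) (nat_lit 2),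
  Rule.mk (nat_lit 7) (nat_lit 151) (Steps.fwd (nat_lit 8192) (Steps.fwd (nat_lit 4096) (Steps.fwd (nat_lit 12288) (Steps.bwd (nat_lit 2) (Steps.fwd (nat_lit 28672) (Steps.fwd (nat_lit 20480) (Steps.bwd (nat_lit 2) (Steps.bwd (nat_lit 3) (Steps.bwd (nat_lit 1) (Steps.bwd (nat_lit 2) Steps.nil)))))))))) (nat_lit 39) (nat_lit 6),
  Rule.mk (nat_lit 3) (nat_lit 53) (Steps.bwd (nat_lit 7) (Steps.bwd (nat_lit 3) (Steps.bwd (nat_lit 6) Steps.nil))) (nat_lit 32) (nat_lit 0),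
  Rule.mk (nat_lit 7) (nat_lit 361) (Steps.bwd (nat_lit 4) (Steps.bwd (nat_lit 2) (Steps.bwd (nat_lit 3) (Steps.bwd (nat_lit 1) (Steps.bwd (nat_lit 2) (Steps.bwd (nat_lit 4) (Steps.bwd (nat_lit 6) (Steps.bwd (nat_lit 4) (Steps.bwd (nat_lit 2) (Steps.bwd (nat_lit 1) (Steps.bwd (nat_lit 3) (Steps.bwd (nat_lit 2) (Steps.bwd (nat_lit 3) (Steps.bwd (nat_lit 5) (Steps.bwd (nat_lit 4) (Steps.bwd (nat_lit 7) (Steps.bwd (nat_lit 4) (Steps.bwd (nat_lit 2) (Steps.bwd (nat_lit 3) (Steps.bwd (nat_lit 1) (Steps.bwd (nat_lit 2) (Steps.bwd (nat_lit 5) (Steps.bwd (nat_lit 7) (Steps.bwd (nat_lit 9) (Steps.fwd (nat_lit 16384) Steps.nil))))))))))))))))))))))))) (nat_lit 40) (nat_lit 2),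
  Rule.mk (nat_lit 7) (nat_lit 151) (Steps.bwd (nat_lit 2) (Steps.bwd (nat_lit 3) (Steps.bwd (nat_lit 1) (Steps.bwd (nat_lit 2) (Steps.fwd (nat_lit 28672) (Steps.fwd (nat_lit 8192) (Steps.fwd (nat_lit 4096) (Steps.bwd (nat_lit 3) (Steps.bwd (nat_lit 2) (Steps.bwd (nat_lit 5) Steps.nil)))))))))) (nat_lit 38) (nat_lit 1),
  Rule.mk (nat_lit 7) (nat_lit 137) (Steps.bwd (nat_lit 4) (Steps.bwd (nat_lit 6) (Steps.bwd (nat_lit 4) (Steps.bwd (nat_lit 5) (Steps.fwd (nat_lit 24576) (Steps.bwd (nat_lit 4) (Steps.bwd (nat_lit 6) (Steps.fwd (nat_lit 16384) (Steps.bwd (nat_lit 5) Steps.nil))))))))) (nat_lit 36) (nat_lit 3),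
  Rule.mk (nat_lit 7) (nat_lit 361) (Steps.bwd (nat_lit 4) (Steps.bwd (nat_lit 2) (Steps.bwd (nat_lit 3) (Steps.bwd (nat_lit 1) (Steps.bwd (nat_lit 2) (Steps.bwd (nat_lit 4) (Steps.bwd (nat_lit 6) (Steps.bwd (nat_lit 4) (Steps.bwd (nat_lit 2) (Steps.fwd (nat_lit 4096) (Steps.fwd (nat_lit 12288) (Steps.fwd (nat_lit 8192) (Steps.bwd (nat_lit 3) (Steps.fwd (nat_lit 20480) (Steps.fwd (nat_lit 16384) (Steps.bwd (nat_lit 7) (Steps.fwd (nat_lit 16384) (Steps.bwd (nat_lit 2) (Steps.fwd (nat_lit 12288) (Steps.fwd (nat_lit 4096) (Steps.bwd (nat_lit 2) (Steps.bwd (nat_lit 5) (Steps.bwd (nat_lit 7) (Steps.bwd (nat_lit 9) (Steps.fwd (nat_lit 16384) Steps.nil))))))))))))))))))))))))) (nat_lit 40) (nat_lit 2),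
  Rule.mk (nat_lit 1) (nat_lit 53) (Steps.fwd (nat_lit 12288) (Steps.bwd (nat_lit 7) (Steps.bwd (nat_lit 7) Steps.nil))) (nat_lit 29) (nat_lit 1),
  Rule.mk (nat_lit 3) (nat_lit 361) (Steps.bwd (nat_lit 1) (Steps.fwd (nat_lit 8192) (Steps.fwd (nat_lit 16384) (Steps.fwd (nat_lit 28672) (Steps.bwd (nat_lit 4) (Steps.bwd (nat_lit 2) (Steps.bwd (nat_lit 1) (Steps.bwd (nat_lit 3) (Steps.bwd (nat_lit 2) (Steps.bwd (nat_lit 3) (Steps.bwd (nat_lit 5) (Steps.bwd (nat_lit 4) (Steps.bwd (nat_lit 7) (Steps.bwd (nat_lit 4) (Steps.fwd (nat_lit 8192) (Steps.bwd (nat_lit 3) (Steps.bwd (nat_lit 1) (Steps.fwd (nat_lit 8192) (Steps.fwd (nat_lit 20480) (Steps.fwd (nat_lit 24576) (Steps.bwd (nat_lit 9) (Steps.fwd (nat_lit 16384) (Steps.fwd (nat_lit 24576) (Steps.fwd (nat_lit 16384) (Steps.fwd (nat_lit 8192) Steps.nil))))))))))))))))))))))))) (nat_lit 40) (nat_lit 5),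
  Rule.mk (nat_lit 3) (nat_lit 53) (Steps.bwd (nat_lit 6) (Steps.bwd (nat_lit 3) (Steps.fwd (nat_lit 24576) Steps.nil))) (nat_lit 32) (nat_lit 2),
  Rule.mk (nat_lit 1) (nat_lit 53) (Steps.fwd (nat_lit 28672) (Steps.fwd (nat_lit 28672) (Steps.bwd (nat_lit 3) Steps.nil))) (nat_lit 28) (nat_lit 0),
  Rule.mk (nat_lit 5) (nat_lit 137) (Steps.bwd (nat_lit 7) (Steps.bwd (nat_lit 4) (Steps.bwd (nat_lit 6) (Steps.bwd (nat_lit 4) (Steps.bwd (nat_lit 5) (Steps.fwd (nat_lit 24576) (Steps.fwd (nat_lit 16384) (Steps.bwd (nat_lit 6) (Steps.bwd (nat_lit 4) Steps.nil))))))))) (nat_lit 36) (nat_lit 2),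
  Rule.mk (nat_lit 3) (nat_lit 151) (Steps.bwd (nat_lit 1) (Steps.fwd (nat_lit 8192) (Steps.fwd (nat_lit 28672) (Steps.fwd (nat_lit 8192) (Steps.fwd (nat_lit 4096) (Steps.fwd (nat_lit 12288) (Steps.bwd (nat_lit 2) (Steps.fwd (nat_lit 20480) (Steps.fwd (nat_lit 24576) (Steps.fwd (nat_lit 8192) Steps.nil)))))))))) (nat_lit 38) (nat_lit 3),
  Rule.mk (nat_lit 4) (nat_lit 361) (Steps.bwd (nat_lit 6) (Steps.bwd (nat_lit 4) (Steps.bwd (nat_lit 2) (Steps.bwd (nat_lit 1) (Steps.bwd (nat_lit 3) (Steps.bwd (nat_lit 2) (Steps.bwd (nat_lit 3) (Steps.bwd (nat_lit 5) (Steps.bwd (nat_lit 4) (Steps.bwd (nat_lit 7) (Steps.bwd (nat_lit 4) (Steps.bwd (nat_lit 2) (Steps.bwd (nat_lit 3) (Steps.bwd (nat_lit 1) (Steps.fwd (nat_lit 8192) (Steps.fwd (nat_lit 20480) (Steps.fwd (nat_lit 24576) (Steps.bwd (nat_lit 9) (Steps.bwd (nat_lit 4) (Steps.fwd (nat_lit 24576) (Steps.fwd (nat_lit 16384) (Steps.bwd (nat_lit 2) (Steps.fwd (nat_lit 12288)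 (Steps.bwd (nat_lit 1) (Steps.bwd (nat_lit 2) Steps.nil))))))))))))))))))))))))) (nat_lit 40) (nat_lit 8),
  Rule.mk (nat_lit 3) (nat_lit 123) (Steps.fwd (nat_lit 4096) (Steps.fwd (nat_lit 16384) (Steps.fwd (nat_lit 12288) (Steps.bwd (nat_lit 4) (Steps.bwd (nat_lit 3) (Steps.bwd (nat_lit 4) (Steps.fwd (nat_lit 12288) (Steps.bwd (nat_lit 4) Steps.nil)))))))) (nat_lit 20) (nat_lit 0),
  Rule.mk (nat_lit 5) (nat_lit 445) (Steps.fwd (nat_lit 8192) (Steps.fwd (nat_lit 12288) (Steps.bwd (nat_lit 4) (Steps.bwd (nat_lit 5) (Steps.fwd (nat_lit 8192) (Steps.fwd (nat_lit 12288) (Steps.fwd (nat_lit 16384) (Steps.fwd (nat_lit 20480) (Steps.fwd (nat_lit 8192) (Steps.fwd (nat_lit 12288) (Steps.bwd (nat_lit 4) (Steps.fwd (nat_lit 20480) (Steps.bwd (nat_lit 2) (Steps.fwd (nat_lit 12288) (Steps.bwd (nat_lit 4) (Steps.bwd (nat_lit 5) (Steps.bwd (nat_lit 2) (Steps.bwd (nat_lit 3) (Steps.bwd (nat_lit 4) (Steps.fwd (nat_lit 20480) (Steps.fwd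 (nat_lit 8192) (Steps.bwd (nat_lit 3) (Steps.fwd (nat_lit 16384) (Steps.fwd (nat_lit 20480) (Steps.fwd (nat_lit 8192) (Steps.fwd (nat_lit 12288) (Steps.fwd (nat_lit 16384) (Steps.bwd (nat_lit 5) (Steps.bwd (nat_lit 2) (Steps.fwd (nat_lit 12288) (Steps.bwd (nat_lit 4) Steps.nil))))))))))))))))))))))))))))))) (nat_lit 26) (nat_lit 0),
  Rule.mk (nat_lit 0) (nat_lit 165) (Steps.bwd (nat_lit 2) (Steps.bwd (nat_lit 3) (Steps.bwd (nat_lit 1) (Steps.fwd (nat_lit 8192) (Steps.bwd (nat_lit 6) (Steps.fwd (nat_lit 8192) (Steps.fwd (nat_lit 4096) (Steps.fwd (nat_lit 12288) (Steps.fwd (nat_lit 8192) (Steps.fwd (nat_lit 20480) (Steps.bwd (nat_lit 7) Steps.nil))))))))))) (nat_lit 38) (nat_lit 1),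
  Rule.mk (nat_lit 0) (nat_lit 151) (Steps.bwd (nat_lit 5) (Steps.bwd (nat_lit 4) (Steps.bwd (nat_lit 7) (Steps.bwd (nat_lit 4) (Steps.fwd (nat_lit 28672) (Steps.bwd (nat_lit 5) (Steps.fwd (nat_lit 16384) (Steps.bwd (nat_lit 7) (Steps.bwd (nat_lit 4) (Steps.bwd (nat_lit 6) Steps.nil)))))))))) (nat_lit 37) (nat_lit 3),
  Rule.mk (nat_lit 0) (nat_lit 151) (Steps.fwd (nat_lit 24576) (Steps.fwd (nat_lit 16384) (Steps.fwd (nat_lit 28672) (Steps.bwd (nat_lit 4) (Steps.bwd (nat_lit 5) (Steps.bwd (nat_lit 7) (Steps.fwd (nat_lit 16384) (Steps.fwd (nat_lit 28672) (Steps.fwd (nat_lit 16384) (Steps.fwd (nat_lit 20480) Steps.nil)))))))))) (nat_lit 36) (nat_lit 2),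
  Rule.mk (nat_lit 2) (nat_lit 151) (Steps.bwd (nat_lit 3) (Steps.bwd (nat_lit 1) (Steps.bwd (nat_lit 2) (Steps.fwd (nat_lit 28672) (Steps.bwd (nat_lit 2) (Steps.fwd (nat_lit 4096) (Steps.bwd (nat_lit 3) (Steps.fwd (nat_lit 8192) (Steps.fwd (nat_lit 20480) (Steps.fwd (nat_lit 24576) Steps.nil)))))))))) (nat_lit 38) (nat_lit 2),
  Rule.mk (nat_lit 2) (nat_lit 361) (Steps.bwd (nat_lit 3) (Steps.bwd (nat_lit 1) (Steps.bwd (nat_lit 2) (Steps.bwd (nat_lit 4) (Steps.bwd (nat_lit 6) (Steps.bwd (nat_lit 4) (Steps.bwd (nat_lit 2) (Steps.bwd (nat_lit 1) (Steps.bwd (nat_lit 3) (Steps.bwd (nat_lit 2) (Steps.bwd (nat_lit 3) (Steps.bwd (nat_lit 5) (Steps.bwd (nat_lit 4) (Steps.bwd (nat_lit 7) (Steps.bwd (nat_lit 4) (Steps.bwd (nat_lit 2) (Steps.bwd (nat_lit 3) (Steps.bwd (nat_lit 1) (Steps.bwd (nat_lit 2) (Steps.bwd (nat_lit 5) (Steps.bwd (nat_lit 7) (Steps.bwd (nat_lit 9) (Steps.fwd (nat_lit 16384) (Steps.bwd (nat_lit 7) (Steps.bwd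 (nat_lit 4) Steps.nil))))))))))))))))))))))))) (nat_lit 40) (nat_lit 4),
  Rule.mk (nat_lit 0) (nat_lit 375) (Steps.fwd (nat_lit 8192) (Steps.fwd (nat_lit 4096) (Steps.fwd (nat_lit 12288) (Steps.fwd (nat_lit 8192) (Steps.fwd (nat_lit 16384) (Steps.fwd (nat_lit 28672) (Steps.bwd (nat_lit 4) (Steps.bwd (nat_lit 5) (Steps.fwd (nat_lit 12288) (Steps.fwd (nat_lit 8192) (Steps.bwd (nat_lit 3) (Steps.bwd (nat_lit 1) (Steps.fwd (nat_lit 8192) (Steps.bwd (nat_lit 4) (Steps.fwd (nat_lit 24576) (Steps.fwd (nat_lit 16384) (Steps.fwd (nat_lit 8192) (Steps.bwd (nat_lit 1) (Steps.fwd (nat_lit 12288) (Steps.bwd (nat_lit 2) (Steps.fwd (nat_lit 16384) (Steps.fwd (nat_lit 28672) (Steps.bwd (nat_lit 4) (Steps.fwd (nat_lit 36864) (Steps.bwd (nat_lit 6) (Steps.bwd (nat_lit 5) Steps.nil)))))))))))))))))))))))))) (nat_lit 41) (nat_lit 3),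
  Rule.mk (nat_lit 0) (nat_lit 67) (Steps.bwd (nat_lit 2) (Steps.fwd (nat_lit 20480) (Steps.fwd (nat_lit 8192) (Steps.bwd (nat_lit 5) Steps.nil)))) (nat_lit 18) (nat_lit 0),
  Rule.mk (nat_lit 6) (nat_lit 151) (Steps.fwd (nat_lit 8192) (Steps.fwd (nat_lit 4096) (Steps.fwd (nat_lit 12288) (Steps.bwd (nat_lit 2) (Steps.fwd (nat_lit 20480) (Steps.bwd (nat_lit 7) (Steps.bwd (nat_lit 2) (Steps.bwd (nat_lit 3) (Steps.fwd (nat_lit 4096) (Steps.fwd (nat_lit 8192) Steps.nil)))))))))) (nat_lit 38) (nat_lit 6),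
  Rule.mk (nat_lit 7) (nat_lit 151) (Steps.fwd (nat_lit 8192) (Steps.fwd (nat_lit 4096) (Steps.fwd (nat_lit 12288) (Steps.bwd (nat_lit 2) (Steps.bwd (nat_lit 6) (Steps.fwd (nat_lit 20480) (Steps.fwd (nat_lit 8192) (Steps.fwd (nat_lit 12288) (Steps.fwd (nat_lit 4096) (Steps.fwd (nat_lit 8192) Steps.nil)))))))))) (nat_lit 39) (nat_lit 6),
  Rule.mk (nat_lit 6) (nat_lit 361) (Steps.bwd (nat_lit 4) (Steps.bwd (nat_lit 2) (Steps.bwd (nat_lit 1) (Steps.bwd (nat_lit 3) (Steps.bwd (nat_lit 2) (Steps.bwd (nat_lit 3) (Steps.bwd (nat_lit 5) (Steps.bwd (nat_lit 4) (Steps.bwd (nat_lit 7) (Steps.bwd (nat_lit 4) (Steps.fwd (nat_lit 8192) (Steps.fwd (nat_lit 12288) (Steps.fwd (nat_lit 4096) (Steps.fwd (nat_lit 8192) (Steps.bwd (nat_lit 5) (Steps.bwd (nat_lit 7) (Steps.bwd (nat_lit 9) (Steps.bwd (nat_lit 4) (Steps.bwd (nat_lit 7) (Steps.bwd (nat_lit 4) (Steps.fwd (nat_lit 8192) (Steps.bwd (nat_lit 3) (Steps.bwd (nat_lit 1) (Steps.fwd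 (nat_lit 8192) (Steps.fwd (nat_lit 16384) Steps.nil))))))))))))))))))))))))) (nat_lit 40) (nat_lit 9),
  Rule.mk (nat_lit 2) (nat_lit 361) (Steps.bwd (nat_lit 1) (Steps.bwd (nat_lit 3) (Steps.bwd (nat_lit 2) (Steps.bwd (nat_lit 3) (Steps.fwd (nat_lit 20480) (Steps.fwd (nat_lit 16384) (Steps.fwd (nat_lit 24576) (Steps.bwd (nat_lit 4) (Steps.bwd (nat_lit 2) (Steps.bwd (nat_lit 3) (Steps.fwd (nat_lit 4096) (Steps.bwd (nat_lit 2) (Steps.fwd (nat_lit 20480) (Steps.bwd (nat_lit 7) (Steps.bwd (nat_lit 9) (Steps.fwd (nat_lit 16384) (Steps.bwd (nat_lit 7) (Steps.fwd (nat_lit 16384) (Steps.bwd (nat_lit 2) (Steps.fwd (nat_lit 12288) (Steps.fwd (nat_lit 4096) (Steps.bwd (nat_lit 2) (Steps.fwd (nat_lit 16384) (Steps.fwd (nat_lit 28672) (Steps.fwd (nat_lit 16384) Steps.nil))))))))))))))))))))))))) (nat_lit 40) (nat_lit 11),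
  Rule.mk (nat_lit 2) (nat_lit 361) (Steps.bwd (nat_lit 1) (Steps.bwd (nat_lit 3) (Steps.bwd (nat_lit 2) (Steps.bwd (nat_lit 3) (Steps.bwd (nat_lit 5) (Steps.fwd (nat_lit 16384) (Steps.fwd (nat_lit 24576) (Steps.bwd (nat_lit 4) (Steps.bwd (nat_lit 2) (Steps.bwd (nat_lit 3) (Steps.bwd (nat_lit 1) (Steps.bwd (nat_lit 2) (Steps.fwd (nat_lit 20480) (Steps.fwd (nat_lit 24576) (Steps.bwd (nat_lit 9) (Steps.fwd (nat_lit 16384) (Steps.bwd (nat_lit 7) (Steps.fwd (nat_lit 16384) (Steps.fwd (nat_lit 8192) (Steps.fwd (nat_lit 12288) (Steps.fwd (nat_lit 4096) (Steps.fwd (nat_lit 8192) (Steps.bwd (nat_lit 4) (Steps.bwd (nat_lit 6) (Steps.bwd (nat_lit 4) Steps.nil))))))))))))))))))))))))) (nat_lit 40) (nat_lit 11),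
  Rule.mk (nat_lit 4) (nat_lit 361) (Steps.bwd (nat_lit 2) (Steps.bwd (nat_lit 1) (Steps.bwd (nat_lit 3) (Steps.bwd (nat_lit 2) (Steps.bwd (nat_lit 3) (Steps.bwd (nat_lit 5) (Steps.bwd (nat_lit 4) (Steps.bwd (nat_lit 7) (Steps.bwd (nat_lit 4) (Steps.bwd (nat_lit 2) (Steps.bwd (nat_lit 3) (Steps.bwd (nat_lit 1) (Steps.bwd (nat_lit 2) (Steps.fwd (nat_lit 20480) (Steps.bwd (nat_lit 7) (Steps.bwd (nat_lit 9) (Steps.fwd (nat_lit 16384) (Steps.fwd (nat_lit 24576) (Steps.fwd (nat_lit 16384) (Steps.bwd (nat_lit 2) (Steps.fwd (nat_lit 12288) (Steps.bwd (nat_lit 1) (Steps.fwd (nat_lit 8192) (Steps.bwd (nat_lit 4) (Steps.bwd (nat_lit 6) Steps.nil))))))))))))))))))))))))) (nat_lit 40) (nat_lit 10),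
  Rule.mk (nat_lit 6) (nat_lit 361) (Steps.bwd (nat_lit 5) (Steps.fwd (nat_lit 8192) (Steps.fwd (nat_lit 4096) (Steps.bwd (nat_lit 3) (Steps.fwd (nat_lit 8192) (Steps.bwd (nat_lit 4) (Steps.bwd (nat_lit 6) (Steps.fwd (nat_lit 16384) (Steps.bwd (nat_lit 5) (Steps.bwd (nat_lit 3) (Steps.bwd (nat_lit 2) (Steps.fwd (nat_lit 12288) (Steps.fwd (nat_lit 4096) (Steps.fwd (nat_lit 8192) (Steps.fwd (nat_lit 16384) (Steps.fwd (nat_lit 24576) (Steps.fwd (nat_lit 16384) (Steps.bwd (nat_lit 2) (Steps.bwd (nat_lit 1) (Steps.bwd (nat_lit 3) (Steps.fwd (nat_lit 8192) (Steps.bwd (nat_lit 4) (Steps.bwd (nat_lit 6) (Steps.bwd (nat_lit 4) (Steps.bwd (nat_lit 8) Steps.nil))))))))))))))))))))))))) (nat_lit 41) (nat_lit 2),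
  Rule.mk (nat_lit 7) (nat_lit 151) (Steps.fwd (nat_lit 8192) (Steps.fwd (nat_lit 12288) (Steps.fwd (nat_lit 4096) (Steps.fwd (nat_lit 8192) (Steps.bwd (nat_lit 6) (Steps.bwd (nat_lit 2) (Steps.bwd (nat_lit 1) (Steps.fwd (nat_lit 12288) (Steps.bwd (nat_lit 2) (Steps.bwd (nat_lit 5) Steps.nil)))))))))) (nat_lit 38) (nat_lit 1),
  Rule.mk (nat_lit 0) (nat_lit 67) (Steps.fwd (nat_lit 12288) (Steps.fwd (nat_lit 28672) (Steps.fwd (nat_lit 12288) (Steps.bwd (nat_lit 7) Steps.nil)))) (nat_lit 32) (nat_lit 1)]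
noncomputable def R_10 : List (Rule) := [Rule.mk (nat_lit 0) (nat_lit 151) (Steps.fwd (nat_lit 16384) (Steps.fwd (nat_lit 28672) (Steps.fwd (nat_lit 16384) (Steps.bwd (nat_lit 5) (Steps.bwd (nat_lit 7) (Steps.bwd (nat_lit 4) (Steps.bwd (nat_lit 6) (Steps.bwd (nat_lit 4) (Steps.bwd (nat_lit 5) (Steps.bwd (nat_lit 7) Steps.nil)))))))))) (nat_lit 36) (nat_lit 3),
  Rule.mk (nat_lit 3) (nat_lit 151) (Steps.bwd (nat_lit 1) (Steps.fwd (nat_lit 8192) (Steps.fwd (nat_lit 28672) (Steps.bwd (nat_lit 2) (Steps.fwd (nat_lit 4096) (Steps.fwd (nat_lit 12288) (Steps.fwd (nat_lit 8192) (Steps.fwd (nat_lit 20480) (Steps.bwd (nat_lit 7) (Steps.fwd (nat_lit 8192) Steps.nil)))))))))) (nat_lit 38) (nat_lit 3),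
  Rule.mk (nat_lit 2) (nat_lit 81) (Steps.bwd (nat_lit 3) (Steps.bwd (nat_lit 2) (Steps.fwd (nat_lit 12288) (Steps.fwd (nat_lit 8192) (Steps.bwd (nat_lit 3) Steps.nil))))) (nat_lit 14) (nat_lit 1),
  Rule.mk (nat_lit 2) (nat_lit 361) (Steps.bwd (nat_lit 3) (Steps.bwd (nat_lit 1) (Steps.bwd (nat_lit 2) (Steps.bwd (nat_lit 4) (Steps.bwd (nat_lit 6) (Steps.bwd (nat_lit 4) (Steps.bwd (nat_lit 2) (Steps.bwd (nat_lit 1) (Steps.bwd (nat_lit 3) (Steps.bwd (nat_lit 2) (Steps.bwd (nat_lit 3) (Steps.bwd (nat_lit 5) (Steps.bwd (nat_lit 4) (Steps.bwd (nat_lit 7) (Steps.bwd (nat_lit 4) (Steps.bwd (nat_lit 2) (Steps.bwd (nat_lit 3) (Steps.bwd (nat_lit 1) (Steps.fwd (nat_lit 8192) (Steps.bwd (nat_lit 5) (Steps.bwd (nat_lit 7) (Steps.bwd (nat_lit 9) (Steps.fwd (nat_lit 16384) (Steps.fwd (nat_lit 24576) (Steps.fwd (nat_lit 16384) Steps.nil))))))))))))))))))))))))) (nat_lit 40) (nat_lit 4),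
  Rule.mk (nat_lit 0) (nat_lit 165) (Steps.bwd (nat_lit 2) (Steps.bwd (nat_lit 3) (Steps.bwd (nat_lit 1) (Steps.fwd (nat_lit 8192) (Steps.fwd (nat_lit 28672) (Steps.fwd (nat_lit 8192) (Steps.fwd (nat_lit 4096) (Steps.fwd (nat_lit 12288) (Steps.fwd (nat_lit 8192) (Steps.fwd (nat_lit 20480) (Steps.fwd (nat_lit 24576) Steps.nil))))))))))) (nat_lit 38) (nat_lit 1),
  Rule.mk (nat_lit 0) (nat_lit 151) (Steps.bwd (nat_lit 7) (Steps.bwd (nat_lit 4) (Steps.bwd (nat_lit 6) (Steps.fwd (nat_lit 16384) (Steps.fwd (nat_lit 20480) (Steps.fwd (nat_lit 24576) (Steps.fwd (nat_lit 16384) (Steps.bwd (nat_lit 6) (Steps.bwd (nat_lit 4) (Steps.fwd (nat_lit 20480) Steps.nil)))))))))) (nat_lit 36) (nat_lit 2),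
  Rule.mk (nat_lit 4) (nat_lit 137) (Steps.bwd (nat_lit 5) (Steps.fwd (nat_lit 24576) (Steps.fwd (nat_lit 16384) (Steps.fwd (nat_lit 28672) (Steps.fwd (nat_lit 16384) (Steps.fwd (nat_lit 20480) (Steps.bwd (nat_lit 7) (Steps.bwd (nat_lit 4) (Steps.bwd (nat_lit 6) Steps.nil))))))))) (nat_lit 36) (nat_lit 1),
  Rule.mk (nat_lit 3) (nat_lit 151) (Steps.bwd (nat_lit 1) (Steps.fwd (nat_lit 8192) (Steps.bwd (nat_lit 6) (Steps.fwd (nat_lit 8192) (Steps.bwd (nat_lit 1) (Steps.fwd (nat_lit 12288) (Steps.fwd (nat_lit 8192) (Steps.bwd (nat_lit 5) (Steps.bwd (nat_lit 7) (Steps.fwd (nat_lit 8192) Steps.nil)))))))))) (nat_lit 38) (nat_lit 3),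
  Rule.mk (nat_lit 2) (nat_lit 81) (Steps.bwd (nat_lit 3) (Steps.bwd (nat_lit 2) (Steps.bwd (nat_lit 3) (Steps.fwd (nat_lit 8192) (Steps.bwd (nat_lit 3) Steps.nil))))) (nat_lit 14) (nat_lit 1),
  Rule.mk (nat_lit 2) (nat_lit 361) (Steps.bwd (nat_lit 3) (Steps.bwd (nat_lit 1) (Steps.bwd (nat_lit 2) (Steps.bwd (nat_lit 4) (Steps.bwd (nat_lit 6) (Steps.bwd (nat_lit 4) (Steps.bwd (nat_lit 2) (Steps.bwd (nat_lit 1) (Steps.bwd (nat_lit 3) (Steps.bwd (nat_lit 2) (Steps.bwd (nat_lit 3) (Steps.fwd (nat_lit 20480) (Steps.fwd (nat_lit 16384) (Steps.fwd (nat_lit 24576) (Steps.fwd (nat_lit 16384) (Steps.fwd (nat_lit 8192) (Steps.bwd (nat_lit 3) (Steps.bwd (nat_lit 1) (Steps.fwd (nat_lit 8192) (Steps.bwd (nat_lit 5) (Steps.bwd (nat_lit 7) (Steps.bwd (nat_lit 9) (Steps.fwd (nat_lit 16384) (Steps.bwd (nat_lit 7) (Steps.bwd (nat_lit 4) Steps.nil))))))))))))))))))))))))) (nat_lit 40) (nat_lit 4),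
  Rule.mk (nat_lit 3) (nat_lit 151) (Steps.bwd (nat_lit 1) (Steps.fwd (nat_lit 8192) (Steps.bwd (nat_lit 6) (Steps.fwd (nat_lit 8192) (Steps.fwd (nat_lit 4096) (Steps.bwd (nat_lit 3) (Steps.fwd (nat_lit 8192) (Steps.fwd (nat_lit 20480) (Steps.bwd (nat_lit 7) (Steps.fwd (nat_lit 8192) Steps.nil)))))))))) (nat_lit 38) (nat_lit 3),
  Rule.mk (nat_lit 2) (nat_lit 81) (Steps.fwd (nat_lit 12288) (Steps.fwd (nat_lit 8192) (Steps.bwd (nat_lit 3) (Steps.fwd (nat_lit 8192) (Steps.bwd (nat_lit 3) Steps.nil))))) (nat_lit 14) (nat_lit 1),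
  Rule.mk (nat_lit 2) (nat_lit 361) (Steps.bwd (nat_lit 3) (Steps.bwd (nat_lit 1) (Steps.bwd (nat_lit 2) (Steps.bwd (nat_lit 4) (Steps.bwd (nat_lit 6) (Steps.bwd (nat_lit 4) (Steps.bwd (nat_lit 2) (Steps.bwd (nat_lit 1) (Steps.bwd (nat_lit 3) (Steps.bwd (nat_lit 2) (Steps.bwd (nat_lit 3) (Steps.fwd (nat_lit 20480) (Steps.fwd (nat_lit 16384) (Steps.fwd (nat_lit 24576) (Steps.fwd (nat_lit 16384) (Steps.fwd (nat_lit 8192) (Steps.bwd (nat_lit 3) (Steps.bwd (nat_lit 1) (Steps.fwd (nat_lit 8192) (Steps.fwd (nat_lit 20480) (Steps.fwd (nat_lit 24576) (Steps.bwd (nat_lit 9) (Steps.fwd (nat_lit 16384) (Steps.fwd (nat_lit 24576) (Steps.fwd (nat_lit 16384) Steps.nil))))))))))))))))))))))))) (nat_lit 40) (nat_lit 4),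
  Rule.mk (nat_lit 3) (nat_lit 151) (Steps.bwd (nat_lit 1) (Steps.fwd (nat_lit 8192) (Steps.bwd (nat_lit 6) (Steps.fwd (nat_lit 8192) (Steps.fwd (nat_lit 4096) (Steps.bwd (nat_lit 3) (Steps.fwd (nat_lit 8192) (Steps.bwd (nat_lit 5) (Steps.fwd (nat_lit 24576) (Steps.fwd (nat_lit 8192) Steps.nil)))))))))) (nat_lit 38) (nat_lit 3),
  Rule.mk (nat_lit 4) (nat_lit 361) (Steps.bwd (nat_lit 2) (Steps.bwd (nat_lit 3) (Steps.bwd (nat_lit 1) (Steps.bwd (nat_lit 2) (Steps.bwd (nat_lit 4) (Steps.bwd (nat_lit 6) (Steps.bwd (nat_lit 4) (Steps.fwd (nat_lit 8192) (Steps.fwd (nat_lit 4096) (Steps.fwd (nat_lit 12288) (Steps.fwd (nat_lit 8192) (Steps.fwd (nat_lit 12288) (Steps.bwd (nat_lit 5) (Steps.bwd (nat_lit 4) (Steps.fwd (nat_lit 24576) (Steps.fwd (nat_lit 16384) (Steps.fwd (nat_lit 8192) (Steps.bwd (nat_lit 3) (Steps.bwd (nat_lit 1) (Steps.fwd (nat_lit 8192) (Steps.bwd (nat_lit 5) (Steps.bwd (nat_lit 7) (Steps.bwd (nat_lit 9)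 (Steps.fwd (nat_lit 16384) (Steps.bwd (nat_lit 7) Steps.nil))))))))))))))))))))))))) (nat_lit 40) (nat_lit 3),
  Rule.mk (nat_lit 4) (nat_lit 137) (Steps.bwd (nat_lit 5) (Steps.bwd (nat_lit 7) (Steps.bwd (nat_lit 4) (Steps.fwd (nat_lit 28672) (Steps.fwd (nat_lit 16384) (Steps.fwd (nat_lit 20480) (Steps.fwd (nat_lit 24576) (Steps.fwd (nat_lit 16384) (Steps.fwd (nat_lit 28672) Steps.nil))))))))) (nat_lit 36) (nat_lit 1),
  Rule.mk (nat_lit 2) (nat_lit 361) (Steps.bwd (nat_lit 3) (Steps.bwd (nat_lit 1) (Steps.bwd (nat_lit 2) (Steps.bwd (nat_lit 4) (Steps.bwd (nat_lit 6) (Steps.bwd (nat_lit 4) (Steps.bwd (nat_lit 2) (Steps.bwd (nat_lit 1) (Steps.bwd (nat_lit 3) (Steps.bwd (nat_lit 2) (Steps.bwd (nat_lit 3) (Steps.bwd (nat_lit 5) (Steps.bwd (nat_lit 4) (Steps.bwd (nat_lit 7) (Steps.bwd (nat_lit 4) (Steps.bwd (nat_lit 2) (Steps.bwd (nat_lit 3) (Steps.bwd (nat_lit 1) (Steps.bwd (nat_lit 2) (Steps.fwd (nat_lit 20480) (Steps.fwd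 (nat_lit 24576) (Steps.bwd (nat_lit 9) (Steps.fwd (nat_lit 16384) (Steps.bwd (nat_lit 7) (Steps.fwd (nat_lit 16384) Steps.nil))))))))))))))))))))))))) (nat_lit 40) (nat_lit 4),
  Rule.mk (nat_lit 0) (nat_lit 95) (Steps.bwd (nat_lit 5) (Steps.bwd (nat_lit 4) (Steps.fwd (nat_lit 20480) (Steps.fwd (nat_lit 16384) (Steps.fwd (nat_lit 20480) (Steps.bwd (nat_lit 4) Steps.nil)))))) (nat_lit 24) (nat_lit 1),
  Rule.mk (nat_lit 2) (nat_lit 151) (Steps.bwd (nat_lit 3) (Steps.bwd (nat_lit 1) (Steps.bwd (nat_lit 2) (Steps.fwd (nat_lit 28672) (Steps.fwd (nat_lit 8192) (Steps.bwd (nat_lit 1) (Steps.bwd (nat_lit 3) (Steps.fwd (nat_lit 8192) (Steps.bwd (nat_lit 5) (Steps.bwd (nat_lit 7) Steps.nil)))))))))) (nat_lit 38) (nat_lit 2),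
  Rule.mk (nat_lit 9) (nat_lit 53) (Steps.bwd (nat_lit 2) (Steps.fwd (nat_lit 36864) (Steps.fwd (nat_lit 8192) Steps.nil))) (nat_lit 44) (nat_lit 3),
  Rule.mk (nat_lit 2) (nat_lit 361) (Steps.bwd (nat_lit 3) (Steps.bwd (nat_lit 1) (Steps.bwd (nat_lit 2) (Steps.bwd (nat_lit 4) (Steps.bwd (nat_lit 6) (Steps.bwd (nat_lit 4) (Steps.bwd (nat_lit 2) (Steps.bwd (nat_lit 1) (Steps.bwd (nat_lit 3) (Steps.bwd (nat_lit 2) (Steps.bwd (nat_lit 3) (Steps.bwd (nat_lit 5) (Steps.bwd (nat_lit 4) (Steps.bwd (nat_lit 7) (Steps.bwd (nat_lit 4) (Steps.bwd (nat_lit 2) (Steps.bwd (nat_lit 3) (Steps.bwd (nat_lit 1) (Steps.bwd (nat_lit 2) (Steps.bwd (nat_lit 5) (Steps.fwd (nat_lit 24576) (Steps.bwd (nat_lit 9) (Steps.fwd (nat_lit 16384) (Steps.bwd (nat_lit 7) (Steps.bwd (nat_lit 4) Steps.nil))))))))))))))))))))))))) (nat_lit 40) (nat_lit 4),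
  Rule.mk (nat_lit 0) (nat_lit 165) (Steps.bwd (nat_lit 2) (Steps.bwd (nat_lit 3) (Steps.bwd (nat_lit 1) (Steps.bwd (nat_lit 2) (Steps.fwd (nat_lit 28672) (Steps.fwd (nat_lit 8192) (Steps.fwd (nat_lit 4096) (Steps.bwd (nat_lit 3) (Steps.bwd (nat_lit 2) (Steps.bwd (nat_lit 5) (Steps.fwd (nat_lit 24576) Steps.nil))))))))))) (nat_lit 38) (nat_lit 1),
  Rule.mk (nat_lit 4) (nat_lit 137) (Steps.bwd (nat_lit 5) (Steps.bwd (nat_lit 7) (Steps.bwd (nat_lit 4) (Steps.bwd (nat_lit 6) (Steps.fwd (nat_lit 16384) (Steps.fwd (nat_lit 20480) (Steps.bwd (nat_lit 7) (Steps.bwd (nat_lit 4) (Steps.bwd (nat_lit 6) Steps.nil))))))))) (nat_lit 36) (nat_lit 1),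
  Rule.mk (nat_lit 2) (nat_lit 361) (Steps.bwd (nat_lit 3) (Steps.bwd (nat_lit 1) (Steps.bwd (nat_lit 2) (Steps.bwd (nat_lit 4) (Steps.bwd (nat_lit 6) (Steps.bwd (nat_lit 4) (Steps.bwd (nat_lit 2) (Steps.bwd (nat_lit 1) (Steps.bwd (nat_lit 3) (Steps.bwd (nat_lit 2) (Steps.bwd (nat_lit 3) (Steps.fwd (nat_lit 20480) (Steps.fwd (nat_lit 16384) (Steps.fwd (nat_lit 24576) (Steps.fwd (nat_lit 16384) (Steps.bwd (nat_lit 2) (Steps.bwd (nat_lit 3) (Steps.bwd (nat_lit 1) (Steps.bwd (nat_lit 2) (Steps.bwd (nat_lit 5) (Steps.bwd (nat_lit 7) (Steps.bwd (nat_lit 9) (Steps.fwd (nat_lit 16384) (Steps.bwd (nat_lit 7) (Steps.bwd (nat_lit 4) Steps.nil))))))))))))))))))))))))) (nat_lit 40) (nat_lit 4),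
  Rule.mk (nat_lit 6) (nat_lit 53) (Steps.bwd (nat_lit 3) (Steps.bwd (nat_lit 1) (Steps.fwd (nat_lit 28672) Steps.nil))) (nat_lit 28) (nat_lit 2),
  Rule.mk (nat_lit 7) (nat_lit 53) (Steps.bwd (nat_lit 3) (Steps.fwd (nat_lit 28672) (Steps.fwd (nat_lit 12288) Steps.nil))) (nat_lit 32) (nat_lit 1),
  Rule.mk (nat_lit 6) (nat_lit 151) (Steps.bwd (nat_lit 2) (Steps.fwd (nat_lit 4096) (Steps.bwd (nat_lit 3) (Steps.bwd (nat_lit 2) (Steps.fwd (nat_lit 20480) (Steps.bwd (nat_lit 7) (Steps.fwd (nat_lit 8192) (Steps.fwd (nat_lit 12288) (Steps.fwd (nat_lit 4096) (Steps.fwd (nat_lit 8192) Steps.nil)))))))))) (nat_lit 38) (nat_lit 6),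
  Rule.mk (nat_lit 2) (nat_lit 361) (Steps.bwd (nat_lit 3) (Steps.bwd (nat_lit 1) (Steps.bwd (nat_lit 2) (Steps.bwd (nat_lit 4) (Steps.bwd (nat_lit 6) (Steps.bwd (nat_lit 4) (Steps.bwd (nat_lit 2) (Steps.bwd (nat_lit 1) (Steps.bwd (nat_lit 3) (Steps.bwd (nat_lit 2) (Steps.bwd (nat_lit 3) (Steps.bwd (nat_lit 5) (Steps.bwd (nat_lit 4) (Steps.bwd (nat_lit 7) (Steps.bwd (nat_lit 4) (Steps.fwd (nat_lit 8192) (Steps.bwd (nat_lit 3) (Steps.bwd (nat_lit 1) (Steps.fwd (nat_lit 8192) (Steps.fwd (nat_lit 20480) (Steps.bwd (nat_lit 7) (Steps.bwd (nat_lit 9) (Steps.fwd (nat_lit 16384) (Steps.fwd (nat_lit 24576) (Steps.fwd (nat_lit 16384) Steps.nil))))))))))))))))))))))))) (nat_lit 40) (nat_lit 4),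
  Rule.mk (nat_lit 0) (nat_lit 95) (Steps.bwd (nat_lit 5) (Steps.bwd (nat_lit 4) (Steps.fwd (nat_lit 20480) (Steps.fwd (nat_lit 16384) (Steps.fwd (nat_lit 20480) (Steps.fwd (nat_lit 16384) Steps.nil)))))) (nat_lit 24) (nat_lit 1),
  Rule.mk (nat_lit 2) (nat_lit 361) (Steps.bwd (nat_lit 3) (Steps.bwd (nat_lit 1) (Steps.bwd (nat_lit 2) (Steps.bwd (nat_lit 4) (Steps.bwd (nat_lit 6) (Steps.bwd (nat_lit 4) (Steps.bwd (nat_lit 2) (Steps.bwd (nat_lit 1) (Steps.bwd (nat_lit 3) (Steps.bwd (nat_lit 2) (Steps.bwd (nat_lit 3) (Steps.fwd (nat_lit 20480) (Steps.fwd (nat_lit 16384) (Steps.bwd (nat_lit 7) (Steps.bwd (nat_lit 4) (Steps.bwd (nat_lit 2) (Steps.bwd (nat_lit 3) (Steps.bwd (nat_lit 1) (Steps.bwd (nat_lit 2) (Steps.fwd (nat_lit 20480) (Steps.bwd (nat_lit 7) (Steps.bwd (nat_lit 9) (Steps.bwd (nat_lit 4) (Steps.bwd (nat_lit 7) (Steps.fwd (nat_lit 16384) Steps.nil))))))))))))))))))))))))) (nat_lit 40) (nat_lit 4),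
  Rule.mk (nat_lit 3) (nat_lit 151) (Steps.bwd (nat_lit 1) (Steps.fwd (nat_lit 8192) (Steps.fwd (nat_lit 28672) (Steps.fwd (nat_lit 8192) (Steps.fwd (nat_lit 4096) (Steps.bwd (nat_lit 3) (Steps.fwd (nat_lit 8192) (Steps.bwd (nat_lit 5) (Steps.bwd (nat_lit 7) (Steps.fwd (nat_lit 8192) Steps.nil)))))))))) (nat_lit 38) (nat_lit 3),
  Rule.mk (nat_lit 0) (nat_lit 165) (Steps.bwd (nat_lit 2) (Steps.bwd (nat_lit 3) (Steps.bwd (nat_lit 1) (Steps.bwd (nat_lit 2) (Steps.bwd (nat_lit 6) (Steps.bwd (nat_lit 2) (Steps.bwd (nat_lit 1) (Steps.fwd (nat_lit 12288) (Steps.fwd (nat_lit 8192) (Steps.fwd (nat_lit 20480) (Steps.bwd (nat_lit 7) Steps.nil))))))))))) (nat_lit 38) (nat_lit 1),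
  Rule.mk (nat_lit 0) (nat_lit 151) (Steps.bwd (nat_lit 5) (Steps.bwd (nat_lit 4) (Steps.bwd (nat_lit 7) (Steps.fwd (nat_lit 16384) (Steps.fwd (nat_lit 28672) (Steps.bwd (nat_lit 5) (Steps.fwd (nat_lit 16384) (Steps.fwd (nat_lit 24576) (Steps.fwd (nat_lit 16384) (Steps.fwd (nat_lit 28672) Steps.nil)))))))))) (nat_lit 37) (nat_lit 3),
  Rule.mk (nat_lit 4) (nat_lit 137) (Steps.bwd (nat_lit 5) (Steps.bwd (nat_lit 7) (Steps.fwd (nat_lit 16384) (Steps.fwd (nat_lit 28672) (Steps.bwd (nat_lit 4) (Steps.fwd (nat_lit 20480) (Steps.bwd (nat_lit 7) (Steps.bwd (nat_lit 4) (Steps.fwd (nat_lit 28672) Steps.nil))))))))) (nat_lit 36) (nat_lit 1),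
  Rule.mk (nat_lit 3) (nat_lit 151) (Steps.bwd (nat_lit 1) (Steps.fwd (nat_lit 8192) (Steps.bwd (nat_lit 6) (Steps.fwd (nat_lit 8192) (Steps.bwd (nat_lit 1) (Steps.bwd (nat_lit 3) (Steps.fwd (nat_lit 8192) (Steps.fwd (nat_lit 20480) (Steps.bwd (nat_lit 7) (Steps.fwd (nat_lit 8192) Steps.nil)))))))))) (nat_lit 38) (nat_lit 3),
  Rule.mk (nat_lit 2) (nat_lit 81) (Steps.fwd (nat_lit 12288) (Steps.fwd (nat_lit 8192) (Steps.fwd (nat_lit 12288) (Steps.fwd (nat_lit 8192) (Steps.bwd (nat_lit 3) Steps.nil))))) (nat_lit 14) (nat_lit 1),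
  Rule.mk (nat_lit 3) (nat_lit 361) (Steps.bwd (nat_lit 1) (Steps.bwd (nat_lit 2) (Steps.bwd (nat_lit 4) (Steps.bwd (nat_lit 6) (Steps.bwd (nat_lit 4) (Steps.bwd (nat_lit 2) (Steps.bwd (nat_lit 1) (Steps.bwd (nat_lit 3) (Steps.bwd (nat_lit 2) (Steps.bwd (nat_lit 3) (Steps.fwd (nat_lit 20480) (Steps.fwd (nat_lit 16384) (Steps.bwd (nat_lit 7) (Steps.fwd (nat_lit 16384) (Steps.fwd (nat_lit 8192) (Steps.bwd (nat_lit 3) (Steps.bwd (nat_lit 1) (Steps.fwd (nat_lit 8192) (Steps.fwd (nat_lit 20480) (Steps.fwd (nat_lit 24576) (Steps.bwd (nat_lit 9) (Steps.bwd (nat_lit 4) (Steps.fwd (nat_lit 24576) (Steps.bwd (nat_lit 4) (Steps.bwd (nat_lit 2) Steps.nil))))))))))))))))))))))))) (nat_lit 40) (nat_lit 5),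
  Rule.mk (nat_lit 0) (nat_lit 165) (Steps.fwd (nat_lit 4096) (Steps.fwd (nat_lit 12288) (Steps.fwd (nat_lit 8192) (Steps.bwd (nat_lit 6) (Steps.bwd (nat_lit 5) (Steps.fwd (nat_lit 8192) (Steps.fwd (nat_lit 12288) (Steps.bwd (nat_lit 1) (Steps.fwd (nat_lit 8192) (Steps.bwd (nat_lit 7) (Steps.fwd (nat_lit 8192) Steps.nil))))))))))) (nat_lit 39) (nat_lit 7),
  Rule.mk (nat_lit 2) (nat_lit 361) (Steps.bwd (nat_lit 1) (Steps.bwd (nat_lit 3) (Steps.bwd (nat_lit 2) (Steps.bwd (nat_lit 3) (Steps.bwd (nat_lit 5) (Steps.bwd (nat_lit 4) (Steps.bwd (nat_lit 7) (Steps.bwd (nat_lit 4) (Steps.fwd (nat_lit 8192) (Steps.fwd (nat_lit 12288) (Steps.fwd (nat_lit 4096) (Steps.bwd (nat_lit 2) (Steps.bwd (nat_lit 5) (Steps.fwd (nat_lit 24576) (Steps.bwd (nat_lit 9) (Steps.fwd (nat_lit 16384) (Steps.bwd (nat_lit 7) (Steps.fwd (nat_lit 16384) (Steps.bwd (nat_lit 2) (Steps.bwd (nat_lit 3) (Steps.bwd (nat_lit 1) (Steps.fwd (nat_lit 8192) (Steps.bwd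 (nat_lit 4) (Steps.fwd (nat_lit 28672) (Steps.fwd (nat_lit 16384) Steps.nil))))))))))))))))))))))))) (nat_lit 40) (nat_lit 11),
  Rule.mk (nat_lit 0) (nat_lit 151) (Steps.bwd (nat_lit 5) (Steps.bwd (nat_lit 4) (Steps.bwd (nat_lit 7) (Steps.bwd (nat_lit 4) (Steps.fwd (nat_lit 28672) (Steps.fwd (nat_lit 20480) (Steps.fwd (nat_lit 16384) (Steps.bwd (nat_lit 7) (Steps.fwd (nat_lit 16384) (Steps.bwd (nat_lit 6) Steps.nil)))))))))) (nat_lit 37) (nat_lit 3),
  Rule.mk (nat_lit 4) (nat_lit 445) (Steps.bwd (nat_lit 5) (Steps.bwd (nat_lit 2) (Steps.bwd (nat_lit 3) (Steps.fwd (nat_lit 16384) (Steps.fwd (nat_lit 20480) (Steps.fwd (nat_lit 8192) (Steps.fwd (nat_lit 12288) (Steps.bwd (nat_lit 4) (Steps.fwd (nat_lit 20480) (Steps.fwd (nat_lit 8192) (Steps.bwd (nat_lit 3) (Steps.fwd (nat_lit 16384) (Steps.fwd (nat_lit 20480) (Steps.fwd (nat_lit 8192) (Steps.fwd (nat_lit 12288) (Steps.fwd (nat_lit 16384) (Steps.fwd (nat_lit 20480)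 (Steps.fwd (nat_lit 8192) (Steps.bwd (nat_lit 3) (Steps.bwd (nat_lit 4) (Steps.bwd (nat_lit 5) (Steps.bwd (nat_lit 2) (Steps.fwd (nat_lit 12288) (Steps.fwd (nat_lit 16384) (Steps.fwd (nat_lit 20480) (Steps.bwd (nat_lit 2) (Steps.fwd (nat_lit 12288) (Steps.fwd (nat_lit 16384) (Steps.fwd (nat_lit 20480) (Steps.fwd (nat_lit 8192) (Steps.fwd (nat_lit 12288) Steps.nil))))))))))))))))))))))))))))))) (nat_lit 26) (nat_lit 3),
  Rule.mk (nat_lit 3) (nat_lit 123) (Steps.fwd (nat_lit 16384) (Steps.fwd (nat_lit 12288) (Steps.fwd (nat_lit 16384) (Steps.bwd (nat_lit 3) (Steps.fwd (nat_lit 4096) (Steps.fwd (nat_lit 16384) (Steps.fwd (nat_lit 12288) (Steps.bwd (nat_lit 4) Steps.nil)))))))) (nat_lit 20) (nat_lit 5),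
  Rule.mk (nat_lit 1) (nat_lit 123) (Steps.bwd (nat_lit 3) (Steps.bwd (nat_lit 4) (Steps.fwd (nat_lit 12288) (Steps.fwd (nat_lit 16384) (Steps.bwd (nat_lit 3) (Steps.fwd (nat_lit 16384) (Steps.fwd (nat_lit 12288) (Steps.bwd (nat_lit 4) Steps.nil)))))))) (nat_lit 21) (nat_lit 0),
  Rule.mk (nat_lit 7) (nat_lit 151) (Steps.bwd (nat_lit 2) (Steps.bwd (nat_lit 1) (Steps.bwd (nat_lit 3) (Steps.bwd (nat_lit 2) (Steps.bwd (nat_lit 6) (Steps.fwd (nat_lit 20480) (Steps.bwd (nat_lit 2) (Steps.bwd (nat_lit 3) (Steps.bwd (nat_lit 1) (Steps.fwd (nat_lit 8192) Steps.nil)))))))))) (nat_lit 39) (nat_lit 6),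
  Rule.mk (nat_lit 6) (nat_lit 53) (Steps.bwd (nat_lit 6) (Steps.fwd (nat_lit 12288) (Steps.bwd (nat_lit 1) Steps.nil))) (nat_lit 28) (nat_lit 1),
  Rule.mk (nat_lit 6) (nat_lit 137) (Steps.bwd (nat_lit 4) (Steps.bwd (nat_lit 5) (Steps.bwd (nat_lit 7) (Steps.bwd (nat_lit 4) (Steps.bwd (nat_lit 6) (Steps.bwd (nat_lit 4) (Steps.fwd (nat_lit 20480) (Steps.bwd (nat_lit 7) (Steps.fwd (nat_lit 16384) Steps.nil))))))))) (nat_lit 36) (nat_lit 0),
  Rule.mk (nat_lit 3) (nat_lit 151) (Steps.bwd (nat_lit 1) (Steps.bwd (nat_lit 2) (Steps.bwd (nat_lit 6) (Steps.fwd (nat_lit 8192) (Steps.fwd (nat_lit 4096) (Steps.fwd (nat_lit 12288) (Steps.bwd (nat_lit 2) (Steps.fwd (nat_lit 20480) (Steps.fwd (nat_lit 24576) (Steps.fwd (nat_lit 8192) Steps.nil)))))))))) (nat_lit 38) (nat_lit 3),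
  Rule.mk (nat_lit 2) (nat_lit 361) (Steps.bwd (nat_lit 3) (Steps.bwd (nat_lit 1) (Steps.bwd (nat_lit 2) (Steps.bwd (nat_lit 4) (Steps.bwd (nat_lit 6) (Steps.bwd (nat_lit 4) (Steps.bwd (nat_lit 2) (Steps.bwd (nat_lit 1) (Steps.bwd (nat_lit 3) (Steps.bwd (nat_lit 2) (Steps.bwd (nat_lit 3) (Steps.bwd (nat_lit 5) (Steps.bwd (nat_lit 4) (Steps.bwd (nat_lit 7) (Steps.bwd (nat_lit 4) (Steps.fwd (nat_lit 8192) (Steps.bwd (nat_lit 3) (Steps.bwd (nat_lit 1) (Steps.bwd (nat_lit 2) (Steps.fwd (nat_lit 20480) (Steps.fwd (nat_lit 24576) (Steps.bwd (nat_lit 9) (Steps.bwd (nat_lit 4) (Steps.fwd (nat_lit 24576) (Steps.bwd (nat_lit 4) Steps.nil))))))))))))))))))))))))) (nat_lit 40) (nat_lit 4),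
  Rule.mk (nat_lit 0) (nat_lit 165) (Steps.fwd (nat_lit 8192) (Steps.fwd (nat_lit 4096) (Steps.fwd (nat_lit 12288) (Steps.fwd (nat_lit 8192) (Steps.bwd (nat_lit 5) (Steps.bwd (nat_lit 7) (Steps.bwd (nat_lit 2) (Steps.bwd (nat_lit 3) (Steps.bwd (nat_lit 1) (Steps.bwd (nat_lit 2) (Steps.fwd (nat_lit 28672) Steps.nil))))))))))) (nat_lit 38) (nat_lit 6),
  Rule.mk (nat_lit 5) (nat_lit 81) (Steps.bwd (nat_lit 4) (Steps.bwd (nat_lit 5) (Steps.bwd (nat_lit 4) (Steps.fwd (nat_lit 20480) (Steps.bwd (nat_lit 4) Steps.nil))))) (nat_lit 24) (nat_lit 0),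
  Rule.mk (nat_lit 0) (nat_lit 67) (Steps.fwd (nat_lit 8192) (Steps.bwd (nat_lit 5) (Steps.fwd (nat_lit 8192) (Steps.bwd (nat_lit 5) Steps.nil)))) (nat_lit 18) (nat_lit 0),
  Rule.mk (nat_lit 3) (nat_lit 123) (Steps.fwd (nat_lit 16384) (Steps.fwd (nat_lit 12288) (Steps.fwd (nat_lit 16384) (Steps.bwd (nat_lit 3) (Steps.bwd (nat_lit 4) (Steps.bwd (nat_lit 3) (Steps.bwd (nat_lit 1) (Steps.bwd (nat_lit 4) Steps.nil)))))))) (nat_lit 20) (nat_lit 3),
  Rule.mk (nat_lit 3) (nat_lit 123) (Steps.fwd (nat_lit 16384) (Steps.fwd (nat_lit 12288) (Steps.bwd (nat_lit 1) (Steps.fwd (nat_lit 16384) (Steps.bwd (nat_lit 3) (Steps.bwd (nat_lit 4) (Steps.bwd (nat_lit 3) (Steps.fwd (nat_lit 16384) Steps.nil)))))))) (nat_lit 20) (nat_lit 7),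
  Rule.mk (nat_lit 1) (nat_lit 123) (Steps.bwd (nat_lit 3) (Steps.fwd (nat_lit 16384) (Steps.fwd (nat_lit 12288) (Steps.fwd (nat_lit 16384) (Steps.bwd (nat_lit 3) (Steps.bwd (nat_lit 4) (Steps.bwd (nat_lit 3) (Steps.fwd (nat_lit 16384) Steps.nil)))))))) (nat_lit 21) (nat_lit 0),
  Rule.mk (nat_lit 1) (nat_lit 123) (Steps.bwd (nat_lit 3) (Steps.bwd (nat_lit 4) (Steps.bwd (nat_lit 3) (Steps.fwd (nat_lit 16384) (Steps.bwd (nat_lit 3) (Steps.fwd (nat_lit 16384) (Steps.fwd (nat_lit 12288) (Steps.fwd (nat_lit 16384) Steps.nil)))))))) (nat_lit 21) (nat_lit 0),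
  Rule.mk (nat_lit 1) (nat_lit 123) (Steps.fwd (nat_lit 12288) (Steps.bwd (nat_lit 4) (Steps.fwd (nat_lit 12288) (Steps.fwd (nat_lit 16384) (Steps.fwd (nat_lit 12288) (Steps.bwd (nat_lit 4) (Steps.bwd (nat_lit 3) (Steps.bwd (nat_lit 4) Steps.nil)))))))) (nat_lit 21) (nat_lit 0),
  Rule.mk (nat_lit 1) (nat_lit 123) (Steps.fwd (nat_lit 12288) (Steps.bwd (nat_lit 4) (Steps.bwd (nat_lit 3) (Steps.bwd (nat_lit 4) (Steps.fwd (nat_lit 12288) (Steps.fwd (nat_lit 16384) (Steps.bwd (nat_lit 3) (Steps.fwd (nat_lit 16384) Steps.nil)))))))) (nat_lit 21) (nat_lit 0),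
  Rule.mk (nat_lit 7) (nat_lit 53) (Steps.fwd (nat_lit 24576) (Steps.bwd (nat_lit 1) (Steps.fwd (nat_lit 12288) Steps.nil))) (nat_lit 29) (nat_lit 3),
  Rule.mk (nat_lit 1) (nat_lit 53) (Steps.fwd (nat_lit 24576) (Steps.bwd (nat_lit 1) (Steps.fwd (nat_lit 28672) Steps.nil))) (nat_lit 30) (nat_lit 0),
  Rule.mk (nat_lit 3) (nat_lit 123) (Steps.bwd (nat_lit 1) (Steps.bwd (nat_lit 4) (Steps.bwd (nat_lit 3) (Steps.fwd (nat_lit 16384) (Steps.bwd (nat_lit 3) (Steps.fwd (nat_lit 16384) (Steps.fwd (nat_lit 12288) (Steps.fwd (nat_lit 16384) Steps.nil)))))))) (nat_lit 20) (nat_lit 0),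
  Rule.mk (nat_lit 0) (nat_lit 67) (Steps.bwd (nat_lit 3) (Steps.fwd (nat_lit 4096) (Steps.fwd (nat_lit 28672) (Steps.fwd (nat_lit 28672) Steps.nil)))) (nat_lit 28) (nat_lit 2),
  Rule.mk (nat_lit 6) (nat_lit 53) (Steps.fwd (nat_lit 12288) (Steps.bwd (nat_lit 7) (Steps.bwd (nat_lit 3) Steps.nil))) (nat_lit 32) (nat_lit 3),
  Rule.mk (nat_lit 1) (nat_lit 53) (Steps.bwd (nat_lit 5) (Steps.bwd (nat_lit 1) (Steps.fwd (nat_lit 20480) Steps.nil))) (nat_lit 12) (nat_lit 1),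
  Rule.mk (nat_lit 3) (nat_lit 53) (Steps.fwd (nat_lit 20480) (Steps.bwd (nat_lit 3) (Steps.fwd (nat_lit 20480) Steps.nil))) (nat_lit 22) (nat_lit 1)]
noncomputable def R_11 : List (Rule) := [Rule.mk (nat_lit 2) (nat_lit 81) (Steps.fwd (nat_lit 4096) (Steps.fwd (nat_lit 8192) (Steps.bwd (nat_lit 1) (Steps.bwd (nat_lit 2) (Steps.bwd (nat_lit 1) Steps.nil))))) (nat_lit 10) (nat_lit 0),
  Rule.mk (nat_lit 3) (nat_lit 123) (Steps.bwd (nat_lit 4) (Steps.bwd (nat_lit 3) (Steps.bwd (nat_lit 4) (Steps.bwd (nat_lit 3) (Steps.fwd (nat_lit 16384) (Steps.bwd (nat_lit 3) (Steps.fwd (nat_lit 4096) (Steps.fwd (nat_lit 16384) Steps.nil)))))))) (nat_lit 20) (nat_lit 3),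
  Rule.mk (nat_lit 3) (nat_lit 123) (Steps.bwd (nat_lit 4) (Steps.fwd (nat_lit 12288) (Steps.fwd (nat_lit 4096) (Steps.bwd (nat_lit 4) (Steps.bwd (nat_lit 3) (Steps.fwd (nat_lit 16384) (Steps.bwd (nat_lit 3) (Steps.fwd (nat_lit 16384) Steps.nil)))))))) (nat_lit 20) (nat_lit 7),
  Rule.mk (nat_lit 1) (nat_lit 123) (Steps.bwd (nat_lit 3) (Steps.bwd (nat_lit 4) (Steps.bwd (nat_lit 3) (Steps.bwd (nat_lit 4) (Steps.bwd (nat_lit 3) (Steps.fwd (nat_lit 16384) (Steps.bwd (nat_lit 3) (Steps.fwd (nat_lit 16384) Steps.nil)))))))) (nat_lit 21) (nat_lit 0),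
  Rule.mk (nat_lit 1) (nat_lit 123) (Steps.bwd (nat_lit 3) (Steps.fwd (nat_lit 16384) (Steps.bwd (nat_lit 3) (Steps.fwd (nat_lit 16384) (Steps.bwd (nat_lit 3) (Steps.bwd (nat_lit 4) (Steps.fwd (nat_lit 12288) (Steps.bwd (nat_lit 4) Steps.nil)))))))) (nat_lit 21) (nat_lit 0),
  Rule.mk (nat_lit 1) (nat_lit 123) (Steps.fwd (nat_lit 12288) (Steps.fwd (nat_lit 16384) (Steps.fwd (nat_lit 12288) (Steps.fwd (nat_lit 16384) (Steps.fwd (nat_lit 12288) (Steps.bwd (nat_lit 4) (Steps.bwd (nat_lit 3) (Steps.fwd (nat_lit 16384) Steps.nil)))))))) (nat_lit 21) (nat_lit 0),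
  Rule.mk (nat_lit 3) (nat_lit 123) (Steps.bwd (nat_lit 1) (Steps.fwd (nat_lit 16384) (Steps.bwd (nat_lit 3) (Steps.fwd (nat_lit 16384) (Steps.bwd (nat_lit 3) (Steps.bwd (nat_lit 4) (Steps.fwd (nat_lit 12288) (Steps.bwd (nat_lit 4) Steps.nil)))))))) (nat_lit 20) (nat_lit 0),
  Rule.mk (nat_lit 7) (nat_lit 53) (Steps.fwd (nat_lit 24576) (Steps.fwd (nat_lit 4096) (Steps.fwd (nat_lit 12288) Steps.nil))) (nat_lit 29) (nat_lit 3),
  Rule.mk (nat_lit 0) (nat_lit 67) (Steps.bwd (nat_lit 3) (Steps.fwd (nat_lit 4096) (Steps.fwd (nat_lit 28672) (Steps.bwd (nat_lit 6) Steps.nil)))) (nat_lit 28) (nat_lit 2),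
  Rule.mk (nat_lit 5) (nat_lit 137) (Steps.fwd (nat_lit 16384) (Steps.bwd (nat_lit 7) (Steps.fwd (nat_lit 16384) (Steps.fwd (nat_lit 28672) (Steps.bwd (nat_lit 5) (Steps.bwd (nat_lit 4) (Steps.bwd (nat_lit 7) (Steps.fwd (nat_lit 16384) (Steps.bwd (nat_lit 6) Steps.nil))))))))) (nat_lit 37) (nat_lit 4),
  Rule.mk (nat_lit 5) (nat_lit 81) (Steps.fwd (nat_lit 16384) (Steps.bwd (nat_lit 5) (Steps.fwd (nat_lit 16384) (Steps.bwd (nat_lit 5) (Steps.bwd (nat_lit 4) Steps.nil))))) (nat_lit 24) (nat_lit 0),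
  Rule.mk (nat_lit 6) (nat_lit 137) (Steps.fwd (nat_lit 16384) (Steps.bwd (nat_lit 5) (Steps.bwd (nat_lit 7) (Steps.fwd (nat_lit 16384) (Steps.fwd (nat_lit 28672) (Steps.bwd (nat_lit 4) (Steps.bwd (nat_lit 5) (Steps.bwd (nat_lit 7) (Steps.fwd (nat_lit 16384) Steps.nil))))))))) (nat_lit 36) (nat_lit 0),
  Rule.mk (nat_lit 0) (nat_lit 151) (Steps.bwd (nat_lit 7) (Steps.bwd (nat_lit 4) (Steps.fwd (nat_lit 28672) (Steps.bwd (nat_lit 4) (Steps.bwd (nat_lit 5) (Steps.fwd (nat_lit 24576) (Steps.bwd (nat_lit 4) (Steps.fwd (nat_lit 28672) (Steps.fwd (nat_lit 16384) (Steps.fwd (nat_lit 20480) Steps.nil)))))))))) (nat_lit 36) (nat_lit 2),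
  Rule.mk (nat_lit 0) (nat_lit 53) (Steps.fwd (nat_lit 24576) (Steps.bwd (nat_lit 0) (Steps.bwd (nat_lit 6) Steps.nil))) (nat_lit 54) (nat_lit 0),
  Rule.mk (nat_lit 1) (nat_lit 81) (Steps.bwd (nat_lit 2) (Steps.bwd (nat_lit 1) (Steps.bwd (nat_lit 2) (Steps.fwd (nat_lit 4096) (Steps.fwd (nat_lit 8192) Steps.nil))))) (nat_lit 10) (nat_lit 1),
  Rule.mk (nat_lit 7) (nat_lit 53) (Steps.fwd (nat_lit 4096) (Steps.bwd (nat_lit 6) (Steps.bwd (nat_lit 1) Steps.nil))) (nat_lit 30) (nat_lit 1),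
  Rule.mk (nat_lit 1) (nat_lit 53) (Steps.fwd (nat_lit 12288) (Steps.bwd (nat_lit 7) (Steps.fwd (nat_lit 24576) Steps.nil))) (nat_lit 29) (nat_lit 1),
  Rule.mk (nat_lit 0) (nat_lit 165) (Steps.bwd (nat_lit 6) (Steps.fwd (nat_lit 8192) (Steps.fwd (nat_lit 4096) (Steps.bwd (nat_lit 3) (Steps.bwd (nat_lit 2) (Steps.bwd (nat_lit 5) (Steps.bwd (nat_lit 7) (Steps.fwd (nat_lit 8192) (Steps.fwd (nat_lit 12288) (Steps.fwd (nat_lit 4096) (Steps.fwd (nat_lit 8192) Steps.nil))))))))))) (nat_lit 38) (nat_lit 5),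
  Rule.mk (nat_lit 3) (nat_lit 123) (Steps.bwd (nat_lit 4) (Steps.bwd (nat_lit 3) (Steps.fwd (nat_lit 16384) (Steps.fwd (nat_lit 12288) (Steps.fwd (nat_lit 4096) (Steps.fwd (nat_lit 16384) (Steps.fwd (nat_lit 12288) (Steps.fwd (nat_lit 16384) Steps.nil)))))))) (nat_lit 20) (nat_lit 5),
  Rule.mk (nat_lit 0) (nat_lit 137) (Steps.bwd (nat_lit 3) (Steps.fwd (nat_lit 16384) (Steps.fwd (nat_lit 12288) (Steps.fwd (nat_lit 16384) (Steps.fwd (nat_lit 12288) (Steps.bwd (nat_lit 4) (Steps.fwd (nat_lit 4096) (Steps.bwd (nat_lit 3) (Steps.bwd (nat_lit 4) Steps.nil))))))))) (nat_lit 21) (nat_lit 2),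
  Rule.mk (nat_lit 0) (nat_lit 53) (Steps.fwd (nat_lit 28672) (Steps.fwd (nat_lit 0) (Steps.fwd (nat_lit 24576) Steps.nil))) (nat_lit 54) (nat_lit 0),
  Rule.mk (nat_lit 0) (nat_lit 53) (Steps.bwd (nat_lit 6) (Steps.bwd (nat_lit 0) (Steps.bwd (nat_lit 7) Steps.nil))) (nat_lit 54) (nat_lit 0),
  Rule.mk (nat_lit 0) (nat_lit 151) (Steps.fwd (nat_lit 20480) (Steps.fwd (nat_lit 16384) (Steps.fwd (nat_lit 24576) (Steps.bwd (nat_lit 4) (Steps.bwd (nat_lit 6) (Steps.fwd (nat_lit 20480) (Steps.bwd (nat_lit 4) (Steps.bwd (nat_lit 7) (Steps.bwd (nat_lit 4) (Steps.bwd (nat_lit 6) Steps.nil)))))))))) (nat_lit 37) (nat_lit 3),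
  Rule.mk (nat_lit 0) (nat_lit 67) (Steps.bwd (nat_lit 1) (Steps.bwd (nat_lit 0) (Steps.fwd (nat_lit 4096) (Steps.fwd (nat_lit 0) Steps.nil)))) (nat_lit 54) (nat_lit 0),
  Rule.mk (nat_lit 0) (nat_lit 375) (Steps.fwd (nat_lit 8192) (Steps.fwd (nat_lit 4096) (Steps.fwd (nat_lit 12288) (Steps.fwd (nat_lit 8192) (Steps.fwd (nat_lit 16384) (Steps.fwd (nat_lit 28672) (Steps.fwd (nat_lit 16384) (Steps.bwd (nat_lit 5) (Steps.fwd (nat_lit 12288) (Steps.fwd (nat_lit 8192) (Steps.fwd (nat_lit 12288) (Steps.fwd (nat_lit 4096) (Steps.bwd (nat_lit 2) (Steps.bwd (nat_lit 4) (Steps.fwd (nat_lit 24576) (Steps.fwd (nat_lit 16384) (Steps.fwd (nat_lit 8192) (Steps.fwd (nat_lit 4096) (Steps.fwd (nat_lit 12288) (Steps.fwd (nat_lit 8192) (Steps.bwd (nat_lit 4) (Steps.bwd (nat_lit 6) (Steps.bwd (nat_lit 4) (Steps.bwd (nat_lit 8) (Steps.fwd (nat_lit 28672) (Steps.bwd (nat_lit 5) Steps.nil)))))))))))))))))))))))))) (nat_lit 41) (nat_lit 3),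
  Rule.mk (nat_lit 0) (nat_lit 165) (Steps.fwd (nat_lit 24576) (Steps.fwd (nat_lit 8192) (Steps.bwd (nat_lit 1) (Steps.fwd (nat_lit 12288) (Steps.bwd (nat_lit 2) (Steps.bwd (nat_lit 6) (Steps.fwd (nat_lit 20480) (Steps.bwd (nat_lit 2) (Steps.bwd (nat_lit 3) (Steps.bwd (nat_lit 1) (Steps.bwd (nat_lit 2) Steps.nil))))))))))) (nat_lit 39) (nat_lit 5),
  Rule.mk (nat_lit 4) (nat_lit 53) (Steps.bwd (nat_lit 2) (Steps.fwd (nat_lit 16384) (Steps.fwd (nat_lit 8192) Steps.nil))) (nat_lit 16) (nat_lit 0),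
  Rule.mk (nat_lit 0) (nat_lit 67) (Steps.bwd (nat_lit 3) (Steps.bwd (nat_lit 7) (Steps.bwd (nat_lit 7) (Steps.fwd (nat_lit 4096) Steps.nil)))) (nat_lit 29) (nat_lit 1),
  Rule.mk (nat_lit 0) (nat_lit 165) (Steps.fwd (nat_lit 8192) (Steps.fwd (nat_lit 12288) (Steps.fwd (nat_lit 4096) (Steps.fwd (nat_lit 8192) (Steps.fwd (nat_lit 28672) (Steps.fwd (nat_lit 8192) (Steps.fwd (nat_lit 4096) (Steps.bwd (nat_lit 3) (Steps.bwd (nat_lit 2) (Steps.bwd (nat_lit 5) (Steps.bwd (nat_lit 7) Steps.nil))))))))))) (nat_lit 38) (nat_lit 1),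
  Rule.mk (nat_lit 0) (nat_lit 375) (Steps.bwd (nat_lit 5) (Steps.bwd (nat_lit 7) (Steps.fwd (nat_lit 32768) (Steps.fwd (nat_lit 16384) (Steps.fwd (nat_lit 24576) (Steps.fwd (nat_lit 16384) (Steps.fwd (nat_lit 8192) (Steps.fwd (nat_lit 12288) (Steps.fwd (nat_lit 4096) (Steps.fwd (nat_lit 8192) (Steps.fwd (nat_lit 16384) (Steps.bwd (nat_lit 6) (Steps.bwd (nat_lit 4) (Steps.fwd (nat_lit 8192) (Steps.fwd (nat_lit 4096) (Steps.bwd (nat_lit 3) (Steps.fwd (nat_lit 8192) (Steps.fwd (nat_lit 12288) (Steps.bwd (nat_lit 5) (Steps.fwd (nat_lit 16384) (Steps.bwd (nat_lit 7) (Steps.bwd (nat_lit 4) (Steps.bwd (nat_lit 2) (Steps.fwd (nat_lit 12288) (Steps.bwd (nat_lit 1) (Steps.bwd (nat_lit 2) Steps.nil)))))))))))))))))))))))))) (nat_lit 40) (nat_lit 23),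
  Rule.mk (nat_lit 0) (nat_lit 53) (Steps.bwd (nat_lit 1) (Steps.bwd (nat_lit 0) (Steps.bwd (nat_lit 1) Steps.nil))) (nat_lit 54) (nat_lit 0),
  Rule.mk (nat_lit 1) (nat_lit 53) (Steps.bwd (nat_lit 3) (Steps.bwd (nat_lit 7) (Steps.fwd (nat_lit 24576) Steps.nil))) (nat_lit 29) (nat_lit 1),
  Rule.mk (nat_lit 7) (nat_lit 53) (Steps.bwd (nat_lit 3) (Steps.bwd (nat_lit 6) (Steps.bwd (nat_lit 3) Steps.nil))) (nat_lit 32) (nat_lit 1),
  Rule.mk (nat_lit 1) (nat_lit 123) (Steps.bwd (nat_lit 4) (Steps.bwd (nat_lit 3) (Steps.fwd (nat_lit 16384) (Steps.fwd (nat_lit 12288) (Steps.bwd (nat_lit 4) (Steps.bwd (nat_lit 3) (Steps.bwd (nat_lit 4) (Steps.fwd (nat_lit 12288) Steps.nil)))))))) (nat_lit 20) (nat_lit 1),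
  Rule.mk (nat_lit 0) (nat_lit 95) (Steps.fwd (nat_lit 8192) (Steps.bwd (nat_lit 1) (Steps.fwd (nat_lit 8192) (Steps.bwd (nat_lit 1) (Steps.bwd (nat_lit 2) (Steps.bwd (nat_lit 1) Steps.nil)))))) (nat_lit 10) (nat_lit 1),
  Rule.mk (nat_lit 3) (nat_lit 361) (Steps.bwd (nat_lit 1) (Steps.bwd (nat_lit 2) (Steps.fwd (nat_lit 16384) (Steps.fwd (nat_lit 28672) (Steps.bwd (nat_lit 4) (Steps.bwd (nat_lit 2) (Steps.bwd (nat_lit 1) (Steps.fwd (nat_lit 12288) (Steps.fwd (nat_lit 8192) (Steps.bwd (nat_lit 3) (Steps.fwd (nat_lit 20480) (Steps.fwd (nat_lit 16384) (Steps.fwd (nat_lit 24576) (Steps.fwd (nat_lit 16384) (Steps.bwd (nat_lit 2) (Steps.fwd (nat_lit 12288) (Steps.fwd (nat_lit 4096) (Steps.bwd (nat_lit 2) (Steps.bwd (nat_lit 5) (Steps.fwd (nat_lit 24576) (Steps.fwd (nat_lit 32768) (Steps.fwd (nat_lit 16384) (Steps.bwd (nat_lit 7) (Steps.fwd (nat_lit 16384) (Steps.fwd (nat_lit 8192) Steps.nil))))))))))))))))))))))))) (nat_lit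 40) (nat_lit 5),
  Rule.mk (nat_lit 0) (nat_lit 165) (Steps.fwd (nat_lit 28672) (Steps.fwd (nat_lit 8192) (Steps.fwd (nat_lit 4096) (Steps.fwd (nat_lit 12288) (Steps.bwd (nat_lit 2) (Steps.bwd (nat_lit 5) (Steps.bwd (nat_lit 7) (Steps.bwd (nat_lit 2) (Steps.bwd (nat_lit 3) (Steps.bwd (nat_lit 1) (Steps.bwd (nat_lit 2) Steps.nil))))))))))) (nat_lit 38) (nat_lit 5),
  Rule.mk (nat_lit 5) (nat_lit 81) (Steps.fwd (nat_lit 16384) (Steps.bwd (nat_lit 5) (Steps.fwd (nat_lit 16384) (Steps.fwd (nat_lit 20480) (Steps.bwd (nat_lit 4) Steps.nil))))) (nat_lit 24) (nat_lit 0),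
  Rule.mk (nat_lit 6) (nat_lit 137) (Steps.fwd (nat_lit 16384) (Steps.bwd (nat_lit 5) (Steps.bwd (nat_lit 7) (Steps.fwd (nat_lit 16384) (Steps.bwd (nat_lit 6) (Steps.bwd (nat_lit 4) (Steps.fwd (nat_lit 20480) (Steps.bwd (nat_lit 7) (Steps.fwd (nat_lit 16384) Steps.nil))))))))) (nat_lit 36) (nat_lit 0),
  Rule.mk (nat_lit 7) (nat_lit 53) (Steps.fwd (nat_lit 20480) (Steps.bwd (nat_lit 6) (Steps.fwd (nat_lit 20480) Steps.nil))) (nat_lit 34) (nat_lit 1),
  Rule.mk (nat_lit 1) (nat_lit 53) (Steps.bwd (nat_lit 3) (Steps.fwd (nat_lit 24576) (Steps.bwd (nat_lit 7) Steps.nil))) (nat_lit 29) (nat_lit 1),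
  Rule.mk (nat_lit 6) (nat_lit 53) (Steps.fwd (nat_lit 20480) (Steps.fwd (nat_lit 24576) (Steps.bwd (nat_lit 5) Steps.nil))) (nat_lit 34) (nat_lit 3),
  Rule.mk (nat_lit 0) (nat_lit 375) (Steps.fwd (nat_lit 8192) (Steps.fwd (nat_lit 4096) (Steps.fwd (nat_lit 12288) (Steps.fwd (nat_lit 8192) (Steps.fwd (nat_lit 16384) (Steps.fwd (nat_lit 28672) (Steps.bwd (nat_lit 4) (Steps.fwd (nat_lit 20480) (Steps.bwd (nat_lit 3) (Steps.bwd (nat_lit 2) (Steps.fwd (nat_lit 12288) (Steps.fwd (nat_lit 4096) (Steps.fwd (nat_lit 8192) (Steps.bwd (nat_lit 4) (Steps.fwd (nat_lit 24576) (Steps.bwd (nat_lit 4) (Steps.bwd (nat_lit 2) (Steps.fwd (nat_lit 4096) (Steps.bwd (nat_lit 3) (Steps.bwd (nat_lit 2) (Steps.bwd (nat_lit 4) (Steps.bwd (nat_lit 6) (Steps.bwd (nat_lit 4) (Steps.bwd (nat_lit 8) (Steps.bwd (nat_lit 6) (Steps.fwd (nat_lit 20480) Steps.nil)))))))))))))))))))))))))) (nat_lit 41) (nat_lit 3),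
  Rule.mk (nat_lit 5) (nat_lit 81) (Steps.bwd (nat_lit 4) (Steps.bwd (nat_lit 5) (Steps.bwd (nat_lit 4) (Steps.fwd (nat_lit 20480) (Steps.fwd (nat_lit 16384) Steps.nil))))) (nat_lit 24) (nat_lit 0),
  Rule.mk (nat_lit 6) (nat_lit 137) (Steps.fwd (nat_lit 16384) (Steps.bwd (nat_lit 5) (Steps.bwd (nat_lit 7) (Steps.bwd (nat_lit 4) (Steps.fwd (nat_lit 28672) (Steps.fwd (nat_lit 16384) (Steps.fwd (nat_lit 20480) (Steps.fwd (nat_lit 24576) (Steps.bwd (nat_lit 4) Steps.nil))))))))) (nat_lit 36) (nat_lit 0),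
  Rule.mk (nat_lit 6) (nat_lit 137) (Steps.bwd (nat_lit 4) (Steps.bwd (nat_lit 5) (Steps.fwd (nat_lit 24576) (Steps.fwd (nat_lit 16384) (Steps.fwd (nat_lit 28672) (Steps.bwd (nat_lit 4) (Steps.fwd (nat_lit 20480) (Steps.fwd (nat_lit 24576) (Steps.fwd (nat_lit 16384) Steps.nil))))))))) (nat_lit 36) (nat_lit 0),
  Rule.mk (nat_lit 7) (nat_lit 151) (Steps.fwd (nat_lit 8192) (Steps.fwd (nat_lit 4096) (Steps.bwd (nat_lit 3) (Steps.bwd (nat_lit 2) (Steps.bwd (nat_lit 6) (Steps.fwd (nat_lit 20480) (Steps.fwd (nat_lit 8192) (Steps.fwd (nat_lit 12288) (Steps.fwd (nat_lit 4096) (Steps.fwd (nat_lit 8192) Steps.nil)))))))))) (nat_lit 39) (nat_lit 6),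
  Rule.mk (nat_lit 6) (nat_lit 53) (Steps.bwd (nat_lit 3) (Steps.fwd (nat_lit 24576) (Steps.bwd (nat_lit 3) Steps.nil))) (nat_lit 32) (nat_lit 3),
  Rule.mk (nat_lit 7) (nat_lit 137) (Steps.fwd (nat_lit 16384) (Steps.bwd (nat_lit 6) (Steps.fwd (nat_lit 20480) (Steps.bwd (nat_lit 4) (Steps.bwd (nat_lit 7) (Steps.bwd (nat_lit 4) (Steps.fwd (nat_lit 28672) (Steps.bwd (nat_lit 5) (Steps.fwd (nat_lit 16384) Steps.nil))))))))) (nat_lit 37) (nat_lit 1),
  Rule.mk (nat_lit 0) (nat_lit 137) (Steps.bwd (nat_lit 4) (Steps.fwd (nat_lit 12288) (Steps.bwd (nat_lit 4) (Steps.fwd (nat_lit 12288) (Steps.fwd (nat_lit 4096) (Steps.fwd (nat_lit 16384) (Steps.fwd (nat_lit 12288) (Steps.bwd (nat_lit 4) (Steps.fwd (nat_lit 12288) Steps.nil))))))))) (nat_lit 20) (nat_lit 5),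
  Rule.mk (nat_lit 0) (nat_lit 67) (Steps.bwd (nat_lit 1) (Steps.fwd (nat_lit 28672) (Steps.bwd (nat_lit 6) (Steps.fwd (nat_lit 12288) Steps.nil)))) (nat_lit 28) (nat_lit 3),
  Rule.mk (nat_lit 3) (nat_lit 123) (Steps.bwd (nat_lit 4) (Steps.fwd (nat_lit 12288) (Steps.bwd (nat_lit 4) (Steps.bwd (nat_lit 3) (Steps.fwd (nat_lit 4096) (Steps.fwd (nat_lit 16384) (Steps.bwd (nat_lit 3) (Steps.fwd (nat_lit 16384) Steps.nil)))))))) (nat_lit 20) (nat_lit 5),
  Rule.mk (nat_lit 3) (nat_lit 123) (Steps.bwd (nat_lit 4) (Steps.fwd (nat_lit 12288) (Steps.bwd (nat_lit 1) (Steps.bwd (nat_lit 4) (Steps.bwd (nat_lit 3) (Steps.fwd (nat_lit 16384) (Steps.fwd (nat_lit 12288) (Steps.fwd (nat_lit 16384) Steps.nil)))))))) (nat_lit 20) (nat_lit 7),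
  Rule.mk (nat_lit 1) (nat_lit 123) (Steps.bwd (nat_lit 3) (Steps.bwd (nat_lit 4) (Steps.fwd (nat_lit 12288) (Steps.bwd (nat_lit 4) (Steps.bwd (nat_lit 3) (Steps.fwd (nat_lit 16384) (Steps.fwd (nat_lit 12288) (Steps.fwd (nat_lit 16384) Steps.nil)))))))) (nat_lit 21) (nat_lit 0),
  Rule.mk (nat_lit 0) (nat_lit 67) (Steps.fwd (nat_lit 4096) (Steps.bwd (nat_lit 7) (Steps.bwd (nat_lit 1) (Steps.fwd (nat_lit 28672) Steps.nil)))) (nat_lit 30) (nat_lit 3),
  Rule.mk (nat_lit 3) (nat_lit 123) (Steps.fwd (nat_lit 16384) (Steps.bwd (nat_lit 3) (Steps.fwd (nat_lit 16384) (Steps.bwd (nat_lit 3) (Steps.bwd (nat_lit 1) (Steps.bwd (nat_lit 4) (Steps.fwd (nat_lit 12288) (Steps.fwd (nat_lit 16384) Steps.nil)))))))) (nat_lit 20) (nat_lit 5),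
  Rule.mk (nat_lit 3) (nat_lit 53) (Steps.fwd (nat_lit 24576) (Steps.bwd (nat_lit 3) (Steps.fwd (nat_lit 28672) Steps.nil))) (nat_lit 32) (nat_lit 0),
  Rule.mk (nat_lit 3) (nat_lit 123) (Steps.fwd (nat_lit 16384) (Steps.fwd (nat_lit 12288) (Steps.fwd (nat_lit 16384) (Steps.bwd (nat_lit 3) (Steps.bwd (nat_lit 1) (Steps.bwd (nat_lit 4) (Steps.fwd (nat_lit 12288) (Steps.fwd (nat_lit 16384) Steps.nil)))))))) (nat_lit 20) (nat_lit 5),
  Rule.mk (nat_lit 3) (nat_lit 123) (Steps.bwd (nat_lit 4) (Steps.fwd (nat_lit 12288) (Steps.bwd (nat_lit 1) (Steps.fwd (nat_lit 16384) (Steps.bwd (nat_lit 3) (Steps.bwd (nat_lit 4) (Steps.fwd (nat_lit 12288) (Steps.fwd (nat_lit 16384) Steps.nil)))))))) (nat_lit 20) (nat_lit 7),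
  Rule.mk (nat_lit 1) (nat_lit 123) (Steps.bwd (nat_lit 3) (Steps.fwd (nat_lit 16384) (Steps.fwd (nat_lit 12288) (Steps.fwd (nat_lit 16384) (Steps.bwd (nat_lit 3) (Steps.bwd (nat_lit 4) (Steps.fwd (nat_lit 12288) (Steps.fwd (nat_lit 16384) Steps.nil)))))))) (nat_lit 21) (nat_lit 0),
  Rule.mk (nat_lit 1) (nat_lit 123) (Steps.fwd (nat_lit 12288) (Steps.bwd (nat_lit 4) (Steps.bwd (nat_lit 3) (Steps.fwd (nat_lit 16384) (Steps.fwd (nat_lit 12288) (Steps.bwd (nat_lit 4) (Steps.bwd (nat_lit 3) (Steps.bwd (nat_lit 4) Steps.nil)))))))) (nat_lit 21) (nat_lit 0),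
  Rule.mk (nat_lit 0) (nat_lit 67) (Steps.bwd (nat_lit 3) (Steps.bwd (nat_lit 5) (Steps.bwd (nat_lit 3) (Steps.bwd (nat_lit 5) Steps.nil)))) (nat_lit 22) (nat_lit 0),
  Rule.mk (nat_lit 6) (nat_lit 53) (Steps.bwd (nat_lit 1) (Steps.bwd (nat_lit 7) (Steps.bwd (nat_lit 1) Steps.nil))) (nat_lit 30) (nat_lit 3),
  Rule.mk (nat_lit 0) (nat_lit 67) (Steps.bwd (nat_lit 3) (Steps.bwd (nat_lit 1) (Steps.bwd (nat_lit 6) (Steps.fwd (nat_lit 28672) Steps.nil)))) (nat_lit 28) (nat_lit 2)]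
noncomputable def R_12 : List (Rule) := [Rule.mk (nat_lit 1) (nat_lit 81) (Steps.fwd (nat_lit 8192) (Steps.fwd (nat_lit 4096) (Steps.bwd (nat_lit 2) (Steps.bwd (nat_lit 1) (Steps.bwd (nat_lit 2) Steps.nil))))) (nat_lit 10) (nat_lit 1),
  Rule.mk (nat_lit 6) (nat_lit 137) (Steps.bwd (nat_lit 4) (Steps.fwd (nat_lit 20480) (Steps.fwd (nat_lit 24576) (Steps.bwd (nat_lit 4) (Steps.bwd (nat_lit 6) (Steps.fwd (nat_lit 16384) (Steps.fwd (nat_lit 20480) (Steps.bwd (nat_lit 7) (Steps.bwd (nat_lit 4) Steps.nil))))))))) (nat_lit 36) (nat_lit 0),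
  Rule.mk (nat_lit 7) (nat_lit 53) (Steps.fwd (nat_lit 4096) (Steps.bwd (nat_lit 6) (Steps.fwd (nat_lit 4096) Steps.nil))) (nat_lit 30) (nat_lit 1),
  Rule.mk (nat_lit 3) (nat_lit 123) (Steps.fwd (nat_lit 16384) (Steps.bwd (nat_lit 1) (Steps.fwd (nat_lit 12288) (Steps.fwd (nat_lit 16384) (Steps.fwd (nat_lit 12288) (Steps.bwd (nat_lit 4) (Steps.fwd (nat_lit 12288) (Steps.fwd (nat_lit 16384) Steps.nil)))))))) (nat_lit 21) (nat_lit 7),
  Rule.mk (nat_lit 1) (nat_lit 53) (Steps.bwd (nat_lit 3) (Steps.fwd (nat_lit 24576) (Steps.fwd (nat_lit 24576) Steps.nil))) (nat_lit 29) (nat_lit 1),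
  Rule.mk (nat_lit 6) (nat_lit 53) (Steps.fwd (nat_lit 20480) (Steps.bwd (nat_lit 7) (Steps.fwd (nat_lit 20480) Steps.nil))) (nat_lit 34) (nat_lit 3),
  Rule.mk (nat_lit 0) (nat_lit 165) (Steps.bwd (nat_lit 6) (Steps.bwd (nat_lit 2) (Steps.bwd (nat_lit 1) (Steps.bwd (nat_lit 3) (Steps.fwd (nat_lit 8192) (Steps.bwd (nat_lit 5) (Steps.bwd (nat_lit 7) (Steps.bwd (nat_lit 2) (Steps.bwd (nat_lit 3) (Steps.bwd (nat_lit 1) (Steps.bwd (nat_lit 2) Steps.nil))))))))))) (nat_lit 38) (nat_lit 5),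
  Rule.mk (nat_lit 5) (nat_lit 137) (Steps.fwd (nat_lit 16384) (Steps.bwd (nat_lit 7) (Steps.bwd (nat_lit 4) (Steps.bwd (nat_lit 6) (Steps.bwd (nat_lit 5) (Steps.fwd (nat_lit 16384) (Steps.bwd (nat_lit 7) (Steps.bwd (nat_lit 4) (Steps.bwd (nat_lit 6) Steps.nil))))))))) (nat_lit 37) (nat_lit 4),
  Rule.mk (nat_lit 5) (nat_lit 137) (Steps.bwd (nat_lit 7) (Steps.fwd (nat_lit 16384) (Steps.fwd (nat_lit 28672) (Steps.bwd (nat_lit 4) (Steps.fwd (nat_lit 20480) (Steps.fwd (nat_lit 24576) (Steps.fwd (nat_lit 16384) (Steps.bwd (nat_lit 6) (Steps.bwd (nat_lit 4) Steps.nil))))))))) (nat_lit 36) (nat_lit 2),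
  Rule.mk (nat_lit 0) (nat_lit 67) (Steps.fwd (nat_lit 4096) (Steps.fwd (nat_lit 28672) (Steps.bwd (nat_lit 6) (Steps.fwd (nat_lit 12288) Steps.nil)))) (nat_lit 28) (nat_lit 3),
  Rule.mk (nat_lit 0) (nat_lit 67) (Steps.bwd (nat_lit 7) (Steps.bwd (nat_lit 1) (Steps.bwd (nat_lit 3) (Steps.bwd (nat_lit 7) Steps.nil)))) (nat_lit 29) (nat_lit 3),
  Rule.mk (nat_lit 0) (nat_lit 137) (Steps.bwd (nat_lit 3) (Steps.fwd (nat_lit 16384) (Steps.bwd (nat_lit 3) (Steps.fwd (nat_lit 4096) (Steps.fwd (nat_lit 16384) (Steps.fwd (nat_lit 12288) (Steps.bwd (nat_lit 4) (Steps.fwd (nat_lit 12288) (Steps.fwd (nat_lit 16384) Steps.nil))))))))) (nat_lit 20) (nat_lit 6),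
  Rule.mk (nat_lit 0) (nat_lit 137) (Steps.bwd (nat_lit 4) (Steps.fwd (nat_lit 12288) (Steps.fwd (nat_lit 16384) (Steps.fwd (nat_lit 12288) (Steps.fwd (nat_lit 16384) (Steps.fwd (nat_lit 12288) (Steps.bwd (nat_lit 1) (Steps.bwd (nat_lit 4) (Steps.fwd (nat_lit 12288) Steps.nil))))))))) (nat_lit 20) (nat_lit 3),
  Rule.mk (nat_lit 1) (nat_lit 123) (Steps.fwd (nat_lit 12288) (Steps.fwd (nat_lit 16384) (Steps.fwd (nat_lit 12288) (Steps.fwd (nat_lit 16384) (Steps.fwd (nat_lit 12288) (Steps.fwd (nat_lit 16384) (Steps.fwd (nat_lit 12288) (Steps.bwd (nat_lit 4) Steps.nil)))))))) (nat_lit 21) (nat_lit 0),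
  Rule.mk (nat_lit 3) (nat_lit 123) (Steps.fwd (nat_lit 16384) (Steps.fwd (nat_lit 12288) (Steps.bwd (nat_lit 4) (Steps.fwd (nat_lit 12288) (Steps.fwd (nat_lit 16384) (Steps.fwd (nat_lit 12288) (Steps.bwd (nat_lit 1) (Steps.fwd (nat_lit 16384) Steps.nil)))))))) (nat_lit 20) (nat_lit 3),
  Rule.mk (nat_lit 0) (nat_lit 67) (Steps.bwd (nat_lit 6) (Steps.bwd (nat_lit 5) (Steps.bwd (nat_lit 7) (Steps.fwd (nat_lit 20480) Steps.nil)))) (nat_lit 34) (nat_lit 2),
  Rule.mk (nat_lit 6) (nat_lit 53) (Steps.fwd (nat_lit 4096) (Steps.bwd (nat_lit 7) (Steps.fwd (nat_lit 4096) Steps.nil))) (nat_lit 30) (nat_lit 3),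
  Rule.mk (nat_lit 0) (nat_lit 165) (Steps.bwd (nat_lit 2) (Steps.bwd (nat_lit 1) (Steps.bwd (nat_lit 3) (Steps.bwd (nat_lit 2) (Steps.fwd (nat_lit 28672) (Steps.fwd (nat_lit 20480) (Steps.bwd (nat_lit 2) (Steps.fwd (nat_lit 12288) (Steps.fwd (nat_lit 4096) (Steps.bwd (nat_lit 2) (Steps.bwd (nat_lit 7) Steps.nil))))))))))) (nat_lit 39) (nat_lit 6),
  Rule.mk (nat_lit 4) (nat_lit 53) (Steps.fwd (nat_lit 8192) (Steps.bwd (nat_lit 4) (Steps.fwd (nat_lit 8192) Steps.nil))) (nat_lit 16) (nat_lit 0),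
  Rule.mk (nat_lit 6) (nat_lit 151) (Steps.bwd (nat_lit 2) (Steps.bwd (nat_lit 1) (Steps.bwd (nat_lit 3) (Steps.bwd (nat_lit 2) (Steps.fwd (nat_lit 20480) (Steps.fwd (nat_lit 24576) (Steps.fwd (nat_lit 8192) (Steps.bwd (nat_lit 3) (Steps.bwd (nat_lit 1) (Steps.fwd (nat_lit 8192) Steps.nil)))))))))) (nat_lit 38) (nat_lit 6),
  Rule.mk (nat_lit 7) (nat_lit 151) (Steps.bwd (nat_lit 2) (Steps.bwd (nat_lit 1) (Steps.bwd (nat_lit 3) (Steps.bwd (nat_lit 2) (Steps.bwd (nat_lit 6) (Steps.fwd (nat_lit 20480) (Steps.fwd (nat_lit 8192) (Steps.fwd (nat_lit 12288) (Steps.bwd (nat_lit 1) (Steps.fwd (nat_lit 8192) Steps.nil)))))))))) (nat_lit 39) (nat_lit 6),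
  Rule.mk (nat_lit 6) (nat_lit 53) (Steps.fwd (nat_lit 12288) (Steps.fwd (nat_lit 24576) (Steps.bwd (nat_lit 3) Steps.nil))) (nat_lit 32) (nat_lit 3),
  Rule.mk (nat_lit 1) (nat_lit 53) (Steps.bwd (nat_lit 6) (Steps.fwd (nat_lit 28672) (Steps.fwd (nat_lit 12288) Steps.nil))) (nat_lit 28) (nat_lit 0),
  Rule.mk (nat_lit 7) (nat_lit 137) (Steps.bwd (nat_lit 4) (Steps.bwd (nat_lit 6) (Steps.bwd (nat_lit 4) (Steps.fwd (nat_lit 20480) (Steps.bwd (nat_lit 7) (Steps.fwd (nat_lit 16384) (Steps.bwd (nat_lit 6) (Steps.fwd (nat_lit 16384) (Steps.fwd (nat_lit 20480) Steps.nil))))))))) (nat_lit 36) (nat_lit 3),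
  Rule.mk (nat_lit 0) (nat_lit 67) (Steps.fwd (nat_lit 28672) (Steps.fwd (nat_lit 12288) (Steps.bwd (nat_lit 1) (Steps.fwd (nat_lit 28672) Steps.nil)))) (nat_lit 28) (nat_lit 1),
  Rule.mk (nat_lit 3) (nat_lit 123) (Steps.bwd (nat_lit 4) (Steps.bwd (nat_lit 3) (Steps.bwd (nat_lit 1) (Steps.fwd (nat_lit 16384) (Steps.bwd (nat_lit 3) (Steps.fwd (nat_lit 16384) (Steps.fwd (nat_lit 12288) (Steps.fwd (nat_lit 16384) Steps.nil)))))))) (nat_lit 20) (nat_lit 7),
  Rule.mk (nat_lit 7) (nat_lit 53) (Steps.bwd (nat_lit 1) (Steps.fwd (nat_lit 28672) (Steps.bwd (nat_lit 1) Steps.nil))) (nat_lit 30) (nat_lit 1),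
  Rule.mk (nat_lit 0) (nat_lit 375) (Steps.fwd (nat_lit 12288) (Steps.bwd (nat_lit 1) (Steps.fwd (nat_lit 8192) (Steps.bwd (nat_lit 4) (Steps.fwd (nat_lit 28672) (Steps.bwd (nat_lit 4) (Steps.fwd (nat_lit 8192) (Steps.fwd (nat_lit 4096) (Steps.fwd (nat_lit 12288) (Steps.bwd (nat_lit 2) (Steps.bwd (nat_lit 3) (Steps.fwd (nat_lit 20480) (Steps.fwd (nat_lit 16384) (Steps.fwd (nat_lit 24576) (Steps.bwd (nat_lit 4) (Steps.bwd (nat_lit 2) (Steps.bwd (nat_lit 3) (Steps.bwd (nat_lit 1) (Steps.bwd (nat_lit 2) (Steps.fwd (nat_lit 20480) (Steps.fwd (nat_lit 24576) (Steps.bwd (nat_lit 9) (Steps.bwd (nat_lit 4) (Steps.fwd (nat_lit 24576) (Steps.fwd (nat_lit 16384) (Steps.fwd (nat_lit 8192) Steps.nil)))))))))))))))))))))))))) (nat_lit 40) (nat_lit 4),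
  Rule.mk (nat_lit 3) (nat_lit 123) (Steps.fwd (nat_lit 4096) (Steps.bwd (nat_lit 4) (Steps.fwd (nat_lit 12288) (Steps.bwd (nat_lit 4) (Steps.bwd (nat_lit 3) (Steps.fwd (nat_lit 16384) (Steps.bwd (nat_lit 3) (Steps.bwd (nat_lit 4) Steps.nil)))))))) (nat_lit 20) (nat_lit 0),
  Rule.mk (nat_lit 5) (nat_lit 81) (Steps.fwd (nat_lit 16384) (Steps.fwd (nat_lit 20480) (Steps.bwd (nat_lit 4) (Steps.bwd (nat_lit 5) (Steps.bwd (nat_lit 4) Steps.nil))))) (nat_lit 24) (nat_lit 0),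
  Rule.mk (nat_lit 0) (nat_lit 67) (Steps.fwd (nat_lit 24576) (Steps.fwd (nat_lit 20480) (Steps.fwd (nat_lit 28672) (Steps.bwd (nat_lit 5) Steps.nil)))) (nat_lit 34) (nat_lit 0),
  Rule.mk (nat_lit 4) (nat_lit 137) (Steps.bwd (nat_lit 7) (Steps.fwd (nat_lit 16384) (Steps.fwd (nat_lit 28672) (Steps.fwd (nat_lit 20480) (Steps.fwd (nat_lit 16384) (Steps.bwd (nat_lit 7) (Steps.bwd (nat_lit 4) (Steps.bwd (nat_lit 6) (Steps.fwd (nat_lit 20480) Steps.nil))))))))) (nat_lit 37) (nat_lit 0),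
  Rule.mk (nat_lit 0) (nat_lit 151) (Steps.bwd (nat_lit 4) (Steps.bwd (nat_lit 6) (Steps.fwd (nat_lit 16384) (Steps.fwd (nat_lit 20480) (Steps.bwd (nat_lit 7) (Steps.fwd (nat_lit 16384) (Steps.fwd (nat_lit 28672) (Steps.bwd (nat_lit 4) (Steps.bwd (nat_lit 5) (Steps.fwd (nat_lit 24576) Steps.nil)))))))))) (nat_lit 36) (nat_lit 3),
  Rule.mk (nat_lit 0) (nat_lit 375) (Steps.fwd (nat_lit 8192) (Steps.fwd (nat_lit 4096) (Steps.fwd (nat_lit 12288) (Steps.fwd (nat_lit 8192) (Steps.fwd (nat_lit 16384) (Steps.bwd (nat_lit 6) (Steps.fwd (nat_lit 16384) (Steps.bwd (nat_lit 5) (Steps.bwd (nat_lit 3) (Steps.fwd (nat_lit 8192) (Steps.fwd (nat_lit 12288) (Steps.bwd (nat_lit 1) (Steps.fwd (nat_lit 8192) (Steps.fwd (nat_lit 16384) (Steps.fwd (nat_lit 24576) (Steps.fwd (nat_lit 16384) (Steps.bwd (nat_lit 2) (Steps.fwd (nat_lit 4096) (Steps.bwd (nat_lit 3) (Steps.fwd (nat_lit 8192) (Steps.fwd (nat_lit 16384) (Steps.fwd (nat_lit 28672)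 (Steps.fwd (nat_lit 16384) (Steps.fwd (nat_lit 36864) (Steps.fwd (nat_lit 28672) (Steps.fwd (nat_lit 20480) Steps.nil)))))))))))))))))))))))))) (nat_lit 41) (nat_lit 3),
  Rule.mk (nat_lit 6) (nat_lit 137) (Steps.fwd (nat_lit 16384) (Steps.fwd (nat_lit 20480) (Steps.bwd (nat_lit 7) (Steps.fwd (nat_lit 16384) (Steps.fwd (nat_lit 28672) (Steps.bwd (nat_lit 4) (Steps.bwd (nat_lit 5) (Steps.fwd (nat_lit 24576) (Steps.fwd (nat_lit 16384) Steps.nil))))))))) (nat_lit 36) (nat_lit 0),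
  Rule.mk (nat_lit 6) (nat_lit 137) (Steps.bwd (nat_lit 5) (Steps.bwd (nat_lit 4) (Steps.bwd (nat_lit 7) (Steps.bwd (nat_lit 4) (Steps.fwd (nat_lit 28672) (Steps.fwd (nat_lit 20480) (Steps.fwd (nat_lit 16384) (Steps.bwd (nat_lit 7) (Steps.bwd (nat_lit 4) Steps.nil))))))))) (nat_lit 37) (nat_lit 3),
  Rule.mk (nat_lit 1) (nat_lit 53) (Steps.bwd (nat_lit 6) (Steps.bwd (nat_lit 1) (Steps.bwd (nat_lit 7) Steps.nil))) (nat_lit 30) (nat_lit 2),
  Rule.mk (nat_lit 6) (nat_lit 53) (Steps.bwd (nat_lit 1) (Steps.fwd (nat_lit 24576) (Steps.fwd (nat_lit 4096) Steps.nil))) (nat_lit 30) (nat_lit 3),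
  Rule.mk (nat_lit 0) (nat_lit 67) (Steps.bwd (nat_lit 7) (Steps.fwd (nat_lit 24576) (Steps.bwd (nat_lit 1) (Steps.fwd (nat_lit 12288) Steps.nil)))) (nat_lit 29) (nat_lit 2),
  Rule.mk (nat_lit 3) (nat_lit 361) (Steps.bwd (nat_lit 1) (Steps.bwd (nat_lit 2) (Steps.bwd (nat_lit 4) (Steps.bwd (nat_lit 6) (Steps.bwd (nat_lit 4) (Steps.bwd (nat_lit 2) (Steps.bwd (nat_lit 1) (Steps.bwd (nat_lit 3) (Steps.bwd (nat_lit 2) (Steps.bwd (nat_lit 3) (Steps.bwd (nat_lit 5) (Steps.bwd (nat_lit 4) (Steps.bwd (nat_lit 7) (Steps.bwd (nat_lit 4) (Steps.fwd (nat_lit 8192) (Steps.bwd (nat_lit 3) (Steps.fwd (nat_lit 4096) (Steps.fwd (nat_lit 8192) (Steps.fwd (nat_lit 20480) (Steps.fwd (nat_lit 24576) (Steps.bwd (nat_lit 9) (Steps.fwd (nat_lit 16384) (Steps.fwd (nat_lit 24576) (Steps.bwd (nat_lit 4) (Steps.bwd (nat_lit 2) Steps.nil))))))))))))))))))))))))) (nat_lit 40) (nat_lit 5),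
  Rule.mk (nat_lit 0) (nat_lit 67) (Steps.fwd (nat_lit 4096) (Steps.bwd (nat_lit 5) (Steps.fwd (nat_lit 4096) (Steps.bwd (nat_lit 5) Steps.nil)))) (nat_lit 12) (nat_lit 0),
  Rule.mk (nat_lit 5) (nat_lit 361) (Steps.fwd (nat_lit 16384) (Steps.bwd (nat_lit 7) (Steps.fwd (nat_lit 16384) (Steps.fwd (nat_lit 8192) (Steps.fwd (nat_lit 12288) (Steps.fwd (nat_lit 4096) (Steps.fwd (nat_lit 8192) (Steps.bwd (nat_lit 5) (Steps.bwd (nat_lit 7) (Steps.fwd (nat_lit 32768) (Steps.bwd (nat_lit 4) (Steps.bwd (nat_lit 7) (Steps.bwd (nat_lit 4) (Steps.bwd (nat_lit 2) (Steps.fwd (nat_lit 12288) (Steps.fwd (nat_lit 4096) (Steps.fwd (nat_lit 8192) (Steps.fwd (nat_lit 16384) (Steps.fwd (nat_lit 28672) (Steps.fwd (nat_lit 16384) (Steps.fwd (nat_lit 8192) (Steps.fwd (nat_lit 4096) (Steps.fwd (nat_lit 12288) (Steps.fwd (nat_lit 8192) (Steps.bwd (nat_lit 3) Steps.nil))))))))))))))))))))))))) (nat_lit 40) (nat_lit 16),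
  Rule.mk (nat_lit 7) (nat_lit 361) (Steps.bwd (nat_lit 9) (Steps.fwd (nat_lit 16384) (Steps.bwd (nat_lit 7) (Steps.fwd (nat_lit 16384) (Steps.fwd (nat_lit 8192) (Steps.fwd (nat_lit 12288) (Steps.fwd (nat_lit 4096) (Steps.fwd (nat_lit 8192) (Steps.fwd (nat_lit 16384) (Steps.bwd (nat_lit 6) (Steps.bwd (nat_lit 4) (Steps.fwd (nat_lit 8192) (Steps.bwd (nat_lit 1) (Steps.fwd (nat_lit 12288) (Steps.fwd (nat_lit 8192) (Steps.bwd (nat_lit 3) (Steps.fwd (nat_lit 20480) (Steps.bwd (nat_lit 4) (Steps.bwd (nat_lit 7) (Steps.bwd (nat_lit 4) (Steps.fwd (nat_lit 8192) (Steps.bwd (nat_lit 3) (Steps.bwd (nat_lit 1) (Steps.bwd (nat_lit 2) (Steps.bwd (nat_lit 5) Steps.nil))))))))))))))))))))))))) (nat_lit 40) (nat_lit 25),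
  Rule.mk (nat_lit 6) (nat_lit 151) (Steps.fwd (nat_lit 20480) (Steps.fwd (nat_lit 8192) (Steps.fwd (nat_lit 12288) (Steps.fwd (nat_lit 4096) (Steps.bwd (nat_lit 2) (Steps.bwd (nat_lit 7) (Steps.bwd (nat_lit 2) (Steps.bwd (nat_lit 1) (Steps.bwd (nat_lit 3) (Steps.bwd (nat_lit 2) Steps.nil)))))))))) (nat_lit 39) (nat_lit 0),
  Rule.mk (nat_lit 7) (nat_lit 53) (Steps.fwd (nat_lit 12288) (Steps.bwd (nat_lit 6) (Steps.fwd (nat_lit 12288) Steps.nil))) (nat_lit 32) (nat_lit 1),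
  Rule.mk (nat_lit 3) (nat_lit 53) (Steps.fwd (nat_lit 4096) (Steps.fwd (nat_lit 28672) (Steps.bwd (nat_lit 6) Steps.nil))) (nat_lit 28) (nat_lit 3),
  Rule.mk (nat_lit 2) (nat_lit 151) (Steps.bwd (nat_lit 3) (Steps.bwd (nat_lit 1) (Steps.bwd (nat_lit 2) (Steps.fwd (nat_lit 28672) (Steps.fwd (nat_lit 8192) (Steps.fwd (nat_lit 4096) (Steps.fwd (nat_lit 12288) (Steps.fwd (nat_lit 8192) (Steps.fwd (nat_lit 20480) (Steps.bwd (nat_lit 7) Steps.nil)))))))))) (nat_lit 38) (nat_lit 2),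
  Rule.mk (nat_lit 5) (nat_lit 361) (Steps.bwd (nat_lit 4) (Steps.bwd (nat_lit 7) (Steps.fwd (nat_lit 16384) (Steps.fwd (nat_lit 8192) (Steps.fwd (nat_lit 12288) (Steps.fwd (nat_lit 4096) (Steps.fwd (nat_lit 8192) (Steps.fwd (nat_lit 20480) (Steps.fwd (nat_lit 24576) (Steps.bwd (nat_lit 9) (Steps.bwd (nat_lit 4) (Steps.fwd (nat_lit 24576) (Steps.bwd (nat_lit 4) (Steps.fwd (nat_lit 8192) (Steps.bwd (nat_lit 3) (Steps.bwd (nat_lit 1) (Steps.fwd (nat_lit 8192) (Steps.bwd (nat_lit 4) (Steps.fwd (nat_lit 28672) (Steps.fwd (nat_lit 16384) (Steps.fwd (nat_lit 8192) (Steps.fwd (nat_lit 4096) (Steps.fwd (nat_lit 12288) (Steps.fwd (nat_lit 8192) (Steps.fwd (nat_lit 12288) Steps.nil))))))))))))))))))))))))) (nat_lit 40) (nat_lit 16),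
  Rule.mk (nat_lit 3) (nat_lit 53) (Steps.bwd (nat_lit 5) (Steps.fwd (nat_lit 12288) (Steps.bwd (nat_lit 5) Steps.nil))) (nat_lit 22) (nat_lit 1),
  Rule.mk (nat_lit 6) (nat_lit 137) (Steps.bwd (nat_lit 4) (Steps.bwd (nat_lit 5) (Steps.bwd (nat_lit 7) (Steps.bwd (nat_lit 4) (Steps.bwd (nat_lit 6) (Steps.fwd (nat_lit 16384) (Steps.bwd (nat_lit 5) (Steps.bwd (nat_lit 7) (Steps.fwd (nat_lit 16384) Steps.nil))))))))) (nat_lit 36) (nat_lit 0),
  Rule.mk (nat_lit 2) (nat_lit 151) (Steps.bwd (nat_lit 3) (Steps.bwd (nat_lit 1) (Steps.bwd (nat_lit 2) (Steps.bwd (nat_lit 6) (Steps.bwd (nat_lit 2) (Steps.bwd (nat_lit 1) (Steps.fwd (nat_lit 12288) (Steps.fwd (nat_lit 8192) (Steps.fwd (nat_lit 20480) (Steps.fwd (nat_lit 24576) Steps.nil)))))))))) (nat_lit 38) (nat_lit 2),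
  Rule.mk (nat_lit 7) (nat_lit 361) (Steps.bwd (nat_lit 4) (Steps.bwd (nat_lit 2) (Steps.bwd (nat_lit 3) (Steps.bwd (nat_lit 1) (Steps.bwd (nat_lit 2) (Steps.bwd (nat_lit 4) (Steps.bwd (nat_lit 6) (Steps.fwd (nat_lit 16384) (Steps.fwd (nat_lit 8192) (Steps.fwd (nat_lit 4096) (Steps.fwd (nat_lit 12288) (Steps.fwd (nat_lit 8192) (Steps.fwd (nat_lit 12288) (Steps.fwd (nat_lit 20480) (Steps.fwd (nat_lit 16384) (Steps.fwd (nat_lit 24576) (Steps.fwd (nat_lit 16384) (Steps.fwd (nat_lit 8192) (Steps.fwd (nat_lit 12288) (Steps.fwd (nat_lit 4096) (Steps.fwd (nat_lit 8192) (Steps.bwd (nat_lit 5) (Steps.fwd (nat_lit 24576) (Steps.bwd (nat_lit 9) (Steps.fwd (nat_lit 16384) Steps.nil))))))))))))))))))))))))) (nat_lit 40) (nat_lit 2),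
  Rule.mk (nat_lit 7) (nat_lit 361) (Steps.bwd (nat_lit 9) (Steps.fwd (nat_lit 16384) (Steps.bwd (nat_lit 7) (Steps.bwd (nat_lit 4) (Steps.fwd (nat_lit 8192) (Steps.bwd (nat_lit 3) (Steps.fwd (nat_lit 4096) (Steps.fwd (nat_lit 8192) (Steps.bwd (nat_lit 4) (Steps.fwd (nat_lit 28672) (Steps.bwd (nat_lit 4) (Steps.fwd (nat_lit 8192) (Steps.fwd (nat_lit 4096) (Steps.fwd (nat_lit 12288) (Steps.fwd (nat_lit 8192) (Steps.fwd (nat_lit 12288) (Steps.bwd (nat_lit 5) (Steps.bwd (nat_lit 4) (Steps.fwd (nat_lit 24576) (Steps.fwd (nat_lit 16384) (Steps.fwd (nat_lit 8192) (Steps.bwd (nat_lit 3) (Steps.fwd (nat_lit 4096) (Steps.bwd (nat_lit 2) (Steps.fwd (nat_lit 20480) Steps.nil))))))))))))))))))))))))) (nat_lit 40) (nat_lit 25),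
  Rule.mk (nat_lit 6) (nat_lit 151) (Steps.fwd (nat_lit 8192) (Steps.fwd (nat_lit 4096) (Steps.bwd (nat_lit 3) (Steps.bwd (nat_lit 2) (Steps.fwd (nat_lit 20480) (Steps.bwd (nat_lit 7) (Steps.bwd (nat_lit 2) (Steps.bwd (nat_lit 3) (Steps.bwd (nat_lit 1) (Steps.bwd (nat_lit 2) Steps.nil)))))))))) (nat_lit 38) (nat_lit 6),
  Rule.mk (nat_lit 6) (nat_lit 137) (Steps.bwd (nat_lit 4) (Steps.bwd (nat_lit 5) (Steps.bwd (nat_lit 7) (Steps.bwd (nat_lit 4) (Steps.fwd (nat_lit 28672) (Steps.fwd (nat_lit 16384) (Steps.fwd (nat_lit 20480) (Steps.fwd (nat_lit 24576) (Steps.fwd (nat_lit 16384) Steps.nil))))))))) (nat_lit 36) (nat_lit 0),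
  Rule.mk (nat_lit 5) (nat_lit 137) (Steps.bwd (nat_lit 4) (Steps.fwd (nat_lit 24576) (Steps.fwd (nat_lit 16384) (Steps.fwd (nat_lit 28672) (Steps.fwd (nat_lit 20480) (Steps.fwd (nat_lit 16384) (Steps.fwd (nat_lit 24576) (Steps.fwd (nat_lit 16384) (Steps.bwd (nat_lit 6) Steps.nil))))))))) (nat_lit 37) (nat_lit 4),
  Rule.mk (nat_lit 6) (nat_lit 137) (Steps.fwd (nat_lit 16384) (Steps.bwd (nat_lit 5) (Steps.bwd (nat_lit 7) (Steps.bwd (nat_lit 4) (Steps.fwd (nat_lit 28672) (Steps.bwd (nat_lit 4) (Steps.bwd (nat_lit 5) (Steps.bwd (nat_lit 7) (Steps.bwd (nat_lit 4) Steps.nil))))))))) (nat_lit 36) (nat_lit 0),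
  Rule.mk (nat_lit 3) (nat_lit 53) (Steps.bwd (nat_lit 7) (Steps.fwd (nat_lit 12288) (Steps.bwd (nat_lit 6) Steps.nil))) (nat_lit 32) (nat_lit 0),
  Rule.mk (nat_lit 2) (nat_lit 361) (Steps.bwd (nat_lit 3) (Steps.bwd (nat_lit 1) (Steps.bwd (nat_lit 2) (Steps.bwd (nat_lit 4) (Steps.bwd (nat_lit 6) (Steps.fwd (nat_lit 16384) (Steps.bwd (nat_lit 2) (Steps.bwd (nat_lit 1) (Steps.bwd (nat_lit 3) (Steps.bwd (nat_lit 2) (Steps.fwd (nat_lit 12288) (Steps.fwd (nat_lit 20480) (Steps.bwd (nat_lit 4) (Steps.bwd (nat_lit 7) (Steps.fwd (nat_lit 16384) (Steps.bwd (nat_lit 2) (Steps.bwd (nat_lit 3) (Steps.bwd (nat_lit 1) (Steps.fwd (nat_lit 8192) (Steps.bwd (nat_lit 5) (Steps.fwd (nat_lit 24576) (Steps.bwd (nat_lit 9) (Steps.fwd (nat_lit 16384) (Steps.fwd (nat_lit 24576) (Steps.fwd (nat_lit 16384) Steps.nil))))))))))))))))))))))))) (nat_lit 40) (nat_lit 4),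
  Rule.mk (nat_lit 7) (nat_lit 151) (Steps.fwd (nat_lit 8192) (Steps.fwd (nat_lit 4096) (Steps.fwd (nat_lit 12288) (Steps.fwd (nat_lit 8192) (Steps.bwd (nat_lit 6) (Steps.bwd (nat_lit 5) (Steps.bwd (nat_lit 2) (Steps.bwd (nat_lit 3) (Steps.bwd (nat_lit 1) (Steps.bwd (nat_lit 2) Steps.nil)))))))))) (nat_lit 39) (nat_lit 6),
  Rule.mk (nat_lit 3) (nat_lit 123) (Steps.bwd (nat_lit 4) (Steps.bwd (nat_lit 3) (Steps.bwd (nat_lit 1) (Steps.bwd (nat_lit 4) (Steps.bwd (nat_lit 3) (Steps.fwd (nat_lit 16384) (Steps.fwd (nat_lit 12288) (Steps.bwd (nat_lit 4) Steps.nil)))))))) (nat_lit 20) (nat_lit 7),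
  Rule.mk (nat_lit 7) (nat_lit 137) (Steps.bwd (nat_lit 4) (Steps.bwd (nat_lit 6) (Steps.fwd (nat_lit 16384) (Steps.bwd (nat_lit 5) (Steps.bwd (nat_lit 7) (Steps.bwd (nat_lit 4) (Steps.fwd (nat_lit 28672) (Steps.fwd (nat_lit 16384) (Steps.fwd (nat_lit 20480) Steps.nil))))))))) (nat_lit 36) (nat_lit 3),
  Rule.mk (nat_lit 0) (nat_lit 67) (Steps.bwd (nat_lit 1) (Steps.bwd (nat_lit 3) (Steps.bwd (nat_lit 7) (Steps.bwd (nat_lit 7) Steps.nil)))) (nat_lit 29) (nat_lit 0),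
  Rule.mk (nat_lit 2) (nat_lit 361) (Steps.bwd (nat_lit 3) (Steps.bwd (nat_lit 1) (Steps.bwd (nat_lit 2) (Steps.bwd (nat_lit 4) (Steps.fwd (nat_lit 28672) (Steps.bwd (nat_lit 4) (Steps.bwd (nat_lit 2) (Steps.fwd (nat_lit 4096) (Steps.fwd (nat_lit 12288) (Steps.bwd (nat_lit 2) (Steps.bwd (nat_lit 3) (Steps.fwd (nat_lit 20480) (Steps.fwd (nat_lit 16384) (Steps.bwd (nat_lit 7) (Steps.bwd (nat_lit 4) (Steps.fwd (nat_lit 8192) (Steps.fwd (nat_lit 12288) (Steps.fwd (nat_lit 4096) (Steps.fwd (nat_lit 8192) (Steps.fwd (nat_lit 20480) (Steps.fwd (nat_lit 24576) (Steps.bwd (nat_lit 9) (Steps.fwd (nat_lit 16384) (Steps.bwd (nat_lit 7) (Steps.bwd (nat_lit 4) Steps.nil))))))))))))))))))))))))) (nat_lit 40) (nat_lit 4)]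
noncomputable def R_13 : List (Rule) := [Rule.mk (nat_lit 1) (nat_lit 361) (Steps.bwd (nat_lit 3) (Steps.bwd (nat_lit 2) (Steps.bwd (nat_lit 3) (Steps.bwd (nat_lit 5) (Steps.bwd (nat_lit 4) (Steps.bwd (nat_lit 7) (Steps.bwd (nat_lit 4) (Steps.bwd (nat_lit 2) (Steps.bwd (nat_lit 3) (Steps.bwd (nat_lit 1) (Steps.bwd (nat_lit 2) (Steps.bwd (nat_lit 5) (Steps.bwd (nat_lit 7) (Steps.bwd (nat_lit 9) (Steps.bwd (nat_lit 4) (Steps.fwd (nat_lit 24576) (Steps.bwd (nat_lit 4) (Steps.fwd (nat_lit 8192) (Steps.fwd (nat_lit 12288) (Steps.fwd (nat_lit 4096) (Steps.bwd (nat_lit 2) (Steps.bwd (nat_lit 4) (Steps.fwd (nat_lit 28672) (Steps.bwd (nat_lit 4) (Steps.bwd (nat_lit 2) Steps.nil))))))))))))))))))))))))) (nat_lit 40) (nat_lit 12),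
  Rule.mk (nat_lit 0) (nat_lit 165) (Steps.fwd (nat_lit 12288) (Steps.fwd (nat_lit 4096) (Steps.fwd (nat_lit 8192) (Steps.bwd (nat_lit 7) (Steps.fwd (nat_lit 8192) (Steps.fwd (nat_lit 4096) (Steps.bwd (nat_lit 3) (Steps.fwd (nat_lit 8192) (Steps.fwd (nat_lit 28672) (Steps.bwd (nat_lit 5) (Steps.fwd (nat_lit 8192) Steps.nil))))))))))) (nat_lit 39) (nat_lit 2),
  Rule.mk (nat_lit 0) (nat_lit 67) (Steps.fwd (nat_lit 20480) (Steps.bwd (nat_lit 3) (Steps.fwd (nat_lit 20480) (Steps.fwd (nat_lit 12288) Steps.nil)))) (nat_lit 22) (nat_lit 1),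
  Rule.mk (nat_lit 7) (nat_lit 151) (Steps.bwd (nat_lit 2) (Steps.bwd (nat_lit 3) (Steps.bwd (nat_lit 1) (Steps.bwd (nat_lit 2) (Steps.bwd (nat_lit 6) (Steps.fwd (nat_lit 8192) (Steps.bwd (nat_lit 1) (Steps.bwd (nat_lit 3) (Steps.bwd (nat_lit 2) (Steps.bwd (nat_lit 5) Steps.nil)))))))))) (nat_lit 38) (nat_lit 1),
  Rule.mk (nat_lit 5) (nat_lit 151) (Steps.bwd (nat_lit 2) (Steps.bwd (nat_lit 3) (Steps.bwd (nat_lit 1) (Steps.bwd (nat_lit 2) (Steps.fwd (nat_lit 24576) (Steps.fwd (nat_lit 8192) (Steps.fwd (nat_lit 4096) (Steps.bwd (nat_lit 3) (Steps.fwd (nat_lit 8192) (Steps.bwd (nat_lit 6) Steps.nil)))))))))) (nat_lit 39) (nat_lit 1),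
  Rule.mk (nat_lit 5) (nat_lit 53) (Steps.bwd (nat_lit 7) (Steps.fwd (nat_lit 20480) (Steps.fwd (nat_lit 28672) Steps.nil))) (nat_lit 34) (nat_lit 0),
  Rule.mk (nat_lit 6) (nat_lit 137) (Steps.fwd (nat_lit 16384) (Steps.fwd (nat_lit 20480) (Steps.bwd (nat_lit 7) (Steps.bwd (nat_lit 4) (Steps.fwd (nat_lit 28672) (Steps.bwd (nat_lit 4) (Steps.bwd (nat_lit 5) (Steps.fwd (nat_lit 24576) (Steps.bwd (nat_lit 4) Steps.nil))))))))) (nat_lit 36) (nat_lit 0),
  Rule.mk (nat_lit 0) (nat_lit 151) (Steps.bwd (nat_lit 5) (Steps.fwd (nat_lit 24576) (Steps.fwd (nat_lit 16384) (Steps.bwd (nat_lit 6) (Steps.fwd (nat_lit 16384) (Steps.bwd (nat_lit 5) (Steps.fwd (nat_lit 24576) (Steps.bwd (nat_lit 4) (Steps.bwd (nat_lit 6) (Steps.fwd (nat_lit 16384) Steps.nil)))))))))) (nat_lit 36) (nat_lit 1),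
  Rule.mk (nat_lit 6) (nat_lit 53) (Steps.fwd (nat_lit 28672) (Steps.fwd (nat_lit 12288) (Steps.bwd (nat_lit 1) Steps.nil))) (nat_lit 28) (nat_lit 1),
  Rule.mk (nat_lit 2) (nat_lit 151) (Steps.bwd (nat_lit 1) (Steps.bwd (nat_lit 3) (Steps.fwd (nat_lit 8192) (Steps.fwd (nat_lit 20480) (Steps.bwd (nat_lit 7) (Steps.fwd (nat_lit 8192) (Steps.fwd (nat_lit 12288) (Steps.bwd (nat_lit 1) (Steps.fwd (nat_lit 8192) (Steps.fwd (nat_lit 28672) Steps.nil)))))))))) (nat_lit 38) (nat_lit 7),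
  Rule.mk (nat_lit 2) (nat_lit 361) (Steps.bwd (nat_lit 1) (Steps.bwd (nat_lit 3) (Steps.bwd (nat_lit 2) (Steps.bwd (nat_lit 3) (Steps.bwd (nat_lit 5) (Steps.bwd (nat_lit 4) (Steps.bwd (nat_lit 7) (Steps.bwd (nat_lit 4) (Steps.bwd (nat_lit 2) (Steps.bwd (nat_lit 3) (Steps.bwd (nat_lit 1) (Steps.bwd (nat_lit 2) (Steps.bwd (nat_lit 5) (Steps.fwd (nat_lit 24576) (Steps.bwd (nat_lit 9) (Steps.fwd (nat_lit 16384) (Steps.fwd (nat_lit 24576) (Steps.bwd (nat_lit 4) (Steps.bwd (nat_lit 2) (Steps.bwd (nat_lit 3) (Steps.bwd (nat_lit 1) (Steps.fwd (nat_lit 8192) (Steps.fwd (nat_lit 16384) (Steps.fwd (nat_lit 28672) (Steps.bwd (nat_lit 4) Steps.nil))))))))))))))))))))))))) (nat_lit 40) (nat_lit 11),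
  Rule.mk (nat_lit 0) (nat_lit 165) (Steps.fwd (nat_lit 8192) (Steps.fwd (nat_lit 12288) (Steps.fwd (nat_lit 4096) (Steps.fwd (nat_lit 8192) (Steps.fwd (nat_lit 24576) (Steps.fwd (nat_lit 8192) (Steps.fwd (nat_lit 4096) (Steps.fwd (nat_lit 12288) (Steps.fwd (nat_lit 8192) (Steps.bwd (nat_lit 6) (Steps.bwd (nat_lit 5) Steps.nil))))))))))) (nat_lit 39) (nat_lit 1),
  Rule.mk (nat_lit 4) (nat_lit 137) (Steps.fwd (nat_lit 28672) (Steps.fwd (nat_lit 16384) (Steps.fwd (nat_lit 20480) (Steps.bwd (nat_lit 7) (Steps.bwd (nat_lit 4) (Steps.bwd (nat_lit 6) (Steps.bwd (nat_lit 4) (Steps.bwd (nat_lit 5) (Steps.bwd (nat_lit 7) Steps.nil))))))))) (nat_lit 36) (nat_lit 4),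
  Rule.mk (nat_lit 7) (nat_lit 151) (Steps.bwd (nat_lit 2) (Steps.bwd (nat_lit 3) (Steps.bwd (nat_lit 1) (Steps.bwd (nat_lit 2) (Steps.bwd (nat_lit 6) (Steps.fwd (nat_lit 8192) (Steps.fwd (nat_lit 4096) (Steps.fwd (nat_lit 12288) (Steps.fwd (nat_lit 8192) (Steps.fwd (nat_lit 20480) Steps.nil)))))))))) (nat_lit 38) (nat_lit 1),
  Rule.mk (nat_lit 5) (nat_lit 151) (Steps.bwd (nat_lit 2) (Steps.bwd (nat_lit 3) (Steps.bwd (nat_lit 1) (Steps.bwd (nat_lit 2) (Steps.bwd (nat_lit 7) (Steps.bwd (nat_lit 2) (Steps.bwd (nat_lit 1) (Steps.fwd (nat_lit 12288) (Steps.fwd (nat_lit 8192) (Steps.fwd (nat_lit 28672) Steps.nil)))))))))) (nat_lit 39) (nat_lit 1),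
  Rule.mk (nat_lit 3) (nat_lit 123) (Steps.fwd (nat_lit 16384) (Steps.bwd (nat_lit 3) (Steps.bwd (nat_lit 4) (Steps.bwd (nat_lit 3) (Steps.fwd (nat_lit 4096) (Steps.fwd (nat_lit 16384) (Steps.fwd (nat_lit 12288) (Steps.fwd (nat_lit 16384) Steps.nil)))))))) (nat_lit 20) (nat_lit 5),
  Rule.mk (nat_lit 3) (nat_lit 53) (Steps.fwd (nat_lit 24576) (Steps.bwd (nat_lit 3) (Steps.bwd (nat_lit 6) Steps.nil))) (nat_lit 32) (nat_lit 0),
  Rule.mk (nat_lit 3) (nat_lit 151) (Steps.bwd (nat_lit 1) (Steps.bwd (nat_lit 2) (Steps.bwd (nat_lit 6) (Steps.bwd (nat_lit 2) (Steps.bwd (nat_lit 1) (Steps.bwd (nat_lit 3) (Steps.bwd (nat_lit 2) (Steps.bwd (nat_lit 5) (Steps.bwd (nat_lit 7) (Steps.bwd (nat_lit 2) Steps.nil)))))))))) (nat_lit 38) (nat_lit 3),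
  Rule.mk (nat_lit 6) (nat_lit 137) (Steps.fwd (nat_lit 16384) (Steps.fwd (nat_lit 20480) (Steps.bwd (nat_lit 7) (Steps.fwd (nat_lit 16384) (Steps.fwd (nat_lit 28672) (Steps.fwd (nat_lit 16384) (Steps.bwd (nat_lit 5) (Steps.bwd (nat_lit 7) (Steps.bwd (nat_lit 4) Steps.nil))))))))) (nat_lit 36) (nat_lit 0),
  Rule.mk (nat_lit 0) (nat_lit 375) (Steps.fwd (nat_lit 8192) (Steps.fwd (nat_lit 4096) (Steps.fwd (nat_lit 12288) (Steps.fwd (nat_lit 8192) (Steps.fwd (nat_lit 16384) (Steps.fwd (nat_lit 28672) (Steps.bwd (nat_lit 4) (Steps.fwd (nat_lit 20480) (Steps.fwd (nat_lit 12288) (Steps.fwd (nat_lit 8192) (Steps.fwd (nat_lit 12288) (Steps.fwd (nat_lit 4096) (Steps.fwd (nat_lit 8192) (Steps.bwd (nat_lit 4) (Steps.fwd (nat_lit 24576) (Steps.fwd (nat_lit 16384) (Steps.fwd (nat_lit 8192) (Steps.bwd (nat_lit 1) (Steps.fwd (nat_lit 12288) (Steps.fwd (nat_lit 8192) (Steps.fwd (nat_lit 16384) (Steps.fwd (nat_lit 28672) (Steps.fwd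 (nat_lit 16384) (Steps.fwd (nat_lit 36864) (Steps.fwd (nat_lit 28672) (Steps.fwd (nat_lit 20480) Steps.nil)))))))))))))))))))))))))) (nat_lit 41) (nat_lit 3),
  Rule.mk (nat_lit 5) (nat_lit 137) (Steps.bwd (nat_lit 7) (Steps.bwd (nat_lit 4) (Steps.fwd (nat_lit 28672) (Steps.bwd (nat_lit 4) (Steps.fwd (nat_lit 20480) (Steps.bwd (nat_lit 7) (Steps.bwd (nat_lit 4) (Steps.bwd (nat_lit 6) (Steps.bwd (nat_lit 4) Steps.nil))))))))) (nat_lit 36) (nat_lit 2),
  Rule.mk (nat_lit 5) (nat_lit 137) (Steps.fwd (nat_lit 16384) (Steps.bwd (nat_lit 7) (Steps.bwd (nat_lit 4) (Steps.fwd (nat_lit 28672) (Steps.bwd (nat_lit 5) (Steps.bwd (nat_lit 4) (Steps.bwd (nat_lit 7) (Steps.fwd (nat_lit 16384) (Steps.fwd (nat_lit 28672) Steps.nil))))))))) (nat_lit 37) (nat_lit 4),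
  Rule.mk (nat_lit 0) (nat_lit 165) (Steps.fwd (nat_lit 8192) (Steps.fwd (nat_lit 12288) (Steps.fwd (nat_lit 4096) (Steps.fwd (nat_lit 8192) (Steps.bwd (nat_lit 7) (Steps.fwd (nat_lit 8192) (Steps.bwd (nat_lit 1) (Steps.bwd (nat_lit 3) (Steps.bwd (nat_lit 2) (Steps.fwd (nat_lit 28672) (Steps.fwd (nat_lit 20480) Steps.nil))))))))))) (nat_lit 39) (nat_lit 1),
  Rule.mk (nat_lit 5) (nat_lit 53) (Steps.fwd (nat_lit 8192) (Steps.fwd (nat_lit 20480) (Steps.fwd (nat_lit 8192) Steps.nil))) (nat_lit 18) (nat_lit 0),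
  Rule.mk (nat_lit 7) (nat_lit 53) (Steps.bwd (nat_lit 3) (Steps.bwd (nat_lit 6) (Steps.fwd (nat_lit 12288) Steps.nil))) (nat_lit 32) (nat_lit 1),
  Rule.mk (nat_lit 3) (nat_lit 123) (Steps.fwd (nat_lit 16384) (Steps.bwd (nat_lit 3) (Steps.bwd (nat_lit 1) (Steps.fwd (nat_lit 16384) (Steps.bwd (nat_lit 3) (Steps.fwd (nat_lit 16384) (Steps.fwd (nat_lit 12288) (Steps.fwd (nat_lit 16384) Steps.nil)))))))) (nat_lit 20) (nat_lit 7),
  Rule.mk (nat_lit 1) (nat_lit 123) (Steps.fwd (nat_lit 16384) (Steps.bwd (nat_lit 3) (Steps.fwd (nat_lit 16384) (Steps.fwd (nat_lit 12288) (Steps.fwd (nat_lit 16384) (Steps.fwd (nat_lit 12288) (Steps.fwd (nat_lit 16384) (Steps.bwd (nat_lit 3) Steps.nil)))))))) (nat_lit 20) (nat_lit 1),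
  Rule.mk (nat_lit 0) (nat_lit 67) (Steps.fwd (nat_lit 28672) (Steps.fwd (nat_lit 4096) (Steps.fwd (nat_lit 24576) (Steps.bwd (nat_lit 1) Steps.nil)))) (nat_lit 30) (nat_lit 2),
  Rule.mk (nat_lit 6) (nat_lit 151) (Steps.fwd (nat_lit 8192) (Steps.fwd (nat_lit 4096) (Steps.fwd (nat_lit 12288) (Steps.bwd (nat_lit 2) (Steps.fwd (nat_lit 20480) (Steps.fwd (nat_lit 24576) (Steps.bwd (nat_lit 2) (Steps.bwd (nat_lit 3) (Steps.fwd (nat_lit 4096) (Steps.bwd (nat_lit 2) Steps.nil)))))))))) (nat_lit 38) (nat_lit 6),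
  Rule.mk (nat_lit 7) (nat_lit 151) (Steps.fwd (nat_lit 8192) (Steps.fwd (nat_lit 4096) (Steps.fwd (nat_lit 12288) (Steps.bwd (nat_lit 2) (Steps.fwd (nat_lit 28672) (Steps.fwd (nat_lit 20480) (Steps.fwd (nat_lit 8192) (Steps.fwd (nat_lit 12288) (Steps.bwd (nat_lit 1) (Steps.bwd (nat_lit 2) Steps.nil)))))))))) (nat_lit 39) (nat_lit 6),
  Rule.mk (nat_lit 6) (nat_lit 137) (Steps.bwd (nat_lit 5) (Steps.bwd (nat_lit 4) (Steps.bwd (nat_lit 7) (Steps.bwd (nat_lit 4) (Steps.bwd (nat_lit 6) (Steps.fwd (nat_lit 20480) (Steps.bwd (nat_lit 4) (Steps.fwd (nat_lit 24576) (Steps.bwd (nat_lit 4) Steps.nil))))))))) (nat_lit 37) (nat_lit 3),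
  Rule.mk (nat_lit 6) (nat_lit 137) (Steps.bwd (nat_lit 4) (Steps.fwd (nat_lit 20480) (Steps.fwd (nat_lit 24576) (Steps.fwd (nat_lit 16384) (Steps.bwd (nat_lit 6) (Steps.bwd (nat_lit 4) (Steps.bwd (nat_lit 5) (Steps.bwd (nat_lit 7) (Steps.bwd (nat_lit 4) Steps.nil))))))))) (nat_lit 36) (nat_lit 0),
  Rule.mk (nat_lit 7) (nat_lit 53) (Steps.fwd (nat_lit 4096) (Steps.fwd (nat_lit 28672) (Steps.bwd (nat_lit 1) Steps.nil))) (nat_lit 30) (nat_lit 1),
  Rule.mk (nat_lit 4) (nat_lit 361) (Steps.bwd (nat_lit 6) (Steps.fwd (nat_lit 16384) (Steps.fwd (nat_lit 8192) (Steps.bwd (nat_lit 1) (Steps.fwd (nat_lit 12288) (Steps.bwd (nat_lit 2) (Steps.bwd (nat_lit 3) (Steps.fwd (nat_lit 20480) (Steps.bwd (nat_lit 4) (Steps.bwd (nat_lit 7) (Steps.bwd (nat_lit 4) (Steps.fwd (nat_lit 8192) (Steps.fwd (nat_lit 12288) (Steps.fwd (nat_lit 4096) (Steps.bwd (nat_lit 2) (Steps.fwd (nat_lit 20480) (Steps.bwd (nat_lit 7) (Steps.bwd (nat_lit 9)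 (Steps.bwd (nat_lit 4) (Steps.bwd (nat_lit 7) (Steps.fwd (nat_lit 16384) (Steps.fwd (nat_lit 8192) (Steps.bwd (nat_lit 3) (Steps.bwd (nat_lit 1) (Steps.bwd (nat_lit 2) Steps.nil))))))))))))))))))))))))) (nat_lit 40) (nat_lit 8),
  Rule.mk (nat_lit 7) (nat_lit 137) (Steps.bwd (nat_lit 4) (Steps.bwd (nat_lit 6) (Steps.fwd (nat_lit 16384) (Steps.fwd (nat_lit 20480) (Steps.bwd (nat_lit 7) (Steps.bwd (nat_lit 4) (Steps.fwd (nat_lit 28672) (Steps.fwd (nat_lit 16384) (Steps.fwd (nat_lit 20480) Steps.nil))))))))) (nat_lit 36) (nat_lit 3),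
  Rule.mk (nat_lit 2) (nat_lit 151) (Steps.bwd (nat_lit 3) (Steps.bwd (nat_lit 1) (Steps.bwd (nat_lit 2) (Steps.bwd (nat_lit 6) (Steps.fwd (nat_lit 8192) (Steps.fwd (nat_lit 4096) (Steps.fwd (nat_lit 12288) (Steps.fwd (nat_lit 8192) (Steps.fwd (nat_lit 20480) (Steps.fwd (nat_lit 24576) Steps.nil)))))))))) (nat_lit 38) (nat_lit 2),
  Rule.mk (nat_lit 7) (nat_lit 361) (Steps.bwd (nat_lit 4) (Steps.bwd (nat_lit 2) (Steps.bwd (nat_lit 3) (Steps.bwd (nat_lit 1) (Steps.bwd (nat_lit 2) (Steps.bwd (nat_lit 4) (Steps.bwd (nat_lit 6) (Steps.bwd (nat_lit 4) (Steps.bwd (nat_lit 2) (Steps.bwd (nat_lit 1) (Steps.bwd (nat_lit 3) (Steps.bwd (nat_lit 2) (Steps.bwd (nat_lit 3) (Steps.bwd (nat_lit 5) (Steps.bwd (nat_lit 4) (Steps.bwd (nat_lit 7) (Steps.bwd (nat_lit 4) (Steps.bwd (nat_lit 2) (Steps.bwd (nat_lit 3) (Steps.bwd (nat_lit 1) (Steps.bwd (nat_lit 2) (Steps.fwd (nat_lit 20480) (Steps.fwd (nat_lit 24576) (Steps.bwd (nat_lit 9)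 (Steps.fwd (nat_lit 16384) Steps.nil))))))))))))))))))))))))) (nat_lit 40) (nat_lit 2),
  Rule.mk (nat_lit 0) (nat_lit 165) (Steps.bwd (nat_lit 2) (Steps.bwd (nat_lit 3) (Steps.bwd (nat_lit 1) (Steps.bwd (nat_lit 2) (Steps.bwd (nat_lit 6) (Steps.bwd (nat_lit 2) (Steps.fwd (nat_lit 4096) (Steps.bwd (nat_lit 3) (Steps.fwd (nat_lit 8192) (Steps.fwd (nat_lit 20480) (Steps.fwd (nat_lit 24576) Steps.nil))))))))))) (nat_lit 38) (nat_lit 1),
  Rule.mk (nat_lit 2) (nat_lit 81) (Steps.fwd (nat_lit 12288) (Steps.bwd (nat_lit 2) (Steps.fwd (nat_lit 12288) (Steps.fwd (nat_lit 8192) (Steps.fwd (nat_lit 12288) Steps.nil))))) (nat_lit 14) (nat_lit 1),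
  Rule.mk (nat_lit 3) (nat_lit 53) (Steps.bwd (nat_lit 7) (Steps.fwd (nat_lit 24576) (Steps.bwd (nat_lit 1) Steps.nil))) (nat_lit 29) (nat_lit 2),
  Rule.mk (nat_lit 0) (nat_lit 151) (Steps.bwd (nat_lit 5) (Steps.bwd (nat_lit 4) (Steps.bwd (nat_lit 7) (Steps.fwd (nat_lit 16384) (Steps.bwd (nat_lit 6) (Steps.bwd (nat_lit 5) (Steps.bwd (nat_lit 4) (Steps.fwd (nat_lit 24576) (Steps.bwd (nat_lit 4) (Steps.bwd (nat_lit 6) Steps.nil)))))))))) (nat_lit 37) (nat_lit 3),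
  Rule.mk (nat_lit 4) (nat_lit 137) (Steps.bwd (nat_lit 5) (Steps.bwd (nat_lit 7) (Steps.fwd (nat_lit 16384) (Steps.fwd (nat_lit 28672) (Steps.bwd (nat_lit 4) (Steps.bwd (nat_lit 5) (Steps.bwd (nat_lit 7) (Steps.fwd (nat_lit 16384) (Steps.fwd (nat_lit 28672) Steps.nil))))))))) (nat_lit 36) (nat_lit 1),
  Rule.mk (nat_lit 2) (nat_lit 151) (Steps.bwd (nat_lit 3) (Steps.bwd (nat_lit 1) (Steps.bwd (nat_lit 2) (Steps.bwd (nat_lit 6) (Steps.fwd (nat_lit 8192) (Steps.bwd (nat_lit 1) (Steps.bwd (nat_lit 3) (Steps.bwd (nat_lit 2) (Steps.bwd (nat_lit 5) (Steps.bwd (nat_lit 7) Steps.nil)))))))))) (nat_lit 38) (nat_lit 2),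
  Rule.mk (nat_lit 7) (nat_lit 151) (Steps.bwd (nat_lit 2) (Steps.bwd (nat_lit 1) (Steps.fwd (nat_lit 12288) (Steps.bwd (nat_lit 2) (Steps.fwd (nat_lit 28672) (Steps.fwd (nat_lit 20480) (Steps.bwd (nat_lit 2) (Steps.bwd (nat_lit 3) (Steps.bwd (nat_lit 1) (Steps.bwd (nat_lit 2) Steps.nil)))))))))) (nat_lit 39) (nat_lit 6),
  Rule.mk (nat_lit 2) (nat_lit 361) (Steps.bwd (nat_lit 3) (Steps.bwd (nat_lit 1) (Steps.bwd (nat_lit 2) (Steps.bwd (nat_lit 4) (Steps.bwd (nat_lit 6) (Steps.bwd (nat_lit 4) (Steps.bwd (nat_lit 2) (Steps.bwd (nat_lit 1) (Steps.bwd (nat_lit 3) (Steps.bwd (nat_lit 2) (Steps.bwd (nat_lit 3) (Steps.bwd (nat_lit 5) (Steps.bwd (nat_lit 4) (Steps.bwd (nat_lit 7) (Steps.bwd (nat_lit 4) (Steps.bwd (nat_lit 2) (Steps.bwd (nat_lit 3) (Steps.bwd (nat_lit 1) (Steps.bwd (nat_lit 2) (Steps.bwd (nat_lit 5) (Steps.bwd (nat_lit 7) (Steps.bwd (nat_lit 9) (Steps.bwd (nat_lit 4) (Steps.fwd (nat_lit 24576) (Steps.fwd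 (nat_lit 16384) Steps.nil))))))))))))))))))))))))) (nat_lit 40) (nat_lit 4),
  Rule.mk (nat_lit 6) (nat_lit 151) (Steps.bwd (nat_lit 2) (Steps.fwd (nat_lit 4096) (Steps.fwd (nat_lit 12288) (Steps.fwd (nat_lit 8192) (Steps.fwd (nat_lit 20480) (Steps.bwd (nat_lit 7) (Steps.bwd (nat_lit 2) (Steps.bwd (nat_lit 3) (Steps.bwd (nat_lit 1) (Steps.bwd (nat_lit 2) Steps.nil)))))))))) (nat_lit 38) (nat_lit 6),
  Rule.mk (nat_lit 0) (nat_lit 151) (Steps.fwd (nat_lit 24576) (Steps.fwd (nat_lit 16384) (Steps.bwd (nat_lit 6) (Steps.bwd (nat_lit 4) (Steps.bwd (nat_lit 5) (Steps.fwd (nat_lit 24576) (Steps.fwd (nat_lit 16384) (Steps.bwd (nat_lit 6) (Steps.fwd (nat_lit 16384) (Steps.fwd (nat_lit 20480) Steps.nil)))))))))) (nat_lit 36) (nat_lit 2),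
  Rule.mk (nat_lit 0) (nat_lit 137) (Steps.fwd (nat_lit 12288) (Steps.bwd (nat_lit 4) (Steps.bwd (nat_lit 3) (Steps.fwd (nat_lit 16384) (Steps.fwd (nat_lit 4096) (Steps.fwd (nat_lit 12288) (Steps.fwd (nat_lit 16384) (Steps.bwd (nat_lit 3) (Steps.bwd (nat_lit 4) Steps.nil))))))))) (nat_lit 21) (nat_lit 4),
  Rule.mk (nat_lit 0) (nat_lit 151) (Steps.fwd (nat_lit 24576) (Steps.fwd (nat_lit 16384) (Steps.fwd (nat_lit 28672) (Steps.bwd (nat_lit 4) (Steps.fwd (nat_lit 20480) (Steps.bwd (nat_lit 7) (Steps.fwd (nat_lit 16384) (Steps.fwd (nat_lit 28672) (Steps.bwd (nat_lit 4) (Steps.fwd (nat_lit 20480) Steps.nil)))))))))) (nat_lit 36) (nat_lit 2),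
  Rule.mk (nat_lit 7) (nat_lit 151) (Steps.bwd (nat_lit 2) (Steps.fwd (nat_lit 4096) (Steps.bwd (nat_lit 3) (Steps.fwd (nat_lit 8192) (Steps.bwd (nat_lit 6) (Steps.fwd (nat_lit 20480) (Steps.bwd (nat_lit 2) (Steps.bwd (nat_lit 3) (Steps.bwd (nat_lit 1) (Steps.bwd (nat_lit 2) Steps.nil)))))))))) (nat_lit 39) (nat_lit 6),
  Rule.mk (nat_lit 5) (nat_lit 53) (Steps.bwd (nat_lit 7) (Steps.bwd (nat_lit 5) (Steps.fwd (nat_lit 28672) Steps.nil))) (nat_lit 34) (nat_lit 0),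
  Rule.mk (nat_lit 3) (nat_lit 361) (Steps.bwd (nat_lit 1) (Steps.bwd (nat_lit 2) (Steps.bwd (nat_lit 4) (Steps.bwd (nat_lit 6) (Steps.bwd (nat_lit 4) (Steps.bwd (nat_lit 2) (Steps.bwd (nat_lit 1) (Steps.bwd (nat_lit 3) (Steps.bwd (nat_lit 2) (Steps.bwd (nat_lit 3) (Steps.bwd (nat_lit 5) (Steps.bwd (nat_lit 4) (Steps.bwd (nat_lit 7) (Steps.bwd (nat_lit 4) (Steps.bwd (nat_lit 2) (Steps.bwd (nat_lit 3) (Steps.bwd (nat_lit 1) (Steps.bwd (nat_lit 2) (Steps.bwd (nat_lit 5) (Steps.bwd (nat_lit 7) (Steps.bwd (nat_lit 9) (Steps.bwd (nat_lit 4) (Steps.fwd (nat_lit 24576) (Steps.fwd (nat_lit 16384) (Steps.fwd (nat_lit 8192) Steps.nil))))))))))))))))))))))))) (nat_lit 40) (nat_lit 5),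
  Rule.mk (nat_lit 0) (nat_lit 165) (Steps.fwd (nat_lit 4096) (Steps.fwd (nat_lit 12288) (Steps.bwd (nat_lit 2) (Steps.bwd (nat_lit 6) (Steps.fwd (nat_lit 20480) (Steps.fwd (nat_lit 8192) (Steps.bwd (nat_lit 3) (Steps.fwd (nat_lit 4096) (Steps.bwd (nat_lit 2) (Steps.bwd (nat_lit 7) (Steps.bwd (nat_lit 2) Steps.nil))))))))))) (nat_lit 39) (nat_lit 7),
  Rule.mk (nat_lit 4) (nat_lit 361) (Steps.bwd (nat_lit 6) (Steps.bwd (nat_lit 4) (Steps.fwd (nat_lit 8192) (Steps.bwd (nat_lit 1) (Steps.bwd (nat_lit 3) (Steps.bwd (nat_lit 2) (Steps.bwd (nat_lit 3) (Steps.fwd (nat_lit 20480) (Steps.bwd (nat_lit 4) (Steps.fwd (nat_lit 24576) (Steps.fwd (nat_lit 16384) (Steps.fwd (nat_lit 8192) (Steps.bwd (nat_lit 3) (Steps.bwd (nat_lit 1) (Steps.fwd (nat_lit 8192) (Steps.bwd (nat_lit 5) (Steps.bwd (nat_lit 7) (Steps.bwd (nat_lit 9) (Steps.bwd (nat_lit 4) (Steps.fwd (nat_lit 24576) (Steps.bwd (nat_lit 4) (Steps.bwd (nat_lit 2) (Steps.bwd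 (nat_lit 3) (Steps.bwd (nat_lit 1) (Steps.bwd (nat_lit 2) Steps.nil))))))))))))))))))))))))) (nat_lit 40) (nat_lit 8),
  Rule.mk (nat_lit 1) (nat_lit 123) (Steps.bwd (nat_lit 4) (Steps.bwd (nat_lit 3) (Steps.fwd (nat_lit 16384) (Steps.fwd (nat_lit 12288) (Steps.bwd (nat_lit 4) (Steps.bwd (nat_lit 3) (Steps.fwd (nat_lit 16384) (Steps.fwd (nat_lit 12288) Steps.nil)))))))) (nat_lit 20) (nat_lit 1),
  Rule.mk (nat_lit 7) (nat_lit 137) (Steps.bwd (nat_lit 4) (Steps.bwd (nat_lit 6) (Steps.fwd (nat_lit 20480) (Steps.fwd (nat_lit 16384) (Steps.bwd (nat_lit 7) (Steps.bwd (nat_lit 4) (Steps.fwd (nat_lit 28672) (Steps.bwd (nat_lit 5) (Steps.fwd (nat_lit 16384) Steps.nil))))))))) (nat_lit 37) (nat_lit 1),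
  Rule.mk (nat_lit 6) (nat_lit 361) (Steps.bwd (nat_lit 4) (Steps.bwd (nat_lit 8) (Steps.bwd (nat_lit 6) (Steps.fwd (nat_lit 20480) (Steps.fwd (nat_lit 8192) (Steps.fwd (nat_lit 4096) (Steps.fwd (nat_lit 12288) (Steps.bwd (nat_lit 2) (Steps.bwd (nat_lit 4) (Steps.bwd (nat_lit 6) (Steps.fwd (nat_lit 16384) (Steps.bwd (nat_lit 5) (Steps.bwd (nat_lit 3) (Steps.fwd (nat_lit 8192) (Steps.fwd (nat_lit 12288) (Steps.bwd (nat_lit 1) (Steps.bwd (nat_lit 2) (Steps.fwd (nat_lit 16384) (Steps.fwd (nat_lit 24576) (Steps.fwd (nat_lit 16384) (Steps.bwd (nat_lit 2) (Steps.fwd (nat_lit 4096) (Steps.bwd (nat_lit 3) (Steps.bwd (nat_lit 2) (Steps.fwd (nat_lit 16384) Steps.nil))))))))))))))))))))))))) (nat_lit 41) (nat_lit 25),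
  Rule.mk (nat_lit 0) (nat_lit 165) (Steps.bwd (nat_lit 6) (Steps.fwd (nat_lit 20480) (Steps.bwd (nat_lit 2) (Steps.bwd (nat_lit 3) (Steps.fwd (nat_lit 4096) (Steps.fwd (nat_lit 8192) (Steps.bwd (nat_lit 7) (Steps.fwd (nat_lit 8192) (Steps.fwd (nat_lit 4096) (Steps.fwd (nat_lit 12288) (Steps.fwd (nat_lit 8192) Steps.nil))))))))))) (nat_lit 39) (nat_lit 10),
  Rule.mk (nat_lit 2) (nat_lit 151) (Steps.bwd (nat_lit 3) (Steps.bwd (nat_lit 1) (Steps.bwd (nat_lit 2) (Steps.fwd (nat_lit 28672) (Steps.fwd (nat_lit 8192) (Steps.bwd (nat_lit 1) (Steps.bwd (nat_lit 3) (Steps.bwd (nat_lit 2) (Steps.bwd (nat_lit 5) (Steps.bwd (nat_lit 7) Steps.nil)))))))))) (nat_lit 38) (nat_lit 2),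
  Rule.mk (nat_lit 2) (nat_lit 361) (Steps.bwd (nat_lit 3) (Steps.bwd (nat_lit 1) (Steps.bwd (nat_lit 2) (Steps.bwd (nat_lit 5) (Steps.bwd (nat_lit 7) (Steps.bwd (nat_lit 9) (Steps.fwd (nat_lit 16384) (Steps.fwd (nat_lit 24576) (Steps.fwd (nat_lit 16384) (Steps.bwd (nat_lit 2) (Steps.bwd (nat_lit 3) (Steps.fwd (nat_lit 4096) (Steps.fwd (nat_lit 8192) (Steps.bwd (nat_lit 4) (Steps.bwd (nat_lit 6) (Steps.bwd (nat_lit 4) (Steps.bwd (nat_lit 2) (Steps.bwd (nat_lit 1) (Steps.fwd (nat_lit 12288) (Steps.fwd (nat_lit 8192) (Steps.fwd (nat_lit 12288) (Steps.bwd (nat_lit 5) (Steps.fwd (nat_lit 16384) (Steps.bwd (nat_lit 7) (Steps.bwd (nat_lit 4) Steps.nil))))))))))))))))))))))))) (nat_lit 40) (nat_lit 20),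
  Rule.mk (nat_lit 6) (nat_lit 151) (Steps.fwd (nat_lit 8192) (Steps.bwd (nat_lit 1) (Steps.fwd (nat_lit 12288) (Steps.bwd (nat_lit 2) (Steps.bwd (nat_lit 5) (Steps.fwd (nat_lit 24576) (Steps.bwd (nat_lit 2) (Steps.bwd (nat_lit 3) (Steps.bwd (nat_lit 1) (Steps.bwd (nat_lit 2) Steps.nil)))))))))) (nat_lit 38) (nat_lit 6),
  Rule.mk (nat_lit 7) (nat_lit 151) (Steps.fwd (nat_lit 8192) (Steps.bwd (nat_lit 1) (Steps.bwd (nat_lit 3) (Steps.bwd (nat_lit 2) (Steps.fwd (nat_lit 28672) (Steps.fwd (nat_lit 20480) (Steps.bwd (nat_lit 2) (Steps.bwd (nat_lit 3) (Steps.bwd (nat_lit 1) (Steps.bwd (nat_lit 2) Steps.nil)))))))))) (nat_lit 39) (nat_lit 6),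
  Rule.mk (nat_lit 1) (nat_lit 53) (Steps.bwd (nat_lit 7) (Steps.fwd (nat_lit 4096) (Steps.bwd (nat_lit 6) Steps.nil))) (nat_lit 30) (nat_lit 0),
  Rule.mk (nat_lit 4) (nat_lit 137) (Steps.bwd (nat_lit 7) (Steps.fwd (nat_lit 16384) (Steps.bwd (nat_lit 6) (Steps.fwd (nat_lit 20480) (Steps.fwd (nat_lit 16384) (Steps.bwd (nat_lit 7) (Steps.bwd (nat_lit 4) (Steps.bwd (nat_lit 6) (Steps.bwd (nat_lit 5) Steps.nil))))))))) (nat_lit 37) (nat_lit 0)]
noncomputable def R_14 : List (Rule) := [Rule.mk (nat_lit 2) (nat_lit 151) (Steps.bwd (nat_lit 3) (Steps.bwd (nat_lit 1) (Steps.bwd (nat_lit 2) (Steps.bwd (nat_lit 6) (Steps.bwd (nat_lit 2) (Steps.fwd (nat_lit 4096) (Steps.fwd (nat_lit 12288) (Steps.fwd (nat_lit 8192) (Steps.fwd (nat_lit 20480) (Steps.fwd (nat_lit 24576) Steps.nil)))))))))) (nat_lit 38) (nat_lit 2),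
  Rule.mk (nat_lit 6) (nat_lit 361) (Steps.bwd (nat_lit 4) (Steps.bwd (nat_lit 2) (Steps.bwd (nat_lit 1) (Steps.bwd (nat_lit 3) (Steps.bwd (nat_lit 2) (Steps.bwd (nat_lit 3) (Steps.bwd (nat_lit 5) (Steps.bwd (nat_lit 4) (Steps.bwd (nat_lit 7) (Steps.bwd (nat_lit 4) (Steps.bwd (nat_lit 2) (Steps.bwd (nat_lit 3) (Steps.bwd (nat_lit 1) (Steps.bwd (nat_lit 2) (Steps.fwd (nat_lit 20480) (Steps.bwd (nat_lit 7) (Steps.bwd (nat_lit 9) (Steps.fwd (nat_lit 16384) (Steps.bwd (nat_lit 7) (Steps.bwd (nat_lit 4) (Steps.fwd (nat_lit 8192) (Steps.fwd (nat_lit 12288) (Steps.fwd (nat_lit 4096) (Steps.fwd (nat_lit 8192) (Steps.fwd (nat_lit 16384) Steps.nil))))))))))))))))))))))))) (nat_lit 40) (nat_lit 9),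
  Rule.mk (nat_lit 0) (nat_lit 165) (Steps.bwd (nat_lit 2) (Steps.bwd (nat_lit 3) (Steps.bwd (nat_lit 1) (Steps.bwd (nat_lit 2) (Steps.fwd (nat_lit 28672) (Steps.bwd (nat_lit 2) (Steps.bwd (nat_lit 1) (Steps.bwd (nat_lit 3) (Steps.bwd (nat_lit 2) (Steps.fwd (nat_lit 20480) (Steps.fwd (nat_lit 24576) Steps.nil))))))))))) (nat_lit 38) (nat_lit 1),
  Rule.mk (nat_lit 0) (nat_lit 151) (Steps.bwd (nat_lit 5) (Steps.bwd (nat_lit 4) (Steps.bwd (nat_lit 7) (Steps.bwd (nat_lit 4) (Steps.bwd (nat_lit 6) (Steps.bwd (nat_lit 5) (Steps.fwd (nat_lit 16384) (Steps.fwd (nat_lit 24576) (Steps.fwd (nat_lit 16384) (Steps.fwd (nat_lit 28672) Steps.nil)))))))))) (nat_lit 37) (nat_lit 3),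
  Rule.mk (nat_lit 3) (nat_lit 123) (Steps.fwd (nat_lit 16384) (Steps.bwd (nat_lit 3) (Steps.fwd (nat_lit 16384) (Steps.fwd (nat_lit 12288) (Steps.bwd (nat_lit 4) (Steps.bwd (nat_lit 1) (Steps.bwd (nat_lit 3) (Steps.fwd (nat_lit 16384) Steps.nil)))))))) (nat_lit 21) (nat_lit 3),
  Rule.mk (nat_lit 0) (nat_lit 67) (Steps.bwd (nat_lit 3) (Steps.fwd (nat_lit 20480) (Steps.bwd (nat_lit 3) (Steps.bwd (nat_lit 5) Steps.nil)))) (nat_lit 22) (nat_lit 0),
  Rule.mk (nat_lit 1) (nat_lit 123) (Steps.bwd (nat_lit 4) (Steps.bwd (nat_lit 3) (Steps.fwd (nat_lit 16384) (Steps.fwd (nat_lit 12288) (Steps.fwd (nat_lit 16384) (Steps.bwd (nat_lit 3) (Steps.bwd (nat_lit 4) (Steps.fwd (nat_lit 12288) Steps.nil)))))))) (nat_lit 20) (nat_lit 1),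
  Rule.mk (nat_lit 3) (nat_lit 123) (Steps.bwd (nat_lit 4) (Steps.bwd (nat_lit 3) (Steps.fwd (nat_lit 16384) (Steps.fwd (nat_lit 12288) (Steps.bwd (nat_lit 1) (Steps.fwd (nat_lit 16384) (Steps.fwd (nat_lit 12288) (Steps.bwd (nat_lit 4) Steps.nil)))))))) (nat_lit 20) (nat_lit 5),
  Rule.mk (nat_lit 0) (nat_lit 67) (Steps.bwd (nat_lit 7) (Steps.fwd (nat_lit 12288) (Steps.fwd (nat_lit 28672) (Steps.fwd (nat_lit 12288) Steps.nil)))) (nat_lit 32) (nat_lit 0),
  Rule.mk (nat_lit 1) (nat_lit 53) (Steps.fwd (nat_lit 28672) (Steps.bwd (nat_lit 6) (Steps.bwd (nat_lit 3) Steps.nil))) (nat_lit 28) (nat_lit 0),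
  Rule.mk (nat_lit 3) (nat_lit 123) (Steps.bwd (nat_lit 4) (Steps.bwd (nat_lit 3) (Steps.fwd (nat_lit 16384) (Steps.bwd (nat_lit 3) (Steps.bwd (nat_lit 4) (Steps.fwd (nat_lit 12288) (Steps.fwd (nat_lit 4096) (Steps.bwd (nat_lit 4) Steps.nil)))))))) (nat_lit 20) (nat_lit 3),
  Rule.mk (nat_lit 1) (nat_lit 123) (Steps.bwd (nat_lit 3) (Steps.bwd (nat_lit 4) (Steps.bwd (nat_lit 3) (Steps.fwd (nat_lit 16384) (Steps.bwd (nat_lit 3) (Steps.bwd (nat_lit 4) (Steps.fwd (nat_lit 12288) (Steps.fwd (nat_lit 16384) Steps.nil)))))))) (nat_lit 21) (nat_lit 0),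
  Rule.mk (nat_lit 5) (nat_lit 361) (Steps.fwd (nat_lit 8192) (Steps.fwd (nat_lit 4096) (Steps.fwd (nat_lit 12288) (Steps.fwd (nat_lit 8192) (Steps.fwd (nat_lit 16384) (Steps.fwd (nat_lit 28672) (Steps.fwd (nat_lit 16384) (Steps.fwd (nat_lit 20480) (Steps.bwd (nat_lit 3) (Steps.bwd (nat_lit 2) (Steps.fwd (nat_lit 12288) (Steps.fwd (nat_lit 4096) (Steps.fwd (nat_lit 8192) (Steps.fwd (nat_lit 16384) (Steps.bwd (nat_lit 7) (Steps.fwd (nat_lit 16384) (Steps.bwd (nat_lit 2) (Steps.bwd (nat_lit 1) (Steps.bwd (nat_lit 3) (Steps.bwd (nat_lit 2) (Steps.fwd (nat_lit 16384) (Steps.bwd (nat_lit 6) (Steps.bwd (nat_lit 4) (Steps.fwd (nat_lit 36864) (Steps.bwd (nat_lit 6) Steps.nil))))))))))))))))))))))))) (nat_lit 41) (nat_lit 3),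
  Rule.mk (nat_lit 2) (nat_lit 81) (Steps.bwd (nat_lit 3) (Steps.fwd (nat_lit 8192) (Steps.fwd (nat_lit 12288) (Steps.bwd (nat_lit 2) (Steps.bwd (nat_lit 3) Steps.nil))))) (nat_lit 14) (nat_lit 1),
  Rule.mk (nat_lit 6) (nat_lit 361) (Steps.bwd (nat_lit 4) (Steps.bwd (nat_lit 2) (Steps.bwd (nat_lit 1) (Steps.bwd (nat_lit 3) (Steps.bwd (nat_lit 2) (Steps.bwd (nat_lit 3) (Steps.fwd (nat_lit 20480) (Steps.bwd (nat_lit 4) (Steps.fwd (nat_lit 24576) (Steps.bwd (nat_lit 4) (Steps.bwd (nat_lit 2) (Steps.bwd (nat_lit 3) (Steps.bwd (nat_lit 1) (Steps.bwd (nat_lit 2) (Steps.bwd (nat_lit 5) (Steps.fwd (nat_lit 24576) (Steps.bwd (nat_lit 9) (Steps.bwd (nat_lit 4) (Steps.fwd (nat_lit 24576) (Steps.bwd (nat_lit 4) (Steps.fwd (nat_lit 8192) (Steps.fwd (nat_lit 12288) (Steps.fwd (nat_lit 4096) (Steps.fwd (nat_lit 8192) (Steps.fwd (nat_lit 16384) Steps.nil))))))))))))))))))))))))) (nat_lit 40) (nat_lit 9),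
  Rule.mk (nat_lit 3) (nat_lit 151) (Steps.bwd (nat_lit 1) (Steps.fwd (nat_lit 8192) (Steps.bwd (nat_lit 6) (Steps.fwd (nat_lit 8192) (Steps.fwd (nat_lit 4096) (Steps.fwd (nat_lit 12288) (Steps.fwd (nat_lit 8192) (Steps.fwd (nat_lit 20480) (Steps.fwd (nat_lit 24576) (Steps.fwd (nat_lit 8192) Steps.nil)))))))))) (nat_lit 38) (nat_lit 3),
  Rule.mk (nat_lit 6) (nat_lit 361) (Steps.bwd (nat_lit 4) (Steps.bwd (nat_lit 2) (Steps.bwd (nat_lit 1) (Steps.bwd (nat_lit 3) (Steps.bwd (nat_lit 2) (Steps.bwd (nat_lit 3) (Steps.bwd (nat_lit 5) (Steps.bwd (nat_lit 4) (Steps.bwd (nat_lit 7) (Steps.bwd (nat_lit 4) (Steps.bwd (nat_lit 2) (Steps.bwd (nat_lit 3) (Steps.bwd (nat_lit 1) (Steps.fwd (nat_lit 8192) (Steps.fwd (nat_lit 20480) (Steps.fwd (nat_lit 24576) (Steps.bwd (nat_lit 9) (Steps.fwd (nat_lit 16384) (Steps.bwd (nat_lit 7) (Steps.bwd (nat_lit 4) (Steps.fwd (nat_lit 8192) (Steps.fwd (nat_lit 12288) (Steps.fwd (nat_lit 4096)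 (Steps.fwd (nat_lit 8192) (Steps.fwd (nat_lit 16384) Steps.nil))))))))))))))))))))))))) (nat_lit 40) (nat_lit 9),
  Rule.mk (nat_lit 0) (nat_lit 165) (Steps.bwd (nat_lit 2) (Steps.bwd (nat_lit 3) (Steps.bwd (nat_lit 1) (Steps.fwd (nat_lit 8192) (Steps.fwd (nat_lit 28672) (Steps.bwd (nat_lit 2) (Steps.bwd (nat_lit 1) (Steps.fwd (nat_lit 12288) (Steps.fwd (nat_lit 8192) (Steps.fwd (nat_lit 20480) (Steps.bwd (nat_lit 7) Steps.nil))))))))))) (nat_lit 38) (nat_lit 1),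
  Rule.mk (nat_lit 3) (nat_lit 123) (Steps.bwd (nat_lit 4) (Steps.bwd (nat_lit 3) (Steps.fwd (nat_lit 4096) (Steps.bwd (nat_lit 4) (Steps.bwd (nat_lit 3) (Steps.fwd (nat_lit 16384) (Steps.bwd (nat_lit 3) (Steps.bwd (nat_lit 4) Steps.nil)))))))) (nat_lit 20) (nat_lit 7),
  Rule.mk (nat_lit 7) (nat_lit 361) (Steps.bwd (nat_lit 4) (Steps.fwd (nat_lit 8192) (Steps.fwd (nat_lit 12288) (Steps.fwd (nat_lit 4096) (Steps.fwd (nat_lit 8192) (Steps.fwd (nat_lit 20480) (Steps.bwd (nat_lit 7) (Steps.bwd (nat_lit 9) (Steps.bwd (nat_lit 4) (Steps.bwd (nat_lit 7) (Steps.fwd (nat_lit 16384) (Steps.bwd (nat_lit 2) (Steps.fwd (nat_lit 12288) (Steps.bwd (nat_lit 1) (Steps.fwd (nat_lit 8192) (Steps.fwd (nat_lit 16384) (Steps.fwd (nat_lit 28672) (Steps.fwd (nat_lit 16384) (Steps.bwd (nat_lit 2) (Steps.fwd (nat_lit 4096) (Steps.fwd (nat_lit 12288) (Steps.bwd (nat_lit 2) (Steps.fwd (nat_lit 12288) (Steps.fwd (nat_lit 20480) (Steps.bwd (nat_lit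 4) Steps.nil))))))))))))))))))))))))) (nat_lit 40) (nat_lit 18),
  Rule.mk (nat_lit 0) (nat_lit 137) (Steps.fwd (nat_lit 4096) (Steps.fwd (nat_lit 12288) (Steps.fwd (nat_lit 16384) (Steps.fwd (nat_lit 12288) (Steps.bwd (nat_lit 4) (Steps.fwd (nat_lit 12288) (Steps.fwd (nat_lit 16384) (Steps.fwd (nat_lit 12288) (Steps.fwd (nat_lit 16384) Steps.nil))))))))) (nat_lit 21) (nat_lit 8),
  Rule.mk (nat_lit 1) (nat_lit 123) (Steps.bwd (nat_lit 3) (Steps.bwd (nat_lit 4) (Steps.bwd (nat_lit 3) (Steps.bwd (nat_lit 4) (Steps.bwd (nat_lit 3) (Steps.fwd (nat_lit 16384) (Steps.bwd (nat_lit 3) (Steps.bwd (nat_lit 4) Steps.nil)))))))) (nat_lit 21) (nat_lit 0),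
  Rule.mk (nat_lit 0) (nat_lit 67) (Steps.bwd (nat_lit 1) (Steps.bwd (nat_lit 5) (Steps.fwd (nat_lit 4096) (Steps.bwd (nat_lit 5) Steps.nil)))) (nat_lit 12) (nat_lit 0),
  Rule.mk (nat_lit 5) (nat_lit 81) (Steps.fwd (nat_lit 16384) (Steps.fwd (nat_lit 20480) (Steps.bwd (nat_lit 4) (Steps.fwd (nat_lit 20480) (Steps.fwd (nat_lit 16384) Steps.nil))))) (nat_lit 24) (nat_lit 0),
  Rule.mk (nat_lit 4) (nat_lit 137) (Steps.bwd (nat_lit 6) (Steps.bwd (nat_lit 4) (Steps.bwd (nat_lit 5) (Steps.bwd (nat_lit 7) (Steps.bwd (nat_lit 4) (Steps.bwd (nat_lit 6) (Steps.bwd (nat_lit 4) (Steps.bwd (nat_lit 5) (Steps.fwd (nat_lit 24576) Steps.nil))))))))) (nat_lit 36) (nat_lit 4),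
  Rule.mk (nat_lit 5) (nat_lit 81) (Steps.fwd (nat_lit 16384) (Steps.bwd (nat_lit 5) (Steps.bwd (nat_lit 4) (Steps.fwd (nat_lit 20480) (Steps.bwd (nat_lit 4) Steps.nil))))) (nat_lit 24) (nat_lit 0),
  Rule.mk (nat_lit 3) (nat_lit 123) (Steps.fwd (nat_lit 16384) (Steps.bwd (nat_lit 3) (Steps.bwd (nat_lit 1) (Steps.bwd (nat_lit 4) (Steps.fwd (nat_lit 12288) (Steps.fwd (nat_lit 16384) (Steps.fwd (nat_lit 12288) (Steps.bwd (nat_lit 4) Steps.nil)))))))) (nat_lit 20) (nat_lit 7),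
  Rule.mk (nat_lit 0) (nat_lit 67) (Steps.fwd (nat_lit 24576) (Steps.bwd (nat_lit 3) (Steps.fwd (nat_lit 28672) (Steps.bwd (nat_lit 3) Steps.nil)))) (nat_lit 32) (nat_lit 0),
  Rule.mk (nat_lit 3) (nat_lit 151) (Steps.bwd (nat_lit 1) (Steps.fwd (nat_lit 8192) (Steps.bwd (nat_lit 6) (Steps.fwd (nat_lit 8192) (Steps.bwd (nat_lit 1) (Steps.bwd (nat_lit 3) (Steps.bwd (nat_lit 2) (Steps.bwd (nat_lit 5) (Steps.fwd (nat_lit 24576) (Steps.fwd (nat_lit 8192) Steps.nil)))))))))) (nat_lit 38) (nat_lit 3),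
  Rule.mk (nat_lit 2) (nat_lit 361) (Steps.bwd (nat_lit 3) (Steps.bwd (nat_lit 1) (Steps.bwd (nat_lit 2) (Steps.bwd (nat_lit 4) (Steps.bwd (nat_lit 6) (Steps.bwd (nat_lit 4) (Steps.bwd (nat_lit 2) (Steps.bwd (nat_lit 1) (Steps.bwd (nat_lit 3) (Steps.bwd (nat_lit 2) (Steps.bwd (nat_lit 3) (Steps.bwd (nat_lit 5) (Steps.bwd (nat_lit 4) (Steps.bwd (nat_lit 7) (Steps.bwd (nat_lit 4) (Steps.bwd (nat_lit 2) (Steps.bwd (nat_lit 3) (Steps.bwd (nat_lit 1) (Steps.fwd (nat_lit 8192) (Steps.fwd (nat_lit 20480) (Steps.fwd (nat_lit 24576) (Steps.bwd (nat_lit 9) (Steps.bwd (nat_lit 4) (Steps.bwd (nat_lit 7) (Steps.fwd (nat_lit 16384) Steps.nil))))))))))))))))))))))))) (nat_lit 40) (nat_lit 4),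
  Rule.mk (nat_lit 6) (nat_lit 151) (Steps.bwd (nat_lit 2) (Steps.fwd (nat_lit 4096) (Steps.bwd (nat_lit 3) (Steps.fwd (nat_lit 8192) (Steps.fwd (nat_lit 20480) (Steps.bwd (nat_lit 7) (Steps.bwd (nat_lit 2) (Steps.bwd (nat_lit 3) (Steps.bwd (nat_lit 1) (Steps.bwd (nat_lit 2) Steps.nil)))))))))) (nat_lit 38) (nat_lit 6),
  Rule.mk (nat_lit 7) (nat_lit 151) (Steps.fwd (nat_lit 8192) (Steps.bwd (nat_lit 1) (Steps.bwd (nat_lit 3) (Steps.fwd (nat_lit 8192) (Steps.fwd (nat_lit 28672) (Steps.bwd (nat_lit 5) (Steps.bwd (nat_lit 2) (Steps.bwd (nat_lit 3) (Steps.bwd (nat_lit 1) (Steps.bwd (nat_lit 2) Steps.nil)))))))))) (nat_lit 39) (nat_lit 6),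
  Rule.mk (nat_lit 0) (nat_lit 375) (Steps.fwd (nat_lit 16384) (Steps.fwd (nat_lit 36864) (Steps.bwd (nat_lit 6) (Steps.fwd (nat_lit 20480) (Steps.fwd (nat_lit 8192) (Steps.bwd (nat_lit 1) (Steps.bwd (nat_lit 3) (Steps.bwd (nat_lit 2) (Steps.fwd (nat_lit 16384) (Steps.fwd (nat_lit 28672) (Steps.bwd (nat_lit 4) (Steps.bwd (nat_lit 5) (Steps.fwd (nat_lit 12288) (Steps.bwd (nat_lit 2) (Steps.bwd (nat_lit 3) (Steps.bwd (nat_lit 1) (Steps.bwd (nat_lit 2) (Steps.fwd (nat_lit 16384) (Steps.fwd (nat_lit 24576) (Steps.bwd (nat_lit 4) (Steps.fwd (nat_lit 8192) (Steps.bwd (nat_lit 1) (Steps.fwd (nat_lit 12288) (Steps.bwd (nat_lit 2) (Steps.bwd (nat_lit 4) (Steps.fwd (nat_lit 28672) Steps.nil)))))))))))))))))))))))))) (nat_lit 41) (nat_lit 25),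
  Rule.mk (nat_lit 1) (nat_lit 123) (Steps.fwd (nat_lit 16384) (Steps.bwd (nat_lit 3) (Steps.bwd (nat_lit 4) (Steps.fwd (nat_lit 12288) (Steps.fwd (nat_lit 16384) (Steps.fwd (nat_lit 12288) (Steps.bwd (nat_lit 4) (Steps.fwd (nat_lit 12288) Steps.nil)))))))) (nat_lit 20) (nat_lit 1),
  Rule.mk (nat_lit 0) (nat_lit 165) (Steps.bwd (nat_lit 2) (Steps.bwd (nat_lit 3) (Steps.bwd (nat_lit 1) (Steps.bwd (nat_lit 2) (Steps.bwd (nat_lit 6) (Steps.bwd (nat_lit 2) (Steps.fwd (nat_lit 4096) (Steps.bwd (nat_lit 3) (Steps.fwd (nat_lit 8192) (Steps.bwd (nat_lit 5) (Steps.fwd (nat_lit 24576) Steps.nil))))))))))) (nat_lit 38) (nat_lit 1),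
  Rule.mk (nat_lit 5) (nat_lit 81) (Steps.bwd (nat_lit 4) (Steps.fwd (nat_lit 20480) (Steps.bwd (nat_lit 4) (Steps.fwd (nat_lit 20480) (Steps.fwd (nat_lit 16384) Steps.nil))))) (nat_lit 24) (nat_lit 0),
  Rule.mk (nat_lit 3) (nat_lit 123) (Steps.bwd (nat_lit 4) (Steps.bwd (nat_lit 3) (Steps.fwd (nat_lit 4096) (Steps.fwd (nat_lit 16384) (Steps.fwd (nat_lit 12288) (Steps.fwd (nat_lit 16384) (Steps.bwd (nat_lit 3) (Steps.fwd (nat_lit 16384) Steps.nil)))))))) (nat_lit 20) (nat_lit 7),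
  Rule.mk (nat_lit 1) (nat_lit 123) (Steps.bwd (nat_lit 4) (Steps.bwd (nat_lit 3) (Steps.bwd (nat_lit 4) (Steps.fwd (nat_lit 12288) (Steps.fwd (nat_lit 16384) (Steps.fwd (nat_lit 12288) (Steps.bwd (nat_lit 4) (Steps.bwd (nat_lit 3) Steps.nil)))))))) (nat_lit 20) (nat_lit 1),
  Rule.mk (nat_lit 0) (nat_lit 151) (Steps.bwd (nat_lit 7) (Steps.bwd (nat_lit 4) (Steps.bwd (nat_lit 6) (Steps.fwd (nat_lit 16384) (Steps.fwd (nat_lit 20480) (Steps.bwd (nat_lit 7) (Steps.bwd (nat_lit 4) (Steps.bwd (nat_lit 6) (Steps.bwd (nat_lit 4) (Steps.fwd (nat_lit 20480) Steps.nil)))))))))) (nat_lit 36) (nat_lit 2),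
  Rule.mk (nat_lit 5) (nat_lit 53) (Steps.bwd (nat_lit 3) (Steps.fwd (nat_lit 20480) (Steps.fwd (nat_lit 12288) Steps.nil))) (nat_lit 22) (nat_lit 0),
  Rule.mk (nat_lit 4) (nat_lit 123) (Steps.bwd (nat_lit 3) (Steps.bwd (nat_lit 1) (Steps.bwd (nat_lit 4) (Steps.fwd (nat_lit 12288) (Steps.fwd (nat_lit 16384) (Steps.fwd (nat_lit 12288) (Steps.fwd (nat_lit 16384) (Steps.fwd (nat_lit 12288) Steps.nil)))))))) (nat_lit 20) (nat_lit 8),
  Rule.mk (nat_lit 1) (nat_lit 123) (Steps.bwd (nat_lit 3) (Steps.fwd (nat_lit 16384) (Steps.bwd (nat_lit 3) (Steps.fwd (nat_lit 16384) (Steps.fwd (nat_lit 12288) (Steps.bwd (nat_lit 4) (Steps.fwd (nat_lit 12288) (Steps.fwd (nat_lit 16384) Steps.nil)))))))) (nat_lit 21) (nat_lit 0),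
  Rule.mk (nat_lit 6) (nat_lit 151) (Steps.fwd (nat_lit 8192) (Steps.fwd (nat_lit 4096) (Steps.fwd (nat_lit 12288) (Steps.fwd (nat_lit 8192) (Steps.fwd (nat_lit 20480) (Steps.bwd (nat_lit 7) (Steps.fwd (nat_lit 8192) (Steps.fwd (nat_lit 12288) (Steps.fwd (nat_lit 4096) (Steps.fwd (nat_lit 8192) Steps.nil)))))))))) (nat_lit 38) (nat_lit 6),
  Rule.mk (nat_lit 2) (nat_lit 151) (Steps.bwd (nat_lit 3) (Steps.bwd (nat_lit 1) (Steps.bwd (nat_lit 2) (Steps.fwd (nat_lit 28672) (Steps.bwd (nat_lit 2) (Steps.bwd (nat_lit 1) (Steps.fwd (nat_lit 12288) (Steps.bwd (nat_lit 2) (Steps.bwd (nat_lit 5) (Steps.bwd (nat_lit 7) Steps.nil)))))))))) (nat_lit 38) (nat_lit 2),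
  Rule.mk (nat_lit 4) (nat_lit 361) (Steps.bwd (nat_lit 2) (Steps.bwd (nat_lit 3) (Steps.bwd (nat_lit 1) (Steps.bwd (nat_lit 2) (Steps.bwd (nat_lit 5) (Steps.bwd (nat_lit 7) (Steps.bwd (nat_lit 9) (Steps.bwd (nat_lit 4) (Steps.bwd (nat_lit 7) (Steps.bwd (nat_lit 4) (Steps.bwd (nat_lit 2) (Steps.bwd (nat_lit 3) (Steps.bwd (nat_lit 1) (Steps.bwd (nat_lit 2) (Steps.fwd (nat_lit 16384) (Steps.bwd (nat_lit 6) (Steps.fwd (nat_lit 16384) (Steps.fwd (nat_lit 8192) (Steps.fwd (nat_lit 4096) (Steps.fwd (nat_lit 12288) (Steps.bwd (nat_lit 2) (Steps.fwd (nat_lit 12288) (Steps.bwd (nat_lit 5) (Steps.fwd (nat_lit 16384) (Steps.fwd (nat_lit 24576) Steps.nil))))))))))))))))))))))))) (nat_lit 40) (nat_lit 19),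
  Rule.mk (nat_lit 5) (nat_lit 81) (Steps.fwd (nat_lit 16384) (Steps.fwd (nat_lit 20480) (Steps.fwd (nat_lit 16384) (Steps.fwd (nat_lit 20480) (Steps.bwd (nat_lit 4) Steps.nil))))) (nat_lit 24) (nat_lit 0),
  Rule.mk (nat_lit 3) (nat_lit 123) (Steps.bwd (nat_lit 1) (Steps.fwd (nat_lit 16384) (Steps.bwd (nat_lit 3) (Steps.bwd (nat_lit 4) (Steps.bwd (nat_lit 3) (Steps.bwd (nat_lit 4) (Steps.fwd (nat_lit 12288) (Steps.bwd (nat_lit 4) Steps.nil)))))))) (nat_lit 20) (nat_lit 0),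
  Rule.mk (nat_lit 1) (nat_lit 123) (Steps.bwd (nat_lit 3) (Steps.fwd (nat_lit 16384) (Steps.bwd (nat_lit 3) (Steps.bwd (nat_lit 4) (Steps.bwd (nat_lit 3) (Steps.bwd (nat_lit 4) (Steps.fwd (nat_lit 12288) (Steps.bwd (nat_lit 4) Steps.nil)))))))) (nat_lit 21) (nat_lit 0),
  Rule.mk (nat_lit 7) (nat_lit 137) (Steps.bwd (nat_lit 4) (Steps.bwd (nat_lit 6) (Steps.bwd (nat_lit 5) (Steps.bwd (nat_lit 4) (Steps.bwd (nat_lit 7) (Steps.fwd (nat_lit 16384) (Steps.fwd (nat_lit 28672) (Steps.fwd (nat_lit 20480) (Steps.bwd (nat_lit 4) Steps.nil))))))))) (nat_lit 37) (nat_lit 1),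
  Rule.mk (nat_lit 6) (nat_lit 137) (Steps.bwd (nat_lit 5) (Steps.bwd (nat_lit 4) (Steps.bwd (nat_lit 7) (Steps.bwd (nat_lit 4) (Steps.bwd (nat_lit 6) (Steps.bwd (nat_lit 5) (Steps.fwd (nat_lit 16384) (Steps.fwd (nat_lit 24576) (Steps.bwd (nat_lit 4) Steps.nil))))))))) (nat_lit 37) (nat_lit 3),
  Rule.mk (nat_lit 2) (nat_lit 151) (Steps.bwd (nat_lit 3) (Steps.bwd (nat_lit 1) (Steps.bwd (nat_lit 2) (Steps.bwd (nat_lit 6) (Steps.fwd (nat_lit 8192) (Steps.bwd (nat_lit 1) (Steps.bwd (nat_lit 3) (Steps.fwd (nat_lit 8192) (Steps.bwd (nat_lit 5) (Steps.fwd (nat_lit 24576) Steps.nil)))))))))) (nat_lit 38) (nat_lit 2),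
  Rule.mk (nat_lit 3) (nat_lit 361) (Steps.bwd (nat_lit 1) (Steps.bwd (nat_lit 2) (Steps.bwd (nat_lit 4) (Steps.bwd (nat_lit 6) (Steps.bwd (nat_lit 4) (Steps.bwd (nat_lit 2) (Steps.bwd (nat_lit 1) (Steps.bwd (nat_lit 3) (Steps.bwd (nat_lit 2) (Steps.bwd (nat_lit 3) (Steps.bwd (nat_lit 5) (Steps.bwd (nat_lit 4) (Steps.bwd (nat_lit 7) (Steps.bwd (nat_lit 4) (Steps.bwd (nat_lit 2) (Steps.bwd (nat_lit 3) (Steps.bwd (nat_lit 1) (Steps.bwd (nat_lit 2) (Steps.bwd (nat_lit 5) (Steps.fwd (nat_lit 24576) (Steps.bwd (nat_lit 9) (Steps.bwd (nat_lit 4) (Steps.bwd (nat_lit 7) (Steps.fwd (nat_lit 16384) (Steps.fwd (nat_lit 8192) Steps.nil))))))))))))))))))))))))) (nat_lit 40) (nat_lit 5),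
  Rule.mk (nat_lit 0) (nat_lit 165) (Steps.fwd (nat_lit 4096) (Steps.fwd (nat_lit 12288) (Steps.bwd (nat_lit 2) (Steps.fwd (nat_lit 28672) (Steps.bwd (nat_lit 5) (Steps.fwd (nat_lit 8192) (Steps.bwd (nat_lit 3) (Steps.fwd (nat_lit 4096) (Steps.fwd (nat_lit 8192) (Steps.fwd (nat_lit 24576) (Steps.bwd (nat_lit 2) Steps.nil))))))))))) (nat_lit 39) (nat_lit 7),
  Rule.mk (nat_lit 2) (nat_lit 151) (Steps.bwd (nat_lit 3) (Steps.bwd (nat_lit 1) (Steps.bwd (nat_lit 2) (Steps.bwd (nat_lit 6) (Steps.fwd (nat_lit 8192) (Steps.bwd (nat_lit 1) (Steps.fwd (nat_lit 12288) (Steps.fwd (nat_lit 8192) (Steps.fwd (nat_lit 20480) (Steps.fwd (nat_lit 24576) Steps.nil)))))))))) (nat_lit 38) (nat_lit 2),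
  Rule.mk (nat_lit 2) (nat_lit 361) (Steps.bwd (nat_lit 3) (Steps.bwd (nat_lit 1) (Steps.bwd (nat_lit 2) (Steps.bwd (nat_lit 4) (Steps.bwd (nat_lit 6) (Steps.bwd (nat_lit 4) (Steps.bwd (nat_lit 2) (Steps.bwd (nat_lit 1) (Steps.bwd (nat_lit 3) (Steps.bwd (nat_lit 2) (Steps.bwd (nat_lit 3) (Steps.bwd (nat_lit 5) (Steps.bwd (nat_lit 4) (Steps.fwd (nat_lit 24576) (Steps.fwd (nat_lit 16384) (Steps.fwd (nat_lit 8192) (Steps.fwd (nat_lit 12288) (Steps.fwd (nat_lit 4096) (Steps.fwd (nat_lit 8192) (Steps.fwd (nat_lit 20480) (Steps.bwd (nat_lit 7) (Steps.bwd (nat_lit 9) (Steps.bwd (nat_lit 4) (Steps.fwd (nat_lit 24576) (Steps.fwd (nat_lit 16384) Steps.nil))))))))))))))))))))))))) (nat_lit 40) (nat_lit 4),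
  Rule.mk (nat_lit 0) (nat_lit 95) (Steps.bwd (nat_lit 5) (Steps.bwd (nat_lit 4) (Steps.fwd (nat_lit 20480) (Steps.bwd (nat_lit 4) (Steps.bwd (nat_lit 5) (Steps.fwd (nat_lit 16384) Steps.nil)))))) (nat_lit 24) (nat_lit 1),
  Rule.mk (nat_lit 7) (nat_lit 137) (Steps.bwd (nat_lit 4) (Steps.fwd (nat_lit 28672) (Steps.bwd (nat_lit 4) (Steps.bwd (nat_lit 5) (Steps.bwd (nat_lit 7) (Steps.fwd (nat_lit 16384) (Steps.fwd (nat_lit 28672) (Steps.fwd (nat_lit 16384) (Steps.fwd (nat_lit 20480) Steps.nil))))))))) (nat_lit 36) (nat_lit 3),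
  Rule.mk (nat_lit 1) (nat_lit 81) (Steps.fwd (nat_lit 8192) (Steps.fwd (nat_lit 4096) (Steps.bwd (nat_lit 2) (Steps.fwd (nat_lit 4096) (Steps.fwd (nat_lit 8192) Steps.nil))))) (nat_lit 10) (nat_lit 1),
  Rule.mk (nat_lit 2) (nat_lit 361) (Steps.bwd (nat_lit 3) (Steps.bwd (nat_lit 1) (Steps.bwd (nat_lit 2) (Steps.bwd (nat_lit 4) (Steps.bwd (nat_lit 6) (Steps.bwd (nat_lit 4) (Steps.bwd (nat_lit 2) (Steps.bwd (nat_lit 1) (Steps.bwd (nat_lit 3) (Steps.bwd (nat_lit 2) (Steps.bwd (nat_lit 3) (Steps.bwd (nat_lit 5) (Steps.bwd (nat_lit 4) (Steps.fwd (nat_lit 24576) (Steps.bwd (nat_lit 4) (Steps.fwd (nat_lit 8192) (Steps.fwd (nat_lit 12288) (Steps.fwd (nat_lit 4096) (Steps.bwd (nat_lit 2) (Steps.fwd (nat_lit 20480) (Steps.bwd (nat_lit 7) (Steps.bwd (nat_lit 9) (Steps.fwd (nat_lit 16384) (Steps.fwd (nat_lit 24576) (Steps.bwd (nat_lit 4) Steps.nil))))))))))))))))))))))))) (nat_lit 40) (nat_lit 4),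
  Rule.mk (nat_lit 7) (nat_lit 151) (Steps.bwd (nat_lit 2) (Steps.bwd (nat_lit 1) (Steps.bwd (nat_lit 3) (Steps.bwd (nat_lit 2) (Steps.fwd (nat_lit 28672) (Steps.fwd (nat_lit 20480) (Steps.bwd (nat_lit 2) (Steps.bwd (nat_lit 3) (Steps.bwd (nat_lit 1) (Steps.bwd (nat_lit 2) Steps.nil)))))))))) (nat_lit 39) (nat_lit 6),
  Rule.mk (nat_lit 7) (nat_lit 361) (Steps.bwd (nat_lit 4) (Steps.bwd (nat_lit 2) (Steps.bwd (nat_lit 1) (Steps.bwd (nat_lit 3) (Steps.bwd (nat_lit 2) (Steps.fwd (nat_lit 16384) (Steps.bwd (nat_lit 6) (Steps.fwd (nat_lit 16384) (Steps.fwd (nat_lit 36864) (Steps.fwd (nat_lit 28672) (Steps.bwd (nat_lit 5) (Steps.fwd (nat_lit 8192) (Steps.bwd (nat_lit 1) (Steps.bwd (nat_lit 3) (Steps.fwd (nat_lit 8192) (Steps.fwd (nat_lit 16384) (Steps.bwd (nat_lit 6) (Steps.bwd (nat_lit 4) (Steps.bwd (nat_lit 5) (Steps.fwd (nat_lit 12288) (Steps.bwd (nat_lit 2) (Steps.bwd (nat_lit 3) (Steps.bwd (nat_lit 1) (Steps.bwd (nat_lit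 2) (Steps.bwd (nat_lit 4) Steps.nil))))))))))))))))))))))))) (nat_lit 41) (nat_lit 18),
  Rule.mk (nat_lit 2) (nat_lit 361) (Steps.bwd (nat_lit 3) (Steps.bwd (nat_lit 1) (Steps.bwd (nat_lit 2) (Steps.bwd (nat_lit 4) (Steps.fwd (nat_lit 28672) (Steps.bwd (nat_lit 4) (Steps.fwd (nat_lit 8192) (Steps.fwd (nat_lit 4096) (Steps.bwd (nat_lit 3) (Steps.fwd (nat_lit 8192) (Steps.bwd (nat_lit 3) (Steps.bwd (nat_lit 5) (Steps.fwd (nat_lit 16384) (Steps.fwd (nat_lit 24576) (Steps.bwd (nat_lit 4) (Steps.fwd (nat_lit 8192) (Steps.bwd (nat_lit 3) (Steps.fwd (nat_lit 4096) (Steps.bwd (nat_lit 2) (Steps.bwd (nat_lit 5) (Steps.fwd (nat_lit 24576) (Steps.bwd (nat_lit 9) (Steps.fwd (nat_lit 16384) (Steps.bwd (nat_lit 7) (Steps.bwd (nat_lit 4) Steps.nil))))))))))))))))))))))))) (nat_lit 40) (nat_lit 4),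
  Rule.mk (nat_lit 6) (nat_lit 151) (Steps.fwd (nat_lit 8192) (Steps.fwd (nat_lit 4096) (Steps.fwd (nat_lit 12288) (Steps.fwd (nat_lit 8192) (Steps.fwd (nat_lit 20480) (Steps.fwd (nat_lit 24576) (Steps.bwd (nat_lit 2) (Steps.bwd (nat_lit 3) (Steps.bwd (nat_lit 1) (Steps.bwd (nat_lit 2) Steps.nil)))))))))) (nat_lit 38) (nat_lit 6),
  Rule.mk (nat_lit 5) (nat_lit 361) (Steps.fwd (nat_lit 24576) (Steps.bwd (nat_lit 9) (Steps.bwd (nat_lit 4) (Steps.bwd (nat_lit 7) (Steps.bwd (nat_lit 4) (Steps.fwd (nat_lit 8192) (Steps.fwd (nat_lit 12288) (Steps.fwd (nat_lit 4096) (Steps.bwd (nat_lit 2) (Steps.fwd (nat_lit 16384) (Steps.fwd (nat_lit 28672) (Steps.fwd (nat_lit 16384) (Steps.bwd (nat_lit 2) (Steps.bwd (nat_lit 1) (Steps.bwd (nat_lit 3) (Steps.bwd (nat_lit 2) (Steps.fwd (nat_lit 12288) (Steps.bwd (nat_lit 5) (Steps.fwd (nat_lit 16384) (Steps.bwd (nat_lit 7) (Steps.bwd (nat_lit 4) (Steps.bwd (nat_lit 2) (Steps.bwd (nat_lit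 3) (Steps.bwd (nat_lit 1) (Steps.bwd (nat_lit 2) Steps.nil))))))))))))))))))))))))) (nat_lit 40) (nat_lit 24)]
noncomputable def R_15 : List (Rule) := [Rule.mk (nat_lit 0) (nat_lit 67) (Steps.fwd (nat_lit 20480) (Steps.fwd (nat_lit 24576) (Steps.fwd (nat_lit 20480) (Steps.bwd (nat_lit 6) Steps.nil)))) (nat_lit 34) (nat_lit 3),
  Rule.mk (nat_lit 0) (nat_lit 375) (Steps.bwd (nat_lit 4) (Steps.bwd (nat_lit 8) (Steps.fwd (nat_lit 28672) (Steps.bwd (nat_lit 5) (Steps.fwd (nat_lit 8192) (Steps.fwd (nat_lit 4096) (Steps.fwd (nat_lit 12288) (Steps.fwd (nat_lit 8192) (Steps.fwd (nat_lit 16384) (Steps.fwd (nat_lit 28672) (Steps.bwd (nat_lit 4) (Steps.fwd (nat_lit 20480) (Steps.bwd (nat_lit 3) (Steps.fwd (nat_lit 8192) (Steps.fwd (nat_lit 12288) (Steps.fwd (nat_lit 4096) (Steps.fwd (nat_lit 8192) (Steps.bwd (nat_lit 4) (Steps.bwd (nat_lit 7) (Steps.bwd (nat_lit 4) (Steps.bwd (nat_lit 2) (Steps.bwd (nat_lit 1) (Steps.bwd (nat_lit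 3) (Steps.bwd (nat_lit 2) (Steps.bwd (nat_lit 4) (Steps.bwd (nat_lit 6) Steps.nil)))))))))))))))))))))))))) (nat_lit 41) (nat_lit 25),
  Rule.mk (nat_lit 5) (nat_lit 53) (Steps.fwd (nat_lit 28672) (Steps.bwd (nat_lit 5) (Steps.fwd (nat_lit 24576) Steps.nil))) (nat_lit 34) (nat_lit 2),
  Rule.mk (nat_lit 3) (nat_lit 151) (Steps.bwd (nat_lit 1) (Steps.bwd (nat_lit 2) (Steps.fwd (nat_lit 28672) (Steps.bwd (nat_lit 2) (Steps.fwd (nat_lit 4096) (Steps.bwd (nat_lit 3) (Steps.bwd (nat_lit 2) (Steps.bwd (nat_lit 5) (Steps.fwd (nat_lit 24576) (Steps.bwd (nat_lit 2) Steps.nil)))))))))) (nat_lit 38) (nat_lit 3),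
  Rule.mk (nat_lit 0) (nat_lit 165) (Steps.fwd (nat_lit 8192) (Steps.fwd (nat_lit 4096) (Steps.fwd (nat_lit 12288) (Steps.fwd (nat_lit 8192) (Steps.bwd (nat_lit 6) (Steps.bwd (nat_lit 5) (Steps.fwd (nat_lit 8192) (Steps.fwd (nat_lit 12288) (Steps.fwd (nat_lit 4096) (Steps.fwd (nat_lit 8192) (Steps.fwd (nat_lit 24576) Steps.nil))))))))))) (nat_lit 39) (nat_lit 6),
  Rule.mk (nat_lit 6) (nat_lit 151) (Steps.fwd (nat_lit 8192) (Steps.fwd (nat_lit 4096) (Steps.fwd (nat_lit 12288) (Steps.bwd (nat_lit 2) (Steps.bwd (nat_lit 5) (Steps.fwd (nat_lit 24576) (Steps.bwd (nat_lit 2) (Steps.fwd (nat_lit 12288) (Steps.fwd (nat_lit 4096) (Steps.bwd (nat_lit 2) Steps.nil)))))))))) (nat_lit 38) (nat_lit 6),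
  Rule.mk (nat_lit 7) (nat_lit 151) (Steps.fwd (nat_lit 8192) (Steps.fwd (nat_lit 4096) (Steps.fwd (nat_lit 12288) (Steps.bwd (nat_lit 2) (Steps.bwd (nat_lit 6) (Steps.fwd (nat_lit 20480) (Steps.fwd (nat_lit 8192) (Steps.fwd (nat_lit 12288) (Steps.fwd (nat_lit 4096) (Steps.bwd (nat_lit 2) Steps.nil)))))))))) (nat_lit 39) (nat_lit 6),
  Rule.mk (nat_lit 2) (nat_lit 361) (Steps.bwd (nat_lit 3) (Steps.bwd (nat_lit 1) (Steps.bwd (nat_lit 2) (Steps.bwd (nat_lit 4) (Steps.bwd (nat_lit 6) (Steps.bwd (nat_lit 4) (Steps.bwd (nat_lit 2) (Steps.bwd (nat_lit 1) (Steps.bwd (nat_lit 3) (Steps.bwd (nat_lit 2) (Steps.bwd (nat_lit 3) (Steps.bwd (nat_lit 5) (Steps.fwd (nat_lit 16384) (Steps.fwd (nat_lit 24576) (Steps.fwd (nat_lit 16384) (Steps.fwd (nat_lit 8192) (Steps.fwd (nat_lit 12288) (Steps.bwd (nat_lit 1) (Steps.fwd (nat_lit 8192) (Steps.fwd (nat_lit 20480) (Steps.fwd (nat_lit 24576) (Steps.bwd (nat_lit 9) (Steps.fwd (nat_lit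 16384) (Steps.fwd (nat_lit 24576) (Steps.bwd (nat_lit 4) Steps.nil))))))))))))))))))))))))) (nat_lit 40) (nat_lit 4),
  Rule.mk (nat_lit 0) (nat_lit 165) (Steps.fwd (nat_lit 8192) (Steps.fwd (nat_lit 4096) (Steps.fwd (nat_lit 12288) (Steps.fwd (nat_lit 8192) (Steps.bwd (nat_lit 6) (Steps.bwd (nat_lit 5) (Steps.fwd (nat_lit 8192) (Steps.bwd (nat_lit 3) (Steps.fwd (nat_lit 4096) (Steps.bwd (nat_lit 2) (Steps.bwd (nat_lit 7) Steps.nil))))))))))) (nat_lit 39) (nat_lit 6),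
  Rule.mk (nat_lit 2) (nat_lit 81) (Steps.fwd (nat_lit 4096) (Steps.bwd (nat_lit 2) (Steps.fwd (nat_lit 4096) (Steps.fwd (nat_lit 8192) (Steps.fwd (nat_lit 4096) Steps.nil))))) (nat_lit 10) (nat_lit 0),
  Rule.mk (nat_lit 2) (nat_lit 361) (Steps.bwd (nat_lit 3) (Steps.bwd (nat_lit 1) (Steps.bwd (nat_lit 2) (Steps.bwd (nat_lit 4) (Steps.bwd (nat_lit 6) (Steps.bwd (nat_lit 4) (Steps.bwd (nat_lit 2) (Steps.bwd (nat_lit 1) (Steps.bwd (nat_lit 3) (Steps.bwd (nat_lit 2) (Steps.bwd (nat_lit 3) (Steps.bwd (nat_lit 5) (Steps.bwd (nat_lit 4) (Steps.bwd (nat_lit 7) (Steps.bwd (nat_lit 4) (Steps.bwd (nat_lit 2) (Steps.bwd (nat_lit 3) (Steps.bwd (nat_lit 1) (Steps.bwd (nat_lit 2) (Steps.fwd (nat_lit 20480) (Steps.fwd (nat_lit 24576) (Steps.bwd (nat_lit 9) (Steps.bwd (nat_lit 4) (Steps.bwd (nat_lit 7) (Steps.fwd (nat_lit 16384) Steps.nil))))))))))))))))))))))))) (nat_lit 40) (nat_lit 4),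
  Rule.mk (nat_lit 5) (nat_lit 81) (Steps.bwd (nat_lit 4) (Steps.bwd (nat_lit 5) (Steps.fwd (nat_lit 16384) (Steps.fwd (nat_lit 20480) (Steps.fwd (nat_lit 16384) Steps.nil))))) (nat_lit 24) (nat_lit 0),
  Rule.mk (nat_lit 6) (nat_lit 137) (Steps.bwd (nat_lit 4) (Steps.bwd (nat_lit 5) (Steps.bwd (nat_lit 7) (Steps.fwd (nat_lit 16384) (Steps.fwd (nat_lit 28672) (Steps.bwd (nat_lit 4) (Steps.fwd (nat_lit 20480) (Steps.bwd (nat_lit 7) (Steps.fwd (nat_lit 16384) Steps.nil))))))))) (nat_lit 36) (nat_lit 0),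
  Rule.mk (nat_lit 0) (nat_lit 67) (Steps.fwd (nat_lit 12288) (Steps.fwd (nat_lit 20480) (Steps.bwd (nat_lit 3) (Steps.bwd (nat_lit 5) Steps.nil)))) (nat_lit 22) (nat_lit 0),
  Rule.mk (nat_lit 6) (nat_lit 151) (Steps.bwd (nat_lit 2) (Steps.bwd (nat_lit 1) (Steps.bwd (nat_lit 3) (Steps.bwd (nat_lit 2) (Steps.fwd (nat_lit 20480) (Steps.bwd (nat_lit 7) (Steps.bwd (nat_lit 2) (Steps.bwd (nat_lit 3) (Steps.bwd (nat_lit 1) (Steps.bwd (nat_lit 2) Steps.nil)))))))))) (nat_lit 38) (nat_lit 6),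
  Rule.mk (nat_lit 2) (nat_lit 361) (Steps.bwd (nat_lit 3) (Steps.bwd (nat_lit 1) (Steps.bwd (nat_lit 2) (Steps.bwd (nat_lit 4) (Steps.bwd (nat_lit 6) (Steps.bwd (nat_lit 4) (Steps.bwd (nat_lit 2) (Steps.bwd (nat_lit 1) (Steps.bwd (nat_lit 3) (Steps.bwd (nat_lit 2) (Steps.bwd (nat_lit 3) (Steps.bwd (nat_lit 5) (Steps.bwd (nat_lit 4) (Steps.bwd (nat_lit 7) (Steps.bwd (nat_lit 4) (Steps.bwd (nat_lit 2) (Steps.bwd (nat_lit 3) (Steps.bwd (nat_lit 1) (Steps.bwd (nat_lit 2) (Steps.fwd (nat_lit 20480) (Steps.fwd (nat_lit 24576) (Steps.bwd (nat_lit 9) (Steps.fwd (nat_lit 16384) (Steps.bwd (nat_lit 7) (Steps.bwd (nat_lit 4) Steps.nil))))))))))))))))))))))))) (nat_lit 40) (nat_lit 4),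
  Rule.mk (nat_lit 6) (nat_lit 151) (Steps.bwd (nat_lit 2) (Steps.bwd (nat_lit 1) (Steps.bwd (nat_lit 3) (Steps.bwd (nat_lit 2) (Steps.fwd (nat_lit 20480) (Steps.fwd (nat_lit 24576) (Steps.bwd (nat_lit 2) (Steps.bwd (nat_lit 3) (Steps.bwd (nat_lit 1) (Steps.bwd (nat_lit 2) Steps.nil)))))))))) (nat_lit 38) (nat_lit 6),
  Rule.mk (nat_lit 0) (nat_lit 165) (Steps.bwd (nat_lit 2) (Steps.bwd (nat_lit 3) (Steps.bwd (nat_lit 1) (Steps.bwd (nat_lit 2) (Steps.bwd (nat_lit 6) (Steps.bwd (nat_lit 2) (Steps.bwd (nat_lit 1) (Steps.fwd (nat_lit 12288) (Steps.bwd (nat_lit 2) (Steps.bwd (nat_lit 5) (Steps.fwd (nat_lit 24576) Steps.nil))))))))))) (nat_lit 38) (nat_lit 1),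
  Rule.mk (nat_lit 0) (nat_lit 67) (Steps.bwd (nat_lit 3) (Steps.bwd (nat_lit 7) (Steps.fwd (nat_lit 24576) (Steps.fwd (nat_lit 4096) Steps.nil)))) (nat_lit 29) (nat_lit 1),
  Rule.mk (nat_lit 0) (nat_lit 67) (Steps.bwd (nat_lit 5) (Steps.bwd (nat_lit 6) (Steps.fwd (nat_lit 20480) (Steps.fwd (nat_lit 24576) Steps.nil)))) (nat_lit 34) (nat_lit 1),
  Rule.mk (nat_lit 2) (nat_lit 361) (Steps.bwd (nat_lit 1) (Steps.bwd (nat_lit 3) (Steps.bwd (nat_lit 2) (Steps.bwd (nat_lit 3) (Steps.bwd (nat_lit 5) (Steps.bwd (nat_lit 4) (Steps.bwd (nat_lit 7) (Steps.bwd (nat_lit 4) (Steps.bwd (nat_lit 2) (Steps.bwd (nat_lit 3) (Steps.bwd (nat_lit 1) (Steps.bwd (nat_lit 2) (Steps.fwd (nat_lit 20480) (Steps.fwd (nat_lit 24576) (Steps.bwd (nat_lit 9) (Steps.fwd (nat_lit 16384) (Steps.fwd (nat_lit 24576) (Steps.bwd (nat_lit 4) (Steps.fwd (nat_lit 8192) (Steps.fwd (nat_lit 12288) (Steps.fwd (nat_lit 4096) (Steps.fwd (nat_lit 8192) (Steps.bwd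 (nat_lit 4) (Steps.bwd (nat_lit 6) (Steps.fwd (nat_lit 16384) Steps.nil))))))))))))))))))))))))) (nat_lit 40) (nat_lit 11),
  Rule.mk (nat_lit 0) (nat_lit 375) (Steps.fwd (nat_lit 8192) (Steps.fwd (nat_lit 12288) (Steps.fwd (nat_lit 4096) (Steps.fwd (nat_lit 8192) (Steps.bwd (nat_lit 4) (Steps.bwd (nat_lit 6) (Steps.fwd (nat_lit 16384) (Steps.bwd (nat_lit 2) (Steps.fwd (nat_lit 4096) (Steps.bwd (nat_lit 3) (Steps.fwd (nat_lit 8192) (Steps.fwd (nat_lit 12288) (Steps.bwd (nat_lit 5) (Steps.bwd (nat_lit 4) (Steps.fwd (nat_lit 24576) (Steps.fwd (nat_lit 16384) (Steps.bwd (nat_lit 2) (Steps.fwd (nat_lit 12288) (Steps.bwd (nat_lit 1) (Steps.bwd (nat_lit 2) (Steps.bwd (nat_lit 5) (Steps.bwd (nat_lit 7) (Steps.fwd (nat_lit 32768) (Steps.bwd (nat_lit 4) (Steps.bwd (nat_lit 7) (Steps.bwd (nat_lit 4) Steps.nil)))))))))))))))))))))))))) (nat_lit 40) (nat_lit 3),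
  Rule.mk (nat_lit 0) (nat_lit 95) (Steps.fwd (nat_lit 16384) (Steps.fwd (nat_lit 20480) (Steps.fwd (nat_lit 16384) (Steps.bwd (nat_lit 5) (Steps.bwd (nat_lit 4) (Steps.fwd (nat_lit 20480) Steps.nil)))))) (nat_lit 24) (nat_lit 0),
  Rule.mk (nat_lit 3) (nat_lit 151) (Steps.bwd (nat_lit 1) (Steps.fwd (nat_lit 8192) (Steps.fwd (nat_lit 28672) (Steps.bwd (nat_lit 2) (Steps.fwd (nat_lit 4096) (Steps.fwd (nat_lit 12288) (Steps.fwd (nat_lit 8192) (Steps.fwd (nat_lit 20480) (Steps.fwd (nat_lit 24576) (Steps.fwd (nat_lit 8192) Steps.nil)))))))))) (nat_lit 38) (nat_lit 3),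
  Rule.mk (nat_lit 6) (nat_lit 137) (Steps.bwd (nat_lit 4) (Steps.bwd (nat_lit 5) (Steps.fwd (nat_lit 24576) (Steps.fwd (nat_lit 16384) (Steps.fwd (nat_lit 28672) (Steps.fwd (nat_lit 16384) (Steps.bwd (nat_lit 5) (Steps.fwd (nat_lit 24576) (Steps.fwd (nat_lit 16384) Steps.nil))))))))) (nat_lit 36) (nat_lit 0),
  Rule.mk (nat_lit 6) (nat_lit 137) (Steps.fwd (nat_lit 16384) (Steps.bwd (nat_lit 5) (Steps.bwd (nat_lit 7) (Steps.fwd (nat_lit 16384) (Steps.fwd (nat_lit 28672) (Steps.bwd (nat_lit 4) (Steps.fwd (nat_lit 20480) (Steps.fwd (nat_lit 24576) (Steps.fwd (nat_lit 16384) Steps.nil))))))))) (nat_lit 36) (nat_lit 0),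
  Rule.mk (nat_lit 3) (nat_lit 151) (Steps.bwd (nat_lit 1) (Steps.bwd (nat_lit 2) (Steps.bwd (nat_lit 6) (Steps.fwd (nat_lit 8192) (Steps.fwd (nat_lit 4096) (Steps.bwd (nat_lit 3) (Steps.fwd (nat_lit 8192) (Steps.fwd (nat_lit 20480) (Steps.bwd (nat_lit 7) (Steps.fwd (nat_lit 8192) Steps.nil)))))))))) (nat_lit 38) (nat_lit 3),
  Rule.mk (nat_lit 0) (nat_lit 375) (Steps.fwd (nat_lit 8192) (Steps.fwd (nat_lit 4096) (Steps.fwd (nat_lit 12288) (Steps.fwd (nat_lit 8192) (Steps.bwd (nat_lit 4) (Steps.bwd (nat_lit 6) (Steps.bwd (nat_lit 4) (Steps.bwd (nat_lit 5) (Steps.fwd (nat_lit 12288) (Steps.fwd (nat_lit 8192) (Steps.fwd (nat_lit 12288) (Steps.fwd (nat_lit 4096) (Steps.bwd (nat_lit 2) (Steps.bwd (nat_lit 4) (Steps.bwd (nat_lit 7) (Steps.fwd (nat_lit 16384) (Steps.fwd (nat_lit 8192) (Steps.fwd (nat_lit 4096) (Steps.fwd (nat_lit 12288) (Steps.fwd (nat_lit 8192) (Steps.fwd (nat_lit 16384) (Steps.fwd (nat_lit 28672) (Steps.bwd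 (nat_lit 4) (Steps.fwd (nat_lit 36864) (Steps.bwd (nat_lit 6) (Steps.fwd (nat_lit 20480) Steps.nil)))))))))))))))))))))))))) (nat_lit 41) (nat_lit 3),
  Rule.mk (nat_lit 2) (nat_lit 81) (Steps.bwd (nat_lit 3) (Steps.fwd (nat_lit 8192) (Steps.bwd (nat_lit 3) (Steps.bwd (nat_lit 2) (Steps.bwd (nat_lit 3) Steps.nil))))) (nat_lit 14) (nat_lit 1),
  Rule.mk (nat_lit 2) (nat_lit 361) (Steps.bwd (nat_lit 3) (Steps.bwd (nat_lit 1) (Steps.bwd (nat_lit 2) (Steps.bwd (nat_lit 4) (Steps.bwd (nat_lit 6) (Steps.bwd (nat_lit 4) (Steps.bwd (nat_lit 2) (Steps.bwd (nat_lit 1) (Steps.bwd (nat_lit 3) (Steps.bwd (nat_lit 2) (Steps.bwd (nat_lit 3) (Steps.bwd (nat_lit 5) (Steps.bwd (nat_lit 4) (Steps.bwd (nat_lit 7) (Steps.bwd (nat_lit 4) (Steps.bwd (nat_lit 2) (Steps.bwd (nat_lit 3) (Steps.bwd (nat_lit 1) (Steps.bwd (nat_lit 2) (Steps.bwd (nat_lit 5) (Steps.fwd (nat_lit 24576) (Steps.bwd (nat_lit 9) (Steps.fwd (nat_lit 16384) (Steps.bwd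 (nat_lit 7) (Steps.fwd (nat_lit 16384) Steps.nil))))))))))))))))))))))))) (nat_lit 40) (nat_lit 4),
  Rule.mk (nat_lit 7) (nat_lit 151) (Steps.bwd (nat_lit 2) (Steps.bwd (nat_lit 1) (Steps.bwd (nat_lit 3) (Steps.bwd (nat_lit 2) (Steps.bwd (nat_lit 6) (Steps.fwd (nat_lit 20480) (Steps.bwd (nat_lit 2) (Steps.bwd (nat_lit 3) (Steps.bwd (nat_lit 1) (Steps.bwd (nat_lit 2) Steps.nil)))))))))) (nat_lit 39) (nat_lit 6),
  Rule.mk (nat_lit 7) (nat_lit 137) (Steps.bwd (nat_lit 4) (Steps.bwd (nat_lit 6) (Steps.fwd (nat_lit 16384) (Steps.fwd (nat_lit 20480) (Steps.fwd (nat_lit 24576) (Steps.fwd (nat_lit 16384) (Steps.fwd (nat_lit 28672) (Steps.fwd (nat_lit 16384) (Steps.bwd (nat_lit 5) Steps.nil))))))))) (nat_lit 36) (nat_lit 3),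
  Rule.mk (nat_lit 7) (nat_lit 361) (Steps.bwd (nat_lit 4) (Steps.bwd (nat_lit 2) (Steps.bwd (nat_lit 3) (Steps.bwd (nat_lit 1) (Steps.fwd (nat_lit 8192) (Steps.fwd (nat_lit 20480) (Steps.bwd (nat_lit 7) (Steps.bwd (nat_lit 9) (Steps.fwd (nat_lit 16384) (Steps.fwd (nat_lit 24576) (Steps.fwd (nat_lit 16384) (Steps.fwd (nat_lit 8192) (Steps.fwd (nat_lit 12288) (Steps.bwd (nat_lit 1) (Steps.fwd (nat_lit 8192) (Steps.fwd (nat_lit 16384) (Steps.fwd (nat_lit 28672) (Steps.fwd (nat_lit 16384) (Steps.bwd (nat_lit 2) (Steps.fwd (nat_lit 4096) (Steps.bwd (nat_lit 3) (Steps.fwd (nat_lit 8192) (Steps.fwd (nat_lit 12288) (Steps.bwd (nat_lit 5) (Steps.fwd (nat_lit 16384) Steps.nil))))))))))))))))))))))))) (nat_lit 40) (nat_lit 18),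
  Rule.mk (nat_lit 0) (nat_lit 151) (Steps.fwd (nat_lit 16384) (Steps.fwd (nat_lit 28672) (Steps.bwd (nat_lit 5) (Steps.bwd (nat_lit 4) (Steps.bwd (nat_lit 7) (Steps.fwd (nat_lit 16384) (Steps.fwd (nat_lit 28672) (Steps.bwd (nat_lit 5) (Steps.bwd (nat_lit 4) (Steps.fwd (nat_lit 24576) Steps.nil)))))))))) (nat_lit 37) (nat_lit 1),
  Rule.mk (nat_lit 2) (nat_lit 151) (Steps.bwd (nat_lit 3) (Steps.bwd (nat_lit 1) (Steps.bwd (nat_lit 2) (Steps.fwd (nat_lit 28672) (Steps.fwd (nat_lit 8192) (Steps.bwd (nat_lit 1) (Steps.fwd (nat_lit 12288) (Steps.bwd (nat_lit 2) (Steps.bwd (nat_lit 5) (Steps.fwd (nat_lit 24576) Steps.nil)))))))))) (nat_lit 38) (nat_lit 2),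
  Rule.mk (nat_lit 2) (nat_lit 361) (Steps.bwd (nat_lit 3) (Steps.bwd (nat_lit 1) (Steps.bwd (nat_lit 2) (Steps.bwd (nat_lit 4) (Steps.bwd (nat_lit 6) (Steps.bwd (nat_lit 4) (Steps.bwd (nat_lit 2) (Steps.bwd (nat_lit 1) (Steps.bwd (nat_lit 3) (Steps.bwd (nat_lit 2) (Steps.bwd (nat_lit 3) (Steps.bwd (nat_lit 5) (Steps.bwd (nat_lit 4) (Steps.bwd (nat_lit 7) (Steps.bwd (nat_lit 4) (Steps.bwd (nat_lit 2) (Steps.bwd (nat_lit 3) (Steps.bwd (nat_lit 1) (Steps.bwd (nat_lit 2) (Steps.fwd (nat_lit 20480) (Steps.fwd (nat_lit 24576) (Steps.bwd (nat_lit 9) (Steps.bwd (nat_lit 4) (Steps.fwd (nat_lit 24576) (Steps.fwd (nat_lit 16384) Steps.nil))))))))))))))))))))))))) (nat_lit 40) (nat_lit 4),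
  Rule.mk (nat_lit 0) (nat_lit 165) (Steps.fwd (nat_lit 8192) (Steps.fwd (nat_lit 4096) (Steps.fwd (nat_lit 12288) (Steps.fwd (nat_lit 8192) (Steps.fwd (nat_lit 28672) (Steps.fwd (nat_lit 20480) (Steps.fwd (nat_lit 8192) (Steps.fwd (nat_lit 12288) (Steps.fwd (nat_lit 4096) (Steps.fwd (nat_lit 8192) (Steps.bwd (nat_lit 7) Steps.nil))))))))))) (nat_lit 39) (nat_lit 6),
  Rule.mk (nat_lit 2) (nat_lit 361) (Steps.bwd (nat_lit 3) (Steps.bwd (nat_lit 1) (Steps.bwd (nat_lit 2) (Steps.bwd (nat_lit 4) (Steps.bwd (nat_lit 6) (Steps.bwd (nat_lit 4) (Steps.bwd (nat_lit 2) (Steps.bwd (nat_lit 1) (Steps.bwd (nat_lit 3) (Steps.bwd (nat_lit 2) (Steps.bwd (nat_lit 3) (Steps.bwd (nat_lit 5) (Steps.bwd (nat_lit 4) (Steps.bwd (nat_lit 7) (Steps.bwd (nat_lit 4) (Steps.bwd (nat_lit 2) (Steps.bwd (nat_lit 3) (Steps.bwd (nat_lit 1) (Steps.bwd (nat_lit 2) (Steps.bwd (nat_lit 5) (Steps.bwd (nat_lit 7) (Steps.bwd (nat_lit 9) (Steps.fwd (nat_lit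 16384) (Steps.fwd (nat_lit 24576) (Steps.bwd (nat_lit 4) Steps.nil))))))))))))))))))))))))) (nat_lit 40) (nat_lit 4),
  Rule.mk (nat_lit 0) (nat_lit 165) (Steps.fwd (nat_lit 8192) (Steps.fwd (nat_lit 4096) (Steps.fwd (nat_lit 12288) (Steps.fwd (nat_lit 8192) (Steps.fwd (nat_lit 20480) (Steps.fwd (nat_lit 24576) (Steps.fwd (nat_lit 8192) (Steps.fwd (nat_lit 12288) (Steps.fwd (nat_lit 4096) (Steps.fwd (nat_lit 8192) (Steps.fwd (nat_lit 28672) Steps.nil))))))))))) (nat_lit 38) (nat_lit 6),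
  Rule.mk (nat_lit 4) (nat_lit 81) (Steps.bwd (nat_lit 5) (Steps.fwd (nat_lit 16384) (Steps.fwd (nat_lit 20480) (Steps.bwd (nat_lit 4) (Steps.bwd (nat_lit 5) Steps.nil))))) (nat_lit 24) (nat_lit 1),
  Rule.mk (nat_lit 3) (nat_lit 361) (Steps.bwd (nat_lit 1) (Steps.bwd (nat_lit 2) (Steps.bwd (nat_lit 4) (Steps.bwd (nat_lit 6) (Steps.bwd (nat_lit 4) (Steps.bwd (nat_lit 2) (Steps.bwd (nat_lit 1) (Steps.bwd (nat_lit 3) (Steps.bwd (nat_lit 2) (Steps.fwd (nat_lit 12288) (Steps.fwd (nat_lit 20480) (Steps.bwd (nat_lit 4) (Steps.bwd (nat_lit 7) (Steps.bwd (nat_lit 4) (Steps.bwd (nat_lit 2) (Steps.fwd (nat_lit 12288) (Steps.fwd (nat_lit 4096) (Steps.fwd (nat_lit 8192) (Steps.fwd (nat_lit 20480) (Steps.fwd (nat_lit 24576) (Steps.bwd (nat_lit 9) (Steps.fwd (nat_lit 16384) (Steps.fwd (nat_lit 24576) (Steps.bwd (nat_lit 4) (Steps.bwd (nat_lit 2) Steps.nil))))))))))))))))))))))))) (nat_lit 40) (nat_lit 5),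
  Rule.mk (nat_lit 0) (nat_lit 165) (Steps.fwd (nat_lit 4096) (Steps.fwd (nat_lit 12288) (Steps.fwd (nat_lit 8192) (Steps.bwd (nat_lit 5) (Steps.bwd (nat_lit 7) (Steps.fwd (nat_lit 8192) (Steps.bwd (nat_lit 3) (Steps.bwd (nat_lit 1) (Steps.fwd (nat_lit 8192) (Steps.bwd (nat_lit 6) (Steps.fwd (nat_lit 8192) Steps.nil))))))))))) (nat_lit 38) (nat_lit 7),
  Rule.mk (nat_lit 2) (nat_lit 81) (Steps.fwd (nat_lit 4096) (Steps.bwd (nat_lit 2) (Steps.fwd (nat_lit 4096) (Steps.bwd (nat_lit 2) (Steps.bwd (nat_lit 1) Steps.nil))))) (nat_lit 10) (nat_lit 0),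
  Rule.mk (nat_lit 3) (nat_lit 361) (Steps.bwd (nat_lit 1) (Steps.bwd (nat_lit 2) (Steps.bwd (nat_lit 4) (Steps.bwd (nat_lit 6) (Steps.bwd (nat_lit 4) (Steps.bwd (nat_lit 2) (Steps.bwd (nat_lit 1) (Steps.bwd (nat_lit 3) (Steps.bwd (nat_lit 2) (Steps.fwd (nat_lit 12288) (Steps.fwd (nat_lit 20480) (Steps.bwd (nat_lit 4) (Steps.fwd (nat_lit 24576) (Steps.fwd (nat_lit 16384) (Steps.fwd (nat_lit 8192) (Steps.fwd (nat_lit 12288) (Steps.fwd (nat_lit 4096) (Steps.fwd (nat_lit 8192) (Steps.fwd (nat_lit 20480) (Steps.fwd (nat_lit 24576) (Steps.bwd (nat_lit 9) (Steps.fwd (nat_lit 16384) (Steps.bwd (nat_lit 7) (Steps.fwd (nat_lit 16384) (Steps.bwd (nat_lit 2) Steps.nil))))))))))))))))))))))))) (nat_lit 40) (nat_lit 5),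
  Rule.mk (nat_lit 0) (nat_lit 165) (Steps.fwd (nat_lit 4096) (Steps.fwd (nat_lit 12288) (Steps.fwd (nat_lit 8192) (Steps.bwd (nat_lit 6) (Steps.fwd (nat_lit 20480) (Steps.bwd (nat_lit 2) (Steps.bwd (nat_lit 3) (Steps.bwd (nat_lit 1) (Steps.bwd (nat_lit 2) (Steps.fwd (nat_lit 24576) (Steps.fwd (nat_lit 8192) Steps.nil))))))))))) (nat_lit 39) (nat_lit 7),
  Rule.mk (nat_lit 3) (nat_lit 361) (Steps.bwd (nat_lit 1) (Steps.fwd (nat_lit 8192) (Steps.fwd (nat_lit 16384) (Steps.fwd (nat_lit 28672) (Steps.bwd (nat_lit 4) (Steps.fwd (nat_lit 8192) (Steps.fwd (nat_lit 4096) (Steps.fwd (nat_lit 12288) (Steps.bwd (nat_lit 2) (Steps.fwd (nat_lit 12288) (Steps.bwd (nat_lit 5) (Steps.fwd (nat_lit 16384) (Steps.bwd (nat_lit 7) (Steps.bwd (nat_lit 4) (Steps.fwd (nat_lit 8192) (Steps.fwd (nat_lit 12288) (Steps.bwd (nat_lit 1) (Steps.bwd (nat_lit 2) (Steps.fwd (nat_lit 20480) (Steps.bwd (nat_lit 7) (Steps.bwd (nat_lit 9) (Steps.bwd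 (nat_lit 4) (Steps.bwd (nat_lit 7) (Steps.fwd (nat_lit 16384) (Steps.fwd (nat_lit 8192) Steps.nil))))))))))))))))))))))))) (nat_lit 40) (nat_lit 5),
  Rule.mk (nat_lit 3) (nat_lit 81) (Steps.bwd (nat_lit 2) (Steps.bwd (nat_lit 3) (Steps.bwd (nat_lit 2) (Steps.bwd (nat_lit 3) (Steps.fwd (nat_lit 8192) Steps.nil))))) (nat_lit 14) (nat_lit 0),
  Rule.mk (nat_lit 1) (nat_lit 151) (Steps.bwd (nat_lit 3) (Steps.bwd (nat_lit 2) (Steps.bwd (nat_lit 5) (Steps.bwd (nat_lit 7) (Steps.fwd (nat_lit 8192) (Steps.fwd (nat_lit 12288) (Steps.fwd (nat_lit 4096) (Steps.fwd (nat_lit 8192) (Steps.fwd (nat_lit 28672) (Steps.bwd (nat_lit 2) Steps.nil)))))))))) (nat_lit 38) (nat_lit 8),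
  Rule.mk (nat_lit 7) (nat_lit 361) (Steps.bwd (nat_lit 4) (Steps.bwd (nat_lit 2) (Steps.bwd (nat_lit 3) (Steps.bwd (nat_lit 1) (Steps.bwd (nat_lit 2) (Steps.bwd (nat_lit 4) (Steps.bwd (nat_lit 6) (Steps.bwd (nat_lit 4) (Steps.fwd (nat_lit 8192) (Steps.fwd (nat_lit 4096) (Steps.fwd (nat_lit 12288) (Steps.fwd (nat_lit 8192) (Steps.fwd (nat_lit 12288) (Steps.bwd (nat_lit 5) (Steps.bwd (nat_lit 4) (Steps.bwd (nat_lit 7) (Steps.fwd (nat_lit 16384) (Steps.fwd (nat_lit 8192) (Steps.bwd (nat_lit 3) (Steps.fwd (nat_lit 4096) (Steps.bwd (nat_lit 2) (Steps.bwd (nat_lit 5) (Steps.fwd (nat_lit 24576) (Steps.bwd (nat_lit 9) (Steps.fwd (nat_lit 16384) Steps.nil))))))))))))))))))))))))) (nat_lit 40) (nat_lit 2),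
  Rule.mk (nat_lit 6) (nat_lit 137) (Steps.bwd (nat_lit 5) (Steps.bwd (nat_lit 4) (Steps.fwd (nat_lit 24576) (Steps.fwd (nat_lit 16384) (Steps.bwd (nat_lit 6) (Steps.bwd (nat_lit 5) (Steps.fwd (nat_lit 16384) (Steps.bwd (nat_lit 7) (Steps.bwd (nat_lit 4) Steps.nil))))))))) (nat_lit 37) (nat_lit 3),
  Rule.mk (nat_lit 4) (nat_lit 445) (Steps.bwd (nat_lit 5) (Steps.bwd (nat_lit 2) (Steps.bwd (nat_lit 3) (Steps.bwd (nat_lit 4) (Steps.bwd (nat_lit 5) (Steps.bwd (nat_lit 2) (Steps.bwd (nat_lit 3) (Steps.bwd (nat_lit 4) (Steps.bwd (nat_lit 5) (Steps.bwd (nat_lit 2) (Steps.bwd (nat_lit 3) (Steps.bwd (nat_lit 4) (Steps.bwd (nat_lit 5) (Steps.bwd (nat_lit 2) (Steps.bwd (nat_lit 3) (Steps.bwd (nat_lit 4) (Steps.bwd (nat_lit 5) (Steps.bwd (nat_lit 2) (Steps.bwd (nat_lit 3) (Steps.bwd (nat_lit 4) (Steps.bwd (nat_lit 5) (Steps.bwd (nat_lit 2) (Steps.bwd (nat_lit 3) (Steps.bwd (nat_lit 4) (Steps.fwd (nat_lit 20480) (Steps.bwd (nat_lit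 2) (Steps.bwd (nat_lit 3) (Steps.bwd (nat_lit 4) (Steps.bwd (nat_lit 5) (Steps.fwd (nat_lit 8192) (Steps.bwd (nat_lit 3) Steps.nil))))))))))))))))))))))))))))))) (nat_lit 26) (nat_lit 3),
  Rule.mk (nat_lit 3) (nat_lit 81) (Steps.bwd (nat_lit 2) (Steps.bwd (nat_lit 3) (Steps.fwd (nat_lit 8192) (Steps.bwd (nat_lit 3) (Steps.bwd (nat_lit 2) Steps.nil))))) (nat_lit 14) (nat_lit 0),
  Rule.mk (nat_lit 1) (nat_lit 151) (Steps.bwd (nat_lit 2) (Steps.fwd (nat_lit 24576) (Steps.bwd (nat_lit 2) (Steps.bwd (nat_lit 1) (Steps.bwd (nat_lit 3) (Steps.bwd (nat_lit 2) (Steps.bwd (nat_lit 6) (Steps.bwd (nat_lit 5) (Steps.bwd (nat_lit 2) (Steps.bwd (nat_lit 3) Steps.nil)))))))))) (nat_lit 39) (nat_lit 4),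
  Rule.mk (nat_lit 1) (nat_lit 81) (Steps.fwd (nat_lit 8192) (Steps.bwd (nat_lit 1) (Steps.bwd (nat_lit 2) (Steps.bwd (nat_lit 1) (Steps.fwd (nat_lit 8192) Steps.nil))))) (nat_lit 10) (nat_lit 1),
  Rule.mk (nat_lit 2) (nat_lit 361) (Steps.bwd (nat_lit 1) (Steps.bwd (nat_lit 3) (Steps.bwd (nat_lit 2) (Steps.bwd (nat_lit 3) (Steps.fwd (nat_lit 20480) (Steps.fwd (nat_lit 16384) (Steps.fwd (nat_lit 24576) (Steps.fwd (nat_lit 16384) (Steps.fwd (nat_lit 8192) (Steps.fwd (nat_lit 12288) (Steps.fwd (nat_lit 4096) (Steps.bwd (nat_lit 2) (Steps.fwd (nat_lit 20480) (Steps.fwd (nat_lit 24576) (Steps.bwd (nat_lit 9) (Steps.fwd (nat_lit 16384) (Steps.fwd (nat_lit 24576) (Steps.fwd (nat_lit 16384) (Steps.fwd (nat_lit 8192) (Steps.bwd (nat_lit 3) (Steps.bwd (nat_lit 1) (Steps.bwd (nat_lit 2) (Steps.bwd (nat_lit 4) (Steps.bwd (nat_lit 6) (Steps.fwd (nat_lit 16384) Steps.nil))))))))))))))))))))))))) (nat_lit 40) (nat_lit 11),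
  Rule.mk (nat_lit 2) (nat_lit 81) (Steps.bwd (nat_lit 1) (Steps.fwd (nat_lit 8192) (Steps.fwd (nat_lit 4096) (Steps.fwd (nat_lit 8192) (Steps.fwd (nat_lit 4096) Steps.nil))))) (nat_lit 10) (nat_lit 0),
  Rule.mk (nat_lit 3) (nat_lit 81) (Steps.bwd (nat_lit 2) (Steps.fwd (nat_lit 12288) (Steps.bwd (nat_lit 2) (Steps.bwd (nat_lit 3) (Steps.bwd (nat_lit 2) Steps.nil))))) (nat_lit 14) (nat_lit 0),
  Rule.mk (nat_lit 1) (nat_lit 151) (Steps.bwd (nat_lit 3) (Steps.fwd (nat_lit 8192) (Steps.bwd (nat_lit 5) (Steps.fwd (nat_lit 24576) (Steps.bwd (nat_lit 2) (Steps.bwd (nat_lit 3) (Steps.bwd (nat_lit 1) (Steps.bwd (nat_lit 2) (Steps.bwd (nat_lit 6) (Steps.fwd (nat_lit 8192) Steps.nil)))))))))) (nat_lit 38) (nat_lit 8),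
  Rule.mk (nat_lit 4) (nat_lit 445) (Steps.bwd (nat_lit 5) (Steps.bwd (nat_lit 2) (Steps.bwd (nat_lit 3) (Steps.bwd (nat_lit 4) (Steps.bwd (nat_lit 5) (Steps.bwd (nat_lit 2) (Steps.bwd (nat_lit 3) (Steps.bwd (nat_lit 4) (Steps.bwd (nat_lit 5) (Steps.bwd (nat_lit 2) (Steps.bwd (nat_lit 3) (Steps.bwd (nat_lit 4) (Steps.bwd (nat_lit 5) (Steps.bwd (nat_lit 2) (Steps.bwd (nat_lit 3) (Steps.bwd (nat_lit 4) (Steps.bwd (nat_lit 5) (Steps.bwd (nat_lit 2) (Steps.bwd (nat_lit 3) (Steps.bwd (nat_lit 4) (Steps.bwd (nat_lit 5) (Steps.bwd (nat_lit 2) (Steps.bwd (nat_lit 3) (Steps.fwd (nat_lit 16384) (Steps.bwd (nat_lit 5) (Steps.bwd (nat_lit 2) (Steps.bwd (nat_lit 3) (Steps.fwd (nat_lit 16384) (Steps.bwd (nat_lit 5) (Steps.bwd (nat_lit 2) (Steps.bwd (nat_lit 3) Steps.nil))))))))))))))))))))))))))))))) (nat_lit 26) (nat_lit 3),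
  Rule.mk (nat_lit 0) (nat_lit 95) (Steps.bwd (nat_lit 2) (Steps.bwd (nat_lit 3) (Steps.bwd (nat_lit 2) (Steps.fwd (nat_lit 12288) (Steps.fwd (nat_lit 8192) (Steps.fwd (nat_lit 12288) Steps.nil)))))) (nat_lit 14) (nat_lit 0),
  Rule.mk (nat_lit 1) (nat_lit 81) (Steps.bwd (nat_lit 2) (Steps.bwd (nat_lit 1) (Steps.fwd (nat_lit 8192) (Steps.bwd (nat_lit 1) (Steps.bwd (nat_lit 2) Steps.nil))))) (nat_lit 10) (nat_lit 1),
  Rule.mk (nat_lit 3) (nat_lit 151) (Steps.bwd (nat_lit 2) (Steps.bwd (nat_lit 6) (Steps.fwd (nat_lit 20480) (Steps.bwd (nat_lit 2) (Steps.bwd (nat_lit 3) (Steps.bwd (nat_lit 1) (Steps.bwd (nat_lit 2) (Steps.fwd (nat_lit 24576) (Steps.bwd (nat_lit 2) (Steps.bwd (nat_lit 1) Steps.nil)))))))))) (nat_lit 39) (nat_lit 9),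
  Rule.mk (nat_lit 3) (nat_lit 81) (Steps.fwd (nat_lit 8192) (Steps.bwd (nat_lit 3) (Steps.bwd (nat_lit 2) (Steps.bwd (nat_lit 3) (Steps.fwd (nat_lit 8192) Steps.nil))))) (nat_lit 14) (nat_lit 0),
  Rule.mk (nat_lit 4) (nat_lit 445) (Steps.bwd (nat_lit 5) (Steps.bwd (nat_lit 2) (Steps.bwd (nat_lit 3) (Steps.bwd (nat_lit 4) (Steps.bwd (nat_lit 5) (Steps.bwd (nat_lit 2) (Steps.bwd (nat_lit 3) (Steps.bwd (nat_lit 4) (Steps.bwd (nat_lit 5) (Steps.bwd (nat_lit 2) (Steps.bwd (nat_lit 3) (Steps.bwd (nat_lit 4) (Steps.bwd (nat_lit 5) (Steps.bwd (nat_lit 2) (Steps.bwd (nat_lit 3) (Steps.bwd (nat_lit 4) (Steps.bwd (nat_lit 5) (Steps.bwd (nat_lit 2) (Steps.bwd (nat_lit 3) (Steps.bwd (nat_lit 4) (Steps.bwd (nat_lit 5) (Steps.bwd (nat_lit 2) (Steps.bwd (nat_lit 3) (Steps.bwd (nat_lit 4) (Steps.bwd (nat_lit 5) (Steps.bwd (nat_lit 2) (Steps.bwd (nat_lit 3) (Steps.bwd (nat_lit 4) (Steps.fwd (nat_lit 20480) (Steps.bwd (nat_lit 2)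 (Steps.bwd (nat_lit 3) Steps.nil))))))))))))))))))))))))))))))) (nat_lit 26) (nat_lit 3)]
noncomputable def R_16 : List (Rule) := [Rule.mk (nat_lit 7) (nat_lit 53) (Steps.bwd (nat_lit 3) (Steps.fwd (nat_lit 28672) (Steps.bwd (nat_lit 3) Steps.nil))) (nat_lit 32) (nat_lit 1),
  Rule.mk (nat_lit 4) (nat_lit 137) (Steps.bwd (nat_lit 6) (Steps.bwd (nat_lit 4) (Steps.bwd (nat_lit 5) (Steps.bwd (nat_lit 7) (Steps.fwd (nat_lit 16384) (Steps.bwd (nat_lit 6) (Steps.bwd (nat_lit 4) (Steps.bwd (nat_lit 5) (Steps.fwd (nat_lit 24576) Steps.nil))))))))) (nat_lit 36) (nat_lit 4),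
  Rule.mk (nat_lit 3) (nat_lit 123) (Steps.bwd (nat_lit 1) (Steps.fwd (nat_lit 16384) (Steps.fwd (nat_lit 12288) (Steps.bwd (nat_lit 4) (Steps.bwd (nat_lit 3) (Steps.bwd (nat_lit 4) (Steps.fwd (nat_lit 12288) (Steps.bwd (nat_lit 4) Steps.nil)))))))) (nat_lit 20) (nat_lit 0),
  Rule.mk (nat_lit 1) (nat_lit 123) (Steps.bwd (nat_lit 3) (Steps.fwd (nat_lit 16384) (Steps.fwd (nat_lit 12288) (Steps.bwd (nat_lit 4) (Steps.bwd (nat_lit 3) (Steps.bwd (nat_lit 4) (Steps.fwd (nat_lit 12288) (Steps.bwd (nat_lit 4) Steps.nil)))))))) (nat_lit 21) (nat_lit 0),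
  Rule.mk (nat_lit 7) (nat_lit 137) (Steps.bwd (nat_lit 4) (Steps.fwd (nat_lit 28672) (Steps.fwd (nat_lit 20480) (Steps.bwd (nat_lit 4) (Steps.fwd (nat_lit 24576) (Steps.fwd (nat_lit 16384) (Steps.bwd (nat_lit 6) (Steps.bwd (nat_lit 5) (Steps.bwd (nat_lit 4) Steps.nil))))))))) (nat_lit 37) (nat_lit 1),
  Rule.mk (nat_lit 3) (nat_lit 361) (Steps.bwd (nat_lit 1) (Steps.fwd (nat_lit 8192) (Steps.fwd (nat_lit 16384) (Steps.fwd (nat_lit 28672) (Steps.fwd (nat_lit 16384) (Steps.bwd (nat_lit 2) (Steps.fwd (nat_lit 4096) (Steps.fwd (nat_lit 12288) (Steps.bwd (nat_lit 2) (Steps.bwd (nat_lit 3) (Steps.bwd (nat_lit 5) (Steps.bwd (nat_lit 4) (Steps.fwd (nat_lit 24576) (Steps.fwd (nat_lit 16384) (Steps.fwd (nat_lit 8192) (Steps.fwd (nat_lit 12288) (Steps.fwd (nat_lit 4096) (Steps.bwd (nat_lit 2) (Steps.fwd (nat_lit 20480) (Steps.fwd (nat_lit 24576) (Steps.bwd (nat_lit 9) (Steps.bwd (nat_lit 4) (Steps.fwd (nat_lit 24576) (Steps.bwd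 (nat_lit 4) (Steps.fwd (nat_lit 8192) Steps.nil))))))))))))))))))))))))) (nat_lit 40) (nat_lit 5),
  Rule.mk (nat_lit 4) (nat_lit 445) (Steps.bwd (nat_lit 5) (Steps.bwd (nat_lit 2) (Steps.bwd (nat_lit 3) (Steps.bwd (nat_lit 4) (Steps.bwd (nat_lit 5) (Steps.bwd (nat_lit 2) (Steps.bwd (nat_lit 3) (Steps.bwd (nat_lit 4) (Steps.bwd (nat_lit 5) (Steps.bwd (nat_lit 2) (Steps.bwd (nat_lit 3) (Steps.bwd (nat_lit 4) (Steps.bwd (nat_lit 5) (Steps.bwd (nat_lit 2) (Steps.bwd (nat_lit 3) (Steps.bwd (nat_lit 4) (Steps.bwd (nat_lit 5) (Steps.bwd (nat_lit 2) (Steps.bwd (nat_lit 3) (Steps.bwd (nat_lit 4) (Steps.bwd (nat_lit 5) (Steps.bwd (nat_lit 2) (Steps.bwd (nat_lit 3) (Steps.bwd (nat_lit 4) (Steps.bwd (nat_lit 5) (Steps.fwd (nat_lit 8192) (Steps.bwd (nat_lit 3) (Steps.fwd (nat_lit 16384) (Steps.bwd (nat_lit 5) (Steps.fwd (nat_lit 8192) (Steps.bwd (nat_lit 3) Steps.nil))))))))))))))))))))))))))))))) (nat_lit 26) (nat_lit 3),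
  Rule.mk (nat_lit 4) (nat_lit 81) (Steps.bwd (nat_lit 5) (Steps.bwd (nat_lit 4) (Steps.bwd (nat_lit 5) (Steps.fwd (nat_lit 16384) (Steps.bwd (nat_lit 5) Steps.nil))))) (nat_lit 24) (nat_lit 1),
  Rule.mk (nat_lit 2) (nat_lit 151) (Steps.bwd (nat_lit 3) (Steps.bwd (nat_lit 1) (Steps.bwd (nat_lit 2) (Steps.bwd (nat_lit 6) (Steps.bwd (nat_lit 2) (Steps.bwd (nat_lit 1) (Steps.bwd (nat_lit 3) (Steps.bwd (nat_lit 2) (Steps.bwd (nat_lit 5) (Steps.bwd (nat_lit 7) Steps.nil)))))))))) (nat_lit 38) (nat_lit 2),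
  Rule.mk (nat_lit 0) (nat_lit 165) (Steps.fwd (nat_lit 8192) (Steps.fwd (nat_lit 4096) (Steps.fwd (nat_lit 12288) (Steps.fwd (nat_lit 8192) (Steps.bwd (nat_lit 5) (Steps.bwd (nat_lit 7) (Steps.fwd (nat_lit 8192) (Steps.fwd (nat_lit 12288) (Steps.fwd (nat_lit 4096) (Steps.fwd (nat_lit 8192) (Steps.fwd (nat_lit 28672) Steps.nil))))))))))) (nat_lit 38) (nat_lit 6),
  Rule.mk (nat_lit 2) (nat_lit 81) (Steps.fwd (nat_lit 4096) (Steps.bwd (nat_lit 2) (Steps.bwd (nat_lit 1) (Steps.bwd (nat_lit 2) (Steps.bwd (nat_lit 1) Steps.nil))))) (nat_lit 10) (nat_lit 0),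
  Rule.mk (nat_lit 7) (nat_lit 361) (Steps.bwd (nat_lit 4) (Steps.fwd (nat_lit 8192) (Steps.fwd (nat_lit 12288) (Steps.fwd (nat_lit 4096) (Steps.fwd (nat_lit 8192) (Steps.fwd (nat_lit 20480) (Steps.fwd (nat_lit 24576) (Steps.bwd (nat_lit 9) (Steps.bwd (nat_lit 4) (Steps.bwd (nat_lit 7) (Steps.bwd (nat_lit 4) (Steps.fwd (nat_lit 8192) (Steps.fwd (nat_lit 12288) (Steps.fwd (nat_lit 4096) (Steps.fwd (nat_lit 8192) (Steps.fwd (nat_lit 16384) (Steps.fwd (nat_lit 28672) (Steps.fwd (nat_lit 16384) (Steps.bwd (nat_lit 2) (Steps.fwd (nat_lit 4096) (Steps.bwd (nat_lit 3) (Steps.bwd (nat_lit 2) (Steps.fwd (nat_lit 12288) (Steps.bwd (nat_lit 5) (Steps.fwd (nat_lit 16384) Steps.nil))))))))))))))))))))))))) (nat_lit 40) (nat_lit 18),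
  Rule.mk (nat_lit 4) (nat_lit 445) (Steps.bwd (nat_lit 5) (Steps.bwd (nat_lit 2) (Steps.bwd (nat_lit 3) (Steps.bwd (nat_lit 4) (Steps.bwd (nat_lit 5) (Steps.bwd (nat_lit 2) (Steps.bwd (nat_lit 3) (Steps.bwd (nat_lit 4) (Steps.bwd (nat_lit 5) (Steps.bwd (nat_lit 2) (Steps.bwd (nat_lit 3) (Steps.bwd (nat_lit 4) (Steps.bwd (nat_lit 5) (Steps.bwd (nat_lit 2) (Steps.bwd (nat_lit 3) (Steps.bwd (nat_lit 4) (Steps.bwd (nat_lit 5) (Steps.bwd (nat_lit 2) (Steps.bwd (nat_lit 3) (Steps.bwd (nat_lit 4) (Steps.bwd (nat_lit 5) (Steps.fwd (nat_lit 8192) (Steps.fwd (nat_lit 12288) (Steps.bwd (nat_lit 4) (Steps.bwd (nat_lit 5) (Steps.bwd (nat_lit 2) (Steps.bwd (nat_lit 3) (Steps.bwd (nat_lit 4) (Steps.bwd (nat_lit 5) (Steps.bwd (nat_lit 2) (Steps.bwd (nat_lit 3) Steps.nil))))))))))))))))))))))))))))))) (nat_lit 26) (nat_lit 3),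
  Rule.mk (nat_lit 2) (nat_lit 361) (Steps.bwd (nat_lit 3) (Steps.bwd (nat_lit 1) (Steps.bwd (nat_lit 2) (Steps.bwd (nat_lit 5) (Steps.bwd (nat_lit 7) (Steps.bwd (nat_lit 9) (Steps.fwd (nat_lit 16384) (Steps.fwd (nat_lit 24576) (Steps.fwd (nat_lit 16384) (Steps.bwd (nat_lit 2) (Steps.bwd (nat_lit 3) (Steps.bwd (nat_lit 1) (Steps.bwd (nat_lit 2) (Steps.bwd (nat_lit 4) (Steps.fwd (nat_lit 28672) (Steps.bwd (nat_lit 4) (Steps.fwd (nat_lit 8192) (Steps.fwd (nat_lit 4096) (Steps.bwd (nat_lit 3) (Steps.fwd (nat_lit 8192) (Steps.bwd (nat_lit 3) (Steps.fwd (nat_lit 20480) (Steps.bwd (nat_lit 4) (Steps.bwd (nat_lit 7) (Steps.fwd (nat_lit 16384) Steps.nil))))))))))))))))))))))))) (nat_lit 40) (nat_lit 20),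
  Rule.mk (nat_lit 4) (nat_lit 445) (Steps.bwd (nat_lit 5) (Steps.bwd (nat_lit 2) (Steps.bwd (nat_lit 3) (Steps.bwd (nat_lit 4) (Steps.bwd (nat_lit 5) (Steps.bwd (nat_lit 2) (Steps.bwd (nat_lit 3) (Steps.bwd (nat_lit 4) (Steps.bwd (nat_lit 5) (Steps.bwd (nat_lit 2) (Steps.bwd (nat_lit 3) (Steps.bwd (nat_lit 4) (Steps.bwd (nat_lit 5) (Steps.bwd (nat_lit 2) (Steps.bwd (nat_lit 3) (Steps.bwd (nat_lit 4) (Steps.bwd (nat_lit 5) (Steps.bwd (nat_lit 2) (Steps.bwd (nat_lit 3) (Steps.bwd (nat_lit 4) (Steps.bwd (nat_lit 5) (Steps.bwd (nat_lit 2) (Steps.bwd (nat_lit 3) (Steps.bwd (nat_lit 4) (Steps.fwd (nat_lit 20480) (Steps.bwd (nat_lit 2) (Steps.bwd (nat_lit 3) (Steps.fwd (nat_lit 16384) (Steps.fwd (nat_lit 20480) (Steps.fwd (nat_lit 8192) (Steps.fwd (nat_lit 12288) Steps.nil))))))))))))))))))))))))))))))) (nat_lit 26) (nat_lit 3),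
  Rule.mk (nat_lit 3) (nat_lit 151) (Steps.bwd (nat_lit 1) (Steps.bwd (nat_lit 2) (Steps.bwd (nat_lit 6) (Steps.fwd (nat_lit 8192) (Steps.fwd (nat_lit 4096) (Steps.fwd (nat_lit 12288) (Steps.fwd (nat_lit 8192) (Steps.bwd (nat_lit 5) (Steps.fwd (nat_lit 24576) (Steps.bwd (nat_lit 2) Steps.nil)))))))))) (nat_lit 38) (nat_lit 3),
  Rule.mk (nat_lit 0) (nat_lit 151) (Steps.fwd (nat_lit 16384) (Steps.fwd (nat_lit 28672) (Steps.bwd (nat_lit 5) (Steps.fwd (nat_lit 16384) (Steps.fwd (nat_lit 24576) (Steps.fwd (nat_lit 16384) (Steps.bwd (nat_lit 6) (Steps.bwd (nat_lit 5) (Steps.bwd (nat_lit 4) (Steps.bwd (nat_lit 7) Steps.nil)))))))))) (nat_lit 37) (nat_lit 1),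
  Rule.mk (nat_lit 0) (nat_lit 375) (Steps.fwd (nat_lit 8192) (Steps.fwd (nat_lit 4096) (Steps.bwd (nat_lit 3) (Steps.bwd (nat_lit 2) (Steps.fwd (nat_lit 16384) (Steps.fwd (nat_lit 28672) (Steps.bwd (nat_lit 4) (Steps.fwd (nat_lit 20480) (Steps.fwd (nat_lit 12288) (Steps.bwd (nat_lit 2) (Steps.bwd (nat_lit 3) (Steps.bwd (nat_lit 1) (Steps.bwd (nat_lit 2) (Steps.bwd (nat_lit 4) (Steps.fwd (nat_lit 24576) (Steps.bwd (nat_lit 4) (Steps.bwd (nat_lit 2) (Steps.bwd (nat_lit 1) (Steps.fwd (nat_lit 12288) (Steps.fwd (nat_lit 8192) (Steps.bwd (nat_lit 4) (Steps.bwd (nat_lit 6) (Steps.bwd (nat_lit 4) (Steps.bwd (nat_lit 8) (Steps.bwd (nat_lit 6) (Steps.fwd (nat_lit 20480) Steps.nil)))))))))))))))))))))))))) (nat_lit 41) (nat_lit 3),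
  Rule.mk (nat_lit 4) (nat_lit 81) (Steps.bwd (nat_lit 5) (Steps.bwd (nat_lit 4) (Steps.fwd (nat_lit 20480) (Steps.fwd (nat_lit 16384) (Steps.bwd (nat_lit 5) Steps.nil))))) (nat_lit 24) (nat_lit 1),
  Rule.mk (nat_lit 4) (nat_lit 445) (Steps.bwd (nat_lit 5) (Steps.bwd (nat_lit 2) (Steps.bwd (nat_lit 3) (Steps.bwd (nat_lit 4) (Steps.bwd (nat_lit 5) (Steps.bwd (nat_lit 2) (Steps.bwd (nat_lit 3) (Steps.bwd (nat_lit 4) (Steps.bwd (nat_lit 5) (Steps.bwd (nat_lit 2) (Steps.bwd (nat_lit 3) (Steps.bwd (nat_lit 4) (Steps.bwd (nat_lit 5) (Steps.bwd (nat_lit 2) (Steps.bwd (nat_lit 3) (Steps.bwd (nat_lit 4) (Steps.bwd (nat_lit 5) (Steps.bwd (nat_lit 2) (Steps.bwd (nat_lit 3) (Steps.bwd (nat_lit 4) (Steps.bwd (nat_lit 5) (Steps.bwd (nat_lit 2) (Steps.bwd (nat_lit 3) (Steps.bwd (nat_lit 4) (Steps.fwd (nat_lit 20480) (Steps.bwd (nat_lit 2) (Steps.bwd (nat_lit 3) (Steps.bwd (nat_lit 4) (Steps.bwd (nat_lit 5) (Steps.fwd (nat_lit 8192)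 (Steps.fwd (nat_lit 12288) Steps.nil))))))))))))))))))))))))))))))) (nat_lit 26) (nat_lit 3),
  Rule.mk (nat_lit 5) (nat_lit 81) (Steps.bwd (nat_lit 4) (Steps.fwd (nat_lit 20480) (Steps.bwd (nat_lit 4) (Steps.fwd (nat_lit 20480) (Steps.bwd (nat_lit 4) Steps.nil))))) (nat_lit 24) (nat_lit 0),
  Rule.mk (nat_lit 0) (nat_lit 95) (Steps.bwd (nat_lit 2) (Steps.bwd (nat_lit 3) (Steps.fwd (nat_lit 8192) (Steps.fwd (nat_lit 12288) (Steps.fwd (nat_lit 8192) (Steps.fwd (nat_lit 12288) Steps.nil)))))) (nat_lit 14) (nat_lit 0),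
  Rule.mk (nat_lit 0) (nat_lit 137) (Steps.fwd (nat_lit 16384) (Steps.fwd (nat_lit 12288) (Steps.fwd (nat_lit 16384) (Steps.bwd (nat_lit 3) (Steps.bwd (nat_lit 4) (Steps.fwd (nat_lit 4096) (Steps.fwd (nat_lit 12288) (Steps.bwd (nat_lit 4) (Steps.bwd (nat_lit 3) Steps.nil))))))))) (nat_lit 21) (nat_lit 3),
  Rule.mk (nat_lit 0) (nat_lit 67) (Steps.fwd (nat_lit 12288) (Steps.bwd (nat_lit 5) (Steps.fwd (nat_lit 12288) (Steps.bwd (nat_lit 5) Steps.nil)))) (nat_lit 22) (nat_lit 0),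
  Rule.mk (nat_lit 0) (nat_lit 95) (Steps.bwd (nat_lit 3) (Steps.bwd (nat_lit 2) (Steps.bwd (nat_lit 3) (Steps.fwd (nat_lit 8192) (Steps.bwd (nat_lit 3) (Steps.bwd (nat_lit 2) Steps.nil)))))) (nat_lit 14) (nat_lit 1),
  Rule.mk (nat_lit 0) (nat_lit 137) (Steps.bwd (nat_lit 3) (Steps.bwd (nat_lit 4) (Steps.fwd (nat_lit 12288) (Steps.bwd (nat_lit 4) (Steps.fwd (nat_lit 12288) (Steps.bwd (nat_lit 4) (Steps.bwd (nat_lit 3) (Steps.bwd (nat_lit 1) (Steps.bwd (nat_lit 4) Steps.nil))))))))) (nat_lit 20) (nat_lit 2),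
  Rule.mk (nat_lit 0) (nat_lit 67) (Steps.bwd (nat_lit 0) (Steps.fwd (nat_lit 20480) (Steps.bwd (nat_lit 0) (Steps.fwd (nat_lit 20480) Steps.nil)))) (nat_lit 54) (nat_lit 0),
  Rule.mk (nat_lit 5) (nat_lit 53) (Steps.bwd (nat_lit 0) (Steps.bwd (nat_lit 5) (Steps.fwd (nat_lit 0) Steps.nil))) (nat_lit 54) (nat_lit 0),
  Rule.mk (nat_lit 4) (nat_lit 53) (Steps.bwd (nat_lit 0) (Steps.fwd (nat_lit 16384) (Steps.fwd (nat_lit 0) Steps.nil))) (nat_lit 54) (nat_lit 0),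
  Rule.mk (nat_lit 0) (nat_lit 53) (Steps.fwd (nat_lit 12288) (Steps.bwd (nat_lit 0) (Steps.bwd (nat_lit 3) Steps.nil))) (nat_lit 54) (nat_lit 0),
  Rule.mk (nat_lit 4) (nat_lit 53) (Steps.bwd (nat_lit 0) (Steps.bwd (nat_lit 4) (Steps.fwd (nat_lit 0) Steps.nil))) (nat_lit 54) (nat_lit 0),
  Rule.mk (nat_lit 0) (nat_lit 67) (Steps.bwd (nat_lit 0) (Steps.fwd (nat_lit 20480) (Steps.fwd (nat_lit 0) (Steps.bwd (nat_lit 5) Steps.nil)))) (nat_lit 54) (nat_lit 0),
  Rule.mk (nat_lit 0) (nat_lit 67) (Steps.fwd (nat_lit 20480) (Steps.fwd (nat_lit 0) (Steps.fwd (nat_lit 20480) (Steps.fwd (nat_lit 0) Steps.nil)))) (nat_lit 54) (nat_lit 0),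
  Rule.mk (nat_lit 0) (nat_lit 67) (Steps.bwd (nat_lit 4) (Steps.fwd (nat_lit 8192) (Steps.bwd (nat_lit 4) (Steps.fwd (nat_lit 8192) Steps.nil)))) (nat_lit 16) (nat_lit 1),
  Rule.mk (nat_lit 4) (nat_lit 81) (Steps.bwd (nat_lit 5) (Steps.bwd (nat_lit 4) (Steps.fwd (nat_lit 20480) (Steps.bwd (nat_lit 4) (Steps.fwd (nat_lit 20480) Steps.nil))))) (nat_lit 24) (nat_lit 1),
  Rule.mk (nat_lit 0) (nat_lit 67) (Steps.fwd (nat_lit 8192) (Steps.fwd (nat_lit 16384) (Steps.fwd (nat_lit 8192) (Steps.fwd (nat_lit 16384) Steps.nil)))) (nat_lit 16) (nat_lit 0),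
  Rule.mk (nat_lit 0) (nat_lit 95) (Steps.fwd (nat_lit 16384) (Steps.bwd (nat_lit 5) (Steps.bwd (nat_lit 4) (Steps.fwd (nat_lit 20480) (Steps.bwd (nat_lit 4) (Steps.bwd (nat_lit 5) Steps.nil)))))) (nat_lit 24) (nat_lit 0),
  Rule.mk (nat_lit 0) (nat_lit 67) (Steps.fwd (nat_lit 24576) (Steps.bwd (nat_lit 7) (Steps.bwd (nat_lit 1) (Steps.fwd (nat_lit 12288) Steps.nil)))) (nat_lit 29) (nat_lit 2),
  Rule.mk (nat_lit 7) (nat_lit 361) (Steps.bwd (nat_lit 9) (Steps.bwd (nat_lit 4) (Steps.bwd (nat_lit 7) (Steps.fwd (nat_lit 16384) (Steps.bwd (nat_lit 2) (Steps.bwd (nat_lit 3) (Steps.fwd (nat_lit 4096) (Steps.fwd (nat_lit 8192) (Steps.bwd (nat_lit 4) (Steps.bwd (nat_lit 6) (Steps.bwd (nat_lit 4) (Steps.fwd (nat_lit 8192) (Steps.fwd (nat_lit 4096) (Steps.fwd (nat_lit 12288) (Steps.fwd (nat_lit 8192) (Steps.bwd (nat_lit 3) (Steps.fwd (nat_lit 20480) (Steps.fwd (nat_lit 16384) (Steps.bwd (nat_lit 7) (Steps.fwd (nat_lit 16384)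 (Steps.bwd (nat_lit 2) (Steps.bwd (nat_lit 3) (Steps.bwd (nat_lit 1) (Steps.bwd (nat_lit 2) (Steps.bwd (nat_lit 5) Steps.nil))))))))))))))))))))))))) (nat_lit 40) (nat_lit 25),
  Rule.mk (nat_lit 6) (nat_lit 53) (Steps.bwd (nat_lit 1) (Steps.bwd (nat_lit 7) (Steps.fwd (nat_lit 4096) Steps.nil))) (nat_lit 30) (nat_lit 3),
  Rule.mk (nat_lit 6) (nat_lit 137) (Steps.bwd (nat_lit 5) (Steps.bwd (nat_lit 4) (Steps.fwd (nat_lit 24576) (Steps.fwd (nat_lit 16384) (Steps.bwd (nat_lit 6) (Steps.fwd (nat_lit 20480) (Steps.bwd (nat_lit 4) (Steps.fwd (nat_lit 24576) (Steps.fwd (nat_lit 16384) Steps.nil))))))))) (nat_lit 37) (nat_lit 3),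
  Rule.mk (nat_lit 2) (nat_lit 151) (Steps.bwd (nat_lit 5) (Steps.bwd (nat_lit 7) (Steps.bwd (nat_lit 2) (Steps.bwd (nat_lit 3) (Steps.bwd (nat_lit 1) (Steps.bwd (nat_lit 2) (Steps.bwd (nat_lit 6) (Steps.bwd (nat_lit 2) (Steps.fwd (nat_lit 4096) (Steps.bwd (nat_lit 3) Steps.nil)))))))))) (nat_lit 38) (nat_lit 10),
  Rule.mk (nat_lit 7) (nat_lit 151) (Steps.bwd (nat_lit 2) (Steps.fwd (nat_lit 4096) (Steps.bwd (nat_lit 3) (Steps.bwd (nat_lit 2) (Steps.fwd (nat_lit 28672) (Steps.bwd (nat_lit 5) (Steps.fwd (nat_lit 8192) (Steps.fwd (nat_lit 12288) (Steps.fwd (nat_lit 4096) (Steps.fwd (nat_lit 8192) Steps.nil)))))))))) (nat_lit 39) (nat_lit 6),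
  Rule.mk (nat_lit 7) (nat_lit 53) (Steps.bwd (nat_lit 7) (Steps.bwd (nat_lit 1) (Steps.bwd (nat_lit 3) Steps.nil))) (nat_lit 29) (nat_lit 3),
  Rule.mk (nat_lit 6) (nat_lit 361) (Steps.fwd (nat_lit 16384) (Steps.fwd (nat_lit 36864) (Steps.bwd (nat_lit 6) (Steps.bwd (nat_lit 5) (Steps.bwd (nat_lit 2) (Steps.fwd (nat_lit 4096) (Steps.bwd (nat_lit 3) (Steps.bwd (nat_lit 2) (Steps.fwd (nat_lit 16384) (Steps.bwd (nat_lit 6) (Steps.fwd (nat_lit 16384) (Steps.fwd (nat_lit 20480) (Steps.bwd (nat_lit 3) (Steps.bwd (nat_lit 2) (Steps.bwd (nat_lit 3) (Steps.bwd (nat_lit 1) (Steps.bwd (nat_lit 2) (Steps.fwd (nat_lit 16384) (Steps.bwd (nat_lit 7) (Steps.bwd (nat_lit 4) (Steps.fwd (nat_lit 8192) (Steps.bwd (nat_lit 1) (Steps.bwd (nat_lit 3) (Steps.fwd (nat_lit 8192) (Steps.bwd (nat_lit 4) Steps.nil))))))))))))))))))))))))) (nat_lit 41) (nat_lit 25),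
  Rule.mk (nat_lit 6) (nat_lit 53) (Steps.fwd (nat_lit 4096) (Steps.fwd (nat_lit 24576) (Steps.bwd (nat_lit 1) Steps.nil))) (nat_lit 30) (nat_lit 3),
  Rule.mk (nat_lit 6) (nat_lit 361) (Steps.fwd (nat_lit 16384) (Steps.fwd (nat_lit 36864) (Steps.bwd (nat_lit 6) (Steps.bwd (nat_lit 5) (Steps.bwd (nat_lit 2) (Steps.bwd (nat_lit 1) (Steps.bwd (nat_lit 3) (Steps.bwd (nat_lit 2) (Steps.fwd (nat_lit 16384) (Steps.fwd (nat_lit 28672) (Steps.fwd (nat_lit 16384) (Steps.bwd (nat_lit 5) (Steps.bwd (nat_lit 3) (Steps.bwd (nat_lit 2) (Steps.bwd (nat_lit 3) (Steps.fwd (nat_lit 4096) (Steps.fwd (nat_lit 8192) (Steps.fwd (nat_lit 16384) (Steps.fwd (nat_lit 24576) (Steps.bwd (nat_lit 4) (Steps.fwd (nat_lit 8192) (Steps.bwd (nat_lit 1) (Steps.fwd (nat_lit 12288) (Steps.bwd (nat_lit 2) (Steps.fwd (nat_lit 16384) Steps.nil))))))))))))))))))))))))) (nat_lit 41) (nat_lit 25),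
  Rule.mk (nat_lit 3) (nat_lit 53) (Steps.bwd (nat_lit 1) (Steps.bwd (nat_lit 6) (Steps.fwd (nat_lit 28672) Steps.nil))) (nat_lit 28) (nat_lit 3),
  Rule.mk (nat_lit 3) (nat_lit 123) (Steps.fwd (nat_lit 16384) (Steps.bwd (nat_lit 3) (Steps.bwd (nat_lit 1) (Steps.fwd (nat_lit 16384) (Steps.bwd (nat_lit 3) (Steps.fwd (nat_lit 16384) (Steps.bwd (nat_lit 3) (Steps.bwd (nat_lit 4) Steps.nil)))))))) (nat_lit 20) (nat_lit 7),
  Rule.mk (nat_lit 3) (nat_lit 151) (Steps.bwd (nat_lit 2) (Steps.bwd (nat_lit 6) (Steps.bwd (nat_lit 5) (Steps.fwd (nat_lit 8192) (Steps.fwd (nat_lit 12288) (Steps.fwd (nat_lit 4096) (Steps.fwd (nat_lit 8192) (Steps.bwd (nat_lit 7) (Steps.bwd (nat_lit 2) (Steps.fwd (nat_lit 4096) Steps.nil)))))))))) (nat_lit 39) (nat_lit 9),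
  Rule.mk (nat_lit 7) (nat_lit 53) (Steps.fwd (nat_lit 4096) (Steps.bwd (nat_lit 3) (Steps.fwd (nat_lit 24576) Steps.nil))) (nat_lit 29) (nat_lit 0),
  Rule.mk (nat_lit 7) (nat_lit 361) (Steps.fwd (nat_lit 32768) (Steps.fwd (nat_lit 16384) (Steps.bwd (nat_lit 7) (Steps.fwd (nat_lit 16384) (Steps.bwd (nat_lit 2) (Steps.bwd (nat_lit 3) (Steps.bwd (nat_lit 1) (Steps.bwd (nat_lit 2) (Steps.fwd (nat_lit 16384) (Steps.bwd (nat_lit 6) (Steps.fwd (nat_lit 16384) (Steps.bwd (nat_lit 2) (Steps.bwd (nat_lit 1) (Steps.bwd (nat_lit 3) (Steps.fwd (nat_lit 8192) (Steps.bwd (nat_lit 3) (Steps.bwd (nat_lit 5) (Steps.bwd (nat_lit 4) (Steps.fwd (nat_lit 24576) (Steps.fwd (nat_lit 16384) (Steps.fwd (nat_lit 8192) (Steps.fwd (nat_lit 12288) (Steps.bwd (nat_lit 1) (Steps.fwd (nat_lit 8192) (Steps.bwd (nat_lit 5) Steps.nil))))))))))))))))))))))))) (nat_lit 40) (nat_lit 25),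
  Rule.mk (nat_lit 6) (nat_lit 151) (Steps.fwd (nat_lit 8192) (Steps.fwd (nat_lit 4096) (Steps.bwd (nat_lit 3) (Steps.bwd (nat_lit 2) (Steps.bwd (nat_lit 5) (Steps.bwd (nat_lit 7) (Steps.bwd (nat_lit 2) (Steps.bwd (nat_lit 3) (Steps.bwd (nat_lit 1) (Steps.bwd (nat_lit 2) Steps.nil)))))))))) (nat_lit 38) (nat_lit 6),
  Rule.mk (nat_lit 7) (nat_lit 53) (Steps.fwd (nat_lit 12288) (Steps.fwd (nat_lit 28672) (Steps.bwd (nat_lit 3) Steps.nil))) (nat_lit 32) (nat_lit 1),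
  Rule.mk (nat_lit 4) (nat_lit 81) (Steps.bwd (nat_lit 5) (Steps.bwd (nat_lit 4) (Steps.bwd (nat_lit 5) (Steps.bwd (nat_lit 4) (Steps.fwd (nat_lit 20480) Steps.nil))))) (nat_lit 24) (nat_lit 1),
  Rule.mk (nat_lit 7) (nat_lit 137) (Steps.fwd (nat_lit 16384) (Steps.bwd (nat_lit 6) (Steps.fwd (nat_lit 16384) (Steps.fwd (nat_lit 20480) (Steps.fwd (nat_lit 24576) (Steps.bwd (nat_lit 4) (Steps.fwd (nat_lit 28672) (Steps.bwd (nat_lit 4) (Steps.bwd (nat_lit 5) Steps.nil))))))))) (nat_lit 36) (nat_lit 3),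
  Rule.mk (nat_lit 1) (nat_lit 123) (Steps.fwd (nat_lit 12288) (Steps.bwd (nat_lit 4) (Steps.fwd (nat_lit 12288) (Steps.fwd (nat_lit 16384) (Steps.fwd (nat_lit 12288) (Steps.bwd (nat_lit 4) (Steps.fwd (nat_lit 12288) (Steps.bwd (nat_lit 4) Steps.nil)))))))) (nat_lit 21) (nat_lit 0),
  Rule.mk (nat_lit 7) (nat_lit 137) (Steps.fwd (nat_lit 16384) (Steps.bwd (nat_lit 6) (Steps.fwd (nat_lit 20480) (Steps.fwd (nat_lit 16384) (Steps.bwd (nat_lit 7) (Steps.bwd (nat_lit 4) (Steps.bwd (nat_lit 6) (Steps.bwd (nat_lit 5) (Steps.bwd (nat_lit 4) Steps.nil))))))))) (nat_lit 37) (nat_lit 1),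
  Rule.mk (nat_lit 7) (nat_lit 361) (Steps.fwd (nat_lit 32768) (Steps.fwd (nat_lit 16384) (Steps.fwd (nat_lit 24576) (Steps.fwd (nat_lit 16384) (Steps.fwd (nat_lit 8192) (Steps.bwd (nat_lit 3) (Steps.bwd (nat_lit 1) (Steps.fwd (nat_lit 8192) (Steps.fwd (nat_lit 16384) (Steps.fwd (nat_lit 28672) (Steps.bwd (nat_lit 4) (Steps.fwd (nat_lit 8192) (Steps.bwd (nat_lit 1) (Steps.bwd (nat_lit 3) (Steps.bwd (nat_lit 2) (Steps.fwd (nat_lit 12288) (Steps.fwd (nat_lit 20480) (Steps.bwd (nat_lit 4) (Steps.bwd (nat_lit 7) (Steps.bwd (nat_lit 4) (Steps.bwd (nat_lit 2) (Steps.bwd (nat_lit 3) (Steps.fwd (nat_lit 4096) (Steps.fwd (nat_lit 8192) (Steps.bwd (nat_lit 5) Steps.nil))))))))))))))))))))))))) (nat_lit 40) (nat_lit 25),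
  Rule.mk (nat_lit 2) (nat_lit 445) (Steps.fwd (nat_lit 20480) (Steps.bwd (nat_lit 4) (Steps.bwd (nat_lit 3) (Steps.fwd (nat_lit 8192) (Steps.bwd (nat_lit 5) (Steps.bwd (nat_lit 4) (Steps.bwd (nat_lit 3) (Steps.bwd (nat_lit 2) (Steps.bwd (nat_lit 5) (Steps.fwd (nat_lit 16384) (Steps.bwd (nat_lit 3) (Steps.fwd (nat_lit 8192) (Steps.bwd (nat_lit 5) (Steps.fwd (nat_lit 16384) (Steps.bwd (nat_lit 3) (Steps.fwd (nat_lit 8192) (Steps.fwd (nat_lit 20480) (Steps.bwd (nat_lit 4) (Steps.bwd (nat_lit 3) (Steps.bwd (nat_lit 2) (Steps.bwd (nat_lit 5) (Steps.bwd (nat_lit 4) (Steps.fwd (nat_lit 12288) (Steps.fwd (nat_lit 8192) (Steps.bwd (nat_lit 5) (Steps.bwd (nat_lit 4) (Steps.fwd (nat_lit 12288) (Steps.bwd (nat_lit 2) (Steps.bwd (nat_lit 5) (Steps.fwd (nat_lit 16384) (Steps.bwd (nat_lit 3) Steps.nil))))))))))))))))))))))))))))))) (nat_lit 27) (nat_lit 0),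
  Rule.mk (nat_lit 0) (nat_lit 67) (Steps.fwd (nat_lit 12288) (Steps.bwd (nat_lit 6) (Steps.bwd (nat_lit 3) (Steps.fwd (nat_lit 24576) Steps.nil)))) (nat_lit 32) (nat_lit 1),
  Rule.mk (nat_lit 4) (nat_lit 445) (Steps.bwd (nat_lit 5) (Steps.bwd (nat_lit 2) (Steps.bwd (nat_lit 3) (Steps.bwd (nat_lit 4) (Steps.bwd (nat_lit 5) (Steps.bwd (nat_lit 2) (Steps.bwd (nat_lit 3) (Steps.bwd (nat_lit 4) (Steps.bwd (nat_lit 5) (Steps.bwd (nat_lit 2) (Steps.bwd (nat_lit 3) (Steps.bwd (nat_lit 4) (Steps.bwd (nat_lit 5) (Steps.bwd (nat_lit 2) (Steps.bwd (nat_lit 3) (Steps.bwd (nat_lit 4) (Steps.bwd (nat_lit 5) (Steps.bwd (nat_lit 2) (Steps.fwd (nat_lit 12288) (Steps.fwd (nat_lit 16384) (Steps.fwd (nat_lit 20480) (Steps.fwd (nat_lit 8192) (Steps.fwd (nat_lit 12288) (Steps.fwd (nat_lit 16384) (Steps.fwd (nat_lit 20480) (Steps.fwd (nat_lit 8192) (Steps.bwd (nat_lit 3) (Steps.fwd (nat_lit 16384) (Steps.fwd (nat_lit 20480) (Steps.fwd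 (nat_lit 8192) (Steps.fwd (nat_lit 12288) Steps.nil))))))))))))))))))))))))))))))) (nat_lit 26) (nat_lit 3),
  Rule.mk (nat_lit 3) (nat_lit 123) (Steps.fwd (nat_lit 16384) (Steps.fwd (nat_lit 12288) (Steps.bwd (nat_lit 4) (Steps.bwd (nat_lit 3) (Steps.bwd (nat_lit 1) (Steps.fwd (nat_lit 16384) (Steps.fwd (nat_lit 12288) (Steps.bwd (nat_lit 4) Steps.nil)))))))) (nat_lit 20) (nat_lit 5),
  Rule.mk (nat_lit 0) (nat_lit 67) (Steps.bwd (nat_lit 5) (Steps.bwd (nat_lit 2) (Steps.bwd (nat_lit 5) (Steps.bwd (nat_lit 2) Steps.nil)))) (nat_lit 18) (nat_lit 1)]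
noncomputable def R_17 : List (Rule) := [Rule.mk (nat_lit 4) (nat_lit 81) (Steps.bwd (nat_lit 5) (Steps.fwd (nat_lit 16384) (Steps.fwd (nat_lit 20480) (Steps.bwd (nat_lit 4) (Steps.fwd (nat_lit 20480) Steps.nil))))) (nat_lit 24) (nat_lit 1),
  Rule.mk (nat_lit 0) (nat_lit 137) (Steps.bwd (nat_lit 3) (Steps.bwd (nat_lit 4) (Steps.bwd (nat_lit 3) (Steps.fwd (nat_lit 4096) (Steps.bwd (nat_lit 4) (Steps.fwd (nat_lit 12288) (Steps.fwd (nat_lit 16384) (Steps.bwd (nat_lit 3) (Steps.fwd (nat_lit 16384) Steps.nil))))))))) (nat_lit 20) (nat_lit 6),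
  Rule.mk (nat_lit 7) (nat_lit 361) (Steps.bwd (nat_lit 4) (Steps.bwd (nat_lit 2) (Steps.bwd (nat_lit 3) (Steps.bwd (nat_lit 1) (Steps.bwd (nat_lit 2) (Steps.bwd (nat_lit 4) (Steps.bwd (nat_lit 6) (Steps.fwd (nat_lit 16384) (Steps.bwd (nat_lit 2) (Steps.fwd (nat_lit 4096) (Steps.fwd (nat_lit 12288) (Steps.fwd (nat_lit 8192) (Steps.bwd (nat_lit 3) (Steps.bwd (nat_lit 5) (Steps.fwd (nat_lit 16384) (Steps.fwd (nat_lit 24576) (Steps.bwd (nat_lit 4) (Steps.fwd (nat_lit 8192) (Steps.fwd (nat_lit 12288) (Steps.fwd (nat_lit 4096) (Steps.fwd (nat_lit 8192) (Steps.bwd (nat_lit 5) (Steps.fwd (nat_lit 24576) (Steps.bwd (nat_lit 9) (Steps.bwd (nat_lit 4) Steps.nil))))))))))))))))))))))))) (nat_lit 40) (nat_lit 2),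
  Rule.mk (nat_lit 7) (nat_lit 361) (Steps.bwd (nat_lit 4) (Steps.bwd (nat_lit 2) (Steps.bwd (nat_lit 1) (Steps.bwd (nat_lit 3) (Steps.bwd (nat_lit 2) (Steps.bwd (nat_lit 4) (Steps.bwd (nat_lit 6) (Steps.fwd (nat_lit 16384) (Steps.fwd (nat_lit 36864) (Steps.fwd (nat_lit 28672) (Steps.fwd (nat_lit 20480) (Steps.fwd (nat_lit 8192) (Steps.fwd (nat_lit 4096) (Steps.bwd (nat_lit 3) (Steps.bwd (nat_lit 2) (Steps.fwd (nat_lit 16384) (Steps.fwd (nat_lit 28672) (Steps.bwd (nat_lit 4) (Steps.fwd (nat_lit 20480) (Steps.bwd (nat_lit 3) (Steps.fwd (nat_lit 8192) (Steps.bwd (nat_lit 3) (Steps.fwd (nat_lit 4096) (Steps.bwd (nat_lit 2) (Steps.bwd (nat_lit 4) Steps.nil))))))))))))))))))))))))) (nat_lit 41) (nat_lit 18),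
  Rule.mk (nat_lit 3) (nat_lit 151) (Steps.bwd (nat_lit 1) (Steps.bwd (nat_lit 2) (Steps.fwd (nat_lit 28672) (Steps.bwd (nat_lit 2) (Steps.fwd (nat_lit 4096) (Steps.bwd (nat_lit 3) (Steps.fwd (nat_lit 8192) (Steps.fwd (nat_lit 20480) (Steps.fwd (nat_lit 24576) (Steps.fwd (nat_lit 8192) Steps.nil)))))))))) (nat_lit 38) (nat_lit 3),
  Rule.mk (nat_lit 3) (nat_lit 361) (Steps.bwd (nat_lit 1) (Steps.fwd (nat_lit 8192) (Steps.fwd (nat_lit 16384) (Steps.fwd (nat_lit 28672) (Steps.bwd (nat_lit 4) (Steps.bwd (nat_lit 2) (Steps.fwd (nat_lit 4096) (Steps.fwd (nat_lit 12288) (Steps.fwd (nat_lit 8192) (Steps.bwd (nat_lit 3) (Steps.fwd (nat_lit 20480) (Steps.bwd (nat_lit 4) (Steps.bwd (nat_lit 7) (Steps.bwd (nat_lit 4) (Steps.bwd (nat_lit 2) (Steps.bwd (nat_lit 3) (Steps.bwd (nat_lit 1) (Steps.bwd (nat_lit 2) (Steps.fwd (nat_lit 20480) (Steps.fwd (nat_lit 24576) (Steps.bwd (nat_lit 9) (Steps.fwd (nat_lit 16384) (Steps.fwd (nat_lit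 24576) (Steps.fwd (nat_lit 16384) (Steps.fwd (nat_lit 8192) Steps.nil))))))))))))))))))))))))) (nat_lit 40) (nat_lit 5),
  Rule.mk (nat_lit 4) (nat_lit 445) (Steps.bwd (nat_lit 5) (Steps.bwd (nat_lit 2) (Steps.bwd (nat_lit 3) (Steps.bwd (nat_lit 4) (Steps.bwd (nat_lit 5) (Steps.bwd (nat_lit 2) (Steps.bwd (nat_lit 3) (Steps.bwd (nat_lit 4) (Steps.bwd (nat_lit 5) (Steps.bwd (nat_lit 2) (Steps.bwd (nat_lit 3) (Steps.bwd (nat_lit 4) (Steps.bwd (nat_lit 5) (Steps.fwd (nat_lit 8192) (Steps.bwd (nat_lit 3) (Steps.fwd (nat_lit 16384) (Steps.bwd (nat_lit 5) (Steps.bwd (nat_lit 2) (Steps.bwd (nat_lit 3) (Steps.fwd (nat_lit 16384) (Steps.bwd (nat_lit 5) (Steps.fwd (nat_lit 8192) (Steps.fwd (nat_lit 12288) (Steps.fwd (nat_lit 16384) (Steps.fwd (nat_lit 20480) (Steps.bwd (nat_lit 2) (Steps.fwd (nat_lit 12288) (Steps.bwd (nat_lit 4) (Steps.fwd (nat_lit 20480) (Steps.fwd (nat_lit 8192) (Steps.fwd (nat_lit 12288) Steps.nil)))))))))))))))))))))))))))))))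 (nat_lit 26) (nat_lit 3),
  Rule.mk (nat_lit 4) (nat_lit 81) (Steps.fwd (nat_lit 20480) (Steps.bwd (nat_lit 4) (Steps.bwd (nat_lit 5) (Steps.bwd (nat_lit 4) (Steps.bwd (nat_lit 5) Steps.nil))))) (nat_lit 24) (nat_lit 1),
  Rule.mk (nat_lit 3) (nat_lit 123) (Steps.bwd (nat_lit 1) (Steps.bwd (nat_lit 4) (Steps.fwd (nat_lit 12288) (Steps.bwd (nat_lit 4) (Steps.bwd (nat_lit 3) (Steps.fwd (nat_lit 16384) (Steps.fwd (nat_lit 12288) (Steps.bwd (nat_lit 4) Steps.nil)))))))) (nat_lit 20) (nat_lit 0),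
  Rule.mk (nat_lit 6) (nat_lit 361) (Steps.fwd (nat_lit 16384) (Steps.fwd (nat_lit 8192) (Steps.fwd (nat_lit 4096) (Steps.fwd (nat_lit 12288) (Steps.fwd (nat_lit 8192) (Steps.bwd (nat_lit 3) (Steps.fwd (nat_lit 20480) (Steps.fwd (nat_lit 16384) (Steps.fwd (nat_lit 24576) (Steps.bwd (nat_lit 4) (Steps.fwd (nat_lit 8192) (Steps.bwd (nat_lit 3) (Steps.bwd (nat_lit 1) (Steps.fwd (nat_lit 8192) (Steps.fwd (nat_lit 20480) (Steps.bwd (nat_lit 7) (Steps.bwd (nat_lit 9) (Steps.bwd (nat_lit 4) (Steps.fwd (nat_lit 24576) (Steps.bwd (nat_lit 4) (Steps.fwd (nat_lit 8192) (Steps.bwd (nat_lit 3) (Steps.bwd (nat_lit 1) (Steps.bwd (nat_lit 2) (Steps.bwd (nat_lit 4) Steps.nil))))))))))))))))))))))))) (nat_lit 40) (nat_lit 9),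
  Rule.mk (nat_lit 0) (nat_lit 67) (Steps.fwd (nat_lit 20480) (Steps.bwd (nat_lit 3) (Steps.bwd (nat_lit 5) (Steps.bwd (nat_lit 3) Steps.nil)))) (nat_lit 22) (nat_lit 1),
  Rule.mk (nat_lit 6) (nat_lit 151) (Steps.bwd (nat_lit 2) (Steps.bwd (nat_lit 1) (Steps.bwd (nat_lit 3) (Steps.bwd (nat_lit 2) (Steps.fwd (nat_lit 20480) (Steps.bwd (nat_lit 7) (Steps.fwd (nat_lit 8192) (Steps.fwd (nat_lit 12288) (Steps.bwd (nat_lit 1) (Steps.bwd (nat_lit 2) Steps.nil)))))))))) (nat_lit 38) (nat_lit 6),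
  Rule.mk (nat_lit 2) (nat_lit 81) (Steps.bwd (nat_lit 1) (Steps.fwd (nat_lit 8192) (Steps.bwd (nat_lit 1) (Steps.bwd (nat_lit 2) (Steps.bwd (nat_lit 1) Steps.nil))))) (nat_lit 10) (nat_lit 0),
  Rule.mk (nat_lit 2) (nat_lit 151) (Steps.bwd (nat_lit 3) (Steps.bwd (nat_lit 1) (Steps.bwd (nat_lit 2) (Steps.fwd (nat_lit 28672) (Steps.bwd (nat_lit 2) (Steps.bwd (nat_lit 1) (Steps.bwd (nat_lit 3) (Steps.bwd (nat_lit 2) (Steps.fwd (nat_lit 20480) (Steps.fwd (nat_lit 24576) Steps.nil)))))))))) (nat_lit 38) (nat_lit 2),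
  Rule.mk (nat_lit 2) (nat_lit 361) (Steps.bwd (nat_lit 3) (Steps.bwd (nat_lit 1) (Steps.bwd (nat_lit 2) (Steps.bwd (nat_lit 4) (Steps.bwd (nat_lit 6) (Steps.fwd (nat_lit 16384) (Steps.bwd (nat_lit 2) (Steps.fwd (nat_lit 4096) (Steps.fwd (nat_lit 12288) (Steps.bwd (nat_lit 2) (Steps.fwd (nat_lit 12288) (Steps.bwd (nat_lit 5) (Steps.bwd (nat_lit 4) (Steps.fwd (nat_lit 24576) (Steps.fwd (nat_lit 16384) (Steps.fwd (nat_lit 8192) (Steps.fwd (nat_lit 12288) (Steps.fwd (nat_lit 4096) (Steps.fwd (nat_lit 8192) (Steps.bwd (nat_lit 5) (Steps.bwd (nat_lit 7) (Steps.bwd (nat_lit 9) (Steps.bwd (nat_lit 4) (Steps.fwd (nat_lit 24576) (Steps.bwd (nat_lit 4) Steps.nil))))))))))))))))))))))))) (nat_lit 40) (nat_lit 4),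
  Rule.mk (nat_lit 3) (nat_lit 81) (Steps.bwd (nat_lit 2) (Steps.fwd (nat_lit 12288) (Steps.fwd (nat_lit 8192) (Steps.fwd (nat_lit 12288) (Steps.bwd (nat_lit 2) Steps.nil))))) (nat_lit 14) (nat_lit 0),
  Rule.mk (nat_lit 2) (nat_lit 151) (Steps.bwd (nat_lit 1) (Steps.bwd (nat_lit 3) (Steps.bwd (nat_lit 2) (Steps.fwd (nat_lit 20480) (Steps.bwd (nat_lit 7) (Steps.fwd (nat_lit 8192) (Steps.bwd (nat_lit 3) (Steps.fwd (nat_lit 4096) (Steps.bwd (nat_lit 2) (Steps.fwd (nat_lit 28672) Steps.nil)))))))))) (nat_lit 38) (nat_lit 7),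
  Rule.mk (nat_lit 4) (nat_lit 445) (Steps.bwd (nat_lit 5) (Steps.bwd (nat_lit 2) (Steps.bwd (nat_lit 3) (Steps.bwd (nat_lit 4) (Steps.bwd (nat_lit 5) (Steps.bwd (nat_lit 2) (Steps.bwd (nat_lit 3) (Steps.bwd (nat_lit 4) (Steps.bwd (nat_lit 5) (Steps.bwd (nat_lit 2) (Steps.bwd (nat_lit 3) (Steps.bwd (nat_lit 4) (Steps.bwd (nat_lit 5) (Steps.bwd (nat_lit 2) (Steps.bwd (nat_lit 3) (Steps.bwd (nat_lit 4) (Steps.bwd (nat_lit 5) (Steps.bwd (nat_lit 2) (Steps.bwd (nat_lit 3) (Steps.bwd (nat_lit 4) (Steps.bwd (nat_lit 5) (Steps.bwd (nat_lit 2) (Steps.bwd (nat_lit 3) (Steps.bwd (nat_lit 4) (Steps.bwd (nat_lit 5) (Steps.bwd (nat_lit 2) (Steps.bwd (nat_lit 3) (Steps.fwd (nat_lit 16384) (Steps.fwd (nat_lit 20480) (Steps.bwd (nat_lit 2) (Steps.bwd (nat_lit 3) Steps.nil))))))))))))))))))))))))))))))) (nat_lit 26) (nat_lit 3),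
  Rule.mk (nat_lit 0) (nat_lit 67) (Steps.bwd (nat_lit 4) (Steps.fwd (nat_lit 8192) (Steps.fwd (nat_lit 16384) (Steps.fwd (nat_lit 8192) Steps.nil)))) (nat_lit 16) (nat_lit 1),
  Rule.mk (nat_lit 0) (nat_lit 95) (Steps.bwd (nat_lit 2) (Steps.bwd (nat_lit 3) (Steps.bwd (nat_lit 2) (Steps.fwd (nat_lit 12288) (Steps.bwd (nat_lit 2) (Steps.bwd (nat_lit 3) Steps.nil)))))) (nat_lit 14) (nat_lit 0),
  Rule.mk (nat_lit 1) (nat_lit 151) (Steps.bwd (nat_lit 3) (Steps.bwd (nat_lit 2) (Steps.bwd (nat_lit 5) (Steps.bwd (nat_lit 7) (Steps.bwd (nat_lit 2) (Steps.fwd (nat_lit 12288) (Steps.fwd (nat_lit 4096) (Steps.fwd (nat_lit 8192) (Steps.fwd (nat_lit 28672) (Steps.bwd (nat_lit 2) Steps.nil)))))))))) (nat_lit 38) (nat_lit 8),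
  Rule.mk (nat_lit 1) (nat_lit 151) (Steps.bwd (nat_lit 3) (Steps.bwd (nat_lit 2) (Steps.bwd (nat_lit 5) (Steps.fwd (nat_lit 24576) (Steps.fwd (nat_lit 8192) (Steps.bwd (nat_lit 3) (Steps.fwd (nat_lit 4096) (Steps.bwd (nat_lit 2) (Steps.fwd (nat_lit 28672) (Steps.bwd (nat_lit 2) Steps.nil)))))))))) (nat_lit 38) (nat_lit 8),
  Rule.mk (nat_lit 5) (nat_lit 53) (Steps.bwd (nat_lit 1) (Steps.fwd (nat_lit 20480) (Steps.bwd (nat_lit 1) Steps.nil))) (nat_lit 12) (nat_lit 0),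
  Rule.mk (nat_lit 4) (nat_lit 445) (Steps.bwd (nat_lit 5) (Steps.bwd (nat_lit 2) (Steps.bwd (nat_lit 3) (Steps.bwd (nat_lit 4) (Steps.bwd (nat_lit 5) (Steps.bwd (nat_lit 2) (Steps.bwd (nat_lit 3) (Steps.bwd (nat_lit 4) (Steps.bwd (nat_lit 5) (Steps.bwd (nat_lit 2) (Steps.bwd (nat_lit 3) (Steps.bwd (nat_lit 4) (Steps.bwd (nat_lit 5) (Steps.bwd (nat_lit 2) (Steps.bwd (nat_lit 3) (Steps.bwd (nat_lit 4) (Steps.bwd (nat_lit 5) (Steps.bwd (nat_lit 2) (Steps.bwd (nat_lit 3) (Steps.bwd (nat_lit 4) (Steps.bwd (nat_lit 5) (Steps.bwd (nat_lit 2) (Steps.bwd (nat_lit 3) (Steps.bwd (nat_lit 4) (Steps.fwd (nat_lit 20480) (Steps.fwd (nat_lit 8192) (Steps.fwd (nat_lit 12288) (Steps.fwd (nat_lit 16384) (Steps.bwd (nat_lit 5) (Steps.fwd (nat_lit 8192) (Steps.bwd (nat_lit 3) Steps.nil))))))))))))))))))))))))))))))) (nat_lit 26) (nat_lit 3),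
  Rule.mk (nat_lit 4) (nat_lit 123) (Steps.bwd (nat_lit 3) (Steps.bwd (nat_lit 4) (Steps.bwd (nat_lit 3) (Steps.bwd (nat_lit 4) (Steps.bwd (nat_lit 3) (Steps.fwd (nat_lit 16384) (Steps.fwd (nat_lit 12288) (Steps.fwd (nat_lit 4096) Steps.nil)))))))) (nat_lit 20) (nat_lit 2),
  Rule.mk (nat_lit 0) (nat_lit 137) (Steps.fwd (nat_lit 12288) (Steps.fwd (nat_lit 16384) (Steps.fwd (nat_lit 12288) (Steps.bwd (nat_lit 4) (Steps.fwd (nat_lit 4096) (Steps.fwd (nat_lit 12288) (Steps.fwd (nat_lit 16384) (Steps.bwd (nat_lit 3) (Steps.bwd (nat_lit 4) Steps.nil))))))))) (nat_lit 21) (nat_lit 4),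
  Rule.mk (nat_lit 4) (nat_lit 123) (Steps.fwd (nat_lit 12288) (Steps.fwd (nat_lit 16384) (Steps.bwd (nat_lit 3) (Steps.bwd (nat_lit 4) (Steps.bwd (nat_lit 3) (Steps.fwd (nat_lit 16384) (Steps.bwd (nat_lit 1) (Steps.bwd (nat_lit 3) Steps.nil)))))))) (nat_lit 21) (nat_lit 2),
  Rule.mk (nat_lit 0) (nat_lit 137) (Steps.fwd (nat_lit 12288) (Steps.fwd (nat_lit 16384) (Steps.fwd (nat_lit 12288) (Steps.bwd (nat_lit 4) (Steps.bwd (nat_lit 3) (Steps.fwd (nat_lit 16384) (Steps.fwd (nat_lit 12288) (Steps.bwd (nat_lit 4) (Steps.fwd (nat_lit 4096) Steps.nil))))))))) (nat_lit 21) (nat_lit 0),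
  Rule.mk (nat_lit 0) (nat_lit 53) (Steps.fwd (nat_lit 4096) (Steps.bwd (nat_lit 0) (Steps.bwd (nat_lit 1) Steps.nil))) (nat_lit 54) (nat_lit 0),
  Rule.mk (nat_lit 0) (nat_lit 67) (Steps.bwd (nat_lit 5) (Steps.bwd (nat_lit 0) (Steps.fwd (nat_lit 20480) (Steps.fwd (nat_lit 0) Steps.nil)))) (nat_lit 54) (nat_lit 0),
  Rule.mk (nat_lit 0) (nat_lit 67) (Steps.fwd (nat_lit 16384) (Steps.fwd (nat_lit 0) (Steps.fwd (nat_lit 16384) (Steps.fwd (nat_lit 0) Steps.nil)))) (nat_lit 54) (nat_lit 0),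
  Rule.mk (nat_lit 0) (nat_lit 67) (Steps.bwd (nat_lit 0) (Steps.bwd (nat_lit 2) (Steps.bwd (nat_lit 0) (Steps.bwd (nat_lit 2) Steps.nil)))) (nat_lit 54) (nat_lit 0),
  Rule.mk (nat_lit 0) (nat_lit 67) (Steps.fwd (nat_lit 16384) (Steps.fwd (nat_lit 0) (Steps.bwd (nat_lit 4) (Steps.fwd (nat_lit 0) Steps.nil)))) (nat_lit 54) (nat_lit 0),
  Rule.mk (nat_lit 0) (nat_lit 67) (Steps.bwd (nat_lit 2) (Steps.fwd (nat_lit 0) (Steps.fwd (nat_lit 8192) (Steps.fwd (nat_lit 0) Steps.nil)))) (nat_lit 54) (nat_lit 0),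
  Rule.mk (nat_lit 7) (nat_lit 361) (Steps.bwd (nat_lit 4) (Steps.bwd (nat_lit 2) (Steps.fwd (nat_lit 12288) (Steps.fwd (nat_lit 4096) (Steps.bwd (nat_lit 2) (Steps.bwd (nat_lit 5) (Steps.bwd (nat_lit 7) (Steps.fwd (nat_lit 32768) (Steps.fwd (nat_lit 16384) (Steps.bwd (nat_lit 7) (Steps.bwd (nat_lit 4) (Steps.bwd (nat_lit 2) (Steps.fwd (nat_lit 12288) (Steps.fwd (nat_lit 4096) (Steps.fwd (nat_lit 8192) (Steps.fwd (nat_lit 16384) (Steps.bwd (nat_lit 6) (Steps.bwd (nat_lit 4) (Steps.fwd (nat_lit 8192) (Steps.fwd (nat_lit 4096) (Steps.bwd (nat_lit 3) (Steps.bwd (nat_lit 2) (Steps.bwd (nat_lit 3) (Steps.fwd (nat_lit 20480) (Steps.bwd (nat_lit 4) Steps.nil))))))))))))))))))))))))) (nat_lit 40) (nat_lit 18),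
  Rule.mk (nat_lit 5) (nat_lit 361) (Steps.bwd (nat_lit 3) (Steps.bwd (nat_lit 2) (Steps.fwd (nat_lit 12288) (Steps.bwd (nat_lit 1) (Steps.fwd (nat_lit 8192) (Steps.fwd (nat_lit 16384) (Steps.bwd (nat_lit 7) (Steps.bwd (nat_lit 4) (Steps.bwd (nat_lit 2) (Steps.bwd (nat_lit 1) (Steps.fwd (nat_lit 12288) (Steps.fwd (nat_lit 8192) (Steps.fwd (nat_lit 16384) (Steps.bwd (nat_lit 6) (Steps.bwd (nat_lit 4) (Steps.fwd (nat_lit 36864) (Steps.bwd (nat_lit 6) (Steps.bwd (nat_lit 5) (Steps.bwd (nat_lit 2) (Steps.bwd (nat_lit 1) (Steps.fwd (nat_lit 12288) (Steps.fwd (nat_lit 8192) (Steps.bwd (nat_lit 4) (Steps.fwd (nat_lit 28672) (Steps.fwd (nat_lit 16384) Steps.nil))))))))))))))))))))))))) (nat_lit 41) (nat_lit 11),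
  Rule.mk (nat_lit 6) (nat_lit 361) (Steps.bwd (nat_lit 5) (Steps.bwd (nat_lit 2) (Steps.bwd (nat_lit 1) (Steps.fwd (nat_lit 12288) (Steps.fwd (nat_lit 8192) (Steps.fwd (nat_lit 16384) (Steps.fwd (nat_lit 28672) (Steps.bwd (nat_lit 4) (Steps.bwd (nat_lit 5) (Steps.fwd (nat_lit 12288) (Steps.bwd (nat_lit 2) (Steps.bwd (nat_lit 3) (Steps.bwd (nat_lit 1) (Steps.bwd (nat_lit 2) (Steps.bwd (nat_lit 4) (Steps.fwd (nat_lit 24576) (Steps.bwd (nat_lit 4) (Steps.fwd (nat_lit 8192) (Steps.fwd (nat_lit 4096) (Steps.bwd (nat_lit 3) (Steps.bwd (nat_lit 2) (Steps.fwd (nat_lit 16384) (Steps.bwd (nat_lit 6) (Steps.fwd (nat_lit 16384) (Steps.bwd (nat_lit 8) Steps.nil))))))))))))))))))))))))) (nat_lit 41) (nat_lit 2),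
  Rule.mk (nat_lit 6) (nat_lit 137) (Steps.fwd (nat_lit 20480) (Steps.bwd (nat_lit 4) (Steps.bwd (nat_lit 7) (Steps.fwd (nat_lit 16384) (Steps.bwd (nat_lit 6) (Steps.bwd (nat_lit 5) (Steps.fwd (nat_lit 16384) (Steps.bwd (nat_lit 7) (Steps.fwd (nat_lit 16384) Steps.nil))))))))) (nat_lit 37) (nat_lit 3),
  Rule.mk (nat_lit 2) (nat_lit 151) (Steps.bwd (nat_lit 5) (Steps.fwd (nat_lit 24576) (Steps.fwd (nat_lit 8192) (Steps.fwd (nat_lit 12288) (Steps.bwd (nat_lit 1) (Steps.fwd (nat_lit 8192) (Steps.bwd (nat_lit 6) (Steps.fwd (nat_lit 8192) (Steps.fwd (nat_lit 4096) (Steps.bwd (nat_lit 3) Steps.nil)))))))))) (nat_lit 38) (nat_lit 10),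
  Rule.mk (nat_lit 0) (nat_lit 67) (Steps.bwd (nat_lit 4) (Steps.bwd (nat_lit 2) (Steps.bwd (nat_lit 4) (Steps.fwd (nat_lit 8192) Steps.nil)))) (nat_lit 16) (nat_lit 1),
  Rule.mk (nat_lit 5) (nat_lit 361) (Steps.fwd (nat_lit 12288) (Steps.fwd (nat_lit 8192) (Steps.bwd (nat_lit 3) (Steps.bwd (nat_lit 1) (Steps.bwd (nat_lit 2) (Steps.bwd (nat_lit 4) (Steps.bwd (nat_lit 7) (Steps.fwd (nat_lit 16384) (Steps.bwd (nat_lit 2) (Steps.bwd (nat_lit 1) (Steps.fwd (nat_lit 12288) (Steps.bwd (nat_lit 2) (Steps.bwd (nat_lit 4) (Steps.fwd (nat_lit 28672) (Steps.bwd (nat_lit 4) (Steps.fwd (nat_lit 36864) (Steps.fwd (nat_lit 28672) (Steps.fwd (nat_lit 20480) (Steps.fwd (nat_lit 8192) (Steps.bwd (nat_lit 1) (Steps.fwd (nat_lit 12288) (Steps.bwd (nat_lit 2) (Steps.fwd (nat_lit 16384) (Steps.fwd (nat_lit 28672) (Steps.bwd (nat_lit 4) Steps.nil))))))))))))))))))))))))) (nat_lit 41) (nat_lit 11),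
  Rule.mk (nat_lit 6) (nat_lit 53) (Steps.fwd (nat_lit 20480) (Steps.bwd (nat_lit 7) (Steps.bwd (nat_lit 5) Steps.nil))) (nat_lit 34) (nat_lit 3),
  Rule.mk (nat_lit 0) (nat_lit 95) (Steps.bwd (nat_lit 4) (Steps.bwd (nat_lit 5) (Steps.fwd (nat_lit 16384) (Steps.bwd (nat_lit 5) (Steps.fwd (nat_lit 16384) (Steps.fwd (nat_lit 20480) Steps.nil)))))) (nat_lit 24) (nat_lit 0),
  Rule.mk (nat_lit 7) (nat_lit 361) (Steps.fwd (nat_lit 16384) (Steps.fwd (nat_lit 8192) (Steps.bwd (nat_lit 3) (Steps.fwd (nat_lit 4096) (Steps.bwd (nat_lit 2) (Steps.bwd (nat_lit 5) (Steps.bwd (nat_lit 7) (Steps.fwd (nat_lit 32768) (Steps.bwd (nat_lit 4) (Steps.bwd (nat_lit 7) (Steps.bwd (nat_lit 4) (Steps.bwd (nat_lit 2) (Steps.fwd (nat_lit 12288) (Steps.fwd (nat_lit 4096) (Steps.fwd (nat_lit 8192) (Steps.fwd (nat_lit 16384) (Steps.fwd (nat_lit 28672) (Steps.bwd (nat_lit 4) (Steps.bwd (nat_lit 2) (Steps.bwd (nat_lit 1) (Steps.bwd (nat_lit 3) (Steps.bwd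 (nat_lit 2) (Steps.bwd (nat_lit 3) (Steps.bwd (nat_lit 5) (Steps.fwd (nat_lit 16384) Steps.nil))))))))))))))))))))))))) (nat_lit 40) (nat_lit 18),
  Rule.mk (nat_lit 6) (nat_lit 361) (Steps.bwd (nat_lit 4) (Steps.bwd (nat_lit 8) (Steps.fwd (nat_lit 28672) (Steps.bwd (nat_lit 5) (Steps.bwd (nat_lit 2) (Steps.fwd (nat_lit 4096) (Steps.fwd (nat_lit 12288) (Steps.fwd (nat_lit 8192) (Steps.fwd (nat_lit 16384) (Steps.fwd (nat_lit 28672) (Steps.fwd (nat_lit 16384) (Steps.fwd (nat_lit 20480) (Steps.fwd (nat_lit 12288) (Steps.fwd (nat_lit 8192) (Steps.bwd (nat_lit 3) (Steps.bwd (nat_lit 1) (Steps.bwd (nat_lit 2) (Steps.bwd (nat_lit 4) (Steps.bwd (nat_lit 7) (Steps.bwd (nat_lit 4) (Steps.bwd (nat_lit 2) (Steps.fwd (nat_lit 4096) (Steps.fwd (nat_lit 12288) (Steps.fwd (nat_lit 8192) (Steps.bwd (nat_lit 4) Steps.nil))))))))))))))))))))))))) (nat_lit 41) (nat_lit 25),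
  Rule.mk (nat_lit 6) (nat_lit 137) (Steps.fwd (nat_lit 16384) (Steps.bwd (nat_lit 5) (Steps.bwd (nat_lit 7) (Steps.bwd (nat_lit 4) (Steps.fwd (nat_lit 28672) (Steps.bwd (nat_lit 4) (Steps.fwd (nat_lit 20480) (Steps.bwd (nat_lit 7) (Steps.fwd (nat_lit 16384) Steps.nil))))))))) (nat_lit 36) (nat_lit 0),
  Rule.mk (nat_lit 0) (nat_lit 67) (Steps.bwd (nat_lit 7) (Steps.bwd (nat_lit 3) (Steps.bwd (nat_lit 6) (Steps.fwd (nat_lit 12288) Steps.nil)))) (nat_lit 32) (nat_lit 0),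
  Rule.mk (nat_lit 7) (nat_lit 151) (Steps.bwd (nat_lit 2) (Steps.bwd (nat_lit 3) (Steps.bwd (nat_lit 1) (Steps.fwd (nat_lit 8192) (Steps.bwd (nat_lit 6) (Steps.fwd (nat_lit 8192) (Steps.fwd (nat_lit 4096) (Steps.fwd (nat_lit 12288) (Steps.fwd (nat_lit 8192) (Steps.fwd (nat_lit 20480) Steps.nil)))))))))) (nat_lit 38) (nat_lit 1),
  Rule.mk (nat_lit 6) (nat_lit 361) (Steps.fwd (nat_lit 20480) (Steps.bwd (nat_lit 2) (Steps.bwd (nat_lit 1) (Steps.fwd (nat_lit 12288) (Steps.bwd (nat_lit 2) (Steps.bwd (nat_lit 4) (Steps.bwd (nat_lit 6) (Steps.bwd (nat_lit 4) (Steps.bwd (nat_lit 5) (Steps.bwd (nat_lit 3) (Steps.fwd (nat_lit 8192) (Steps.bwd (nat_lit 3) (Steps.fwd (nat_lit 4096) (Steps.bwd (nat_lit 2) (Steps.bwd (nat_lit 4) (Steps.fwd (nat_lit 24576) (Steps.bwd (nat_lit 4) (Steps.fwd (nat_lit 8192) (Steps.bwd (nat_lit 1) (Steps.bwd (nat_lit 3) (Steps.fwd (nat_lit 8192) (Steps.fwd (nat_lit 16384) (Steps.bwd (nat_lit 6) (Steps.fwd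 (nat_lit 16384) (Steps.fwd (nat_lit 36864) Steps.nil))))))))))))))))))))))))) (nat_lit 41) (nat_lit 2),
  Rule.mk (nat_lit 6) (nat_lit 137) (Steps.fwd (nat_lit 16384) (Steps.fwd (nat_lit 20480) (Steps.fwd (nat_lit 24576) (Steps.fwd (nat_lit 16384) (Steps.fwd (nat_lit 28672) (Steps.fwd (nat_lit 16384) (Steps.bwd (nat_lit 5) (Steps.bwd (nat_lit 7) (Steps.bwd (nat_lit 4) Steps.nil))))))))) (nat_lit 36) (nat_lit 0),
  Rule.mk (nat_lit 7) (nat_lit 361) (Steps.bwd (nat_lit 4) (Steps.bwd (nat_lit 2) (Steps.bwd (nat_lit 3) (Steps.bwd (nat_lit 1) (Steps.bwd (nat_lit 2) (Steps.bwd (nat_lit 4) (Steps.bwd (nat_lit 6) (Steps.bwd (nat_lit 4) (Steps.bwd (nat_lit 2) (Steps.bwd (nat_lit 1) (Steps.fwd (nat_lit 12288) (Steps.bwd (nat_lit 2) (Steps.bwd (nat_lit 3) (Steps.bwd (nat_lit 5) (Steps.fwd (nat_lit 16384) (Steps.bwd (nat_lit 7) (Steps.fwd (nat_lit 16384) (Steps.fwd (nat_lit 8192) (Steps.bwd (nat_lit 3) (Steps.fwd (nat_lit 4096)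 (Steps.bwd (nat_lit 2) (Steps.bwd (nat_lit 5) (Steps.bwd (nat_lit 7) (Steps.fwd (nat_lit 32768) (Steps.bwd (nat_lit 4) Steps.nil))))))))))))))))))))))))) (nat_lit 40) (nat_lit 2),
  Rule.mk (nat_lit 6) (nat_lit 53) (Steps.fwd (nat_lit 12288) (Steps.bwd (nat_lit 7) (Steps.fwd (nat_lit 12288) Steps.nil))) (nat_lit 32) (nat_lit 3),
  Rule.mk (nat_lit 4) (nat_lit 137) (Steps.fwd (nat_lit 24576) (Steps.fwd (nat_lit 16384) (Steps.bwd (nat_lit 6) (Steps.bwd (nat_lit 5) (Steps.bwd (nat_lit 4) (Steps.bwd (nat_lit 7) (Steps.bwd (nat_lit 4) (Steps.bwd (nat_lit 6) (Steps.fwd (nat_lit 20480) Steps.nil))))))))) (nat_lit 37) (nat_lit 0),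
  Rule.mk (nat_lit 6) (nat_lit 151) (Steps.bwd (nat_lit 2) (Steps.fwd (nat_lit 4096) (Steps.bwd (nat_lit 3) (Steps.bwd (nat_lit 2) (Steps.bwd (nat_lit 5) (Steps.bwd (nat_lit 7) (Steps.fwd (nat_lit 8192) (Steps.bwd (nat_lit 3) (Steps.fwd (nat_lit 4096) (Steps.bwd (nat_lit 2) Steps.nil)))))))))) (nat_lit 38) (nat_lit 6),
  Rule.mk (nat_lit 3) (nat_lit 151) (Steps.bwd (nat_lit 1) (Steps.fwd (nat_lit 8192) (Steps.bwd (nat_lit 7) (Steps.bwd (nat_lit 2) (Steps.fwd (nat_lit 4096) (Steps.bwd (nat_lit 3) (Steps.fwd (nat_lit 8192) (Steps.bwd (nat_lit 6) (Steps.bwd (nat_lit 5) (Steps.fwd (nat_lit 8192) Steps.nil)))))))))) (nat_lit 39) (nat_lit 3),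
  Rule.mk (nat_lit 5) (nat_lit 445) (Steps.fwd (nat_lit 8192) (Steps.bwd (nat_lit 3) (Steps.fwd (nat_lit 16384) (Steps.bwd (nat_lit 5) (Steps.bwd (nat_lit 2) (Steps.bwd (nat_lit 3) (Steps.bwd (nat_lit 4) (Steps.bwd (nat_lit 5) (Steps.fwd (nat_lit 8192) (Steps.bwd (nat_lit 3) (Steps.fwd (nat_lit 16384) (Steps.bwd (nat_lit 5) (Steps.fwd (nat_lit 8192) (Steps.fwd (nat_lit 12288) (Steps.bwd (nat_lit 4) (Steps.bwd (nat_lit 5) (Steps.fwd (nat_lit 8192) (Steps.fwd (nat_lit 12288) (Steps.fwd (nat_lit 16384) (Steps.fwd (nat_lit 20480) (Steps.bwd (nat_lit 2) (Steps.fwd (nat_lit 12288) (Steps.bwd (nat_lit 4) (Steps.bwd (nat_lit 5) (Steps.bwd (nat_lit 2) (Steps.fwd (nat_lit 12288) (Steps.fwd (nat_lit 16384) (Steps.bwd (nat_lit 5) (Steps.bwd (nat_lit 2) (Steps.bwd (nat_lit 3) (Steps.fwd (nat_lit 16384) Steps.nil))))))))))))))))))))))))))))))) (nat_lit 26) (nat_lit 0),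
  Rule.mk (nat_lit 2) (nat_lit 53) (Steps.bwd (nat_lit 5) (Steps.fwd (nat_lit 8192) (Steps.bwd (nat_lit 5) Steps.nil))) (nat_lit 18) (nat_lit 1),
  Rule.mk (nat_lit 0) (nat_lit 95) (Steps.bwd (nat_lit 2) (Steps.bwd (nat_lit 3) (Steps.fwd (nat_lit 8192) (Steps.bwd (nat_lit 3) (Steps.bwd (nat_lit 2) (Steps.bwd (nat_lit 3) Steps.nil)))))) (nat_lit 14) (nat_lit 0),
  Rule.mk (nat_lit 4) (nat_lit 445) (Steps.bwd (nat_lit 5) (Steps.fwd (nat_lit 8192) (Steps.bwd (nat_lit 3) (Steps.bwd (nat_lit 4) (Steps.bwd (nat_lit 5) (Steps.bwd (nat_lit 2) (Steps.bwd (nat_lit 3) (Steps.fwd (nat_lit 16384) (Steps.fwd (nat_lit 20480) (Steps.bwd (nat_lit 2) (Steps.bwd (nat_lit 3) (Steps.bwd (nat_lit 4) (Steps.fwd (nat_lit 20480) (Steps.fwd (nat_lit 8192) (Steps.fwd (nat_lit 12288) (Steps.fwd (nat_lit 16384) (Steps.fwd (nat_lit 20480) (Steps.fwd (nat_lit 8192) (Steps.fwd (nat_lit 12288) (Steps.fwd (nat_lit 16384) (Steps.bwd (nat_lit 5) (Steps.fwd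 (nat_lit 8192) (Steps.bwd (nat_lit 3) (Steps.bwd (nat_lit 4) (Steps.bwd (nat_lit 5) (Steps.fwd (nat_lit 8192) (Steps.fwd (nat_lit 12288) (Steps.bwd (nat_lit 4) (Steps.bwd (nat_lit 5) (Steps.bwd (nat_lit 2) (Steps.fwd (nat_lit 12288) Steps.nil))))))))))))))))))))))))))))))) (nat_lit 26) (nat_lit 3),
  Rule.mk (nat_lit 1) (nat_lit 81) (Steps.bwd (nat_lit 2) (Steps.bwd (nat_lit 1) (Steps.bwd (nat_lit 2) (Steps.bwd (nat_lit 1) (Steps.fwd (nat_lit 8192) Steps.nil))))) (nat_lit 10) (nat_lit 1),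
  Rule.mk (nat_lit 4) (nat_lit 123) (Steps.bwd (nat_lit 3) (Steps.fwd (nat_lit 16384) (Steps.bwd (nat_lit 1) (Steps.bwd (nat_lit 3) (Steps.bwd (nat_lit 4) (Steps.bwd (nat_lit 3) (Steps.bwd (nat_lit 4) (Steps.fwd (nat_lit 12288) Steps.nil)))))))) (nat_lit 21) (nat_lit 6),
  Rule.mk (nat_lit 1) (nat_lit 123) (Steps.fwd (nat_lit 16384) (Steps.bwd (nat_lit 3) (Steps.bwd (nat_lit 4) (Steps.bwd (nat_lit 3) (Steps.bwd (nat_lit 4) (Steps.fwd (nat_lit 12288) (Steps.bwd (nat_lit 4) (Steps.bwd (nat_lit 3) Steps.nil)))))))) (nat_lit 20) (nat_lit 1),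
  Rule.mk (nat_lit 0) (nat_lit 137) (Steps.bwd (nat_lit 3) (Steps.bwd (nat_lit 4) (Steps.fwd (nat_lit 12288) (Steps.fwd (nat_lit 16384) (Steps.bwd (nat_lit 3) (Steps.fwd (nat_lit 16384) (Steps.fwd (nat_lit 4096) (Steps.bwd (nat_lit 3) (Steps.bwd (nat_lit 4) Steps.nil))))))))) (nat_lit 21) (nat_lit 2),
  Rule.mk (nat_lit 3) (nat_lit 123) (Steps.fwd (nat_lit 16384) (Steps.bwd (nat_lit 3) (Steps.bwd (nat_lit 4) (Steps.bwd (nat_lit 3) (Steps.bwd (nat_lit 4) (Steps.fwd (nat_lit 12288) (Steps.bwd (nat_lit 4) (Steps.fwd (nat_lit 4096) Steps.nil)))))))) (nat_lit 21) (nat_lit 1)]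
noncomputable def R_18 : List (Rule) := [Rule.mk (nat_lit 3) (nat_lit 81) (Steps.bwd (nat_lit 2) (Steps.bwd (nat_lit 3) (Steps.bwd (nat_lit 2) (Steps.fwd (nat_lit 12288) (Steps.fwd (nat_lit 8192) Steps.nil))))) (nat_lit 14) (nat_lit 0),
  Rule.mk (nat_lit 0) (nat_lit 137) (Steps.bwd (nat_lit 4) (Steps.fwd (nat_lit 12288) (Steps.bwd (nat_lit 4) (Steps.bwd (nat_lit 3) (Steps.bwd (nat_lit 4) (Steps.fwd (nat_lit 12288) (Steps.bwd (nat_lit 4) (Steps.bwd (nat_lit 1) (Steps.fwd (nat_lit 12288) Steps.nil))))))))) (nat_lit 21) (nat_lit 1),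
  Rule.mk (nat_lit 7) (nat_lit 137) (Steps.fwd (nat_lit 16384) (Steps.bwd (nat_lit 6) (Steps.fwd (nat_lit 16384) (Steps.bwd (nat_lit 5) (Steps.bwd (nat_lit 7) (Steps.fwd (nat_lit 16384) (Steps.fwd (nat_lit 28672) (Steps.fwd (nat_lit 16384) (Steps.fwd (nat_lit 20480) Steps.nil))))))))) (nat_lit 36) (nat_lit 3),
  Rule.mk (nat_lit 7) (nat_lit 151) (Steps.fwd (nat_lit 8192) (Steps.bwd (nat_lit 3) (Steps.fwd (nat_lit 4096) (Steps.bwd (nat_lit 2) (Steps.bwd (nat_lit 6) (Steps.fwd (nat_lit 8192) (Steps.bwd (nat_lit 1) (Steps.fwd (nat_lit 12288) (Steps.fwd (nat_lit 8192) (Steps.fwd (nat_lit 20480) Steps.nil)))))))))) (nat_lit 38) (nat_lit 1),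
  Rule.mk (nat_lit 0) (nat_lit 67) (Steps.bwd (nat_lit 7) (Steps.bwd (nat_lit 7) (Steps.bwd (nat_lit 1) (Steps.bwd (nat_lit 3) Steps.nil)))) (nat_lit 29) (nat_lit 2),
  Rule.mk (nat_lit 0) (nat_lit 67) (Steps.bwd (nat_lit 3) (Steps.fwd (nat_lit 28672) (Steps.bwd (nat_lit 3) (Steps.bwd (nat_lit 7) Steps.nil)))) (nat_lit 32) (nat_lit 1),
  Rule.mk (nat_lit 7) (nat_lit 361) (Steps.bwd (nat_lit 9) (Steps.fwd (nat_lit 16384) (Steps.bwd (nat_lit 7) (Steps.bwd (nat_lit 4) (Steps.bwd (nat_lit 2) (Steps.bwd (nat_lit 3) (Steps.fwd (nat_lit 4096) (Steps.bwd (nat_lit 2) (Steps.fwd (nat_lit 16384) (Steps.bwd (nat_lit 6) (Steps.fwd (nat_lit 16384) (Steps.fwd (nat_lit 8192) (Steps.fwd (nat_lit 4096) (Steps.fwd (nat_lit 12288) (Steps.fwd (nat_lit 8192) (Steps.bwd (nat_lit 3) (Steps.fwd (nat_lit 20480) (Steps.fwd (nat_lit 16384) (Steps.bwd (nat_lit 7) (Steps.bwd (nat_lit 4) (Steps.bwd (nat_lit 2) (Steps.fwd (nat_lit 12288) (Steps.fwd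 (nat_lit 4096) (Steps.bwd (nat_lit 2) (Steps.bwd (nat_lit 5) Steps.nil))))))))))))))))))))))))) (nat_lit 40) (nat_lit 25),
  Rule.mk (nat_lit 6) (nat_lit 137) (Steps.fwd (nat_lit 16384) (Steps.bwd (nat_lit 5) (Steps.bwd (nat_lit 7) (Steps.fwd (nat_lit 16384) (Steps.bwd (nat_lit 6) (Steps.bwd (nat_lit 4) (Steps.fwd (nat_lit 20480) (Steps.fwd (nat_lit 24576) (Steps.bwd (nat_lit 4) Steps.nil))))))))) (nat_lit 36) (nat_lit 0),
  Rule.mk (nat_lit 7) (nat_lit 137) (Steps.bwd (nat_lit 4) (Steps.fwd (nat_lit 28672) (Steps.bwd (nat_lit 5) (Steps.fwd (nat_lit 16384) (Steps.bwd (nat_lit 7) (Steps.fwd (nat_lit 16384) (Steps.bwd (nat_lit 6) (Steps.fwd (nat_lit 20480) (Steps.fwd (nat_lit 16384) Steps.nil))))))))) (nat_lit 37) (nat_lit 1),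
  Rule.mk (nat_lit 4) (nat_lit 137) (Steps.bwd (nat_lit 5) (Steps.fwd (nat_lit 24576) (Steps.fwd (nat_lit 16384) (Steps.bwd (nat_lit 6) (Steps.fwd (nat_lit 16384) (Steps.fwd (nat_lit 20480) (Steps.bwd (nat_lit 7) (Steps.bwd (nat_lit 4) (Steps.fwd (nat_lit 28672) Steps.nil))))))))) (nat_lit 36) (nat_lit 1),
  Rule.mk (nat_lit 6) (nat_lit 137) (Steps.fwd (nat_lit 16384) (Steps.bwd (nat_lit 5) (Steps.fwd (nat_lit 24576) (Steps.fwd (nat_lit 16384) (Steps.bwd (nat_lit 6) (Steps.fwd (nat_lit 16384) (Steps.fwd (nat_lit 20480) (Steps.bwd (nat_lit 7) (Steps.bwd (nat_lit 4) Steps.nil))))))))) (nat_lit 36) (nat_lit 0),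
  Rule.mk (nat_lit 0) (nat_lit 375) (Steps.fwd (nat_lit 16384) (Steps.fwd (nat_lit 28672) (Steps.fwd (nat_lit 16384) (Steps.fwd (nat_lit 36864) (Steps.fwd (nat_lit 28672) (Steps.bwd (nat_lit 5) (Steps.bwd (nat_lit 2) (Steps.bwd (nat_lit 1) (Steps.fwd (nat_lit 12288) (Steps.fwd (nat_lit 8192) (Steps.fwd (nat_lit 16384) (Steps.fwd (nat_lit 28672) (Steps.fwd (nat_lit 16384) (Steps.bwd (nat_lit 5) (Steps.fwd (nat_lit 12288) (Steps.fwd (nat_lit 8192) (Steps.fwd (nat_lit 12288) (Steps.bwd (nat_lit 1) (Steps.fwd (nat_lit 8192) (Steps.bwd (nat_lit 4) (Steps.fwd (nat_lit 24576) (Steps.fwd (nat_lit 16384) (Steps.bwd (nat_lit 2) (Steps.bwd (nat_lit 1) (Steps.bwd (nat_lit 3) (Steps.fwd (nat_lit 8192) Steps.nil)))))))))))))))))))))))))) (nat_lit 41) (nat_lit 23),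
  Rule.mk (nat_lit 7) (nat_lit 361) (Steps.bwd (nat_lit 4) (Steps.fwd (nat_lit 8192) (Steps.bwd (nat_lit 3) (Steps.bwd (nat_lit 1) (Steps.fwd (nat_lit 8192) (Steps.bwd (nat_lit 4) (Steps.fwd (nat_lit 28672) (Steps.bwd (nat_lit 4) (Steps.bwd (nat_lit 2) (Steps.bwd (nat_lit 1) (Steps.bwd (nat_lit 3) (Steps.fwd (nat_lit 8192) (Steps.fwd (nat_lit 12288) (Steps.bwd (nat_lit 5) (Steps.fwd (nat_lit 16384) (Steps.bwd (nat_lit 7) (Steps.fwd (nat_lit 16384) (Steps.fwd (nat_lit 8192) (Steps.fwd (nat_lit 12288) (Steps.fwd (nat_lit 4096) (Steps.fwd (nat_lit 8192) (Steps.bwd (nat_lit 5) (Steps.fwd (nat_lit 24576) (Steps.bwd (nat_lit 9) (Steps.bwd (nat_lit 4) Steps.nil))))))))))))))))))))))))) (nat_lit 40) (nat_lit 2),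
  Rule.mk (nat_lit 6) (nat_lit 361) (Steps.fwd (nat_lit 20480) (Steps.fwd (nat_lit 8192) (Steps.bwd (nat_lit 1) (Steps.bwd (nat_lit 3) (Steps.fwd (nat_lit 8192) (Steps.fwd (nat_lit 16384) (Steps.fwd (nat_lit 28672) (Steps.fwd (nat_lit 16384) (Steps.fwd (nat_lit 20480) (Steps.fwd (nat_lit 12288) (Steps.bwd (nat_lit 2) (Steps.bwd (nat_lit 3) (Steps.fwd (nat_lit 4096) (Steps.bwd (nat_lit 2) (Steps.fwd (nat_lit 16384) (Steps.fwd (nat_lit 24576) (Steps.fwd (nat_lit 16384) (Steps.bwd (nat_lit 2) (Steps.bwd (nat_lit 1) (Steps.fwd (nat_lit 12288) (Steps.bwd (nat_lit 2) (Steps.bwd (nat_lit 4) (Steps.bwd (nat_lit 6) (Steps.fwd (nat_lit 16384) (Steps.bwd (nat_lit 8) Steps.nil))))))))))))))))))))))))) (nat_lit 41) (nat_lit 2),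
  Rule.mk (nat_lit 7) (nat_lit 361) (Steps.fwd (nat_lit 16384) (Steps.fwd (nat_lit 8192) (Steps.fwd (nat_lit 4096) (Steps.fwd (nat_lit 12288) (Steps.fwd (nat_lit 8192) (Steps.bwd (nat_lit 4) (Steps.bwd (nat_lit 6) (Steps.fwd (nat_lit 16384) (Steps.fwd (nat_lit 36864) (Steps.fwd (nat_lit 28672) (Steps.fwd (nat_lit 20480) (Steps.bwd (nat_lit 2) (Steps.bwd (nat_lit 1) (Steps.bwd (nat_lit 3) (Steps.bwd (nat_lit 2) (Steps.fwd (nat_lit 16384) (Steps.fwd (nat_lit 28672) (Steps.bwd (nat_lit 4) (Steps.fwd (nat_lit 20480) (Steps.bwd (nat_lit 3) (Steps.bwd (nat_lit 2) (Steps.bwd (nat_lit 3) (Steps.bwd (nat_lit 1) (Steps.bwd (nat_lit 2) (Steps.bwd (nat_lit 4) Steps.nil))))))))))))))))))))))))) (nat_lit 41) (nat_lit 18),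
  Rule.mk (nat_lit 6) (nat_lit 361) (Steps.fwd (nat_lit 16384) (Steps.bwd (nat_lit 8) (Steps.fwd (nat_lit 28672) (Steps.bwd (nat_lit 5) (Steps.fwd (nat_lit 8192) (Steps.bwd (nat_lit 1) (Steps.fwd (nat_lit 12288) (Steps.fwd (nat_lit 8192) (Steps.bwd (nat_lit 4) (Steps.fwd (nat_lit 28672) (Steps.bwd (nat_lit 4) (Steps.bwd (nat_lit 5) (Steps.bwd (nat_lit 3) (Steps.bwd (nat_lit 2) (Steps.bwd (nat_lit 3) (Steps.bwd (nat_lit 1) (Steps.bwd (nat_lit 2) (Steps.fwd (nat_lit 16384) (Steps.fwd (nat_lit 24576) (Steps.fwd (nat_lit 16384) (Steps.fwd (nat_lit 8192) (Steps.bwd (nat_lit 1) (Steps.bwd (nat_lit 3) (Steps.fwd (nat_lit 8192) (Steps.fwd (nat_lit 16384) Steps.nil))))))))))))))))))))))))) (nat_lit 41) (nat_lit 25),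
  Rule.mk (nat_lit 7) (nat_lit 137) (Steps.bwd (nat_lit 4) (Steps.bwd (nat_lit 6) (Steps.bwd (nat_lit 4) (Steps.fwd (nat_lit 20480) (Steps.bwd (nat_lit 7) (Steps.fwd (nat_lit 16384) (Steps.fwd (nat_lit 28672) (Steps.fwd (nat_lit 16384) (Steps.bwd (nat_lit 5) Steps.nil))))))))) (nat_lit 36) (nat_lit 3),
  Rule.mk (nat_lit 6) (nat_lit 361) (Steps.fwd (nat_lit 16384) (Steps.fwd (nat_lit 20480) (Steps.bwd (nat_lit 3) (Steps.bwd (nat_lit 2) (Steps.fwd (nat_lit 12288) (Steps.fwd (nat_lit 4096) (Steps.fwd (nat_lit 8192) (Steps.bwd (nat_lit 4) (Steps.fwd (nat_lit 24576) (Steps.fwd (nat_lit 16384) (Steps.bwd (nat_lit 2) (Steps.fwd (nat_lit 4096) (Steps.fwd (nat_lit 12288) (Steps.bwd (nat_lit 2) (Steps.fwd (nat_lit 16384) (Steps.fwd (nat_lit 28672) (Steps.fwd (nat_lit 16384) (Steps.bwd (nat_lit 8) (Steps.fwd (nat_lit 28672) (Steps.bwd (nat_lit 5) (Steps.bwd (nat_lit 2) (Steps.fwd (nat_lit 4096) (Steps.fwd (nat_lit 12288) (Steps.fwd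 (nat_lit 8192) (Steps.fwd (nat_lit 16384) Steps.nil))))))))))))))))))))))))) (nat_lit 41) (nat_lit 9),
  Rule.mk (nat_lit 6) (nat_lit 361) (Steps.bwd (nat_lit 4) (Steps.fwd (nat_lit 36864) (Steps.bwd (nat_lit 6) (Steps.bwd (nat_lit 5) (Steps.bwd (nat_lit 2) (Steps.fwd (nat_lit 4096) (Steps.fwd (nat_lit 12288) (Steps.bwd (nat_lit 2) (Steps.fwd (nat_lit 16384) (Steps.fwd (nat_lit 28672) (Steps.fwd (nat_lit 16384) (Steps.bwd (nat_lit 5) (Steps.fwd (nat_lit 12288) (Steps.bwd (nat_lit 2) (Steps.fwd (nat_lit 12288) (Steps.fwd (nat_lit 4096) (Steps.fwd (nat_lit 8192) (Steps.fwd (nat_lit 16384) (Steps.fwd (nat_lit 24576) (Steps.fwd (nat_lit 16384) (Steps.fwd (nat_lit 8192) (Steps.fwd (nat_lit 4096) (Steps.bwd (nat_lit 3) (Steps.bwd (nat_lit 2) (Steps.fwd (nat_lit 16384) Steps.nil))))))))))))))))))))))))) (nat_lit 41) (nat_lit 25),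
  Rule.mk (nat_lit 4) (nat_lit 137) (Steps.fwd (nat_lit 20480) (Steps.fwd (nat_lit 24576) (Steps.fwd (nat_lit 16384) (Steps.bwd (nat_lit 6) (Steps.bwd (nat_lit 4) (Steps.fwd (nat_lit 20480) (Steps.fwd (nat_lit 24576) (Steps.bwd (nat_lit 4) (Steps.bwd (nat_lit 6) Steps.nil))))))))) (nat_lit 36) (nat_lit 1),
  Rule.mk (nat_lit 7) (nat_lit 361) (Steps.fwd (nat_lit 32768) (Steps.fwd (nat_lit 16384) (Steps.fwd (nat_lit 24576) (Steps.bwd (nat_lit 4) (Steps.fwd (nat_lit 8192) (Steps.fwd (nat_lit 12288) (Steps.bwd (nat_lit 1) (Steps.fwd (nat_lit 8192) (Steps.bwd (nat_lit 4) (Steps.bwd (nat_lit 6) (Steps.bwd (nat_lit 4) (Steps.fwd (nat_lit 8192) (Steps.fwd (nat_lit 4096) (Steps.bwd (nat_lit 3) (Steps.bwd (nat_lit 2) (Steps.fwd (nat_lit 12288) (Steps.bwd (nat_lit 5) (Steps.fwd (nat_lit 16384) (Steps.fwd (nat_lit 24576) (Steps.fwd (nat_lit 16384) (Steps.fwd (nat_lit 8192) (Steps.fwd (nat_lit 12288) (Steps.fwd (nat_lit 4096)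 (Steps.fwd (nat_lit 8192) (Steps.fwd (nat_lit 20480) Steps.nil))))))))))))))))))))))))) (nat_lit 40) (nat_lit 25),
  Rule.mk (nat_lit 6) (nat_lit 361) (Steps.fwd (nat_lit 16384) (Steps.bwd (nat_lit 2) (Steps.fwd (nat_lit 4096) (Steps.fwd (nat_lit 12288) (Steps.fwd (nat_lit 8192) (Steps.bwd (nat_lit 3) (Steps.bwd (nat_lit 5) (Steps.fwd (nat_lit 16384) (Steps.bwd (nat_lit 7) (Steps.fwd (nat_lit 16384) (Steps.bwd (nat_lit 2) (Steps.fwd (nat_lit 12288) (Steps.fwd (nat_lit 4096) (Steps.fwd (nat_lit 8192) (Steps.fwd (nat_lit 20480) (Steps.bwd (nat_lit 7) (Steps.fwd (nat_lit 32768) (Steps.bwd (nat_lit 4) (Steps.fwd (nat_lit 24576) (Steps.bwd (nat_lit 4) (Steps.fwd (nat_lit 8192) (Steps.fwd (nat_lit 12288) (Steps.bwd (nat_lit 1) (Steps.fwd (nat_lit 8192) (Steps.bwd (nat_lit 4) Steps.nil))))))))))))))))))))))))) (nat_lit 40) (nat_lit 9),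
  Rule.mk (nat_lit 7) (nat_lit 361) (Steps.bwd (nat_lit 9) (Steps.bwd (nat_lit 4) (Steps.fwd (nat_lit 24576) (Steps.fwd (nat_lit 16384) (Steps.fwd (nat_lit 8192) (Steps.bwd (nat_lit 3) (Steps.fwd (nat_lit 4096) (Steps.fwd (nat_lit 8192) (Steps.bwd (nat_lit 4) (Steps.fwd (nat_lit 28672) (Steps.bwd (nat_lit 4) (Steps.fwd (nat_lit 8192) (Steps.fwd (nat_lit 4096) (Steps.fwd (nat_lit 12288) (Steps.fwd (nat_lit 8192) (Steps.fwd (nat_lit 12288) (Steps.fwd (nat_lit 20480) (Steps.fwd (nat_lit 16384) (Steps.bwd (nat_lit 7) (Steps.bwd (nat_lit 4) (Steps.fwd (nat_lit 8192) (Steps.fwd (nat_lit 12288) (Steps.fwd (nat_lit 4096) (Steps.bwd (nat_lit 2) (Steps.bwd (nat_lit 5) Steps.nil))))))))))))))))))))))))) (nat_lit 40) (nat_lit 25),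
  Rule.mk (nat_lit 7) (nat_lit 137) (Steps.fwd (nat_lit 16384) (Steps.fwd (nat_lit 28672) (Steps.bwd (nat_lit 5) (Steps.bwd (nat_lit 4) (Steps.fwd (nat_lit 24576) (Steps.fwd (nat_lit 16384) (Steps.fwd (nat_lit 28672) (Steps.fwd (nat_lit 20480) (Steps.fwd (nat_lit 16384) Steps.nil))))))))) (nat_lit 37) (nat_lit 1),
  Rule.mk (nat_lit 6) (nat_lit 151) (Steps.fwd (nat_lit 8192) (Steps.bwd (nat_lit 1) (Steps.fwd (nat_lit 12288) (Steps.fwd (nat_lit 8192) (Steps.fwd (nat_lit 20480) (Steps.bwd (nat_lit 7) (Steps.fwd (nat_lit 8192) (Steps.fwd (nat_lit 12288) (Steps.fwd (nat_lit 4096) (Steps.bwd (nat_lit 2) Steps.nil)))))))))) (nat_lit 38) (nat_lit 6),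
  Rule.mk (nat_lit 6) (nat_lit 361) (Steps.bwd (nat_lit 4) (Steps.bwd (nat_lit 8) (Steps.bwd (nat_lit 6) (Steps.bwd (nat_lit 5) (Steps.bwd (nat_lit 2) (Steps.bwd (nat_lit 1) (Steps.fwd (nat_lit 12288) (Steps.fwd (nat_lit 8192) (Steps.fwd (nat_lit 16384) (Steps.bwd (nat_lit 6) (Steps.bwd (nat_lit 4) (Steps.fwd (nat_lit 20480) (Steps.bwd (nat_lit 3) (Steps.fwd (nat_lit 8192) (Steps.bwd (nat_lit 3) (Steps.fwd (nat_lit 4096) (Steps.bwd (nat_lit 2) (Steps.bwd (nat_lit 4) (Steps.bwd (nat_lit 7) (Steps.bwd (nat_lit 4) (Steps.bwd (nat_lit 2) (Steps.fwd (nat_lit 4096) (Steps.bwd (nat_lit 3) (Steps.bwd (nat_lit 2) (Steps.fwd (nat_lit 16384) Steps.nil))))))))))))))))))))))))) (nat_lit 41) (nat_lit 25),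
  Rule.mk (nat_lit 7) (nat_lit 137) (Steps.fwd (nat_lit 16384) (Steps.bwd (nat_lit 6) (Steps.bwd (nat_lit 4) (Steps.fwd (nat_lit 20480) (Steps.fwd (nat_lit 24576) (Steps.bwd (nat_lit 4) (Steps.fwd (nat_lit 28672) (Steps.fwd (nat_lit 16384) (Steps.bwd (nat_lit 5) Steps.nil))))))))) (nat_lit 36) (nat_lit 3),
  Rule.mk (nat_lit 6) (nat_lit 361) (Steps.fwd (nat_lit 16384) (Steps.bwd (nat_lit 8) (Steps.bwd (nat_lit 6) (Steps.fwd (nat_lit 20480) (Steps.bwd (nat_lit 2) (Steps.fwd (nat_lit 4096) (Steps.bwd (nat_lit 3) (Steps.fwd (nat_lit 8192) (Steps.bwd (nat_lit 4) (Steps.bwd (nat_lit 6) (Steps.bwd (nat_lit 4) (Steps.bwd (nat_lit 5) (Steps.fwd (nat_lit 12288) (Steps.fwd (nat_lit 8192) (Steps.bwd (nat_lit 3) (Steps.fwd (nat_lit 4096) (Steps.bwd (nat_lit 2) (Steps.bwd (nat_lit 4) (Steps.bwd (nat_lit 7) (Steps.bwd (nat_lit 4) (Steps.fwd (nat_lit 8192) (Steps.fwd (nat_lit 4096) (Steps.bwd (nat_lit 3) (Steps.fwd (nat_lit 8192)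 (Steps.bwd (nat_lit 4) Steps.nil))))))))))))))))))))))))) (nat_lit 41) (nat_lit 25),
  Rule.mk (nat_lit 7) (nat_lit 151) (Steps.bwd (nat_lit 2) (Steps.fwd (nat_lit 12288) (Steps.fwd (nat_lit 4096) (Steps.bwd (nat_lit 2) (Steps.bwd (nat_lit 6) (Steps.fwd (nat_lit 8192) (Steps.bwd (nat_lit 1) (Steps.bwd (nat_lit 3) (Steps.fwd (nat_lit 8192) (Steps.bwd (nat_lit 5) Steps.nil)))))))))) (nat_lit 38) (nat_lit 1),
  Rule.mk (nat_lit 7) (nat_lit 151) (Steps.bwd (nat_lit 2) (Steps.fwd (nat_lit 12288) (Steps.bwd (nat_lit 1) (Steps.fwd (nat_lit 8192) (Steps.bwd (nat_lit 6) (Steps.bwd (nat_lit 2) (Steps.bwd (nat_lit 1) (Steps.bwd (nat_lit 3) (Steps.bwd (nat_lit 2) (Steps.fwd (nat_lit 20480) Steps.nil)))))))))) (nat_lit 38) (nat_lit 1),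
  Rule.mk (nat_lit 6) (nat_lit 137) (Steps.fwd (nat_lit 20480) (Steps.bwd (nat_lit 4) (Steps.fwd (nat_lit 24576) (Steps.bwd (nat_lit 4) (Steps.bwd (nat_lit 6) (Steps.bwd (nat_lit 5) (Steps.fwd (nat_lit 16384) (Steps.bwd (nat_lit 7) (Steps.bwd (nat_lit 4) Steps.nil))))))))) (nat_lit 37) (nat_lit 3),
  Rule.mk (nat_lit 6) (nat_lit 361) (Steps.bwd (nat_lit 5) (Steps.bwd (nat_lit 2) (Steps.bwd (nat_lit 1) (Steps.bwd (nat_lit 3) (Steps.bwd (nat_lit 2) (Steps.fwd (nat_lit 16384) (Steps.bwd (nat_lit 6) (Steps.bwd (nat_lit 4) (Steps.bwd (nat_lit 5) (Steps.bwd (nat_lit 3) (Steps.bwd (nat_lit 2) (Steps.fwd (nat_lit 12288) (Steps.fwd (nat_lit 4096) (Steps.fwd (nat_lit 8192) (Steps.fwd (nat_lit 16384) (Steps.bwd (nat_lit 7) (Steps.fwd (nat_lit 16384) (Steps.fwd (nat_lit 8192) (Steps.bwd (nat_lit 1) (Steps.bwd (nat_lit 3) (Steps.fwd (nat_lit 8192) (Steps.bwd (nat_lit 4) (Steps.bwd (nat_lit 6) (Steps.bwd (nat_lit 4) (Steps.fwd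 (nat_lit 36864) Steps.nil))))))))))))))))))))))))) (nat_lit 41) (nat_lit 2),
  Rule.mk (nat_lit 2) (nat_lit 151) (Steps.fwd (nat_lit 4096) (Steps.bwd (nat_lit 3) (Steps.fwd (nat_lit 8192) (Steps.bwd (nat_lit 5) (Steps.bwd (nat_lit 7) (Steps.bwd (nat_lit 2) (Steps.fwd (nat_lit 12288) (Steps.fwd (nat_lit 4096) (Steps.bwd (nat_lit 2) (Steps.fwd (nat_lit 28672) Steps.nil)))))))))) (nat_lit 38) (nat_lit 7),
  Rule.mk (nat_lit 7) (nat_lit 361) (Steps.bwd (nat_lit 4) (Steps.bwd (nat_lit 2) (Steps.fwd (nat_lit 12288) (Steps.fwd (nat_lit 4096) (Steps.bwd (nat_lit 2) (Steps.bwd (nat_lit 5) (Steps.bwd (nat_lit 7) (Steps.fwd (nat_lit 32768) (Steps.fwd (nat_lit 16384) (Steps.fwd (nat_lit 24576) (Steps.bwd (nat_lit 4) (Steps.bwd (nat_lit 2) (Steps.bwd (nat_lit 3) (Steps.bwd (nat_lit 1) (Steps.fwd (nat_lit 8192) (Steps.bwd (nat_lit 4) (Steps.fwd (nat_lit 28672) (Steps.fwd (nat_lit 16384) (Steps.bwd (nat_lit 2) (Steps.bwd (nat_lit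 1) (Steps.bwd (nat_lit 3) (Steps.fwd (nat_lit 8192) (Steps.fwd (nat_lit 12288) (Steps.bwd (nat_lit 5) (Steps.bwd (nat_lit 4) Steps.nil))))))))))))))))))))))))) (nat_lit 40) (nat_lit 18),
  Rule.mk (nat_lit 6) (nat_lit 361) (Steps.bwd (nat_lit 4) (Steps.bwd (nat_lit 2) (Steps.bwd (nat_lit 1) (Steps.fwd (nat_lit 12288) (Steps.bwd (nat_lit 2) (Steps.bwd (nat_lit 3) (Steps.bwd (nat_lit 5) (Steps.fwd (nat_lit 16384) (Steps.fwd (nat_lit 24576) (Steps.fwd (nat_lit 16384) (Steps.fwd (nat_lit 8192) (Steps.fwd (nat_lit 12288) (Steps.bwd (nat_lit 1) (Steps.bwd (nat_lit 2) (Steps.bwd (nat_lit 5) (Steps.fwd (nat_lit 24576) (Steps.fwd (nat_lit 32768) (Steps.bwd (nat_lit 4) (Steps.fwd (nat_lit 24576) (Steps.bwd (nat_lit 4) (Steps.fwd (nat_lit 8192) (Steps.fwd (nat_lit 12288) (Steps.fwd (nat_lit 4096) (Steps.fwd (nat_lit 8192) (Steps.fwd (nat_lit 16384) Steps.nil))))))))))))))))))))))))) (nat_lit 40) (nat_lit 9),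
  Rule.mk (nat_lit 7) (nat_lit 361) (Steps.fwd (nat_lit 16384) (Steps.fwd (nat_lit 8192) (Steps.fwd (nat_lit 12288) (Steps.bwd (nat_lit 1) (Steps.fwd (nat_lit 8192) (Steps.fwd (nat_lit 20480) (Steps.bwd (nat_lit 7) (Steps.fwd (nat_lit 32768) (Steps.bwd (nat_lit 4) (Steps.bwd (nat_lit 7) (Steps.fwd (nat_lit 16384) (Steps.bwd (nat_lit 2) (Steps.fwd (nat_lit 12288) (Steps.bwd (nat_lit 1) (Steps.bwd (nat_lit 2) (Steps.bwd (nat_lit 4) (Steps.fwd (nat_lit 28672) (Steps.bwd (nat_lit 4) (Steps.bwd (nat_lit 2) (Steps.fwd (nat_lit 4096) (Steps.bwd (nat_lit 3) (Steps.fwd (nat_lit 8192) (Steps.fwd (nat_lit 12288) (Steps.fwd (nat_lit 20480) (Steps.fwd (nat_lit 16384) Steps.nil))))))))))))))))))))))))) (nat_lit 40) (nat_lit 18),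
  Rule.mk (nat_lit 6) (nat_lit 361) (Steps.bwd (nat_lit 4) (Steps.bwd (nat_lit 2) (Steps.bwd (nat_lit 1) (Steps.fwd (nat_lit 12288) (Steps.fwd (nat_lit 8192) (Steps.bwd (nat_lit 3) (Steps.fwd (nat_lit 20480) (Steps.bwd (nat_lit 4) (Steps.fwd (nat_lit 24576) (Steps.bwd (nat_lit 4) (Steps.fwd (nat_lit 8192) (Steps.fwd (nat_lit 12288) (Steps.fwd (nat_lit 4096) (Steps.fwd (nat_lit 8192) (Steps.fwd (nat_lit 20480) (Steps.fwd (nat_lit 24576) (Steps.bwd (nat_lit 9) (Steps.fwd (nat_lit 16384) (Steps.fwd (nat_lit 24576) (Steps.bwd (nat_lit 4) (Steps.bwd (nat_lit 2) (Steps.bwd (nat_lit 3) (Steps.bwd (nat_lit 1) (Steps.fwd (nat_lit 8192) (Steps.fwd (nat_lit 16384) Steps.nil))))))))))))))))))))))))) (nat_lit 40) (nat_lit 9),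
  Rule.mk (nat_lit 7) (nat_lit 151) (Steps.bwd (nat_lit 2) (Steps.fwd (nat_lit 12288) (Steps.bwd (nat_lit 1) (Steps.fwd (nat_lit 8192) (Steps.bwd (nat_lit 6) (Steps.fwd (nat_lit 8192) (Steps.fwd (nat_lit 4096) (Steps.bwd (nat_lit 3) (Steps.fwd (nat_lit 8192) (Steps.fwd (nat_lit 20480) Steps.nil)))))))))) (nat_lit 38) (nat_lit 1),
  Rule.mk (nat_lit 4) (nat_lit 137) (Steps.bwd (nat_lit 6) (Steps.fwd (nat_lit 16384) (Steps.fwd (nat_lit 20480) (Steps.bwd (nat_lit 7) (Steps.fwd (nat_lit 16384) (Steps.fwd (nat_lit 28672) (Steps.fwd (nat_lit 16384) (Steps.fwd (nat_lit 20480) (Steps.fwd (nat_lit 24576) Steps.nil))))))))) (nat_lit 36) (nat_lit 4),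
  Rule.mk (nat_lit 6) (nat_lit 361) (Steps.fwd (nat_lit 20480) (Steps.bwd (nat_lit 2) (Steps.fwd (nat_lit 4096) (Steps.fwd (nat_lit 12288) (Steps.bwd (nat_lit 2) (Steps.bwd (nat_lit 4) (Steps.bwd (nat_lit 6) (Steps.bwd (nat_lit 4) (Steps.bwd (nat_lit 5) (Steps.fwd (nat_lit 12288) (Steps.fwd (nat_lit 8192) (Steps.fwd (nat_lit 12288) (Steps.bwd (nat_lit 1) (Steps.bwd (nat_lit 2) (Steps.bwd (nat_lit 4) (Steps.bwd (nat_lit 7) (Steps.bwd (nat_lit 4) (Steps.bwd (nat_lit 2) (Steps.bwd (nat_lit 1) (Steps.fwd (nat_lit 12288) (Steps.fwd (nat_lit 8192) (Steps.fwd (nat_lit 16384) (Steps.bwd (nat_lit 6) (Steps.bwd (nat_lit 4) (Steps.bwd (nat_lit 8) Steps.nil))))))))))))))))))))))))) (nat_lit 41) (nat_lit 2),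
  Rule.mk (nat_lit 6) (nat_lit 137) (Steps.bwd (nat_lit 5) (Steps.fwd (nat_lit 16384) (Steps.fwd (nat_lit 24576) (Steps.fwd (nat_lit 16384) (Steps.fwd (nat_lit 28672) (Steps.fwd (nat_lit 20480) (Steps.fwd (nat_lit 16384) (Steps.bwd (nat_lit 7) (Steps.fwd (nat_lit 16384) Steps.nil))))))))) (nat_lit 37) (nat_lit 3),
  Rule.mk (nat_lit 7) (nat_lit 137) (Steps.fwd (nat_lit 16384) (Steps.bwd (nat_lit 6) (Steps.fwd (nat_lit 16384) (Steps.bwd (nat_lit 5) (Steps.fwd (nat_lit 24576) (Steps.fwd (nat_lit 16384) (Steps.fwd (nat_lit 28672) (Steps.fwd (nat_lit 16384) (Steps.bwd (nat_lit 5) Steps.nil))))))))) (nat_lit 36) (nat_lit 3),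
  Rule.mk (nat_lit 7) (nat_lit 361) (Steps.bwd (nat_lit 4) (Steps.bwd (nat_lit 2) (Steps.fwd (nat_lit 4096) (Steps.fwd (nat_lit 12288) (Steps.bwd (nat_lit 2) (Steps.fwd (nat_lit 16384) (Steps.fwd (nat_lit 28672) (Steps.fwd (nat_lit 16384) (Steps.fwd (nat_lit 36864) (Steps.fwd (nat_lit 28672) (Steps.bwd (nat_lit 5) (Steps.fwd (nat_lit 8192) (Steps.bwd (nat_lit 1) (Steps.fwd (nat_lit 12288) (Steps.fwd (nat_lit 8192) (Steps.fwd (nat_lit 16384) (Steps.bwd (nat_lit 6) (Steps.fwd (nat_lit 16384) (Steps.bwd (nat_lit 5) (Steps.fwd (nat_lit 12288) (Steps.fwd (nat_lit 8192) (Steps.bwd (nat_lit 3) (Steps.fwd (nat_lit 4096) (Steps.bwd (nat_lit 2) (Steps.bwd (nat_lit 4) Steps.nil))))))))))))))))))))))))) (nat_lit 41) (nat_lit 18),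
  Rule.mk (nat_lit 3) (nat_lit 53) (Steps.fwd (nat_lit 24576) (Steps.bwd (nat_lit 7) (Steps.fwd (nat_lit 4096) Steps.nil))) (nat_lit 29) (nat_lit 2),
  Rule.mk (nat_lit 4) (nat_lit 137) (Steps.bwd (nat_lit 6) (Steps.fwd (nat_lit 20480) (Steps.fwd (nat_lit 16384) (Steps.bwd (nat_lit 7) (Steps.bwd (nat_lit 4) (Steps.fwd (nat_lit 28672) (Steps.fwd (nat_lit 20480) (Steps.bwd (nat_lit 4) (Steps.bwd (nat_lit 7) Steps.nil))))))))) (nat_lit 37) (nat_lit 2),
  Rule.mk (nat_lit 4) (nat_lit 123) (Steps.bwd (nat_lit 3) (Steps.bwd (nat_lit 4) (Steps.bwd (nat_lit 3) (Steps.fwd (nat_lit 16384) (Steps.fwd (nat_lit 12288) (Steps.bwd (nat_lit 4) (Steps.bwd (nat_lit 3) (Steps.bwd (nat_lit 1) Steps.nil)))))))) (nat_lit 20) (nat_lit 2),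
  Rule.mk (nat_lit 7) (nat_lit 137) (Steps.bwd (nat_lit 4) (Steps.bwd (nat_lit 6) (Steps.fwd (nat_lit 20480) (Steps.fwd (nat_lit 16384) (Steps.bwd (nat_lit 7) (Steps.bwd (nat_lit 4) (Steps.fwd (nat_lit 28672) (Steps.bwd (nat_lit 5) (Steps.bwd (nat_lit 4) Steps.nil))))))))) (nat_lit 37) (nat_lit 1),
  Rule.mk (nat_lit 6) (nat_lit 137) (Steps.fwd (nat_lit 20480) (Steps.bwd (nat_lit 4) (Steps.bwd (nat_lit 7) (Steps.fwd (nat_lit 16384) (Steps.bwd (nat_lit 6) (Steps.bwd (nat_lit 5) (Steps.bwd (nat_lit 4) (Steps.fwd (nat_lit 24576) (Steps.bwd (nat_lit 4) Steps.nil))))))))) (nat_lit 37) (nat_lit 3),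
  Rule.mk (nat_lit 2) (nat_lit 361) (Steps.bwd (nat_lit 1) (Steps.bwd (nat_lit 3) (Steps.fwd (nat_lit 8192) (Steps.fwd (nat_lit 12288) (Steps.bwd (nat_lit 5) (Steps.bwd (nat_lit 4) (Steps.fwd (nat_lit 24576) (Steps.fwd (nat_lit 16384) (Steps.fwd (nat_lit 8192) (Steps.fwd (nat_lit 12288) (Steps.fwd (nat_lit 4096) (Steps.bwd (nat_lit 2) (Steps.fwd (nat_lit 20480) (Steps.bwd (nat_lit 7) (Steps.bwd (nat_lit 9) (Steps.bwd (nat_lit 4) (Steps.fwd (nat_lit 24576) (Steps.bwd (nat_lit 4) (Steps.bwd (nat_lit 2) (Steps.bwd (nat_lit 3) (Steps.bwd (nat_lit 1) (Steps.fwd (nat_lit 8192) (Steps.bwd (nat_lit 4) (Steps.fwd (nat_lit 28672) (Steps.fwd (nat_lit 16384) Steps.nil))))))))))))))))))))))))) (nat_lit 40) (nat_lit 11),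
  Rule.mk (nat_lit 3) (nat_lit 445) (Steps.bwd (nat_lit 4) (Steps.bwd (nat_lit 5) (Steps.bwd (nat_lit 2) (Steps.fwd (nat_lit 12288) (Steps.fwd (nat_lit 16384) (Steps.fwd (nat_lit 20480) (Steps.bwd (nat_lit 2) (Steps.bwd (nat_lit 3) (Steps.bwd (nat_lit 4) (Steps.fwd (nat_lit 20480) (Steps.bwd (nat_lit 2) (Steps.bwd (nat_lit 3) (Steps.bwd (nat_lit 4) (Steps.fwd (nat_lit 20480) (Steps.bwd (nat_lit 2) (Steps.fwd (nat_lit 12288) (Steps.bwd (nat_lit 4) (Steps.fwd (nat_lit 20480) (Steps.bwd (nat_lit 2) (Steps.bwd (nat_lit 3) (Steps.bwd (nat_lit 4) (Steps.fwd (nat_lit 20480) (Steps.fwd (nat_lit 8192) (Steps.fwd (nat_lit 12288) (Steps.fwd (nat_lit 16384) (Steps.bwd (nat_lit 5) (Steps.fwd (nat_lit 8192) (Steps.bwd (nat_lit 3) (Steps.fwd (nat_lit 16384) (Steps.fwd (nat_lit 20480) (Steps.fwd (nat_lit 8192) Steps.nil))))))))))))))))))))))))))))))) (nat_lit 26) (nat_lit 2),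
  Rule.mk (nat_lit 0) (nat_lit 137) (Steps.fwd (nat_lit 12288) (Steps.fwd (nat_lit 16384) (Steps.fwd (nat_lit 12288) (Steps.fwd (nat_lit 16384) (Steps.fwd (nat_lit 12288) (Steps.bwd (nat_lit 4) (Steps.bwd (nat_lit 1) (Steps.bwd (nat_lit 3) (Steps.bwd (nat_lit 4) Steps.nil))))))))) (nat_lit 21) (nat_lit 2),
  Rule.mk (nat_lit 4) (nat_lit 137) (Steps.bwd (nat_lit 7) (Steps.fwd (nat_lit 16384) (Steps.fwd (nat_lit 28672) (Steps.fwd (nat_lit 20480) (Steps.fwd (nat_lit 16384) (Steps.bwd (nat_lit 7) (Steps.bwd (nat_lit 4) (Steps.bwd (nat_lit 6) (Steps.bwd (nat_lit 5) Steps.nil))))))))) (nat_lit 37) (nat_lit 0),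
  Rule.mk (nat_lit 3) (nat_lit 361) (Steps.bwd (nat_lit 2) (Steps.fwd (nat_lit 12288) (Steps.fwd (nat_lit 4096) (Steps.bwd (nat_lit 2) (Steps.bwd (nat_lit 4) (Steps.fwd (nat_lit 24576) (Steps.bwd (nat_lit 4) (Steps.bwd (nat_lit 2) (Steps.fwd (nat_lit 4096) (Steps.fwd (nat_lit 12288) (Steps.bwd (nat_lit 2) (Steps.fwd (nat_lit 16384) (Steps.bwd (nat_lit 6) (Steps.bwd (nat_lit 4) (Steps.fwd (nat_lit 36864) (Steps.bwd (nat_lit 6) (Steps.bwd (nat_lit 5) (Steps.fwd (nat_lit 8192) (Steps.bwd (nat_lit 1) (Steps.fwd (nat_lit 12288) (Steps.fwd (nat_lit 8192) (Steps.bwd (nat_lit 4) (Steps.bwd (nat_lit 6) (Steps.fwd (nat_lit 16384) (Steps.bwd (nat_lit 5) Steps.nil))))))))))))))))))))))))) (nat_lit 41) (nat_lit 12),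
  Rule.mk (nat_lit 1) (nat_lit 361) (Steps.bwd (nat_lit 3) (Steps.bwd (nat_lit 2) (Steps.bwd (nat_lit 4) (Steps.fwd (nat_lit 28672) (Steps.bwd (nat_lit 4) (Steps.bwd (nat_lit 5) (Steps.fwd (nat_lit 12288) (Steps.fwd (nat_lit 8192) (Steps.bwd (nat_lit 3) (Steps.fwd (nat_lit 4096) (Steps.fwd (nat_lit 8192) (Steps.bwd (nat_lit 4) (Steps.fwd (nat_lit 24576) (Steps.fwd (nat_lit 16384) (Steps.fwd (nat_lit 8192) (Steps.fwd (nat_lit 4096) (Steps.fwd (nat_lit 12288) (Steps.bwd (nat_lit 2) (Steps.bwd (nat_lit 4) (Steps.fwd (nat_lit 28672) (Steps.bwd (nat_lit 4) (Steps.fwd (nat_lit 36864) (Steps.bwd (nat_lit 6) (Steps.bwd (nat_lit 5) (Steps.bwd (nat_lit 2) Steps.nil))))))))))))))))))))))))) (nat_lit 41) (nat_lit 5),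
  Rule.mk (nat_lit 4) (nat_lit 445) (Steps.bwd (nat_lit 5) (Steps.bwd (nat_lit 2) (Steps.bwd (nat_lit 3) (Steps.fwd (nat_lit 16384) (Steps.fwd (nat_lit 20480) (Steps.bwd (nat_lit 2) (Steps.bwd (nat_lit 3) (Steps.bwd (nat_lit 4) (Steps.bwd (nat_lit 5) (Steps.fwd (nat_lit 8192) (Steps.bwd (nat_lit 3) (Steps.fwd (nat_lit 16384) (Steps.fwd (nat_lit 20480) (Steps.fwd (nat_lit 8192) (Steps.fwd (nat_lit 12288) (Steps.fwd (nat_lit 16384) (Steps.fwd (nat_lit 20480) (Steps.fwd (nat_lit 8192) (Steps.fwd (nat_lit 12288) (Steps.bwd (nat_lit 4) (Steps.fwd (nat_lit 20480) (Steps.bwd (nat_lit 2) (Steps.bwd (nat_lit 3) (Steps.fwd (nat_lit 16384) (Steps.fwd (nat_lit 20480) (Steps.fwd (nat_lit 8192) (Steps.bwd (nat_lit 3) (Steps.bwd (nat_lit 4) (Steps.bwd (nat_lit 5) (Steps.fwd (nat_lit 8192) (Steps.fwd (nat_lit 12288) Steps.nil))))))))))))))))))))))))))))))) (nat_lit 26) (nat_lit 3),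
  Rule.mk (nat_lit 0) (nat_lit 95) (Steps.fwd (nat_lit 20480) (Steps.fwd (nat_lit 16384) (Steps.fwd (nat_lit 20480) (Steps.fwd (nat_lit 16384) (Steps.bwd (nat_lit 5) (Steps.bwd (nat_lit 4) Steps.nil)))))) (nat_lit 24) (nat_lit 1),
  Rule.mk (nat_lit 6) (nat_lit 137) (Steps.bwd (nat_lit 4) (Steps.bwd (nat_lit 5) (Steps.fwd (nat_lit 24576) (Steps.fwd (nat_lit 16384) (Steps.fwd (nat_lit 28672) (Steps.fwd (nat_lit 16384) (Steps.fwd (nat_lit 20480) (Steps.bwd (nat_lit 7) (Steps.bwd (nat_lit 4) Steps.nil))))))))) (nat_lit 36) (nat_lit 0),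
  Rule.mk (nat_lit 7) (nat_lit 137) (Steps.bwd (nat_lit 4) (Steps.fwd (nat_lit 28672) (Steps.fwd (nat_lit 20480) (Steps.fwd (nat_lit 16384) (Steps.bwd (nat_lit 7) (Steps.fwd (nat_lit 16384) (Steps.bwd (nat_lit 6) (Steps.bwd (nat_lit 5) (Steps.bwd (nat_lit 4) Steps.nil))))))))) (nat_lit 37) (nat_lit 1),
  Rule.mk (nat_lit 1) (nat_lit 361) (Steps.bwd (nat_lit 2) (Steps.fwd (nat_lit 20480) (Steps.bwd (nat_lit 7) (Steps.bwd (nat_lit 9) (Steps.bwd (nat_lit 4) (Steps.bwd (nat_lit 7) (Steps.fwd (nat_lit 16384) (Steps.fwd (nat_lit 8192) (Steps.fwd (nat_lit 12288) (Steps.bwd (nat_lit 1) (Steps.bwd (nat_lit 2) (Steps.fwd (nat_lit 16384) (Steps.bwd (nat_lit 6) (Steps.bwd (nat_lit 4) (Steps.bwd (nat_lit 2) (Steps.fwd (nat_lit 4096) (Steps.fwd (nat_lit 12288) (Steps.bwd (nat_lit 2) (Steps.bwd (nat_lit 3) (Steps.bwd (nat_lit 5) (Steps.bwd (nat_lit 4) (Steps.fwd (nat_lit 24576) (Steps.fwd (nat_lit 16384) (Steps.bwd (nat_lit 2) (Steps.bwd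 (nat_lit 3) Steps.nil))))))))))))))))))))))))) (nat_lit 40) (nat_lit 22),
  Rule.mk (nat_lit 4) (nat_lit 123) (Steps.fwd (nat_lit 12288) (Steps.fwd (nat_lit 16384) (Steps.bwd (nat_lit 3) (Steps.bwd (nat_lit 4) (Steps.fwd (nat_lit 12288) (Steps.fwd (nat_lit 16384) (Steps.bwd (nat_lit 3) (Steps.bwd (nat_lit 1) Steps.nil)))))))) (nat_lit 20) (nat_lit 2),
  Rule.mk (nat_lit 4) (nat_lit 445) (Steps.bwd (nat_lit 5) (Steps.fwd (nat_lit 8192) (Steps.fwd (nat_lit 12288) (Steps.fwd (nat_lit 16384) (Steps.bwd (nat_lit 5) (Steps.fwd (nat_lit 8192) (Steps.bwd (nat_lit 3) (Steps.bwd (nat_lit 4) (Steps.fwd (nat_lit 20480) (Steps.bwd (nat_lit 2) (Steps.bwd (nat_lit 3) (Steps.fwd (nat_lit 16384) (Steps.bwd (nat_lit 5) (Steps.bwd (nat_lit 2) (Steps.bwd (nat_lit 3) (Steps.fwd (nat_lit 16384) (Steps.bwd (nat_lit 5) (Steps.fwd (nat_lit 8192) (Steps.bwd (nat_lit 3) (Steps.fwd (nat_lit 16384) (Steps.bwd (nat_lit 5) (Steps.fwd (nat_lit 8192)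 (Steps.bwd (nat_lit 3) (Steps.fwd (nat_lit 16384) (Steps.bwd (nat_lit 5) (Steps.fwd (nat_lit 8192) (Steps.bwd (nat_lit 3) (Steps.bwd (nat_lit 4) (Steps.fwd (nat_lit 20480) (Steps.fwd (nat_lit 8192) (Steps.fwd (nat_lit 12288) Steps.nil))))))))))))))))))))))))))))))) (nat_lit 26) (nat_lit 3),
  Rule.mk (nat_lit 3) (nat_lit 123) (Steps.fwd (nat_lit 16384) (Steps.bwd (nat_lit 3) (Steps.bwd (nat_lit 1) (Steps.fwd (nat_lit 16384) (Steps.bwd (nat_lit 3) (Steps.fwd (nat_lit 16384) (Steps.fwd (nat_lit 12288) (Steps.bwd (nat_lit 4) Steps.nil)))))))) (nat_lit 20) (nat_lit 7),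
  Rule.mk (nat_lit 6) (nat_lit 137) (Steps.bwd (nat_lit 4) (Steps.bwd (nat_lit 5) (Steps.bwd (nat_lit 7) (Steps.bwd (nat_lit 4) (Steps.bwd (nat_lit 6) (Steps.bwd (nat_lit 4) (Steps.bwd (nat_lit 5) (Steps.bwd (nat_lit 7) (Steps.bwd (nat_lit 4) Steps.nil))))))))) (nat_lit 36) (nat_lit 0),
  Rule.mk (nat_lit 5) (nat_lit 361) (Steps.bwd (nat_lit 4) (Steps.bwd (nat_lit 7) (Steps.bwd (nat_lit 4) (Steps.bwd (nat_lit 2) (Steps.fwd (nat_lit 12288) (Steps.bwd (nat_lit 1) (Steps.fwd (nat_lit 8192) (Steps.bwd (nat_lit 5) (Steps.fwd (nat_lit 24576) (Steps.bwd (nat_lit 9) (Steps.fwd (nat_lit 16384) (Steps.bwd (nat_lit 7) (Steps.bwd (nat_lit 4) (Steps.bwd (nat_lit 2) (Steps.fwd (nat_lit 12288) (Steps.bwd (nat_lit 1) (Steps.fwd (nat_lit 8192) (Steps.fwd (nat_lit 16384) (Steps.fwd (nat_lit 28672) (Steps.bwd (nat_lit 4) (Steps.bwd (nat_lit 2) (Steps.bwd (nat_lit 1) (Steps.fwd (nat_lit 12288) (Steps.fwd (nat_lit 8192) (Steps.bwd (nat_lit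 3) Steps.nil))))))))))))))))))))))))) (nat_lit 40) (nat_lit 16)]
noncomputable def R_19 : List (Rule) := [Rule.mk (nat_lit 0) (nat_lit 67) (Steps.fwd (nat_lit 20480) (Steps.bwd (nat_lit 7) (Steps.fwd (nat_lit 20480) (Steps.fwd (nat_lit 28672) Steps.nil)))) (nat_lit 34) (nat_lit 3),
  Rule.mk (nat_lit 2) (nat_lit 445) (Steps.bwd (nat_lit 3) (Steps.fwd (nat_lit 16384) (Steps.fwd (nat_lit 20480) (Steps.fwd (nat_lit 8192) (Steps.bwd (nat_lit 3) (Steps.bwd (nat_lit 4) (Steps.bwd (nat_lit 5) (Steps.bwd (nat_lit 2) (Steps.bwd (nat_lit 3) (Steps.fwd (nat_lit 16384) (Steps.fwd (nat_lit 20480) (Steps.fwd (nat_lit 8192) (Steps.bwd (nat_lit 3) (Steps.bwd (nat_lit 4) (Steps.fwd (nat_lit 20480) (Steps.fwd (nat_lit 8192) (Steps.fwd (nat_lit 12288) (Steps.fwd (nat_lit 16384) (Steps.fwd (nat_lit 20480) (Steps.bwd (nat_lit 2) (Steps.fwd (nat_lit 12288) (Steps.bwd (nat_lit 4) (Steps.bwd (nat_lit 5) (Steps.bwd (nat_lit 2) (Steps.fwd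 (nat_lit 12288) (Steps.bwd (nat_lit 4) (Steps.fwd (nat_lit 20480) (Steps.fwd (nat_lit 8192) (Steps.bwd (nat_lit 3) (Steps.fwd (nat_lit 16384) (Steps.fwd (nat_lit 20480) Steps.nil))))))))))))))))))))))))))))))) (nat_lit 26) (nat_lit 1),
  Rule.mk (nat_lit 1) (nat_lit 151) (Steps.bwd (nat_lit 3) (Steps.fwd (nat_lit 8192) (Steps.fwd (nat_lit 20480) (Steps.fwd (nat_lit 24576) (Steps.bwd (nat_lit 2) (Steps.bwd (nat_lit 3) (Steps.bwd (nat_lit 1) (Steps.fwd (nat_lit 8192) (Steps.bwd (nat_lit 6) (Steps.bwd (nat_lit 2) Steps.nil)))))))))) (nat_lit 38) (nat_lit 8),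
  Rule.mk (nat_lit 6) (nat_lit 151) (Steps.fwd (nat_lit 8192) (Steps.bwd (nat_lit 1) (Steps.bwd (nat_lit 3) (Steps.bwd (nat_lit 2) (Steps.bwd (nat_lit 5) (Steps.bwd (nat_lit 7) (Steps.bwd (nat_lit 2) (Steps.bwd (nat_lit 3) (Steps.fwd (nat_lit 4096) (Steps.bwd (nat_lit 2) Steps.nil)))))))))) (nat_lit 38) (nat_lit 6),
  Rule.mk (nat_lit 7) (nat_lit 151) (Steps.fwd (nat_lit 8192) (Steps.bwd (nat_lit 1) (Steps.fwd (nat_lit 12288) (Steps.fwd (nat_lit 8192) (Steps.fwd (nat_lit 28672) (Steps.bwd (nat_lit 5) (Steps.bwd (nat_lit 2) (Steps.bwd (nat_lit 3) (Steps.fwd (nat_lit 4096) (Steps.bwd (nat_lit 2) Steps.nil)))))))))) (nat_lit 39) (nat_lit 6),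
  Rule.mk (nat_lit 4) (nat_lit 445) (Steps.bwd (nat_lit 5) (Steps.bwd (nat_lit 2) (Steps.bwd (nat_lit 3) (Steps.bwd (nat_lit 4) (Steps.bwd (nat_lit 5) (Steps.bwd (nat_lit 2) (Steps.fwd (nat_lit 12288) (Steps.fwd (nat_lit 16384) (Steps.bwd (nat_lit 5) (Steps.fwd (nat_lit 8192) (Steps.fwd (nat_lit 12288) (Steps.bwd (nat_lit 4) (Steps.bwd (nat_lit 5) (Steps.bwd (nat_lit 2) (Steps.fwd (nat_lit 12288) (Steps.fwd (nat_lit 16384) (Steps.bwd (nat_lit 5) (Steps.bwd (nat_lit 2) (Steps.fwd (nat_lit 12288) (Steps.fwd (nat_lit 16384) (Steps.fwd (nat_lit 20480) (Steps.fwd (nat_lit 8192) (Steps.bwd (nat_lit 3) (Steps.fwd (nat_lit 16384) (Steps.bwd (nat_lit 5) (Steps.fwd (nat_lit 8192) (Steps.fwd (nat_lit 12288) (Steps.bwd (nat_lit 4) (Steps.bwd (nat_lit 5) (Steps.bwd (nat_lit 2) (Steps.bwd (nat_lit 3) Steps.nil))))))))))))))))))))))))))))))) (nat_lit 26) (nat_lit 3),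
  Rule.mk (nat_lit 0) (nat_lit 95) (Steps.fwd (nat_lit 20480) (Steps.fwd (nat_lit 16384) (Steps.bwd (nat_lit 5) (Steps.fwd (nat_lit 16384) (Steps.bwd (nat_lit 5) (Steps.bwd (nat_lit 4) Steps.nil)))))) (nat_lit 24) (nat_lit 1),
  Rule.mk (nat_lit 3) (nat_lit 123) (Steps.fwd (nat_lit 4096) (Steps.fwd (nat_lit 16384) (Steps.fwd (nat_lit 12288) (Steps.bwd (nat_lit 4) (Steps.bwd (nat_lit 3) (Steps.fwd (nat_lit 16384) (Steps.bwd (nat_lit 3) (Steps.bwd (nat_lit 4) Steps.nil)))))))) (nat_lit 20) (nat_lit 0),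
  Rule.mk (nat_lit 1) (nat_lit 123) (Steps.bwd (nat_lit 4) (Steps.bwd (nat_lit 3) (Steps.fwd (nat_lit 16384) (Steps.bwd (nat_lit 3) (Steps.bwd (nat_lit 4) (Steps.bwd (nat_lit 3) (Steps.fwd (nat_lit 16384) (Steps.fwd (nat_lit 12288) Steps.nil)))))))) (nat_lit 20) (nat_lit 1),
  Rule.mk (nat_lit 6) (nat_lit 137) (Steps.bwd (nat_lit 4) (Steps.bwd (nat_lit 5) (Steps.bwd (nat_lit 7) (Steps.fwd (nat_lit 16384) (Steps.fwd (nat_lit 28672) (Steps.bwd (nat_lit 4) (Steps.fwd (nat_lit 20480) (Steps.bwd (nat_lit 7) (Steps.bwd (nat_lit 4) Steps.nil))))))))) (nat_lit 36) (nat_lit 0),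
  Rule.mk (nat_lit 7) (nat_lit 137) (Steps.fwd (nat_lit 16384) (Steps.fwd (nat_lit 28672) (Steps.fwd (nat_lit 20480) (Steps.fwd (nat_lit 16384) (Steps.fwd (nat_lit 24576) (Steps.bwd (nat_lit 4) (Steps.bwd (nat_lit 6) (Steps.fwd (nat_lit 20480) (Steps.bwd (nat_lit 4) Steps.nil))))))))) (nat_lit 37) (nat_lit 1),
  Rule.mk (nat_lit 4) (nat_lit 361) (Steps.bwd (nat_lit 2) (Steps.bwd (nat_lit 3) (Steps.fwd (nat_lit 4096) (Steps.fwd (nat_lit 8192) (Steps.bwd (nat_lit 5) (Steps.fwd (nat_lit 24576) (Steps.fwd (nat_lit 32768) (Steps.fwd (nat_lit 16384) (Steps.bwd (nat_lit 7) (Steps.bwd (nat_lit 4) (Steps.bwd (nat_lit 2) (Steps.fwd (nat_lit 12288) (Steps.bwd (nat_lit 1) (Steps.fwd (nat_lit 8192) (Steps.bwd (nat_lit 4) (Steps.bwd (nat_lit 6) (Steps.bwd (nat_lit 4) (Steps.fwd (nat_lit 8192) (Steps.bwd (nat_lit 1) (Steps.fwd (nat_lit 12288) (Steps.bwd (nat_lit 2) (Steps.fwd (nat_lit 12288) (Steps.fwd (nat_lit 20480) (Steps.fwd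 (nat_lit 16384) (Steps.fwd (nat_lit 24576) Steps.nil))))))))))))))))))))))))) (nat_lit 40) (nat_lit 19),
  Rule.mk (nat_lit 7) (nat_lit 361) (Steps.bwd (nat_lit 4) (Steps.bwd (nat_lit 2) (Steps.fwd (nat_lit 4096) (Steps.bwd (nat_lit 3) (Steps.fwd (nat_lit 8192) (Steps.bwd (nat_lit 4) (Steps.fwd (nat_lit 28672) (Steps.fwd (nat_lit 16384) (Steps.bwd (nat_lit 8) (Steps.fwd (nat_lit 28672) (Steps.fwd (nat_lit 20480) (Steps.bwd (nat_lit 2) (Steps.fwd (nat_lit 4096) (Steps.fwd (nat_lit 12288) (Steps.fwd (nat_lit 8192) (Steps.bwd (nat_lit 4) (Steps.fwd (nat_lit 28672) (Steps.bwd (nat_lit 4) (Steps.bwd (nat_lit 5) (Steps.bwd (nat_lit 3) (Steps.bwd (nat_lit 2) (Steps.bwd (nat_lit 3) (Steps.fwd (nat_lit 4096) (Steps.bwd (nat_lit 2) (Steps.fwd (nat_lit 16384) Steps.nil))))))))))))))))))))))))) (nat_lit 41) (nat_lit 18),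
  Rule.mk (nat_lit 2) (nat_lit 151) (Steps.bwd (nat_lit 7) (Steps.fwd (nat_lit 8192) (Steps.fwd (nat_lit 4096) (Steps.bwd (nat_lit 3) (Steps.fwd (nat_lit 8192) (Steps.fwd (nat_lit 28672) (Steps.fwd (nat_lit 20480) (Steps.bwd (nat_lit 2) (Steps.bwd (nat_lit 3) (Steps.bwd (nat_lit 1) Steps.nil)))))))))) (nat_lit 39) (nat_lit 5),
  Rule.mk (nat_lit 5) (nat_lit 361) (Steps.fwd (nat_lit 16384) (Steps.fwd (nat_lit 24576) (Steps.fwd (nat_lit 16384) (Steps.fwd (nat_lit 8192) (Steps.bwd (nat_lit 3) (Steps.fwd (nat_lit 4096) (Steps.bwd (nat_lit 2) (Steps.bwd (nat_lit 5) (Steps.bwd (nat_lit 7) (Steps.fwd (nat_lit 32768) (Steps.fwd (nat_lit 16384) (Steps.bwd (nat_lit 7) (Steps.fwd (nat_lit 16384) (Steps.fwd (nat_lit 8192) (Steps.fwd (nat_lit 12288) (Steps.fwd (nat_lit 4096) (Steps.fwd (nat_lit 8192) (Steps.bwd (nat_lit 4) (Steps.bwd (nat_lit 6) (Steps.fwd (nat_lit 16384) (Steps.bwd (nat_lit 2) (Steps.fwd (nat_lit 4096) (Steps.bwd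 (nat_lit 3) (Steps.bwd (nat_lit 2) (Steps.fwd (nat_lit 12288) Steps.nil))))))))))))))))))))))))) (nat_lit 40) (nat_lit 16)]
noncomputable def R : List (List (Rule)) := [R_0, R_1, R_2, R_3, R_4, R_5, R_6, R_7, R_8, R_9, R_10, R_11, R_12, R_13, R_14, R_15, R_16, R_17, R_18, R_19]
def LW : List Word := [[], [0], [2], [4], [6], [8], [10], [11], [12], [13], [0], [1], [2], [3], [4], [5], [6], [7], [8], [9]]
def par : Par := ⟨12, 5, 17, 29, 4095, 131071, 536870911⟩
theorem hpar : par.ok := by decide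
theorem hR0_0 : lall (R) (fun l => lall l (ruleOK RG LW par)) = true := by decide +kernel
theorem hR0 : lall (R) (fun l => lall l (ruleOK RG LW par)) = true := hR0_0
theorem hR : RulesOK RG LW par R := rulesOK_of rfl hR0
def cols : List (ℕ × ℕ) := [(4096, 1), (8192, 2), (12288, 3), (16384, 4), (20480, 5), (24576, 7), (32768, 9)]
theorem hcols : lall cols (colOK RG LW par) = true := by decide +kernel
noncomputable def JS0 : List ℕ := [nat_lit 0x4000022d00e9168001917a0708b100040d915e00001a22c400300400130048010000c8b122c08af03245d117600101800008b400308b400000b916200081622b800102a4588000457014002800c003c00e004000f00288b022bc8ae22b409800045a11620488b322d801422d400900148ae22b48ac22ac8aa22a48a8229c8a622948a4228c8a222848a0227c89e227489c022457000045701022b800d22b8078000456801a45680000388ac22c800f0048011004c01222c88ac22ac06915a4571162007001e458915c45691580300030010003008001000a00100300040060004010000002800602c8ab00208aa014455001045500922a400822a4041150004115001c8a700208a700c453001045300500080030008020002002000200c00000140000040020004451801,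
  nat_lit 0x4400004c45f800600103522fc02500bc02522fc101186010917c0d001d23448bd04245e001c45e02422c88b122c000000248c000948c2230c8c406645d917846c11b2016805e01900660188064018005c010117445c917045b916c45a91684599164458916045783200008bb007018800400b80320c0001002800b05e001000046902e23488b7000016800000080000b000122e08b5056000000e00002a22d88cf00b803000b802b233c8b322c814801c000001c0a000f000000f04846100004610260040003004013919200111920988c800048af04a457800045782422b48ac00008ac22b48c700908c704645591584630048011918c45611560888c323108ac0424559188010118845582000000100000049178000117c07c8be23088bc03c45d802445d80f,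
  nat_lit 0x8b000000d116200011e600084422bc00000fc21807e000115a0f88ab00008ed07a475800045483e229c00023a41f91ce000114a1008a300008e50824718000450842227c00023842091be000113a10089b00008dd07e46d800044c83e000403600f41e800001c11d6048037011004722a800200008a8229c8a622948a4228c8a222848a0227c89e227489c226c89a2264898225c89602200080040008040000005000c05914e021114c0288a601088a601245280844528082290042229003914602111460188a201088a200a45180020f08a300001d9144450800445083a228400022841c913e000805e000913e0e000000c000006e01811ba01e11c0463116c45a916845991644589160457915c456915845591544549150453914c45291484519144450914044f913c44e836,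
  nat_lit 0x27002c0010a847d800045e04022e800023e42091ee00011701088b600048f508245a000047985300fc02400002911644589160001801247d005045f9180460833000800400f8288002002121014000022e490702445c007802e119c013005001580580150056014804e008116e45b116a45a11664591162458115e457115a45603224089032410905000400323cc8f223c48f009e001806a02104600088f300e4158002478806213800023c002f09a47800ac03200cc03200c002b006c459029000804f00b826116200011e212c03500d000109401e809a00004900008af00c400915c02800b6028115c456800045684822b08ad013c05b016804f22b48ac04445f000048001f24008bf22f80f001001600040288b800000a9178025000045b84722d400023dc230006000845,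
  nat_lit 0x8cf000090e0bc4860000466840232c0002428301210000119217c8c700009060bc4820000462840230c0002408301200000118217c8bf00008fe0bc47e000045e84022ec00023e83011f0000117217c8b700008f60bc47a000045a84022cc00023c83011e0000116217c8af00008ee0bc00100021148ab00001e1156000008c00005d011000022a42e0000033809216c070249007b01c48cf23008bf22f88bd22f08bb22e88b922e08b722d88b522d08b322c88b122c08af22b88ad22b08ab22a88a922a08a70b448b80004610592300000245c2c122e007917c15c8fd00288be0ac013008a000855241000023141f118600012040f490000008c107c45f800247f03f,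
  nat_lit 0x8c800003b11904638000007800046387523600a925740bc02f80c003040bf03000be02f095d0288953027c8cf23388cd23308cb23288c923208c723183a128c00011a81cc8d200049460c4018808000087201fc000233c38919a00012621ac92f00008cb0e0000805e01806f2324000251437128a000118e1b400201f09450d8000810003c86b000093401e035126849b919a4649190463918c462918846186924e009b24d4925232434119204d010c04d119219c002010403f0cc00081044a506500009212480321260498918c18c09524c08c60c400180041148dd00040d91b6000015249403723708db0c248c000046c85f235c00024582f122800011aa1008d300009120c0488000046885f,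
  nat_lit 0xa0003036496800447888e009c00511a01200080f0929000c8ef11800f800622c8ef000845003e00081b249000023b04480fc4b212c64b112c2007801a06112ec4bc81ae06c81b406c01b206c01ac06b92f24bb01844af92c04b08038476088012800c020c43811a005805421805f000405f10a02480000248770058001005803802e000002e1dc8e500048e510846d000220c000002c000102009000246b882000000a00004092aa0000014200002000400b0fe47180001f808602dc0b22540002000400225408e20fa042816c058929e000800000092a01f000025380b025840b502c094e00003d929a058129604f91c000c127246611964651192464118e463118a46211864611182460117e45f117a45e117645d117245c116e45b116a1e88d2234c000234c8d20f246991a804a11a8469878233000023303b9194000816,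
  nat_lit 0x7d002822927c00481a24f80080764ac0012234956002498313204a00121149950020951138025001223404a00204d809600383c244400602c024000a49a89a01bc00608a4a6000c4a709903c000502904c131a002129225c09100144900d2002008225808b00144912e6002125e25498b000c08712804480061140da000893c126046000c24896b0014082122059000804309024d40030ec018000a23403000100d806000188300c000224c447805600208b,
  nat_lit 0x190000003018c500000048127c27c01a015800113c4d380004b283d258c00026944e934600b12c217898c000094d0bc4a580004c50402620000252430128e000130c17c98400009450bc4a180004c10402600000250430127e00012fc17c97c000093d0bc49d80004bd04025e000024e430126e00012ec17c97400009350bc49980004b904025c000024c430125e00012dc17c96c000092d0bc49580004b504025a000024a430124e00012cc17c96400009250bc03b000205e85c00b400000e837018200080f01049890014468132003092,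
  nat_lit 0x25100010784a200000ec94400001160000944250c5513824d912882a493000041e126000003b24bc92e000092e074496000049603724a8929000092924a854124e038124e1dc97325d0000005001314e4a692a201f006c01a8a625349a800d031936e00012ee12c96800009a70804d2806004404326f000a25e852817200001ea0789a400009651484b2800a4d205626a400025a81f92d0000134e1009a500009660824b200004d18422684001258820933e00012c014c0ac00200eb1464b7000e4d805f0000984261451130400000a628493800043b127000007e,
  nat_lit 0x11042800017c00080200208bd000000d00dc5e128a00012d614c96b00100011764b500080000ba2508000000403726e008425d81332524920172000013c00507100d403625c097404c49f5004c00a247491c1704b3801e48e8b7259800f24705b12820079236040006003c9f1051011f01b406f01c09a224fc00124b892d24b092b24a892924a0927249892524909232488921248091f247891d247091b16a041806001892d64b7825a096028609981ce07213a449d127249c126e49b126a49a12664991262498125e4970b4000007124f42813904e4800049c92742cc0000004115164000010400000327609d7275813927b09eb24f493824dc9361620040230033133649c0b024e0007048000724e033800402f800c2bc00104ac95b0c400013ba4ad0ae04a000324d40312b002b126c2b495704949350a600013c449a06204d093324c85492884a280004a292881e4945000094515800000020000ab,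
  nat_lit 0x248892c05b4a1c05f017d287092c24889211a6000132e02e84d034c16824a89262494924248c9222484691410503924c28400024940b404e816b0598a0402d8689248059827250b02d409c81664920d0000807e00206780020ab8002010000284415e19c0aa000a4908cd00080042844660002490800632c000000400019448f941c48f0c9000015f00000214180b0123a320938000091d0d4000129200e003449b0c725209582574a0b057813804d008902289e4007001b006492c24ac92a24a4928249c9262494924248c9222484920247c91e247491c246c63125e002800431494f00006213cc000929e30c95000040b13ca000129c25c9e4000400225d897725e097904a09e7253c94e18449400004f186b03c40dc000415800c0488000004924248c000002801527bc9f027c40da18200480264a5801049492a40a9940250113fe4ff02a44ff940450082a60a1024607a1332493124a49212464910c0253801d280014d026009a27b0013002092617e4a4800e49286b,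
  nat_lit 0x56015e252c9162454914244c91224446f000604e80502f800205e400200800083060128030000a3506086e82ee0121224154000246891b14448c000048e0a1247091d000055922a000123a3700002448913144488000048e0a1247091d000055921a000123a370002242890b1444c1000048506a242000103480ca26006d800002c92343689a626a8a1428b418a28a817b05e0a1603740592464918245c9162454914244c9122444910243c90e243490c242c90a2424908241c9061b2496000049705624b801124b029924c0001264360932003c001096493800205892400040a924e000124805000d0590a2005e0179288000d249892524909231ae00081b40030d60000a0c28346a82da0b0001600492464911242490123e48f123a48e123648d123248c122e48b122a48a12264891222488121e3509230000923020491801c49180f,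
  nat_lit 0xa2828a400015648800005148dc000090d24385112160001450284a2828a400015648400005148dc000090524185112060001450284a2828a400015648000005148dc00008fd23f851000005b14503680bd274010906781a306881a005c80ec28f80f9039090d243090b2428909242090724189052410903240890124008ff23f88fd23f08fb1ca48e00004940d824a00120010259240000123c0fc000008800b0d8012929e008923a0000e4246800102c48b800205491a0000917028007030c0c803225220320007123248c122e48b0e3000816200246b000206f804a3880000380a311be0b28306005801048a922848992244889220487921c486921848592144849210483920c482920848192044808e124540002454650000011000003c000245002e251802301c489929c0c783220c9147c0c8929c4899224380001033002305400013fe03f8df,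
  nat_lit 0x972000091808448b00004b804125b8000245020122400012d80fc96a000091007c48700004b403d259800124302f9216001830e0db80c002812e84b992e43b400206140541d800081a40298eb0000a1c28746a830606c80c603112ee4bb00a84bb92fa4be122a48a12264891222488121e487121a48612164851212484120e3a8979000091708248a80004bb84225d4002244c2082800288000154001001805108c000000c0280e9245017c015404525a49122444910243c7412ec0bc122406097502bc91109650a14264880a1243c0ab04fca6306c013f02ac90f1ce08f02ec4878e604740c324382194900bb121a2ac000247491e14448d80005140a128a0a2900005592300001452370000245491614448980005140a1,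
  nat_lit 0x91e000092e1b8000123648e0a2246400300046d125a00081b24ac00002a000000649612563d000300c8a7a29e4a780d0001005e5088f30004029009879000049e947a27c02e29dc1dd07a0a9007501a428f0927249892524909232488921248091f247891d247091b246891924609172458915245091324489111e24c2000049501f24a800026100f1308000125412c92a00009841464c2000049504b24a800026100f1308000125407c92a00009841e04c2000249505324ac00126142e125200013063c0010003c0001de001001e0008ee246c00025d42012e6007923210497e000092407c49100004be03d25e800024801f123c00012f00fc976000091c08048d00004ba041,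
  nat_lit 0x6c00202202e1284000933c17c018000008503c4cd800049f85e24f4000266420132e0009276180084000001707a49c00004ca05f264800024d82f002e005010817094400249a01e04ce80044a085c264000024d02e1264000931c104010000007d0a64c5800249783e262400024b40f001e00080f818093c00009981484cc01c0008018265c18a003c7b81ac06f001a3d80d5062000c1ea0b0150e00582e0280a8500281200004959258288929000092d142496925c0000ab249800024b86e00004919248288921000092d142496925c0000ab,
  nat_lit 0x266800f251c20934a00012a40f895000009a307a4d080004a703e2530000267c1f933a0001294100948000099b0824cc80004a30422510000265c20932a0001284100940000099307e4c8800049f03e24f0000263c1e931a000927417c939000c1a70834095021099b26689991f8001034a0448ec000412c022074800008814ec37c1a304b00b702e499e267408a26789a4268c9432508941250093f24f893d24f093b24e893924e093724d89351f64d000004a2841250c0002678211338000128210400104900891d600014900180df066419d022c07a2644941250093f24f86f015402c80003e80002500a6c075020c066c10725ac7c927e53583a655f04160e994d649f8f825240002694201346001928e180088000801b07a4d300004a5053,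
  nat_lit 0x41bf02947f92ae000151c370147028c0000de4aa00004d4840269c001254830028805080003f894f00049a40be00001400a08fe268400025302f000209e014017094a0000a891b80d8013c000809267400025201f128c00013360f499900009440b800082ae04e05b0000acf06a050959e043932a0fe846a11a04540e2026054b92aa4aa12a64a912a24a8129e4a7129a4a612964a512924a4128e4a3128a4a212864a112823f49ab000095803e4ac00004d581e26ac00025602592b0000135628c9ab00009580964ac00004d581e26ac00025600f92b000013563c09ab00049580a64ac80024d605c255c00026a878002000780003bc002003c0011dc4a480004ce040,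
  nat_lit 0x80414900005e1308000835e17c00005681761fc4eb00024c085e275000025fc2980020b8016817097e0000a9d1b80f20164000809274400025f01f12f4000139e0f49cd00009780b84bb00004e5841272400125d01f138e00012e407800107640af1fe4b8800054c0dc05840ad000437938800012de17896d00009c20804e000004b586025a400026f82f937800012ce178001055c0ab0b84b2800054a0dc072c0a9000404937000012c60f896100009b607a4da00004af85c257400126c8208000053038a4009af000495a07c4d680004ac01e,
  nat_lit 0x98c262c000262c98c15000082b60008072a7c000262420130e000153a180a9b00009850be4c1800054c85e2a5c00026042012fe000152a180a93000097d0be4bd800054885e2a3c00025e42012ee000151a180a8b00009750be4b9800054485e000800108a4b780000f096f000015400002e82a400012da17096b0004a8108200002a800010629f800025a01f000003d81f24149a700009650d4000934604893484d2904000006029e0301342566846c5840490583960c0ef12f04bb92ec4ba92e84b992e44b892e04b792dc4b692d84b592d44b492d04b392cc4b292c84b192c440c97c00909d10e44c180224ec0722618007276c7b00000d38350408229069c0022020bd02bc0008fe,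
  nat_lit 0x65815300009932224c8800055085f2a7c000263c30131a000153a0f8a9b000098b07a4c4800054c83e2a5c000261c1f930a000152a100a93000098308200080720b1842000003d0588529374019817805f01da13b04f05a48392145037a0db13184c593144c493104c3930c4c293084c193044c0930044098d08b000001e00095820aa15d857590f00001562a6c87157e0a895f257c15ee130168c14915844c490d0004a9d05888600000b182c242c1650a40b3f2cf898721454c95344c38562a6016026180f95760b0130a42499a0000ab01e00b582ea000108000016a08e883955a000132e0f800200001650c055400004c905f26400052a982f132200003c264499000009900744c700004c7037,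
  nat_lit 0x2ad400026941f134600015660f4ab100009a10b84cf80005578412ab400026741f133600015560f4aa900009990b84cb80005538412a9400026541f132600015460f4aa100009910b84c7800054f8412a7400026341f131600015360f4a9900009890b800080400be05b000002005ec8a00400c305605b185625b004ae12c16be4d400344cc93304cb932c4ca93284c993244c893204c7931c4c693184c593144c493104c3930c44c99a0000aaa0a655500004cd05626680002aa8521554000133407899a0000aaa14855500004cd0f626680002aa82582b4124800844815b09180011760ad03320000a4266800002c58000024cc080265400118857e80004ca894,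
  nat_lit 0x408ecb0e2c3cb102c44b942e542e72e68b990b98b9a0b9cb952e5020f081c2082dd49b426cc9b226c49b02320ce83460000e6000019c06848c158200013640f400301f01a319e00114020cd91700040790a148b000003c044833807603fc10104c02bb0b641af01249ae26b48a95a000013801789be0000ace08056600004de06026e80002b282f959000013701789b60000ac608056200004da06026c80002b082f958000013601789ae0000abe08055e00004d606026a80002ae82f957000013501789a60000ab608055a00004d206026880002ac82f9560000134017899e0000aae08055600284ce0602af400026b41f135600015760f4ab900009a90b84d3800055b841,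
  nat_lit 0x2d4c0cf03402af2d8c2362e8cba62cf024a2df81fd09401cc2bec9bc26ec9ba26e49b826dc9b626d49b426cc90975a04e144a5b38400124059c17317604de12027300002b6c2015b200013941809c80000ad70be56a80004e305e27100002b4c2015a200013841809c00000acf0be56680004df05e26f00002b2c20159200013741809b80000ac70be56280004db05e26d00002b0c20158200013641809b00000abf0be55e80024d705e000403a06742d800001303384509c400009aa0d400093aa02b00764e11040000025066c3013a64f09634175173a14b852614885245a000aa02a00724dc136e4db136a4da13664d913624d8135e4d7135a4d613564d513524d4134e47c19a01080001ea000033202011e2b2000026e41f000007d01f8474b1d2de42cd0b442ca2de8b7b2df000226d88e033c144000246c2350b1c0001644d91362000000a0d096945a5969811391a,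
  nat_lit 0xa5c00103a896026a00014661fcb740000a310285c080005c0859c076945e4acb800b40bd02d34a140228b4a010004302e026c2d20b492d28b4b2d30b4d2f402d02e000930004a2c024c2d3254048800004812928a80912df82cf2df420a0c24bc00c9427009c8bc42f14bc62f1c2b00998b7300009b80b10b7d0b3cb7e024494000000c856049c9d50b009b62124f293c800006226e000027889300004dc93701909b900009df0ae4ee93b800006226e000027689300004dc93701909b900009d70ae4ea93a800006226e000027489300004dc93701909b900009cf0ae4e6939800006226e000027289300004dc93701909b900009c70ae00d0000002853e4dc92526940010784d300020589dc00009a41124ed00004d1134649000027ec0522465d8976415716c818183b00eb03ae03913f414c93664d913624d8135e4d7135a4d613564d513524d4134e4d3134a4d213464d113424d0122,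
  nat_lit 0x2bf00442c026807f80200801372e3000f040847846000908b2b9c01102a12d8020058b98003c9b17aa00793d80502b5003c15e26a096801c31015e00340d94e0006083057400b0340ac00140ec15900243f056000482524d00f100200c8104534800e20c00604a00062df499824c00287e2efc00510654a800c20c2a6001821d2645e3000a0141312de400605409816ee00294c24bc29c00142a125c14e800820c13800100ef25a0a2800607608228dc0021065390002073880,
  nat_lit 0x5c8009046497022c00403c0b8800805b09682f800382264c0a9b001841974a00282f225cb5c001ca102745b58012058b6900203b05b400402ce4d4176001c10d26e5d0000c54989000a00091060dc80100ec2050024a072760870018234a6900300a85a200601c64b8b9a002c0e31865248014058bda002c0b021800583c0b2c00b038c9a804c0050832f8c00e27f09d038a0070c40a8001402a0f400264d80db000810113206c800252e13903f800028f4400002008138,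
  nat_lit 0x800040438410602002005a4b8032000cbcb26e5e4800401613a0bf8002043c96978e00094f04e8000043000004d8a3178c000178c01594500b818e2a24a880000b5b063802e28804700000781432e70b9d2ebc02100000210244a49284010175c5ce00b25cd97385d70040504ae7000000628058e806c01b808c01b806c58e800c4fca910000ab30d40be000208e93e2c340002b903515c4001000200316164f4b17000c1d839a00281b2b78004106589000a0542f0001417425a0e500100f0b0300244182f0004823e4d0a8300204185d400482e44d4bad0020ab0278557000e054a19001c1d95f4004876,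
  nat_lit 0x12b003813a26455e801a5508820c3400f0ec1b6001e5f9814301000f2df44480ba00806304d4062003c6200c400703c30d800d018c4700c600607630cc00b018c4e035000589200a800a07802b001220c11e00241a3292015001054913a307000907801d80101d835a00241a225a5f980100d19482fcc007068c46005200383b06b400701504a022c004033651cad6001ca88120017000e0ec305001c30726a5e9000c0f0054001403a186183000a0c913400880042af896004e002016,
  nat_lit 0xad001511a04200281f834e005c11825c139002c0582b1005815826a0ac002a07094c2b8001403662a002656f0c3055c01226c0a8802c22c169005422842600a03b04f801405804c95a4009956c2003b6005036525a1b280261cc14c0de801303309706aa00904d2260066004862064600a04064b4b12004c0d8406009189423c339004c29e1320fb80242282a800441e17ce0080832f9400f096ca5988200702860501ad004422806a00803c00cc00f076000005a00714a,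
  nat_lit 0x30900700d060000d83b0f7401b0e2897071600d0160e1801930344d15a400e07e0b5c01d07607f803a228c860070aad10007e00361f82cc007017d25a144003609f93b05e401a03657b803206817300601d830600e092018001b10602d00341f8157006817b264576803256887f31c401902c1e580321d993431ec0180a844781cc00c1360db40180a1c96850e00b89b307c0162fd00a050c00a87e09940161361d2802e17492e0e880160dc8a698c000a876,
  nat_lit 0x2af40190fc16200360580e4006c0b153600d07e0e5401a05a49715ca00c955a4bc16600601d87d000d0c40f8801902c1cf0034168135309c01907619b003808a9340bbc01d03617780381d815b00701521325f9803656e13a068402108a12600400f007d007c0a82ea00f8330264b0d0078af1128647003e2283d500780d064600f17ec4d4c98007415912015f00381d8ae0006caa32a015b003853c2b3006c3f070e00e054e4d4c11006c0c829c61c80340a7931,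
  nat_lit 0x45c00e036583801a56789705fc011116587002056c95202e40100760db002411427400441d967800896402002e3004c41822000995dc54411400480a981e00c0150b880170ec085802e0949372b1001610657d002a561148307c018076166003206816e006c4682d400d09b057401a05b4a495ee00c81502681ba00704904ca00d81b063c01b06c899165200d161a2082e100703b182200d9360d0801b05cc9a82a600d02024e4afb00641d820200d01a,
  nat_lit 0x4ac00303658e000457207f04c400303659080045748972c600042b8040025e00203c2c7c0032b9ca4025c00103b3158005034589001056d0822c7000b2b90618256005076076000b08a14600140f032800281b625c60c00140f0c1800241d822e00503c2c200092b404a022c00403b0b740080785fc000e0ecb110028ad912a572801606c1ad00381d0264029801a59787f05c800e05cc9a15f800683c2bf400c047847026800782704d413800381e15be00683b,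
  nat_lit 0xa800043ee2ae63b800066f9563374cdc10e408204880ca31d0c752aa61d9874000187461d8a830e000030e03b800262200546220002550c3730d80000c4621800061a1260000c44310c321888000186215cc2f30b80000c462180166161263134c4c0000c4c313454189400018941dc001308002630800012a86249890000062307c0003118930000610183e190c200000c430ae6209880000062307c00030f8930000610183e190c200004c3b0ae000187261c06405e40000540a9826c00081b04d800107859300005771482c980022bb861825e00183c04bc0020765920006576095,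
  nat_lit 0x1006ccdb09268180006818240e440010e440280000071a2e1240020000002004197000419702634500013450ae0658000001456c36e000c36e04e034800403480201a000100440581000000100090080000435800040802b4679800006f1403220c89004ccf133c044d33c0cf12b210f800c06cb91001441971e00201a026800702c678000e20ccee00180d00a000283b0138006017c9680be00283c320c0041066408006068379000c031268674800401889500ac00102c63f800202c937339c00031fc0a19ce0558004036805063f158,
  nat_lit 0x2f90000001043000c096005e017005e096000c0029670a680000a64b3056a001000200197c24f400c04ccd26349c11a349cd2604ccb297c600181b2f8400202a5ee000820cbda000c0d052c00285304b4c3a00100d98700018150a480030a589a986400108330c000103461b000018c08930d4c360c6800030b4c2e2c80931a3268d021a68d0036017817c58cc8f0010c8f0ee0f880000ef962322006200002816f400007607b000207b4971912000816321c0000ec643990c6428000642990c1d4c8332080013208c832c203300000330050000c7f0008cde0f40cde0008c7f2c063f001600099ba1e799ba00098fc57c07300003792bc000001400495d,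
  nat_lit 0xba70000d482f46a3823866a80980659a3400100005d4174e5e40ab345446735b80a72e34b552d50bc070a00104605dcd1634540001425a8000220c00200040a8174000169a2400ba1184d680284b872d3cb4e2d34b4c2ec05b1ace050170c5a7169a5a616965d40010fc000b084000015e0528ce11e00092d3066800000288945d00061168b4b2e600096985a682f00000022d347900066af96925c8d5d0000b492e20009aba6ae1702d1c0000004b781545a3968c5b80a902a0b470926aa80006aa8020d2816204601620d28b6989a09d800209d989a008989200416c34b800034b8b58768000076801c1402fb80092fa80010024bee0500b5053c00005405a02bb0008beb0004be72d2150800214f968,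
  nat_lit 0xb7a11e00e534dc0e210f0b4e2d34b4c2d2cc4817206416f25a996a45a896a05a7969c378cba00041580ca000035e1990ce116c001077cc406fe0ca80000d4ba72ea0ba90000002361837c065018d0528c3800406b803c06d003a5b796e05d41862d34001035801d036401c2db8b6f30a0001b0a6c20a13614d8611fcd2d030cbbf2d30b4b30800108260130420004d42007c0180006a0018660c497008cb49014000803e12297400000200074ab16d2233968e608b5a2d6c00101e5aa8002054b5500001d96b00008174069097605d00025ab96ac5aa96a860440c0050b572f820200285ab1802d040002d605716c0238091600916a85a996a45a896a05a7969c5a696985a596945a496905a3968c5a296885a196845a096805fc000004cb560a000c88da06701ce25b019c5af16aa5aa16a65f8b562d5c01811b046d0060b572d58b552fa686000265d17c2ea8002352c0f20188d430334d1d0014b582f60f58002223055,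
  nat_lit 0x4c60148b52326126804a000192000443f009c2f80006b49ad02844c20094b4f32200097265c40e6000004900a843172c248169a640b600000b6413a5b100045af05e2da40002d680e16b400096d2060b5a000001308002084ca00001c00080400994c780025c5896c33400000fcb8831c00700005aa81e2d540002d645216b200016aa158b550000b590a600316c45aa8e600140142d5021885000b16a6600b75004cb5205c00081820038d60000bb50034b8019c25500245a7969c5a696985a596945a496905a3968c5a296885a196845a0968059f967c59e967859d967463403511f000122e0179a7600018c2d3cb4e2d34001004801010f80e334e80e73165a6000001880365b798a,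
  nat_lit 0xb872e1801e001cb6334202c80360031a001640002d74cf96ba001175e360b5900000d16b6000803022b88ac00c00025ad96b45ac99e2eb401600002596b40008152d680000765ae80026d788ca0991b5e00096b85ad96b45ac99d018c0122d702188ae00a16b660000000080e4338001001c0058d6000403800b01500005c30070354039135800f2d58b552d50b532d48b512d40b4f2d38b4d2d30b4b2d28b492d20b472d18b452d10b432d08b41336020000200119a2e600002d542f00025d280806640000048b550a05d409446b208ae0a29ac85af96a85a996a4660b580000b911b001d97425ac0f7000000200a015000401817485ab16aa5aa16a65a916a23780e3011cb5732e000005606f82c00b449b0120b552d50cb000422200aa65400135bcd700160000096008194,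
  nat_lit 0x1a000001084b8036002000006880005ab1b320bb9b506d49ac00000d102f86a9b7c0649b8e6e31b8a03e020e5fe006c0009ab000003504680350000d5000000a17160dc016379c4d03650b513525b18000054c010000b6325807a00025b18972d9000110660900005b108e03ccc0030040002d8cb6235060097945b19a72d480002fe03517ec5fa81e400016a0698b4e000041982800016982400f40000b4a1005f700025a413c2d1800002a5f617d60851742000968a69404a300c0011be02801f200001000000010010dd40f283cc078819801340fa3485a00002058b3e00003b0040026800259e9a3000007a0000161ba02381ba225d00ce5dc96a65a916a25a8169e5a7169a5a616965a516925a4168e5a3168a5a216865a116825a0167e59f167a59e1676688bb10000b6607e000005201f840,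
  nat_lit 0x8200540843646940028662094086001308c0d888a400a08b37dc01336e0619bee009030022445300484689de00883c37c401036c84a093000888b02a001001549d97e4007813e26049600384eb2a40a1801a0a89b00a8400d11a035801826c11e002c12a10409c001409b1af34b00093074a400e6004136111800911a6fb00106da0c30fb00070e7840091a00388b13cc006139cd7091a00289ba4dc04700144680dc002009030c044000c06a35a219000622cdee0008dac1306f700026d6094,
  nat_lit 0x304c029019861817201400cc2240c700a046815e01397984bc0af009807011e239804c22c0c6009406436a05700485e69b4143c02303605d80440542e90088458174010816e6cc17200800d055801108d0248021136210004014209401a801f26c256803e22c0bf007809b122603803a03d89812ac01c14109b82a400d815386801a37603f84d400d08d0158019188086003009b8822ff401702a6a1002c619897022c01526c232802e22c1a700580d876800b08b,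
  nat_lit 0x66403506e0dc033201a1360b58036116044006a310d8600d0c7612803900664d829c00d04580ca0198830a6c03711a05d806c3100bb00d44d9ae001a18c230c49700d046885c01987b86dc1e900c80d89d2018892452049900c44583fc018041225424700bc25e186241806023419700bc1b72a40e5005e22c42a00b81e036c704005a0f09b3381802c0728d81c48015838e23047d00b4458208016020e530b9b00ac1e020001502022400c500a41d80fa01508d,
  nat_lit 0x311c0423038db981c02088302c004111a623808060207f02c003f0ec052008022c0a400fca7989201f17fc25c0bc00f846817a01e83c310803c2ffc4b817401d87e11f403e11623e807a0f00f400f041836201d8160b0803e11a6be807a63707f029c03c0fc06b807c2340d800f445016e01e88b02dc03c13660e80766070c3031c03a303840093201d08d030c03902f0da983a01c14f14f00370780c6806c0c813a137003711626e806c2a512f,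
  nat_lit 0x45701443d036e12280a006ce86013ce4429027980a0234207013c0d885602808d08c004f1366ce009c69d09413c004e11a72b809a70c08208b804c1060bb00960ba08e080404a076276809423421401240d052602488b088404808d4db047602387e46cce6c011829211c270008e22c14e01184502a202294f3938044383c4a82b402181a3934042383840037002188b372004237049d015402208b31580433010db814602188b314004230143f816e02188b,
  nat_lit 0x31cc0563190db821402b08d31a405531943f822402b08b044805529e08900a8068c67014cc6312e19080aa22cdf10150ce129009c00a61f84e7015045991c02994f16700520362ce00a220c1f401403f0a4a02808d3ab804f3a94d70bfe0271d4624c20601341d864802808d375c04f331c4105de02a88b064805406a49e1b8602999685204300150469b260299a722505020150458b860298af430c4f001504682080298c439b405238b86189ca02908b,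
  nat_lit 0x14dc0481161340092234e360120d3c1042090098234281012c4d9b580251aa2250284012846887802488338b80483598470b1a02408d094404729e11a808c1299b908e00450fc2938090234524012446834e024033e208e96011ce570fe0f8009022ce0a011c1f13720778090234147011cc4b126077008c0680e8011c4681fc02408d315404707807c009222c0e301304581ea02708b0c500541166e900a666189406c4052073040021602b88d,
  nat_lit 0x38d803d349861829001f08b328403d02a0a2807c22c14301044686c802108d32c004102a718808069089705d403f0fc2b4008c234ef5011463d1282b2008a23436a011c4586d002408d03ec04702a19b008e2341d901181ec104704008a67c8971198046116239808a231896376404435fc400a9202288d37d404412b44c0a6c02308b3ac804539cca4082c02308d368004535344a0a8002308d09dc04503631680882f889411bc0481166f2808e6c1891,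
  nat_lit 0x383803336d03f89be01a08d37d00331340619bda0191bd625c56a00cc4685e401905fc30cee300c4ea412e21c006422c44500c443512c6e900606bf88015e803211a710806227e098128003211a70c00626db0940a0003311a140006416f8c311100341166f080666c30910aa403511a2bc006e23428a00d83b045e01c88d156c03911612c80701fc08206e803906ec9b845401c076390c03734ccd8824c01c08b0d4c04011a709807e6820820db403f11a0c0007c0be896,
  nat_lit 0x52500a8469c8e0148a2c30c4c900a8459c860149bc220848000a84588dc01588d383402a36c84a051001788d0a2402e0c149d07b601708d07a402d0781ed005c22c38200c045828c017815160803011a0d6805e26c39c00bc4584400170466254e6300b4d532901cb806622c58e00d4458d1201a0d0026039e00e4459cae01c1a8e25036e00e0459c7e01b9a6025412c00d80a893401b88b126803613670e006a6e108238680343700a4093001a08d,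
  nat_lit 0x396802202a248804822c4a1009446841401204081fc3a900b046879001608d093002b096c9602d00150153a3002935f04b8b6801588b0f2402c11a74200566ba0820e6c02c11a73500566ad8c3131402e11a262805c234e4700b4ded12e25c805c22ce3d00b4de336227d005c22ce2100b4e1536e27c805a22c49000b8468b3001708b071802d29e18d80581918c3118802d116231005826ce0b00acdb810470480546db148118002a11a6fe80526d507f,
  nat_lit 0x12fc01711a114802c1120c30858015087446092c00b88b390001637b4a4091a00b88d38e0016379440096e00d88b085801a086098878600e08b3a2401b35e84a07c600e08b3a9c01b365c4a87ca00e88b0ee801e116134003a13493c3a1801c35dca409c200f08b399001d3828a409b000f08d397001d3808400a2e00f08d38c801d02a257004222ce4e0080df229024080442344810088469c540109bae25c4750088459c400109b9a6c45370088458a6a01188d,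
  nat_lit 0x50e002c4589b400688d12d400e11672f801a70609712c000e11a72d801a70409110280121161f1802622c1a60048418a0e00988b3a2801238c04b8a0400988d3a1801238b04889a000988b1338013116739002470b08012a001311a72900246ff89c128401311672600246fc894133001311a1eb00282343f900544687f400b88d0f4401711a13e002c140082064c01502a74d00286c589713d401511a73c002870f09c13b8015116739002870c094,
  nat_lit 0xd5d0000d5d07a6ad80006ad85f35640003564529aae0001aae17cd550000d5507a6a980006a989d354400035442f1a9e0001a9e100d4d0004d4d0820f200000f201f083800208387b1ac80009ac817c1eb00001eb0ac0e400040e401c07200010720390392000039217807c01ec07c03068c000068c03e345800034581e9a280001a28170d120000d12082688000068803e343800034381e9a180001a18170d0a0000d0a082684000268403e34140013414391a0a0001a0a0f400b002800b03025c800a2344b70018458a2000508d,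
  nat_lit 0x368000036800f1b400001b4007cda00000da01e06d000006d005336800003680781b400001b401c8da00440da00306a400006a40f635200003520299b5a0001b5a0f8d670004d670c00ec80000ec853359002235902f83d801083d8078d5c0074d5c0826a680006a683d352c000352c1f1a920001a920fcd470000d470806a280006a2841350c000350c211a820001a82104d3f0000d3f08069e800069e83f34ec00034ec1f1a720001a720f4d370038d370be6b380006b385c359400035942f1ac60001ac6100d610000d610bc6af80006af89d,
  nat_lit 0x7001062000e00189b3544002106001800206800000040003806a78bdc0af00066fc0020b1000204c0fe03f60009be0b2c2c20000de9a9200088a351c00002a0ac1fa00e91fc00021a8c6f0d470000d470826a280006a2842350c000350c20800400e80043ac0010830fdc2e6000041400002a0828fdb1b64fc91784d423504d4034fcdd80000f0000028c0003508fd80026a09fb033c1fb06a09a800009a8012000034fcd403f5c6773f5cd4034fcdd1a7c69f9fac1a88cec7eb1a7e69f022095c16c095c781b400001b4014cda00000da01e06d000006d001f368000036800f1b400001b4012cda00000da01466d000006d004b,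
  nat_lit 0x1f90000d6a27479e80006b40900c0000035980a06560001ac84f060b0000d6227479480006b00900c2400035780a1ea00009ab84f0d5a00000a9e9e08e00006ac9c8372c27e35b0003355ce39ad4000800a0009ad4718023009c0002f86a900040f0d5200041d80080030008714006000cd4f2a26a6800420c00500040d000200007e3528003089c211003800d0038211000ce20004108001a006001a10800046a49c3000403600048580001129abe370221090c271074c61b0650195074cff607b8fe10b14d58355cd563554d54354cd523544d50353cd4e3534d4c352cd4a3524d48351cd463840010000001010033c00303607e80041d8f4100043f1e8800081b0ae400003e8479e866aa80046aa9e867a11c1,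
  nat_lit 0xd720000d720806b800006b805e35b800035b84e9ad80001ad80f4d6a0000d6a0be00002600001ce40043d70f6031b06950151c9502708d800435d8d7535d0d7335c8d7135c0d6f35b8d6d35b0d6b35a8d6935a0e7800430d8c3a30d800405c00208d000239c000859a00080200010220b34ae85966c59ae412402e3dd8d840246c1000a6d11563d840000c6ca01ebc09f0006001000609f1ebc7af9cd35fc00035fc2e000401d0004144d7c000841800c00081600040000766bc80000160000730003001000208b802c3967aa1ea618704040039ca00180500018391b706fe800a5acd7300040b1ae2000076364cd940008d703921888254000940002c06f002c201ad800001b,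
  nat_lit 0x360400104b027837c01f13db8f6f3b6000025400003e3dbc34f3e5034b0d3434c058ce130b1827a098c06000c4dad00a4f9c0c5c056362cd8a3624d88361cd863614d84360cd823604d8035fced204e1948000764d920004621b2400008340681c3081cf630004d913b000008a6204197080033e3e0422709c4003002c00900140063ae7ba0464706057e0109b260050008033800a758007000c05f0ca43280ca405f000cea800600100100010006750001019006506a002000001f1d3000800102c6c480001d805f0064d8c0000e91b1000081a00080000fc6c4802a6c48002744d8700041d9b0a00013636180103618d853a06c200006c203d360800036084e9b000001b00178d7e0000d7e0806be00006be04135e800035e8749af00001af0104d760000d760b86ba00006ba05e,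
  nat_lit 0xfb50498002039c01436a400636a4b3800207300266d4000a6d400260731e60048da70010da700480e500001243ca0919f647d980000019b4c00881c8790002000c14a1640001b9619f9b960000783698da53690001105cfd00d1c1e519b4dca3c6000062400000341000013688bd00020970000788da100040423718dca01d90370d583e640fcf09b400001bca0be1f5a6a821a0d5c21a010003f3ec8da13680f0001c006801c12c00a039c00a1746ce80006ce85e366c000366c201b320001b32180d970000d970be00081a60008ba010804437f028404e0008001c00b3be6c98000058f7f0000d910281af00006c793c3e6800136349d1b1600001a0d64f783ddc0023624d8a3bc001000a0011c536140011060020000068d840004f72000cee9f167c50ca07b79ee00001b040011dc,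
  nat_lit 0x41a000036b4fb1b5600186807c086927c288e619c9f536a80020cfcf800d203360008daa3e8000867c7bf868e7c188e219b88e27cc000042400007c7be0cc01a29f023329eee20506f682e03fc83b0e4c83b84907d20cfe33e815405206dc1b786e26d79b5c6d69b586d59b546d49b506d39f236d800036d8209b680001b68170db20000db20bc6d800006d804036b800036b82f1b580001b58274daa0000daa07a6d400006d405f000006f00005280f07e48330733849c8350f6c83e050883e855a15504c07dd06ee7d61b5c6d69b586d59b546d49b506d39b4c7c4dae0000dbb34e6dd9b787e680b402d846a00180027c000101200013de000806a0001e236a8002373407901e003800fc039027003a3dc6d4800203a04cc7d41ed00000670000f61b9403b013804c006e019805e2209b506d39eb377407400d003100d007801d0dc536a0f51bb804d012c048051214600646e19b4e7a4da6370802f3708da638c6d280986d28f7369004a36905600006d180988370e2c83700986d19e8368804b41b471541b4319012cda23ce1b980047ca940,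
  nat_lit 0x10a93724dc81986e480006e481037240a837240781547091b9069c000371c0d2371c00001c6e31c20067214c14b882a150a152855215610610162008fea850885c4032146852214a853019c7081b8c6e2a00372400b01fcff80000010000328005371c0000028000371c005372cff002c1a820fc83e9b966e500086e31fd00080010366e380000ec001000c0013718e61b8800081b370800002a6e21b8a83ba0f01a520f083b80026e09fc00010750dc50750000b0a0e811104d80fb9fd07f39fcc0019b7a6df1fb41d107308842690ac8086022839d0008dbc3f4000873400088400bc3990000009b700041fc47e4dbd0000dbd07c6dd80006dd83d36e400036e42e1b6e0001b6e104db50000db507c6d980006d983d36c400036c42e00060ac80062d81590cf00023f001500020011f7,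
  nat_lit 0xdd30000dd30806e880006e8841373c000373c21000203500023dc07737fc0001586e5800020cdfd0004dc91006e380004d807301dcfe73f986c740050020004dc6408000045200003e0ef4ff109f8fdf0a046b11ac0dd53750dd33748dd13740dcf3738dcd3730dcb3728dc93720dc73718dc537110180040008004180dd40000dd40bc000801c0008af000000a375028002013f215a3ae08b08569bb06e99ba46e897e37540003754749ba60001ba6180dd10000dd10be00081e80009ce000005737e00584e203980e47ea00146e89ba06e79b9c80800200140020cc000800c0f2174000000419f43b800c13a1b9c5cc75c000cdce2e26e680006e683f000c26f000c7480043ad8cf61380011d687582e06e4800034e201,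
  nat_lit 0xde4000c3b00060020006714de100080d800800081500080003780dc9bbc001217e1e6a17e00120a000426c00042f800085f1c1a36826e098d0b802700a20298107438c78b43882a509843d9120844811243a53f743a10e90de53790de33788de13780ddf3778ddd3770ddb4126f7800206cded00000d1ff47fd83287f700046f6a0837cc6ce0011039fc07ef80062b8deb00000a83980001bd6818fdc0004deb1266f580000ec6ca08241e11134824078421737b4dec37acdea40a00801181eea0448108b0003ce0e383c511bd20001bd20fcde70000de707c6f280006f283d378c000378c2f9bc20001bc2118ddf0000ddf0be6ee80006ee860376c000376c1f1bb20001bb20f4dd70000dd707c6ea80006ea83f,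
  nat_lit 0x240e3f133c51938a4e013800dff37f90b000602c8006170002015c83642a00080b637b8770000e240150431c4813d9bfa64011604501154160114417028e007001b000401938b4061006401c0a3905c04501154160114417028e007001a42800d00300301c5800c003614621e417f8f4c88385c815c84d443490a44298418122050c87aa1e838620b6124a13005ce2b0188e2b005cea002c02f00c202f002c6a800001e40000e4003000206ce0000001d9c3e000000a6ffa12000506b12090db01c90880000eb80002744610ef43bc37f400237e400437e50800026fc00066fc00026fe07761de20f37e40010366fb8000054df90ee03b911743e4001400037d4df641c00100b002a00b000120d00040630004301c300001be483000400080d9bde00083b000400026c6f6800202a000282c3da015000032e6f5000006c04f0000de827470a00086f3090,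
  nat_lit 0x1048413088a096807d01e0e423904e4001b8e463914e0b3828e093820e073818e053810e033808e013800dff43870c000070c05c385800038582f1c280001c28100e120000e120bc708000070809d383800038381e9c180001c1817ce0a0000e0a14a704000070405f381800038181e9c080001c08274e020000e020bc700000070004037f800037f820800817000083a4003137ce4f2e60010a44001085000452114a06f800016b082286c5250a286e31b84e093820e070010e0d3830e063814e04380ce023804e0037fcdfe37f4dfc37ecdfa37e4df8434703800070389d000003f0000299c0800080ce01c9c4c8640000188000080718050e267a20a12910803731c087019c04860e060000e061d27020000702060380800038082f8004059000429400102b405642e0000158076983,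
  nat_lit 0xe180000e1808270b000070b05c385000038502f1c240001c24100e100000e100bc707000070709d383000038301e9c140001c1417ce080000e0814a703000070305f381000038101e9c040001c04274e000000e000bc00084e0000840000105539445720a813d0ad613c810e04480fe7071c1a7061c167051c127041c0e7031c0a7021c067011c027001bfe6ff1bfa878001019000107c00000b472609f393427709a48991304885226472a0178e0c43a70b000070b05e38500003850201c240001c24178e100000e1013a707000070703d383000038302f9c140001c14294e080000e080be703000070303d381000038104e9c040001c04178001077c0010800002092821812,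
  nat_lit 0x40ed03a3894571c460011cb61c0e220000e2213a0008058000853014802c0001039c3c00100ba73d0058864001016800115e00000ba02886b39682d8146516020388951cc0e1d3870e1b4467108000710846387c000387c2e1c3a0001c3a104e1b0000e1b08470c800070c8410008288000874800289d822613800044e84e009a28d052a7289c3470c9c3070b9c2c70aa224220e8b00091088aa74500005e8e2300040d9c4200001a3a1d0850c490730c5ce710008e233888e21440734812c0000c5389000102c7108002054e680000e2102873606248a78ff026da29e05201267111c4271021f388000038802f1c3c0001c3c100e1c0000e1c08270d000070d0e9,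
  nat_lit 0x111b401e1c4000090029e8d50c1c3520c0c77802b8e5c013ce9d42850a2428d0a438b4e2c38ace2a38a4e28389ce263894e24388ce22388514000408200043dc000040c000146716000253ce2c0000419d6875a9d6c85a06820a0027a0019c5271522700082b7000874800223b8a0e5c000004e402444c8aa85fc74e005a7271c507139c4c7128de398006716342f439d8e3f38f8e3638d5129c680001c68180e320000e3207c718000071803d38b800038b81f1c580001c580fce2a0000e2a080714000071404138980003898211c480001c48104e220000e22080710000071003f387800038781f1c380001c380f4000011c00014670c800615585ca7471ccc7329cbe72f0fc00082a90008748002297002689000043605201be15385de1520e6c7131c4a71200107161c567119c447109c4070f9c3c70e9c3870d9c3470c9c3070b9c2c70a98d,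
  nat_lit 0x2044cece0445186461518406fc1930649161c7a0000c43b9c00138f4619c7a00003b043cec902a4ea502d449006ec18f38f8e3d38f1159c780001c780f8e3a0000e3a07a71c000071c05f38d800038d8231c680001c6817ce320000e320c0718000071803e38b800038b81e9c580001c580f8e2a0000e2a07e00001c40000af3acc0e40d590cd0e2cf65106119d145918b0d887a33c1018338c8e3138c0e2f38b8e2d38b0e2b38a8e2938a1151c7a0001c7a0f4e3b0000e3b07c71c800071c83f38dc00038dc201c6a0001c6a104e330000e33084718800071884138bc00038bc201c5a0001c5a0fce2b0000e2b07c714800071483d00000560000519c4c00206181a801c47549d507371cda8a40030c240031d200122c20058d6,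
  nat_lit 0x391c000391c209c8a0001c8a0f8e430000e4307a720800072085c38fc00038fc209c7a0001c7a0f8e3b0000e3b07a00200100021c50020003036001800420c00700040d000600007e38d00010010981c6400001503ec1700a783ea3d881aa06a000338c51880040d383527b087d214e82da0b623000042db00041f000087d01f08b50fa12d90e912c84b412cc3a73e9038b0e243d306fce3f38f8e3d38f0e3b38e8e3938e0e3738d8e3538d0e3338c8e3138c0e2f38b8e2d45e098825e72203539080003908209c800001c80170e3e0000e3e0bc71e000071e04038e800038e82f00001420000275081420077d16fc57617007aa1ea11b1148119f0dfd1a00ca51871249190463c59a38f4e3c38ece3a38e4e3845c87d02880028350000ef106f0ef10000101c880009dde8b4e4300101480010e4301c7761dd6001862,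
  nat_lit 0xecc0000e67126067000273389539a000102c78d800073308905ac18405ac1723cf413e050000139991a000809e827809e8008080e6500000a82720001cca25413b0000e6512e09d800273288e399800103609b800073209307841e03994e640c2043000289117a00080003c3d198002000010a8c808106f400030672a800005911e0000e53028272000072893c440c001393c9d1c9a00001a13511174458013392ce4c3bc72c800072c85c395c000395c209caa0001caa0f8e530000e5307a728800072885c393c000393c209c9a0001c9a0f8e4b0000e4b07a724800072485c,
  nat_lit 0x3fd83271aa1f387c61d2095824c9cea73a1ce67391ce27381cde7371cda7361cd67351cd27341cce7331cca7321cc673123d000435800041f00002471fce27cfe812443e348288a9161120a3fe439f39cd1e00000f983ee37cfab0f8848f39dce7639d4e7439cce7247600104d00010af000442e0804358000171a2500e442c0c6d14f1404529201513f13f11320ef01e23d98f6a085c2181068fa70f783a422c83a20e8c3a447b83fc480cf6c080c01f0068e744740c1831600b0dd00001931414a0034e893800618cee400004522860001dc44e85030004ee010076e800206818c0000edd262280a27c89e801476d1db6778000076801847227a0004756215027809b00051c1d4a7531d4e7540004278a26a01900660962373aa000144891b000089083a85c000400080002dc75280e00008b23d141eb13c01eb3d14146052000946a009000453c01200040b001c00007e,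
  nat_lit 0x45643191428ac8a4c8b5042a10b88861fd2430466a42e20309507fa0450013004e8a88a648b91d027401cfe73f1cfa73e1cf673d1cf273c1cee73b24140304b70010629d1a00081b3a2c00003400009661c2870e1c3070a25980007461d16900e8c0004621d1c00081612c00013a2c49a00e0001d160503800e04387162c96a0e1c4ca12c0e8c3a2ce8a47e745000074503e3a200003a201e9d0c0001d0c17ce840000e8408c741000074105f3a000003a00301cfc0001cfc0f8e7c0000e7c07a73d000073d03e39e000039e01f9cec0001cec100e740000e74082739000073904239c000039c0209cdc0001cdc100e6c0000e6c07e735000073503e39a000039a01e8000123800028ce6500083ea0fa4fff0e88fe93fa0fe747c0009f64003224,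
  nat_lit 0x707e018405c8ea23a840023a75248014004000065ce9d00040d9d360000153a74e9e05b818007d118e0004e993a692400900001d307dce96000454d076054e3da02782d60009f8462c0003a4cfb000800280068c423120f782f60b4a47000918746201ee05e81683a60e9748c00180028c3230e0f682f20b39d2e914000152d16b45b032d4888c1802074586a3a300011067450000068fb83ee400f0030e883a24b21d200001d200f8e8e0000e8e07a746000074605c3a280003a28209d100001d100f8e860000e8607a742000074205c3a080003a08209d000001d000f8e7e0000e7e07a00000060001ec001115e457c528457d15e0010000486001a2ba8af0a4e8af00820200000908e79000852b45c1171070000869e00085f,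
  nat_lit 0x4297000457800027789bc1ac41810645bb49b841e22444113ab8ead3ab10c1d620001d62170eaf0000eaf08275680007568423aac0003aac20800420400043a4001102405d1c4000230a1298d516245a01040eac3aaceaa3aa4ea83a9c691fb800101b3f6800102a00100001f8fda007000007c8fd200052600047e89fa0190fd700680010487e91fa200180220049ca3f3c0023abc2ba30a0001fa07d8004002919c08e51853da006000406ceaa00041d80120001363f280000028ea84240009f967e506415740040000cb9f940011d4415c0013a80e9f0c800000102ac1970004e9d003cfc93f2125a3248c983f20c282e67519d44001a4a,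
  nat_lit 0x3ac00033ac02f1d5e002011e8d923620438002757a543ab800405b80043ab85400060b78b06220810c94c00205a800215e00082d47dc8500000f663d9c1c82d83240ca232b847e12385087851d54754a5240244c7140445f1434ef53bd0eb63ad5149d5a0001d5a294eab0000eab0be754800075483d3a9c0003a9c4e9d4a0001d4a178001103000108000020c8285839418c5240f703d91418418104cee701cd05c3bb4eec3ab8ead3ab0eab3aa8ea93aa0ea73a98ea53a90ea33a8928a04823e88c621508527629d8875e1d76940eaf0000eaf07c756800075683d00002c70000519d540020b6a21320ca81fa07c1c6205a93c0030f400031d20010b380090d600043d001a07100008e0071c5c05b010783c91384eb63ad4eb4001cebc3aeceb33ac8eb13ac0eaf3ab8ead3ab0eab3aa8ea93aa0ea73a98ea549c75a00048188703acc0003acc4e8002026800214c4e0010c00001e757800427820a2023a4d,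
  nat_lit 0x3b080003b080f9d840001d84078000085c0000387601d7e75f000409c8274323a5061068418978001052400115e0001ec20058390528665237921019606443af8ebd3af0ebb4ba000024c000114048cf84062c6674a0c1483d78f5f3af52e00041e68004738001160825922c000028a08f25b16005943ae86403c27dc9d782b8eba0000eba13a75c000075c05e000013c0000201eaa09fa4f420508168e58b2a229898e2640968258857015f04f013a84f02a311228dc03dc7da9d7075b9d6c968ffd0630eb82f8075831875ba59000016d00002f824a79f825232b24ec7e504360c51d6a9600dc0838eb94ae2a0841a75c0013c90f2503a0fd107ecfb53ed0eb73ad92b1d680001d680f4eb20000eb213a758000075805e000417d00045780007c202f60e4f833eac69b114444b46f91bf11f5057142928f182127d101457515d857a064418f3eb8eb13ac0eaf3ab8ead4aa051000a758857,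
  nat_lit 0x10143b4ced22f4768800076885c3b3c0003b3c209d9a0001d9a108ecb0000ecb082000873c0008e9000058a15f4b8236a35804f68071d987659d947649d906ec0030a500030b800104f494b9740004164054893800000f1daa50027619c0ec805610c039400082b0704fbb0000249d9a7671d9e768000032d84447f004400e426048a0ed63b40be0cf400d1d9e96412c0060ece05c766000076603d3b280003b284e9d900001d90178ec60000ec608076200007620413b080003b08749d800001d80104ebe0000ebe0b875e000075e05e3ae80003ae8201d700001d701780000c200003d882ba0ac28d078c8fc84961249fd81189fc094607ae0061d827601d7e75f1d7a75e1d7675d1d7275c1d6e75b25f,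
  nat_lit 0x3ba00003ba02f1dcc0001dcc100ee40000ee408277100007710e93b800003b80209dbc0001dbc170edc0000edc0bc76d000076d0403b600003b602f1dac0001dac274ed40000ed407a769000076905f3b400003b40529d9c0001d9c17cecc0000ecc07a765000076509d3b200003b202f1d8c0001d8c100ec40000ec408200107440010e9000458f00487100002cd8b1c3546c10f341520520ed43b4ced23b44ed03b3cece3b34ecc3b2ceca3b24ec83b1cec63b14ec43b0cec23b04ec04c876a800076a81f3b540003b540f000420a00047bc2ab4ab00014c6013846a00018c3b44ed03b3c002003c00c113c45a16952a94c476700020b8805077218a000029e000020050633e8cfc2bd04807f79d9e7671d9a766261,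
  nat_lit 0xee90000ee908277380007738423b940003b942080061f180063a400219b0f202e60008be600c08500005f2084c6a8cd297007ce9279dc87719dc47709dc0348f1b3ba4ee834e773800077383d3b940003b944e9dc60001dc6178ee10000ee108076f800076f841000c3a8000c74800446d001435800147d85a809a0001f0c0322681b883c40a5d038054014d0b802e10c3c30d17812d2121047917bc6ac1aad2d53c48edf3b78edd3b70edb3b693380d607b9dc41940f309e8ee130076f800076f8413b740003b74211db60001db61040010ea40011d20000b682d28df233c6da0ef42ed09d0edb3b68ed93b61331f127c41dde2b800107f40324720000bb60f904d17612c711e05c911b41633bb0eeb3ba8ee94ca775000077509d,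
  nat_lit 0x1bd2984a6461808e423801b8f3c3c08f013c01389dfa0001dfa3a4efb0000efb08277c800077c85c3bdc0003bdc2f1dea0001dea100ef30000ef30bc778800077889d3bbc0003bbc1e9dda0001dda17ceeb0008eeb14a001829230f8c3c07a81e27b681c0207000000102b80ae84bc30e0c3a221060e184211293b8bcc197865c1800602852862618582bc7cb2700008148492d24a0eb509542580c74de00082b000085f0000f930568509f240ad85a0310a4ce1ffa5f021305ec02e9e5a7799de47789de07779ddc7769dd87759dd47749dd07739dcc9b800001c00002167991e6633fa5103078bf6371837e03a1de49b40000a680000cc821053618a07c897aa5e87989dfc778a6c000c06d000c1f00040229e320bc00101b026f4d60000018006a2d3cb12ee3bb5350000008000042cef63bdcf2a4bb43f30ab505041442b10bc907649a020c08a12ea17e52e718186964bbc6fa005cef23bcceec4d2000054c0af82a48e00003bb90a800008702263386133bb4eec2f4775800077585c,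
  nat_lit 0x3c000003c002f1dfc0001dfc274efc0000efc07a77d000077d05f00000de00000e1dee00008a3e1c0013bd44a1de60000763e100c80e7d0ed16c445d4a406440b890830b210774c8c70c18906384ac463018b906c0040f070000ef03bc4ef24ec783001e83589080391e047809e0077f9dfc77e9df877d9df477c9df077b9dec77a9de87799de47789de0777a753c0c0003cfc381e7a0021e028b4f010000f0113a00000440000533bf800200a4f550088d0800201200022bc0000098f3714478a0c4a3118c4430ca6200dc9dfa77e1df69d0f010000f0108c77f800077f85c000405100047b9df600094f3bec0001067961e5a7971e5e0230c3e82e800277c1df29cc000416c28f09a146a0b67861df677d1df277c1dee77b0e83c080010367800000068f343ccc06a1acd29c01cc0013c08f013c01391e080008163c0400102a7a00000780814,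
  nat_lit 0xf160000f160b878a000078a05e3c480003c48201e200001e20178f0e0000f0e13a786000078603d3c280003c282f800417700042940010bb82e642e00005da85c1830b950a10c0434243192b8097027813a04e914c457a141d28419952ac3d04f0d3c30f0b3c28f093c20f073c193d000282f01465c800001c005844c13005a6306a6783879ece0019e3678e1e3a9e464618c86454ccc31502740023c68f1b3c713c1e8e0430e903869eca0001e2c78a9e283b4f1600040a9e2c00003b026408c0000f154ee7ac000078a8633c540003d60849eb078b1e2a81cf140000f1407a789000078909d3c400003c402f1e1c0001e1c100f0c0000f0c08278500007850e93c200003c20209e0c0001e0c170f040000f040bc7810000781040,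
  nat_lit 0x3d280003c8c0a005614a85ce17921900ef800e78f9e40790a811a401d80018ba03120ee800a7e4f6601d800404878b000078b01f3c580003c58781e2c0001e2c14c004119c0041d278b000206cf1400000d039e9650002789a8000012c90c54b80d08952065e15c80c00009e1a7871e1e78827f049405d000024800000109a835d8cf896509308808a6e19c866a9a90cb63320cca3348dc29ac08be9638d0219803767f900b69f800113480010be784800089e0ae13446b819e44d645910fe14d03360cc84ad0cc40b90078f133c48f113c40f0f3c38f0d3c30f0b3c28f093c213e800001c000042cf3a07d934c13dc50219353513d4403c3c491e1e2a0001e2a0f8f130000f1307a788800078883e3c3c0003c3c1f800006680002bc0cd07c505203b00e83f90ff70dd83710e3c4e80e190da435830b42c90b10bd400f3c58f113c40f0f3c38f0d4f8789000078903e3c400003c401f80000e60000100fff07090ab07101c10d503550e0c38119504ae160c53d14fc4ca4aed2ba0da42f0425c0543c44f103c3cf0e4f67a680e43aaa692227a56e7a61e3078ba4f,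
  nat_lit 0x3cd400102a7d6000079a8143eb02b40aac31f0c793870d800dc3cd8f353cd1429e680001e68178f320000f3208079800007980413cb80003cb8749e580001e58104f2a0000f2a0b8794000079405e3c980003c98201e480001e48178f220000f2213a790000079003d3c780003c782f9e380001e38294f1a0000f1a0be78c000078c03d3c580003c584e9e280001e28178001092800115e000048685681209090b1144c51103480d50320f223c84f203c7cf1e3c74f1c3c6cf1a3c64f183c5cf163c54f143c4cf123c454200047c981b47d400caa0c001029800121600000a000d22d3e402074d9936719e466619e80a33e34f1f50400180740018f73e84fa000b8f4e000434000001c8000290f2600040b1e46000815,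
  nat_lit 0x138c00007c8c6231a2b593e42d5279c38e237231f1e58a38f330000f3313a798800079883d3cbc0003cbc2f9e5a0001e5a294f2b0000f2b0be794800079483d3c9c0003c9c4e9e4a0001e4a178001122000108000025569528124aa92df2bc852d0c342b8096cf2d00050794a3848e0034f3a3cb0f2b3ca8f293ca0f273c98f253c90f233c8946800083c061e180a1a6a310772628aea2bac53f4ebc77a42d02593cad459e600001e6017cf2e0000f2e14a796000079605f3ca80003ca81e9e500001e50274f260000f260bc0008974000840000129b429c5725344c415c829a855415685427970002853253494da53894e9e5a7961e567951e527941e4e7931e4a7921e46a2800042942ff432825f512852130c56f95c852fa7603b421a014f9e58a204804a0097e2b78ae126152974a60f2c50e79c800226cf3700000a9e9c7a98098199064286806167d8800479ba86007c0560000319e70000816,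
  nat_lit 0x3cd80003cd84e800207f0002a500ab02a00000c479900040709fc87f28a800040de000457800006f1ffc1400e01d287841b6c6c728782783cc4f303cbd4980ee7e281d44e10e9406f9f807e09e62a1cf3c00040d9e7400001a3ecc0af3f9cfe83cecf3a52479b000079b05e3cd00003cd04e9e640001e640f4f300000f300be79700007970a53cb00003cb02f9e540001e540f4f280000f2813a793000079305e00040ee00045780007e89fa40e4fd0039c6c113780773e54fd73f58fd5042111f3f74f2f3cb8f2d3cb0f2b3ca8f293ca0f273c98f253c90f2352200001360001143e6cf9c3eb46be1afc0e53f38fcd3cb94801b27fb9e665c8ff73fd8f32190796000079603d000457600042f9e5400020262b857515bc56d19406521904f2f000918f014c05002c00ac02b52fb4bf01e042bc1473cb8f2d3cb0f2b3ca8f2951e000a31c292a35a0e21c7,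
  nat_lit 0xf4d00040d9e9600001a3f0c0ad40493754dd90240010f4d3d30f4b0327ef80007a8070000007401c835811c7e482ca0011e9a71d019406800101e7a48002054f4900001da03a9b78f429ee86ce1b306b87a59e947a49e90a58f490000f4913a7a380007a385e3d140003d14201e860001e86104f410000f411d279f800079f8413cf40003cf42e1e760001e76178f390000f3908079b800079b85e3cd40003cd44e9e660001e660f4f310000f310be79780007978a53cb40003cb42f9e560001e560f4f290000f2913a793800079385e00000fa0000201faa07e0ea826482600979e6e79b1e6a79a1e667991e627981e5e7971e5a7961e567951e527941e4e7931e4aa550974258f3915c79b80047e2070,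
  nat_lit 0xf520000f520807a800007a805e3d380003d384e9e980001e980f4f4a0000f4a0be7a400007a40a53d180003d182f9e880001e880f4f420000f4213a7a000007a005e00040d00004578000062018a0480c340a138b15502b10ac01793fdc10440dd0053fe0f493d20f473d18f453d10f433d08f413d00f3f3cf8f3d53805081fc0000843d38f4f3d40f51000021e43fc22f0ffd34b5361e282187a8a9a0270ffb3d411304d20849e9ea64f4c0000f4c0bc7a500007a509d3d200003d201e9e8c0001e8c17cf440000f4414a7a100007a105f3d000003d001e9e7c0001e7c274f3c0000f3c0bc0000290000040404c14a1e4c5110acc2a03d6cf5a3d640293facfec3fb4fee3d10f433d08f413d00f3f3cf8f3d3cf0f3b3ce94c0000060000017c0b03fe01374bf879140a00083d44f4352e8a8229e7aa8ae,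
  nat_lit 0x3d4c0003d4c2f1ea20001ea2274f4f0000f4f07a7a680007a685f3d2c0003d2c529e920001e9217cf470000f4707a7a280007a289d3d0c0003d0c2f000216f800210000044042dd072880226e2bd8af40c2a0aa01e1ea27a81e9e7a71e9a7a61e967a51e927a41e8e7a31e8a7a21e867a11e827a00110004f8b05f40e43ff0e38000028a0a827cf890b407fd201941c1f093ab04e00573d3d4f9eae0001eae178f550000f5513a7a980007a983d3d440003d442f9e9e0001e9e294f4d0000f4d0be7a580007a583d3d240003d244e9e8e0001e8e178001042000115e0000208823012040c1754e745370a982a43fd0ff33fc80f63fe8ff90174f8c3d38f4d3d30f4b3d28f493d20f473d18f453d114f1eb200081b3d5c00003480ba0308ac022a7ac1eaea74f560000f560b87aa00007aa05e,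
  nat_lit 0x3d840003d84210000073000012cf5e0000419ff40009eb8200f5a00009b1ff00738ed6207054886e028a0749fea0009eb2a98000037800007c7f981d49138c0c3210c1c37483f47b08006854812c7b1800a7b11ec07af9ebc7ae9eb87ad9eb47ac9eb07abaa500090a81c2c5fb49095200020f9000242c00007c009613e8528c103009622301a8983d00c1e0fb1ebaa8cf5e023cf5e0387ae81203030bfe3000c0c0481eba7ae2a202c105f062cfa600147220dc0298008314f6600040d9ec800001a41a106906703620d943b346700003d94f645427b28002310f6700040b23320009ec824cf9e0000f640281d706c01b0a2a41ac278483780a07b29ec87b1aa03d8c0003d8c2f1ec20001ec2100f5f0000f5f0827ae80007ae8e93d6c0003d6c209eb20001eb2170f570000f570bc7aa80007aa840,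
  nat_lit 0xf6f3dd449912687511d6849a3dd4f6f3db95783e60f823dc2351ee87b91ee27b81edeab800000084991987b909307b88c90000495000002092c9ec9ee0ab40000eb02902e49e6883421680067b7852a8a7229a8a62296ab028c4f140002e00012230169223000100009e2a788aac001445c2d14460468168d3c34f1155000016ba37c3691150b442d047053d212384904f58751194522548906ac09f427b11ec7804f307824e8c4330edc3a70ee03a64f207864e9c2844584f6a55288507ea7b818c06090a13dbcf126ee1f99edc764f6b00040d9ed200001a3dbc00f03e93c44f143eb4668f6b3da8f695507b400007b40603d980003d981f1ec80001ec80f4f620000f6207c7b000007b003f0004139000420000081d826e0e503a05683ce46503d7513144b0e2036b4f205fe17e944a1d6837f45bc3734648f633d88f613d80f5f3d78f5d54e7b580007b583d3da40003da41f1ece0001ece0fcf650000f650807b180007b1841,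
  nat_lit 0x47183fc4de800741d01974244002578841800207cabb002000003e15d01f80eb23d6002a7521fda33c003ab94ea03fa4674006423419341c00035708e0000000295b47003f64dd000141b8191422c00456e836832084500068cd07ee9d28002ad906c063d089000919947003f44dc95aa3ca0c6031c84400028cc07ea9d1ab4063d0860000213430546232a000a0f2139193000018605c821000205904000003b2320007800081fab340f40003dc46e1ee200020761cc12b44a80090c47bb80007bb83d3dd40003dd41f1ee60001ee60fcf710000f710807b780007b78413db40013db421204e087a2488918002ac80000bc00000967b4800220cf6700003b03f4858215e85704008c1a3040009ec87b29eccac40000df400015e8bf86fe2360ad200280087b81ede0001ee07ba1ee67b71eda7b61ed67b51ed27b41ece7b31eca7b21ec67b12b0,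
  nat_lit 0x11fa000c00457c8ad000205915800003b230800000048ac2c9000000300296423021b4a4200031f6e024214e0012c7002000108c48b000c00004607650e608b514e00100be088916800156322fc000000802d17c0d9120b0004fb2010d0a2000d629f62021214200122ca10f8176000ac43ec00414280001459033d0d892095868a4807e020213e00022c610e8172b0833647b00004d40a7800453d06600040d81aa00008347a0001418c4820c200007647991e54790000417d0600ea8f123c200020b882eac1415400a0670a006308e6800a1411cc000d0535808d300008e5abf000410000011c00220018008af904e00040b2098000076471c000000904c57a0000006842835,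
  nat_lit 0x16900210a229c83e000e1d9414001d0d60fe065800e3100cc0018a7a036002836a53901900103b0002064000670040a000d00e1200c2800a0b1096502c00443344021ca003018ab3942800140cf028104000a31020600104d8ab0001a18e250216000c62042800109b165000143744a08da000040023124b154c1c7420c00100091920dec85b0845668000002800e60d08107153fe4ff414b41a8002000cfb05988c786ca8be80047d7acb470436200043280007d6007e194fab010000c45d83440d1943d0d8d17a5948b0801400a14005750e900142821d0001a2beb011fd00010e728000084700000f2,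
  nat_lit 0x3400026c3cb8f1c354a2f800021780028008002ad445ec662063c00b001000300110bb5a686a000486a0390014004114868000653d0d0000841800a00081a000800026c867219e86800220f92856405a89015a855e0002d200000e2060c6401c40000002b4400106042a75a000003028640cb423108d00010b142c167a162004000e008a11a39017800190b3580818000803f1f950902a700001aa1d200008a0a70000439c4a24de001a1ca050feb002045215600401642a40070ec15000108701b1070000a02c85f80121d901b002c3f02de0058c405b400a13606f0012041093,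
  nat_lit 0x144800945a447251e00483ce25c2c7002462058a00409b0ac8007078415000e8ab0890c7c00718818e800c26c31600141e000415f000870051000111601123f900088669480a6c0040af4d92882001a29e2382a2000c31736428480048ae08e1fd400243244e108400122984b12bf000d15a12a37500040e98892158002452861a2c20010831bc8002455c618d86001230a819185000515e36635600060e5ad51e54002001ca4218800187e003c0041363cd80068600c3002000202c96d000285f880,
  nat_lit 0x43ac19a001032a47c04c800660009d00090290c605e800053c1ba000502c18681380020f1105002102b12a0cc000e8130c302fc009188816801006c0c1001c0a817c00301602f800507605d80081f91770010a784d800320466dd024001845016000289b459400502e4d78710002a2e630d021001445015e00214f4978003407449892000101564c438a000916012e1c200048b709707f4003406d6b0990001a2bc2711c6000d16c1380fb800622850d00090f1186417000a8ad948,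
  nat_lit 0x7e800050d00282b40002920014205000243349889e6002a47a4c41a6002c41a5a200521921fc1a500243b166a00481a511c0080fc005001891b09010d400b0ec0fe801853c37d002c1e256800501613a800a114274001226d2c5002019a3660038b08003a87cb60358001ca7859600301b0db400502c00106cc0021c051c800410a061a8d600183b50f800312a861a86e00124e405146e000836b1860008950000a8ce518b50000126e3625a8995a25024d2002000093c069a1b40946b5c0970264000190816000004c221,
  nat_lit 0x1100010368350000069339001c03e12293e000c06c0e700140b01f200203b03480030fc23b8008228477000ca7a34200103c4cc000149d04a08e400007e4cb532c4cad32a003000b533088014792bf11cd6d245a00008a4d6000148ac4a24520000764d54003111d254001c69515e401c0090019526149c3368cdb331c903336d5781bc06b610392244895226489d2285b287200021f91d300080b05f800121c220036900144524a0002239e20135d00150dd2741b4800a31036700104d809c00181b492800247244a05f8000936205800143589da48c00086c42587eb00050d32743430002921894,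
  nat_lit 0xd7800226c1ae000806c35d000c0aa41400123f41fd1f800043b06c000007e48180000d7d6f915a000a4080512010004a7a9940002402250217001d1ff36a10b800c53c21c00140d8144002016085400326c064800631113100084d820e00081b47d800044b849a3e88f9803c93924e20118eea3ba0ef05e00ef0ace11d43c08f369a1268617580009a3268e9a426922f68010082ade46840010348d1000205934300011a012e007a5f02be0b563d60f5a037267e173a33c8cfadd462800102c8c400001d8010003006246216e267c99f8012b6c0fc44940012e893e008a0002594cf8001078514d08012580800010c4,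
  nat_lit 0x125c001c1e01f600301a096c00507607b80081f917c00140d082a0030c41068005136012000806d395000d255126066800406939200040cd12e15780004d93904e3d38e4e343990e58007000837c542040e5ca09c06f2000a9a00000cd4b0c178008911000e000834a0cf29d245d8b3e03d80f897d0a4828c898e95d099295d0980a9512800700ceea8286f2b910ec00010ec072875000020c00400010e827690f000287309443900000ec00024581fa89dc06321c6b8c3de53854e0190d32b4cb0003486d71032a11b0004b840ac02ac0015c099500001c49270e2400402c90980061d83680018a786ba00283c0d900041061ac80069079b9,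
  nat_lit 0x124600109b009a0020c4013400329e02680040f1244000441a586000248425d2c300340054778000076919e01192425e4000233c0eca260a1c323166c59c15ac56810d8001477178886a00023b45f0001028d2775e000000081a31bd001804b475cab017605a00028045ca1e0c00037a8e7a3a08e8809200180022e58b923c1120abbc00010bc34242e37e09022412616005a75c002a5720012ee000409b10a931b027453b0cc02d146d576a5e0978a57095b8000bb1210000441a41c0000764ad000018253a94ea13a74e9800d03113a321887341cd873b347893f1ced5da1e149140d8d209482920b483120d5d6002088a959aea4ea000349b0358000221a560ba4001000111e5d008a821007da156855027e08580069d22e7499c44249d00024e8d7325fc22380021940f8042c00032e9cf800008384c,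
  nat_lit 0x4b280004b6471256400025902192c604f817800112e9056425900057e84b00ac25d000182ee09ea58a000afc095c1574b9c00205d81414cd84815f689802ce97a800000082ea09da586be800001d40761e403a0004017af901d000100c935025c0398000ba4031000007324e139853e908000e00505a41a32530be01a400040b220e00007607c80020688a72278000876005800026c90480028fa002abdd20800000035328f985e28ea0008950866c14e0002ae429b0cd52a0000d1d30bc11f200057b053419a253e00123a414b052a9032f50b1c33b4a3400200051d10bb91f05e800500120002e000652d10021318000002000e63001f001062239a00194f44f00020788e6000220c01a00003f25b223d800200caf3,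
  nat_lit 0x4edd3b600007e655707e928e4bf753e984000e00208a001400329e91a800406c09000040b00020001364ebd3ae4eb53ac03ec94d24955731d053aa00098381202b680022c85bd181000000291780009d3306182038700094d007c1c38002c140e1010c0001ba916003c8eb80fe01b25f8000070ec1130b005d2fc57ea89919a0001bd0fac00123318187d41f58000ab48cf0c7431c48000034b9843a55743eb60488d223200022a08a8b01453822800001d6445cc525aa000a3fc5c800a00011fd0920f2000205913a00003b25a2000000a0f1300001000000157fa5bc00000065c119500040b23260000764ad400546511935fc0ed80068c9940,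
  nat_lit 0x3a8003114174000453d1ee00044185c800007e4bac6fb00140030c440b34d7c19347b186a37e00081646f40000ec9b701789f980389e780020000ddc8deb0c547d51e0018938014006000aafd51d000554f10c0cd800200016e553000600011c2a3200503368d920500084da40600083c099c000106003032e0caa404c2c00700104503be00189b00180020788a1000205400200009b2a823920000000b0a062c0010000b72a1a38080002c80004ef40055d49dd800c9b901ea2c70b242c526e60ebb09000551646a92ca77800004f21ad5132fdd4fc00053ba596a840df6000065,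
  nat_lit 0x400003f247a03900e6001319000159017f06a92dcad98ba22e286a21a9a4c60022442c6006e000c0001988c1a4c000131746891a3000116c45ad67a2d803280c8033a34639006301a406d62c12b00c410302e000088e22b84288bc1eba50a1eb020e08300348eba3ac8eab15260c843223045d0d9d24900651d647551d46289c4a71000c0ae4c00013480d89a5f400014f4fe80014be849a5f400003b2298887222465f4b7c0f900352fc4bed2fa4be58924fc965800012400900043ce6228da80041d91b6000c45050400114f54ec00146cc6184fe00001a54e80010f291b26203820006004a6f406427fe01427b6c3c0044bcc0023f0000800e2e8aad55a000054d95f8dec004062c05c26c80cc000497830e,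
  nat_lit 0x51480011f5c98289e00094f5190000513c4a28c40880000a26b1f4d8011450c48f4512d8f091e247000209452e14b40000c69570000ab6006293680de99d8918c751f000040b23da00081a4aa800047b4402552955255609f09b41f381faa17285aa162856a1511064349060b3593884ee1b8a4e20fc2494a8d0202020a8f5b1c138d39703b05727080c7017e45944e513c0b35b6059a89e0569e2464118f00011ca472d80a3901520108124231a62821d01f51d457e14a00181362bf464119100111cc472d6780020060c12c6c00003580d455a06a81189a9013804a24da001a48c7a00844d803dc015128101dc00249158d23900010002002a31a3911cc000028d05c14680040591c600043b000c0018c446280020a28a72310000876,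
  nat_lit 0x400026c9f9000a0008368c9c00500041b322c00187b800032647740004ab95f80000f28356c9532f00052ac42a99680001ec0b24aa41ba4f853e21904a8c4cbd32e4cb59224de937033c8e9a3a8b0548206284376262de800090dabf561800056e10b8004000800045958400640003f02dd2b6a0000b24b152c6056137c16055b9322cc8a56cd91a2f20a8257081d35e0000451250000a6b84e935a00003b28f8a3e904aa3f127a48a1226a008d7e0982b02adb1b926e41a82b499498b498f8c5628fa8ad70ab29aba6b09acb22517400751c51200020000002b6d330000441a65c00007600d00014b1441e21fc87d234943000d132e642a238002a1791baa1aa86c08da6d208c32010614460000c1285c00094f1f640010363d10000a168c3,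
  nat_lit 0x119e467519c466c002040526c49b422d050996000207f83e65c800003f81fb2e007e04708cfa33c0a0a8ee0a18d5036b2c364cb2c3636c132ca050c209f00a589aaa6ac0ff270a001232e005b2b080042c4b8d2e44b953e21864e265b60e3938e16d838986194f8860b4f853e014ad3544d541fd4e10001465995017c05e0000765193000045270200023222501f9000118f1000f924bc005a31aca5195000119507c8c980008c983d464400046441f231e000231e0fd18d000118d0808c580008c58414624000462421230e000230e10518500011850808c180008c183f000451a0004858000100a4a63145194f345fd4fdc79405e861318506114f74614185c40c4a6d18a4625188461d1864615184460d18246051806508c803be20c86b4fe800546ad89a7f09fca7f4000a33e05d1f5479c0082e68cf00061d81b900104d846400183c46900021069fa000211888e,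
  nat_lit 0x11b427b91af30400207c000205c000c0f803e52c8004087278e85400103cc21566200001e20ac14003c538f4e4139105a14c0530487a21f535113754c607388942890840003c00d4b612d94b681524ff401046a99801ce979235869d1aa000146c0e0a3500048d422d469c000469c2f000423500042bc00106dd466144000262498983911aca0528196001b386cc02ed1a546911a365e00108cc00110b000416a0598de8000233a3483c8467589d1a22e400110660011ce00049ff03e88b800023202cacb8832530119f55a00282980a70df001018505210da34600025e61cd2f100011a31b88d180002210594f10146000c15828c0012344cb414251f400116410b0288000001,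
  nat_lit 0x1e740003de8de23768dd0000b0c0ff4b062c1ab072c1ecf07bd02e87051fc07d55b98abb2af09ff22256f9382570b24e870f4e3d37c12004844fa851a46f11bb46e91b9676000a81420ab3a000060c2724058c1a20b87e2967818a31400000012374ce400100106220ca000000406b077000961d02ac50028242140bd405301559c000203100fc33800058680622bab0d015027e0df833928428f9236a8da3371281475000156a3708dba36c8da800224ea8f6260897825433600004c012ec268936a3c89769a9094ca3986fc1c112d84d21128a6da9b8a6e83ca4bf913c6921162b80949c47280088d90000cd51b100011b10820018eb80018e9000892402606b0002a61127813800053048fe09a408101e0c10306a5088920af2948a52a94ca5382d007aa71e9c8272203180c48d923628d8235e8d7235a8d633402152ee46d0d3a364000236427400000440005288d7800000c00288dc18a46e89f427d49f31a24548043d1b046bd1ae666932011e48d90148dca3668d923628d8332000c012000c33000400929285d0001004c1c52ac000002200a02c,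
  nat_lit 0x25d1e7479802c135017d05ed413000400e6900d92a06000172504417905e84ce00151d147400000035a3a39e000239ed191cf000822100091cf38c000843e202a154bc4000473851043a2030cc436bac9420b23a08e7a39c8e6b45526c1724e1417c28b0414473d1ce47351cc6888e680008e689d472c000472c2f239200023921011c700011c70828e280008e28e90004755000425a38200083c4704000106a79a9e8000237ed0d1bd00040b237400081a066800046e8400332a78033c9f8033809527e6095a7800002370d093bf4ef85a75a04ac71a2467c50e067219f96601fe52f54bd11c147011bf46f91bd46f11bb46e91b946e11b7682183044ab2f904c3fbade2b791532504add43990e7449711c84f328f237a8d68a2a0d300620f7c8e1a3848e0b4001bc00329e9ce000406d39a00040d00c800007e0010000515c06367ea2ba8b03630d8e34b0be49f78a3e8e0b3e0bfc14a537c14211a451716d91c067a9eb237e8df1a7,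
  nat_lit 0x4401200117081da05d8006c151e200041e23c400008353f54fe00011e06868ef00020591dc00003b29f6266a6f29bd26f60b682d400123b28ed23b6d3000110e4001080000263c1ae06a4c7443b192864e193ca2e5abcac509987fc1fe8259103d1e147811df47791dd47711db47691d947611d74759a580060c7031e9d103302c0002148800215e0008a2a0c306200013a30614570a2ca8504560ba2a1a0ba94865220dd28eeb4a092931a479d03a84c0a5a3cc69c00002a80042ba00000168fa2ad544400053b843097e001037c4584be000400a19c0520000056086000000100088b0000a858374d2400012e94e75d205001a600117c47ac0010014c801360002a0c81c01000040d8024000016,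
  nat_lit 0x12df042550a00d8031489800547e5a823f600023f61711f900011f90828fb80008fb84247d400047d42080043ea80043a4001536c0664ae00029b42878df14253ba0b7942947d51f447cd1f247c51d800230e800219800006880222e816dad508f997300002da03812d8a360d0a3e432027710ad1fd40e077a65c8fe1a700081a614c8ba000212b006a0b128a00011f61440d1803600b8a2853001c28fc23ee8fb23ead3d6845a1568615a943903851f747d91f547d1a700203d2802014d1f400011f413a8f900008f905e47c000047c02023dc00023dc1051ec00011ec1d20038f4200384b47a800047a86b000a0020000002000a7180010315426076486726ec9ba544400169a0028f360028a4,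
  nat_lit 0x17405e46402e6a250d02b5100229040008907b5b18d86d559bc08748f400c000d20e6b400100100010a452240080005ac80fc004800060c00113bc0095800010010901b58481c000036276000290287f480c0000ec0020004b39148a51c2ce400123fe9002402901357000c5c7000c2e00042e2ace67e40015024d5b33800005fa918997501cb641c646ff13d0125598c00447e5ab2d0003327001488af627a0248b310006d5400221480023de06cacbe0009e21a540d70000eca3e600008a597400147c49d23de000076597165d20e965e35c4ea63a94e205dc4b292e049315a8ca6f1c9872452ac7205aed3ca000d1ea47ad1ec47b51ee6a88f4800428c100013c26c80ca0eca4b0353000451700351200009e30a5c5c13c6203801047ed1fa47e51f847dd1f647d51f447cd1f247c51f047bd1ee47b51ec47ad1ea47a51e8479d1e649ca1a85d2b5b14ecb4a8adca280afea1c23f6d492e001f000060a8fd800003db51,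
  nat_lit 0x101240194d6000009219222d48f0756487935000602280067b000201152486c2000a47200a8cb000004404982c246e2b024345709a65b580304d4054931c017b1726a16d400b824a4300002430079218000121814890c000090c05600a085200a14a028ab42004eb6c0f50b700014ae16c85b60000015a8400105ad67f23448d413793ae0e51b000000b501f4890092000169e3fe00081ea0481165a7000003d0ca07c40aaa9ae26a89ac57d002c9090032d7c0cd514400468c00000a40000eb01501dd11c56bf2a3c59a000521a486d21c6bc54c0e462caa8e4308288c000243290d2436d7521700041da4280008c4511000048509d03020bb000290935c,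
  nat_lit 0x123400012340b8919000091905e48c000048c020245c000245c17922c000122c13a915000091503d48a000048a02fa44c000244c29522400012240be911000091103d488000048804ea43c000243c17921c000121c08090d000090d0410008837000874800256305848900005c0420f09ab809088014a48c9152452914244e913244a91224469112442910243e90f243a90e243690d243290c242e90b3654f893e348b16da454000248a1c0048000d22845a914000091409d489800048982f000202880022bc000014947a0d6922adf4b7dadf83a304e49eea44a9122446d9000124600011d20000ddc3758d55bbc79a07453a10ad4ab95bd9242488db1a47291c246e00f28ca00fa466012804c3568d5c35994e0b5414da0c90b065562de0b778bd82f68dcc373a446d880030128003216001000e91102f,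
  nat_lit 0xbc23b1e4017ae60922172000802b0008f600020160478c6c00000b05e9402015847e920a390ed13cd0020be29180e7000e60004f016000657e922000053d2e4000124412697100009220894b8000049104625bc000248823839c0005244112922800206c1c400012432900e2294e2fdae3a56c0bcc29b00129222486da43164fcc008098087061400382608243000019b402b2184000a0d525f00012440e0921000292ea2d521948752200044905b38084a44000681c45f14b400215c91d800031052b000523b12691d80000ec5d92b2cacc17d8217085526148f523c48ed23a6cc91b000091b041,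
  nat_lit 0x18003114002000453d257000441800200001a495400049ec05d016c058017527b0001b800ac3a2000295c7b81d0c00055a928800026c640000124f27431f00009268821cfc000492c3f95f8000249220172e00012470fe3f000009229b15d08001490c0a248000094f16f000049009d0b7447407b811f87b8b93ae4c001a47a91f36f494cb050008c105fcb91800295c5a85c8800000291c246e91b00020232e6cb9bae703ec9602db800049a4042072934250eb9d90dc2fb248e923248a92224869212482920247e91f247a91e247691d247291c246e91b246a91a36d4925248491c00100d82fa55b024008f54696d8000249c92783900d8afb5c6c79a1e14af6492124749192456d69240000924060000008400008a2500a5a06d2b9b2e6a019a494923a48cda800200bc002216000800a92382f,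
  nat_lit 0x498c00300d82ca4c200024c207d261000126103c0010f920011ef01d955e0005b98064332800063125d497125b000c02b00b45d509a03351d75b924b4001007201924f062800100d400115e000005093205049ecb2d2cb02e00b8976249692594961257666afd000e002259063c004000d9881dc002000409000100000010e400210da00205200140d1000cc10b46ae800049a80ee0398001470070ab9c0000c849540001360660002929882494000129e063000092813a03240ca4ab92af02ed7402404002493524e6e20008ba400a973000158f16c8b80ba02e8a4d4927a49c926a498925a49437811217480122e42e68ba20088c816f958700006424bc92ea4b892d8000324290431a8b66ac2833,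
  nat_lit 0x49ac0001bd15155450340cdabc716aabba8bf62fd051893624d693537b49e800749e81ca4f600024f60fd279000127907c93b800093b83d00087f400087580023fa8fee5c0000024803a4d00030002229271000041a4e293924e693a00022f80bfa3b38ef0abb8008de976b2cf97810c002ff55f47a71e715621eccaed2fc57aa2ffd81f55cc7c455fc7dc1f7978c2d09303053c0026f22ef0bba0a0a5e80a392b05a0a604000b78011128000b52f305115c3053c0006ee93824de93724da93600003f60fba00b00280238018007a4fc93f807e2fe9690bb3aecc3f28fa05a0aec098037649a80001363f5000093409455c000049989e0fd200024c81fd75d0001262028bae80009300901f20000497898967a00024b820177a000125a274962800092c0914a9400049584a0076000a4a805125200009b007203f16543208c80bb9967401ba4e0000a4a2dd4000002926345a93724de0178bda45b8086930a4c092fa4bc92ea4b892da4b492ca4b092ba4ac92aa4a8929a4a4928a4a0927b74,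
  nat_lit 0x127e0008000591813e075c13e5919c285d6001800289927b00040da4f200001a000151719c87a01e3c672545c00049e927970893d000231127c00040b2a28000a4f230d51400012791003368f14acd102640a96bc3382a2c93d24f293c38349d000049d020a4e400024e417127000012700bc937000093704049b000049b02f24d400024d4275268000126807a933000093305f00004320000e726f69be26fa9bf0488a878cc2bcd922c00324eea8624e0937a4dc936a4d8935a4d4934a4d0933a4cc932a4c8e086785e6d79c5e742b00abd2cd49c927149c1c0aa1493aa4e881d273000156034e05daeb6bad0292983839c0e6af2e00138007308360005bf8cb4339800078926f49b926d000c0a61830601572c5ff2d71bf24dc936a4d8001258a3bc0f104020ff0bc8b7d49ac001029409c4b00c5000004fa5b22b809e02ec10f043810c0a954af0a85792187c2332c0d7432bf97445d0cb0308cc61f23b865a49b126b49a92696f8aaa2aa69370ae,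
  nat_lit 0x503140d503940f09f15581ab17ce25d420408155554c6011c5549551003c0114b8d2964a552944a4d2924a45c78236aa88808a9d8048e38143267c01a5b600113a2b373314fe0001586103800000300165000011ee958c562c7be56f483620e0b815ed4a425e8d8843040f2d6210f323ec8fb5396576b13413f44fd53f671a00083d4003b1b000000d002c642a901fe2a64008ac96593acd400038c56202020fed531004164a2c99669716004801000016e4ded37e001d8ba6f89bd00060b9663000137b57e9bc00000f138a4c3400213698580020f008a000041a6e89bb800498538927001dd000510acba0ee00008984a72c74a0a000000454943ef54edc4000200100004581dd000000942a0000004b1d349000498704a812304a8987000528470eb1c000000484e001800202c93f00021d800200009b03bc0000004001b86,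
  nat_lit 0x8001536d69295300001d800300052a611c0058008311368000d2a512a005800420c00900040d000800007e4d900004bec00372e9b1026a9990046221a73c0140000e592ac00080b2554000876000400026c012273421f803e99702629af000400039500012f64aa11325f006f814696f00de036014e98802740af05c81730d8a5cdafbe025008e3e683fc1372c54b15ac58b168002e5135b04b932b007043c00789e40001c9a53200001500540004a65032b3e000253224c2d9539c2ef53e42eb5f706ba013129b4a69299724948800094885e4a3c0004a3c4ea51a000251a0f528b000128b0be000093a0001ce4f353ce4f3d3d00a5149f09bc9b326c87381ce40464a552944a4d2924a452904a3d28e4a3528c4a2d28a4a25c88002957007a080263271c00000e15421b8956007a5c597143e60f92ae326060202526e4129300012930be00009de0001ce,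
  nat_lit 0x12ab4aa92a900083d12f54bd41b406cb5fc5cf800208681b01ac00052ed4bc072a5d05d445993d000b802a97ca56e95b256a95a25669592562958255e957255a95625569552552954254e95339e000409d000485800004d260c27d2fd4bf98052f057f4229d80a4c7c0a34ad5ce80040ad000428c047012000132002200860000014ad4000136022800295993c4ac000129e0220000958094006d31600092ae73800b0026000a214df401200011300020f1ab260c7ab44067019e98b39b00001e152ac0fc4c55cd27044559146978a55a95625569552552e64002024130e3fe00081209568f2000008d02b116a5da3792554210002274c00239c000afe403684c00012ea0228ca10b0432254e12530f4c3930d4c313084c1c00e4ae12b74ad858a75201a001a69d36d4db8006009d41f730b1e800a000adb,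
  nat_lit 0x4ae40004ae42fa56e000256e0f52b500012b513a959800095985e4ac40004ac420255e000255e1040042a6c0041d200197bc0b897300098212b14b90002c10158c5c00002a6027f44cc0f948e04d805a95ea57895da57495ca57095ba56c95aa568959a564958a560957a55c956a558955a554954a644afc0114cd503a5f2006a57c69d2cb00000b2620000259205009e00012c72749cf0000962ad55ff40004b0c9d2ffa00025824f088800012bf120b07000095e81422080004aec480d2000025724c432b00012b7028194000095a8944d1c0014acc48a562000015049c808201c88321dd81027c42f40bdc2f8541950554100b402cd30902f495d5fe4878218cbd45fd000300012b0742000901600081c03647090001b9a558955a554001821e088063618d06302d73a0,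
  nat_lit 0x67805d0001d425be00001a016c0014b7c9625c000089b4f1c0004b7861a78e02f8104b068690aab06b89b0800c96f3a7012804c08b95de07695ed047400574c9e38454a9c01d29a1823008e0008e953c6085c0c64ce0003748978800096f0704b70000008c6e266899a800203d2d800040aa5b000003b4d603521ab434010348354bd12da4b652d84b5dd18000a37831cb4018f4e241954ed81c15afc0174b11d127100c426e200aa586b2d2d500012d513a969800096985e4b440004b4420259e000259e1052cd00012cd1d296580009658414b240004b242e258e000258e1792c500012c5080961800096185e4b040004b044ea57e000257e0f52bd00012bd0be95d800095d8a5,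
  nat_lit 0x1000012da274976000096c0144bac00956bc93024bcb572de4b6d4bb80004b59daa5dab5707fc7961612164045c97325ca97225c697125c297025be96f25ba96e25b696d25b296c25ae96b25aaed021d276d2e8024973000097309d000000e00014a25c60008080008a5d46280002610000080582188a60cb0aa5891240169a5c697125c2ecd6a85a9d2e615cae18008971059001030d577c81821b50523c7580a0efdd90006a5284ae9f684aab7806b21be8d30ec40020c355ea0a615470a658050b29d800021862bd214baa8c14c30081673af00014a215ad4bb0b45d70610aed1026436907eb162c5ab17306413f2a889c6a7189c582ce9c702d4c2c95a056896b696fa5bc96ea5b8eb53c8270d2e15b696f80009c90704e400024b7516a5b800025b817800200bc00215e000805e9c60a200012dc4b741c806260630886051136b22858496d25b296c3ac01b006b002024a5c297125c6972000400aa5b496da5b896ebab4f3c06901a0a582e7c08652040047540360128a05095e047a73c0d00006ea41a152000025c2007833c000a99,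
  nat_lit 0x4bb00004bb052a5d400025d417d2e800012e807a973000097309d4b900004b902f000254c80021000005c38bb9072b86ae66596968c1260494a5ca974a5d85fcb3707ec976a5d8975a5d4974a5d0973a5cc972a5c8971a5c4970bb74bb80024c0c3825da00025da27400106880010a600d80500002074ba4001066d3b74ee0540000b742dd20e4b403180c6161ecaf61cec2e54ba52e84b9ddb27e69f925f42b94b100012f80e697b0002a588dc000464200054a05e4a91000081d2f200001daa3e00025e025032400012ee35c3f0800097613a22000004ba841110600025d02415eb00012e61002b9000097209052740004b88988f9400025c02015ed00012de12818d000096e091,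
  nat_lit 0x162958a80080420c686a600382e0019629217d099217c862597c4bf16e5dca5f800014f52840004bf049a93e00025f822549d00012fc118a4d800097e08e15d00014bf044a5fa00081b0d280004bec472c4042cacac14825f897dbb84efc0004bc435a5de000277a1c13bb00192ed45a9de277600225da9773014bb80004bb80c000006380007bd2ec4bad2ea4ba4003027809f02802833260c996510abb4028afa2c04b00162c0e102c80ae4d513534d4935177a97525d2974000404f015e056a6a69a926a2ef12e7000409c4ed13b515000001389d98a2027141f2d0cb402d04b960be95f657dd5f80c2c2884bc52f04bbd2ee4bb52ec4bad2ea4ba52e84b9d2e64b95dda5ee97c0000a68a9a4ee94cf16f41c900092f849aafd2c4000102100047fe2270d80227089e59b04a451eddca5ec0008764bdc0010360e2000097a88e1fe889a59a04034bd92f5770977000097705f,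
  nat_lit 0x14bc15b58b832298cd113044b12884a54c59e22c7c98ca63069d31600598930e600b801a13d2d114ac38d0000c030b6002aab2f0c2df0014622b1800209b56280030780f300040582da00043f0b3800181b615400253644a061800081a0c100000fcc28b0a0c2780003e53098c259e92857a1becc621c086fa1c086f21b67b6b0fac3f30fec40310213485ac358a9acf09602000c0d05a200208a0b1c003078133000405984a00055ff12e16880001f8004000c1db0b0de0858a0ec800496557a075c0012d6c3d80009800624bfd2fe4bf40045bf03462cb18a231a8c6c62bcb552e7cb8b2e1cc58316887f59bc8735a4946351884f80759e025fc97ea5f8001adf81a23080c20b084c21bbf4bec0020c78265507cc5000219b30f41400005be16f715cb7b8682593964c49492507b198304a5128eb50881e20212da4b917345cc964a633b1383bd25f697d25f297c3be,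
  nat_lit 0xc258000c1f0004127850c6f400109340074d6000049e2c48dc093c7d04c74b90a10b4a802a69c494000132d0e099580081ee0dc000478700047480001f784fc1383e912c48c863a8ca80ff40034ca13294ca9e3993e4c188be23007b41ed8004993a650994bc65dc03da000503acf61db000069d32300001d876800026424e83b0000131f35cb21800098e89420a80004c6c9e107600026322406ca0001317028acb000098a89056580004c4c98ab2c00026220505e7000130f12827080009868915a000014c2c4a261200007610017415d097435d1024505e40004c193074c21e2a7900be94f853d08fc98c262e98b262a98a26269892622988261e987261a98626169852612984260e983260aa5400152f856e54705283140000464a1509f,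
  nat_lit 0x4cb80004cb8202658000265817932a000132a13a994000099403d4c980004c982fa648000264829532200013220be990000099003d4c780004c784ea638000263817800209bc00215e00084e00008a2000145b51701ca8b413331d453002fc9f9817e994a650993a64c992a648991a644990a64098fa63c98ea63898da63498ca630f2d76f10bd3320a0abd8c5e9989a700b13f5002c57265c000265c178000209c00015eb29864a1368008995bca000c26a000d4a2ed6136000481c001099c0015b60020342003b584c94000076132000099193a066c0004c8448a7d4000a63e25131d00003b033a3c10efc3bf8f043b70362000a63498da638f240004fc13ef15c9f7836ac6c14d8005a66cbbd09361f22efabbf2efebc007b81d5a642990263e98f263a98e263698d263298c3c8,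
  nat_lit 0x600000089a3268a9a20056a428536002a6989a5a694f3c0040a6800401ebce853e0019a7523800a000174a902000269a13800a00100b268e00187600140020fc003000406d3470004418002000000a52c00300002900001e7052abca069abdb858400000069a22f5000934400018b85801558698bbd9726c8d832e094800cf3534000040da67c00001a4d000034f409895c413d0000d3404cfd33e708001024a0cb024a0013cc50240d4000062a6800008164cf400102a9d8800099e8144f2970a5c2c9801e3c42b50b80d44cf933d4cf009a65c000265c28932c000132c194995001e99509f4cd80004cd874a668000266810533200013320b8998000099805e,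
  nat_lit 0x4d6c0000ec01300029af0006f4c00052900214b615f85aa1c02f9861915d20fe82a4002aee4d640010369ab800006935900093fb21088414fec0024d653584d5ccf00020a703f40a70002f3013d50ec14e000535a01c9ab800205535700001da7ec41e0dc43700f5022788a09aca6b09aba6acf493cc00013480d69a300009e50704f2000d4d1116a6a000026a011934e000134e0be9a600009a60604d280004d281f269000026900f5346000134607c9a200009a203f4d080004d08202680000268010533e000133e08499e000099e0410000103000029267299c266e000a8fe07227889e1a7849e0bd100000f44ee45128f814514f853d03c0a20a68e9a3268a9a226869a126829a0267e99f267a99e267699d267299c266e99b266af4134e000134e1949a600009a60a2,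
  nat_lit 0xadf0f7082720a03c257903c74d913637b2a6b0e36ca9b2a8caa8fb0bd1860ca69a6c8f6042a578936f34e9b20000a9106354881ac0039038b7c00026d61c000002600970d6a61298203e00049b421956c807a00043126c80008154d9000007603b8d4c6480ca400026c4f5d51e54740022e60ae033e000a6a065819e000024a6ba00009b16f00004d6c4a2a3000026b220819a00053571209aa80001d94a704693e004c41363445949268099e5d2899b262973824597193fc990e3320ff2336030f532c0004d493534d51eb2994187923a48c1316662b3e87010a7054915222942b9c9ae26b69ad26b29ac26ae9ab26aa9aa26a69a926a2f556fe5bf536e15cbf605f00041a7002c0010369b2800020c0000b040000025ea000000080505c400052d800244c002000a0142e1001002900c10b800a000816,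
  nat_lit 0x5c497110040573032c0c0a78b0b0002f754f30c8c0001b89be8000059613000137b1002a000009bc93a14f40004ddcd72f7600026ea2507ec0001373104b4c00009b88901f900004dbc0a13ae00026da2409d4000136b3623f080009b48805a500004d9c9d0b6e00026ca4ed70100053631289b080001d817505d8b4833258206084cc8607181d6078cc6204d69f12045492581982660cd3f20d83e1654c0034d7935f4d81ee26ba00112acba1ae841a00012cdc00108000032a09f1012653c3dd20c8aed1c9d614151136b4da93694da13674d993654d913634d893614d8135f4d7935d4d7135b4d680880029bd092a04b277603800000315c41b89bc079269c1a6e4f310e2b54275000826d2f6c0010f380a900600001640588dd55c85340e003810ca49510fb80004d9ded0004c9e07da1300010f717b900600007d41f40ce,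
  nat_lit 0x437f0de4358000116a93c2b952d35b19b635a8a085ea44864dd53744dcdf1a6ea000015096880c5f7c55f158455f5f7881000113747c4001901e1b382b00096bb0bd4428002b5d104637c0000d942534d025a0966bee10242528ae44cd142410f8440a49a8a20c2292c112aa4ccc316e40d50358a58a6e49b8a6e09b7be100014b706bd43e022944a96ca5bb30acc3330e4f99ad215284dc9b8bd800081d9076cb980020ea83c035400000fc03e5d20eb036aa8f2a3ea929abecc029669b73e0000000101c0b7a6e69ba00029d4274eb3d3b54ed13b3026830901200014dd13734dc9efa74e026009600026e639137300003b009200026e652032c000137312a19c00009b98c30ca40004dcd032e7400026e624c4a112897ca127849b5b1d447013d3754dd13737a400000be09f8cb4e6139700013634d9180a6c200005c402fa72a2a15c10fb0b2e2cb4242065c04b4dc53704dbd36e4db536c4dad36a4da53684d9d3664d953644d8d3624d853607bc0089210008a94,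
  nat_lit 0x5e582f2005103b326cc900262b87dc00013910e69c780062780dc4e3c0004e3c1fa71a000271a0f80011fb40010a6c190a020002074e240000763f580009c389414e00004e156a8de600027064e963f00013812783d600009bf87f57180004df4400c4800026f61fd58c000137926233b00009bb81419d00004dd44a05bc00026e624597f00053711289b780001d82dd600d804601580607bc018000936c4db536e7ca0008028bbe0a200013855324092708a64b32c5e10a9a27fa6f69bd26f29bc26ee9bb26ea9ba26e69b926e29b826de9b726da9b626d69b526d2f9137c000952f0e09bd80009bd89d0004abb00042986f61c5800081d377000c37f5fd17f515000106f80010af,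
  nat_lit 0x17d900053871009c280004d97d717b168b5a107975a396821e417d400013847d4be9afa42a7338a5be3392905357290d2432d5ca40e4fd2f862af0a3a9c5a7149c4a7109c3a70c9c2a7089c1be94e3000012ec84af0625e802681c615185001234e00003b40ec85620a6be85a5c0004e6039a72c0002d2e37050e132000101e26489900001a74e4800007626300009c813a130c0004e396aacf00002718250793000138a2783c300009c40901d780004e180a2cb200027082416590001382262b2c80009c00145ce80004df89d0b9e00026f84ec602000537a1289bc00001d8501610d84461158460d78409000d3754dd93777ce00115de0010af00044075da4358000c2902d61a985131bd09130c44b00ed53834e093814e0137f4df937d4df137b4de93794de13774dd93754dd13734dc93717ccbb32eca9ca8ae,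
  nat_lit 0xb7f2df847c231c8c93211a0937bd0cf13b96bd0c382e00aa550154095035300208356d3994e613974e593957e20000318686291ea47211062cd372b1ca5415c456767959e451d53987e0000034200010b522176b5da97694e5df78000215ab483716e35f80a19678ccb826ac9a95fe0a50159855f15745675fe98162a1ca882a10a803a49aa525a978020a93967dc3d900049ce8574e700004e702f000220180021000000fbc61f0c4ac8ab2017380049cc3eb00042f200054a2d40172000014139400001daa4c00027242502d6000139012249a00009c713a18000004e30400bfe2f62db4b6cadb041507d01f5acbc000a714fb40005974603246c401314b2e08d823533425d5b3ac90ba432d63243490ca3d25022f581f32b149c8271e9c7271a9c627169c527129c43ec619d8664e6057272c000272c1780001870000080ac7ab1c27200049c9beb0004ae400054a310ac4200002b938f00001db104000271a4e84dc000138b1222f880009c493a,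
  nat_lit 0x19f712d59c500013b37ec00033820b3103c21cabaeaeb0cf02563388fd59c005999f24ec93b17e89d380009d38604e940004e942fa74600027461793a100013a10809cf80009cf8604e740004e742fa736000273617939900013990809cb80009cb8604e540004e542fa726000272617939100013910809c780009c7860000001200008a0024a4db3eacfa13f0bf2809c027a7469d127429d0273e9cf273a9ce27369cd27329cc272e9cb272a9ca27269c927229c8271e9c7271afcc44135a53a734e9d28000bcd0705e600004e8d16a74200193321ad3a100013a107c9cf80009cf83d000ca02000c51b3d64f780046419d80cec0011081e587940000f24e640032e0d9ea11d884411d99e927b1f90004cee177c5cc00111f048a1aa000014004f21b,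
  nat_lit 0x19a003c4e5c31af964e6806e9ea272c9caa7289c9a7249c8a7209c7a71c9c6a7189c5a7149c4a7109c3a70c9c2a7089c1a7049c0a7009bfa6fc9bea6f9001588561d39715cbe493961c7a72c9caa4d11bc27e59e00004e59ff80023a8b3da257acc8b31acc407301d0b3bbfe00004d66250380e9e232938e9ca2726ff400322080030b800107fe1ff215000447d59f093800023186ce50046300b13903049d1800005407400053a312a9d180000ec56362a44d362153a34e89fe283e062142e50e340ed0303160c627449d0a7409cfa73c9cea7389cda7349cca7309cba72c9caa7289c9a7249c8a7209c7a71c9c6a718fec000002541f0b09d5046a2302f74bdc9376d08942a005a742fe800059516530a040bc7f2b2a093e22b01809d03f84e840010369cf800005448e00013a04e7c30a7400002c6218c40c103418306093a074825cb3f89cf8a902d022b4e8407aa4ca71a74069c00028280b714450717b8cf69422bdf9364c003408d02b40c5e1092847415d466e343e6f199aa6c90e3c066019a9cf273a9ce3f7,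
  nat_lit 0x68d5a3400440024dfe058002009800214d5db004400040e9bd80000ec00c00053792769bb80001d819f67f19fd67f99ff13c405600093744dd537681400080aad130a200013ed4fb81c80acd1826f29bba6ec9baa6e89b9a6e49b8c0900015ce1030413574dfcab9cae789bc20b26ecfe000007dc1db03a003181020a34589ba862278d8314431a1e19e9861003138c4e2d38a4e253884e1d3864e153844e0d3824e053804dfd37e4df537c4ded37a4de53784ddd3764dd6038000ac7892e1622a6aa9158e5d1447f68ccc943164c4b49ed2673a8d27b49e911e68e05c25d008962800a023859a5a0dad58f0da138b80c002003420bab9c2091bb6d0792c2bd2c05000c0171d9d9f4137419a67bc196808001002c3b333e626e0332cf7032d00c001005d74112455ca49600000240001144e9804268b4c8f324c852215585f4e1a0127320000151d940004e644a8d68000273225c6b900053992909cd000206c7020001398126c2900049cca7303d04bc010539980226f807e9cc299,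
  nat_lit 0x113a01cd09a000038408c2e91448c0c143c51d4d8d3624d853604d7d35e4d7535c4d6d35a4d653584d5d3564d553544d4d3524d453504d3d320000c460d4ad2534962a188b143850f07694d353514d5074988e4d8a0826ee00003b5b2453614d40004ddd3762b0114aa0c9bb8ac4df80004d803526bc000802a00626f80e0000004c0002289caa72ed2717e8bf22fc610fa6e69b926e29b826de9b726da9b626d69b526d29b426ce9b326ca9b226c69b126c29b026be9af26ba9ae40f58b00014dcc2b800458800042bc001621848c0c4000310c4378396214af23c9da2c380111a68d8de868c4df126097c6005138b4e28018501406b2974c2a13e810c4dc53704dbe07002000c000049d37100000180d6af300009b78730001a1357982809ec9c6a6de9b726da8455e510ada43295c39f02f80a90b7c2a60a903604e093814e0137f4df937d4df137b4de93794de13774dd93754dd13734dc93714dc136f81a0010e50b770d600044d012e46a8000081020086d674599c423578c00f4e1c4272f95a4d69385dc44c91301771a4e6934be52fcc10504086bf587561e120137f8189c00000d1a10968d041c0021038758bdc800e69c0012ef400108000003440de06b,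
  nat_lit 0x4d680004d682026b000026b01800012fe40010be000007801383769c9a7314bd8f214fd915038936c4dad36a4da53684d9d3664d953644d8d3624d853604d7d35e4d7535c4d6d35a4d653584d5d3564d560a315a25b802481c00027e49fa1ebc5368264d900009be8734dec000079c6e346a0f4000281c75d1d7000034e9bb80000ec75a0001375274bbc80009b9ad53b840004dc44a349a00026de208e20000136d120d2600009b5814386c0004da4481c1600026ce6c5132000136502870a80009b193a1b600004d849dac8a000a6be25135d00003b09462510e863a20cc85e7318ec6411fa493124e4fc2c0ab022c06b0108902808a3428d8010000a7ba00026b69ae4124d6400102c9ab00020553da000135602802031b22928a5c4cf0a5cbae0de400226a90440031bc575c1ac00109d200d04e,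
  nat_lit 0x1a966a54b8013c9bb26ea5b809d51493760029c500020f138a00001db0e2c3930e6000a7149c4c1607786e917d01004e2a0a91da08027122a537100041e26e40008164e780004dc044a73800ba6dc9b79244e080004e08202700000270018137e000137e0be9be00009be05e4de80004de82026f000026f018137600013760be9ba00009ba05e4dc80004dc82026e000026e018136e000136e0be9b600009b605e4da80004da82026d000026d018136600013660be9b200009b205e4d880004d882026c000026c018135e000135e0be9ae00009ae05e,
  nat_lit 0x516800310605c80041291b802cc0020bbc98016a00104a24c160500054550feb018000a298970ec94b6051013152700106ac1454514e0d273a00008366080004e6c3f9a740002732200d3e000139727834480009ca894388c0004e4c4833060002722200e2b000938f1049dc00040f0058000441923a000a7162517c000000160fe48e062cc5000009da802b0653b500000d0242a4680009da4180044001036016000005548a000137c0fe08f00009bd13a04c00004de048025e08e290ea44020aa2c80009baa6ed05c0a36a680274de13774dd93754dd0ba80009bca6f40bc0026a613772e4d4b00009bb971,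
  nat_lit 0x557401307600a00241f801d00497d725e2e60022b139310348015106b0f802a31031c00504dac4000983346bc5c4004962010015e00221f9683004462062800814f0aec00f036b40801c20c2b800340b046800788a01c400e1363af001a06c58200304d42722aa8016b7b94b14f400a00056f8b7200404bc201546001c3f05e800508a0bd800929e00085f000441c0be000702f097ad7000305ea1fd6b600142f3138084800a05400000089c0174002049c000c1b,
  nat_lit 0x100c01654bc47038a00a85d66e17a1005431e12a3248028b1e07f0fd40130ec2b88024a7b88c16500125234a40a020098b4e549abe00496a911cd5e002227789704f40115c5ca929ac00803b097400f5350462e3600887616ec013014cda8b7800900a26c85b2004426c260bf4002020dae4003c5ba1202db801c0761ad159c00e58dc0a03580088150fa801006883f87da007aa3223178c003c3e01862cd003027713c13b001702a2cd002cb4b89c5c48016008049ae1a00a81615a00140ec1270026b8508c,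
  nat_lit 0x8d50098418b8e0129366b9402514a4410a5201210ac4e4529008c0d011e0cb804606dade00896c22902aa004422828800844dae7001001b13cc01f02c13e00400ae93c09f001f53cca400e801014f01c8020188146804006c28e007c3b0cee01004e04c0962007c06435e0ba003c06608f185401e01a1030c2a00ea7c46d14be007061529cb598036a5e097041c01a26c1a1003422829100640d89f400c2ca2250292005c3f037400c07e85443cb005c1b81000e3002eb10930,
  nat_lit 0x194c03506809c8c9401a01606dc03453c04a827c01981a04f00320fc221806a22842e00d845085801a94f10a4034078b32806620c42800c80d04f601907fa54560f00c55a72621ef80623103dd00c0a7aca201781b0f7802e1061ee005a4d81f500b566c2a40fb0058ab889a0c5802c0a28a92d68015abe224031600a81d86940150830d280290ec1f6805213a1b8167402a06c0a42d60014835c05011200a45053720a000523101e000a0a78b9e01381b,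
  nat_lit 0x27400e80b064401d08314fc0390ec679007c193094673c03d02c258807a22861500f0a7af7e01d81b224403a02ac3c00720a008e168003826c38c007008408204200370ec0e900700f054b00dc3b306001d936066403b0b24a9368401d033230c2af00f80db24c01f01444b00a200f40ab24601e2a5a5201b000f01082780798076a1c9b354e803a52203f820c01c876521403826ca0d00702280a200e0a78de001c08a194803729e329806c15c937,
  nat_lit 0x33803603949628de01a88351b403403407180661d814700cc168366a5e80640ed56d00c549e118178806e0f197b00d82d81260eb006cca0937075803502aa93006c05443c00f81e056001e8150adc03d0e589b889e02108a113404129eb56808006c8de00fc1f0126121007e11a92f56c003e076156007aad708c0b2003d03616300780ec4f900f0351278b1700761f82b100f84232a4158807a0542b100f01db05a01e06dc4b16f900ed6a3028277007613a095,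
  nat_lit 0x26c00c80d050c0198760eac03502c22d006c06da5700d4457262c19006e1d38c35b70037114248006c26c54700d43b52781e8006812b9b05cb0033116898af66019ad645216b200c83f0c6201aac8423150e00e84502f201c89b05ec0380780b2006e20c17800d83f33fc01b86bc4e972600d81d860a01d08a0c0003929e181007006d60200dc5f336617f006c0682e800d43f0d3201a83b657803604ac4983f201b8cfc4c195900d81fa12ed0c806cb8e931,
  nat_lit 0x1fc003c11789c8d4c01d81a093003b188124807426c24700e40d849001c07e05ec0380362cb806e05575500d81d85f601b020c4bc31000d41db19001a2c302301a000dc4182c601c01a65400391fa4d80e2c01c2d682305b200e0620d8a01b94f65e0036078cbc006a2211b366840341a48a40d2001987e0f38037078118807431022e00e44d944201c04564f08c600dc22b0fed28806c11613109c8036114138006a53c26d00d01e04d2019883,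
  nat_lit 0x3cf803a0c7840093c02103c134c041106b7180820ec6fe01016e11181fd00842283f801044d87e60200830a60040034b7d808022849b00fc4d893001f04ec4dd6b400f40aaed001e08122416f500ec3b077201d81b00e847100ea0e8c2e01cadd625d95d00e967c290b3c80720f68973be003e0e78412cfc01e83b3bdc03c59f0460ffe0202da64c063300fc41b2ce01f0bf81fcb1500f43b157e01e327a6c481000fd4eb12036e807e2285c300f8a78d7801e81b,
  nat_lit 0x49e00fc0ab43001f2e1805082300f570a1180a6008a20c664011965e29030c8090228758011c4d8d3402308320bc045034c4400882871b91d6404411ec480eb202188aa25c489011841905c022889e24082b01116fa118bdb008822874b010c4d8de202101b212004110614f808012289717600441142eb008653c90601097902742b2008431056201044d90e00200ac04f174800fc4189a601f88a130003e29e530007a25d92c02a803c106d46007625e148,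
  nat_lit 0xf7f00f97c2028570007c1aa92c02a803d10639f00800f58970af404607815d808a1d963b01103f2df402288a112c04413617f808605444a01083f097a0228c412e804413622580860f004212ec04283ac64808225c131005804154b849b33a0202d7825d5c8010023183cd4b80802ad893160803f0762a90080b5e08e0f4003f0edc47894601f88a128403e136b88807a06c49c00f00a893801d936669403c18e0410a3e01d846c25cb9600f197b0fec0b0078a9493a,
  nat_lit 0x860010574b11c26f008044d09a007836d01060f873202007615480440362a900861d98cc0109794362d278084cea88967540410fc2d98082bfc1b05eb80400fc248008206c48e01001d90fe0202e7452087f00fc4cd02813a808611115209d40420880d7ac80020abfe2317d5010c450bbe02114f179c0410362ee0080c39c1e13d803f0fc2d800823105ae01004daf4001f883140004218827f008226d7490100418c220208c4183c040136be1007e1e312f,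
  nat_lit 0x65200f96e80fed89807c20693a08b4040034c74807eadc1b114ec04a18829d809253c53c01200d00c00242aec520423012045084602389b1094046036371008a212893108804402c21000861f8306010c26227413a00840686e401081d80d0021884c2517b101084261121fc808420d6f601056e11201fc00801d98d201140b04fa02281a2f6c045218c4a9202022aae0208773011862346c02294f1624044078d1a808620da5a01085cd2903568082140adf,
  nat_lit 0x48900c43f085201903c5c500310fcd1a80682cb09427d40330ecad280660ed7f900dc450c0a01b14f5fbc03507815c806a0682b600d03f0a2a01a07623140340030a9119c01983b24b0005161c0378405b3806e228b1600d84d8b5e01a83c68240341be8d7b05c01a81a620403814209d0a1001b8765f1c0370fc12d006e06da2f00d95fc120af2000206c25600000a804a01a1380a9c034097ca8b15601b81a0afc036095840080c01f883,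
  nat_lit 0x193200b49b08a201801b1ca802f02a3a1005c0ed81200bc1d853001901b039403102a14b80601d829300cc1e052601901558cc031076144006405962900c43f1f800192e386c46e700c8441258b9d00620ec50600c17381182e3006206c0af00c0418b8a017876031403208c0400ec801a88a17a403429ec7d8066026130007c28500d56268424d3806eb9e89026900365cec44891e01b0c41230035136244806806d73600cc418910019016,
  nat_lit 0x72003174b274d3a001cc96097184c01059784820360082eea201836004845093000889b02480100800d98d6600888a645801029ec8b001e20c611003c1d91ce0090f1826803800481d80ce00fae7a201912007c3b2eb001001a2ea802364784600e401281b01e40240760098048b260146d600245d8c98891201208a12600231365c5804424c92c0094021106cff004024b08c68e402816f84a80b601381a170002607601d805c06c77800bd9350fe46a805c0129b8,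
  nat_lit 0x1e4005106b778008068390000c1daddc00107e20cc0025a00480e480022b862518e8001007325e418800cb3e0805c38007114b6c8010228bb900215bd1200308010c7208914cc009114c9f001053c14800216741041e580122280910021705128bc48010228b3c00216cf2744f58010ad988023c40096370462eae00508a044000a64d849b9780052cd42504a20028a7971000487642080a7002177f274dc9800e1af948253400956a44104120040836b7000c634ca40f3000583b,
  nat_lit 0x19260004a7b24c00008307001c1000192484c23f800422848d00044daef200001507780000dcc6ef07cd77884a0c1800020d6ed00016a80fe1bc0000b530801bd40005a904104420002d444e822100056a00feb4f00001d84dd071c0005a7612030c1b8833a000800508d8df0008a7b1be0008835a600010360008000c6e9b363742180664000844b4a000220c24c00040db95a000ad22241bbb00055d4274e560002b4701441d80015744480386000ad164f104300055ce0280e1000cb440942d88006572c4100ee00301b,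
  nat_lit 0x22c123023f001d95f7de0000f2ec92000a0158a14c3290c0d2d109a42910ae5d8a212ea69856d6b80f460a1966d6a02ca02530202be4341e5800065742c8f2000032441c000200b4000418c8604900138002c8fbef0048000647e19b23c3c88002bfeaffcbff8ab2c6289f6012c32656000012a8df0000107b2b100580700117a3002993b004c0005fe618802600a00250c03701370092024c0613e51bf141f507c42a9b6a22648a02fecbfc1e599b820019076419905009400c276992085e4330000000b2d000403e6eaa17000001e8078da00002d3804422c0d7af76d4f0f6203880e004e9a66d991a6a69c21ece94a1f0e9e9836d6380d4d579812d620c8200014becbcc2d000599a02bcc180000048fbe96d99800084a22e23ee800a000b68665d9960002162f2ebcc2f322518cc039700003bb905641542b1dd882a20a400263d58f463cc9b26ac9ab1854c89b22801300c6000b1ea00b002e00c429026c0a70001568fae000b3230a000066440991be039b56a046363602733ae57a96c644a912cd909aea6bbba407ee3170113044023808de111000e002b2504fdc2707181c50010c60ab400108a,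
  nat_lit 0x5e14001034bc280001f843e0f340005e0e1e88d2220083c000319e37f8838bbbaeecbbabcf10741241c059f324650b443250b6702811d071c60518f025009d025909602551fbc22b1ffdbd6227898967240ad05701696344124108a1e0b742dc00040d400003a00bb1aa2702fa03eb0fa2276000405f0dcc37290ce5ea373c5e9225eeb3985ad6d80ee4ab92b206280b02e5b0602e4c3b00040bf1a49d6a3095b0b042c10a3ce61d0000da781e62d03814863b7d62d8c390205a0a13a4090000dcf1796354bbe2f840ed03c059b1665991000477d8702870a260000016ff40751abd7fb7d648580c30b1a43000400063602b913e02b18c690089e0156160b7e027812e33828f000018c34ebd0214685c37fc0204376fedbfc00fc108b322c9807c5e8b9700f428b0c43d6007000090900000011e54b8800000080169a0001002592a86cc9400023c916e001c0001e461832b8cadb2b451b340ccb3848000432c23ccc35,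
  nat_lit 0x199e00fc0600888755668400700015cac4e00081658940000eccb00082036ba4203084b0ccf0008b12c4200647d4000c50840ee8f000cafc00501680321ba06e788200204361e916b588400002a01c0000b1089566540005884448068000ac4223962200040d80a60002c4030dd1412e56215882202c3e0002c3e18161d000161d0beb0d8000b0d85e58640005864202c2e0002c2e18161500016150beb098000b0985e58440005844202c1e0002c1e18160d000160d0beb058000b0585e58240005824202c0e000ac0e18000165286d263398cd11bc0035e321f80004f900004519481f004ac740c4aa74d81c86d14149041809229f497d25f813a05e41ba5845610583d60e583560c582d60a5825608581d606581560487c1e887a4000aff,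
  nat_lit 0x58f000058f02e2c740002c74105638000163807cb1b0000b1b03d58d000058d02e2c640002c64105630000163007c00080620008b6005c013000084ac580002c74007801cc0400c000562a10c002b3683f400b2cb30542c949ef4761219c8668a7a07b0246c109e2821a2f30bcc90d451732e6cba32eacbb44a001005b01e1d38021005865dc01448c00180b403bba6e04180aecbb00251256260008053006400889000094fa00085f00019af66b85080ac147336ad29845eeb183ca0d3361e065360466a3712dc402540cab4503db833ab172c5ab162c56b152c52b142c4eb132c4ab122c4711c00175784e074b04dd5060001dfe00003e7571d5d7579d5f3b286bd1375d2a74a5d28749dd26509158a56e15bb79a15c85725e6856d94487561d5958b2230000177b7383703011ae81e023088c120b82590d1d6e058ae2280120022c5a18d62e0024003156b148002b16940000996a1f6404509c84d266b1a4a21c0e3738e4e6841a506a6fdc8dc3479b2a1c7870811b17b35ec97b15ec222000202580e6c7709200122f5a01040458a562a0000047659dd232cecb300082b9964000599f192cce94e201f8086cd03342cd10fb8d2290d4485121262f3b22ec9114a4521144c538a980368076cb38fb2004443,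
  nat_lit 0x65f06f0764ceff1bcc85d2b583860e119fc67f40e703a07911e481d421108426cb882d0455910593d64e59362780021da000214c3800ec40000a0b2680041db2ea6baa0a8000470c5c54280000ec63b162b9d8c1bb1b906e3db8e6e34600593164b592a27000460500042bc001081daac0c4000040e1ac8ae081c210218c218592626800023908ec02c2fa82360850bcdaf34bccc4c12604c0014d7db00114180aa0288006c1449201480023060008954000ba8005d9ce01c804d594863ac9a0000165f54000592c0a094a0002c924f17d400016472740230000b2287f00b4000590c0a003e0012c824f163f00040aac7600183c004c00258f49cac7400083b003400026cb1c8014007ac6f12d640000164007cb1f0000b1f03d,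
  nat_lit 0x1ac730409e46b34001599e2a2cd00008835998000034d6535960002ccd14c72359ad6660c8b300000b3005f597800059782f2cb80002cb810165a000165a0c0b2c0000b2c05f595800059582f2ca80002ca810165200016520c0b280000b2805f593800059382f2c980002c9810164a000164a0c0b240000b2405f591800059182f2c880002c8810164200016420c0b200000b2005f58f800058f82f2c780002c7810163a000163a0c0000000e00005f595800b1c5990f1c2d655594164f593964d593164b59296495921647591964559116435909641590163f58f963d58f163b58e963958e2290400dbc8cec33ab58a1248e2ab8f2e3ab284510001989662998b595a28330ecc30dee0042c9f13453c644965134e00032fa19c0ae,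
  nat_lit 0x7359612bbb9cb2cacb0331dcd7731659190b358000b3585e59a400059a4202cce0002cce18166500016650beb318000b3185e59840005984202cbe0002cbe18165d000165d0beb2d8000b2d85e59640005964202cae0002cae18165500016550beb298000b2985e59440005944202c9e0002c9e18164d000164d0beb258000b2585e59240005924202c8e0002c8e180000017000022802e3b723d0b67e60f0018b39804cc2c8ac0b2cacb0b2bacacb2aaca8b29aca4b28aca0b27ac9cb26ac98b25ac94b24ac90b23ac8cb22c5800043900f996cd5b308780001c6ad0f15c38e0a884435ef006c5a5479d1e7838a595e2b0ff6d6600045ac8146b3000157e610140808a114a45381743f20fccd68000915566800041e2cd000003b,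
  nat_lit 0x66c00015a0c9d1860000ae902419bd00056800fed7e0002ba288066e800259f44015c00012e844f174000040a90260012cf24f0381000d73e35e1c080040ecc52000d6752741be000806d739000d6f711cb7b80041f9bcd000d670120b410006059734000802710001400024d8dc4000d66b028b98000601292c01fc00203403e00020ecd9a00056661041db000000f8933664000597c3f9b280002cba251b92000165b1201e28002b2c93a595c0000341e1b71e6c81b28dd09bdeee88000b2b45a77440750061659596165759596558b20002cb4b2d82f,
  nat_lit 0x237c00a0e9041392e00490ac251c4f00204db2961ec00100f03e9001c3d81863f9800e01289516300065d7c3f8fe6002804a2703f900157782741e8800c06c3b9001978d296219800ab8d9b1009c0050088473c060022eae20178a00117710fe1ec000820ddfe000d74a1201eb80041d89b877f40010078d887de000aed620002900043d325e20f0002bb413c5f040000094a42f8220d07d8000380c70abbee01300491703eb6ed43e8008c02577d8e1470162daea80008165a3000102ce628002ba88801eb40015a2440123c000ae9c2088070005686278dc20002ba5894,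
  nat_lit 0x209801702c3c9802ce5c9ad37080175e800a06d800c88a0f6c01813658e802e1ec13c2b340160f604834d800a87b24c441200580db8ca00aaf2230ddf00054094186d0c802a227c5d0c44015114279002853c4ee004c0c6260c2a002420c4ed00440b10ce0082ea0224dde00447941046d880203cb0140100010076ef5002001809477a000f00c84b875e00790ca5483ad0038865366b96001a0ec0091e3000d5e1e1088040070c4100800d29e58080181de8935e6400b02ce280014bcb897,
  nat_lit 0x47b00a845059801489b11d80281480a9302401381511d40266904d83022012816e6e447400909b01da01301b68bc0285de04e009c01408704e8d8800a062379801389b375c0261f0c9e37920128156fd4024329c48166c0128b6a4dcb3700901db4fc0120c41e7c02329e2df004406cb3200844194ee01001a1e6802011451c803e53c88400780d9b8c00eb446251e020070a710fe53780361f82b2006c45105000d09b23f801920a49610fc00c083,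
  nat_lit 0x6dfc02e2ce44015da01b8c4696c036136575006a5d51b01788035114beb806853dcae00cc1e395c019083109c03107642f806822886000cca79754019342825085d00c5ace83c3f1806622c12c73b403202ce7580624d9c1300c57d3120db480663108ea00c84db6d00188831094031188211006026caf800bc420278bd1005c20c42000b43f0a4201688a148402c29ec4480565a415100c802a10628e0052058c7b00a97bb11c74e8054b87090,
  nat_lit 0x68b4900bd8048beda200683109a500cc4d98580190832fdc0312d9c4016fc01a83c315803402c5f780665d708f6d680320fcdc20068bf789772780345d10d8806c2ab800237c45e7a140371b409d004001b34f0521a7800d40f7372c24006a07607f5cf00340fc21d006c0f17ad00d40d01e001a83c11bc0346010a40fee01b08a1fdc035136cf90068055b9700d44519ba01a14f38300331fb4963726019165c4bce0b00c40c7028da0806231097300c0a78bca01783c,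
  nat_lit 0x63200ad9b411c02f005631005e00a8a78df601480be24c06100a09b0e56014005a4f011e009c72b36600180084e011d00943b0e44012004c6c4002000c9c2ece011822e000460131802704549e120c013092a225c5f009575d13840a005431081400a4a79a16014343e4e8b5700a04195a2013b530241c57009c0ec2745b1805420ccdb00a5aa81205eb0056068bd400a81db60001487e2224030114444805e53c88600b8bdc83cd7e805c06981c00b81d890e016936,
  nat_lit 0x3d00901d8d700120200b38414008c0fe29a3a7004420c72500840ef360064804638f939624c02407600016ca00f826518492b008413212e126004e22883200984d91de0129058254d2400989a711257e004ad5f9b123a80251968a9134a0120224239bdd008c1d935c01137b6230e2d008dacd3626028050068c03009c1db66001307e23b402960bc411726016093e6ccc2500adad10fe5ed805a20cc1f00b1aff1205ed00561d8c5800b181b258e5200580900c31c9402c0367378056d8e880,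
  nat_lit 0x6bb402c07633f005831067f00ac4d8d0a01501b660c02910633d805006813800a0bf637209a804e4d891100a0693260e01004e068b3f0098c4b11ed96004cd7a8146abc02961684009920148836e68028618447373401435f64c5bd900a5b2a26230e8054c228932ce002a65f847069201588a0cb402a1363a800520f0e9700a1b471283a5804e05874c00983f0cb601333b427050500a062078201389b1400026036060004ace494e14000240fc06c004ad2e1b3,
  nat_lit 0x26700d44503d801a14f256003668404bb40601c816753003868044604e001c88a0974038136d4a006e20dd1500d889612009c006e53c13600dc6201ee01c03c13840371bc0d7824c01b01a039403507621b006a09789610e40345e296b0ea60198157bf00321d4ca40e9a01887600080325e789e069a01908a0d94031136d79006006cb9400bc0a8ee60170161dcc02d26c494805e31092900b84db57a016883202402c0fcd920058c5eadf,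
  nat_lit 0x20c009c45050a01309b0a08029114148805026c718009c0a9d7e01333f425c15800a04daf6601408a11bc02911438c805053c77e009c3f00b40142f9005055800c80d8ab001881a63b80300fc616806c1d86c800dc620d9001b09b1b24035036ce0806820cc8000d441990001a0760818034188102006626cc2500c9b292740158064c470900000bd100cd8948c4d9800665e809a6d7c03330984d3304019b0f0521bf200cc6b912e5b18064cd809c,
  nat_lit 0x24d400c26c4380018c6413c632800c02ac5800280f17eb00500ab78800a03b1bb0018188120802e26da3b00580ab9f400db42a52118a00817ea120dab80582281de00aca783e00151251175aa700a98ba1280000054c5f0952ff002a0365fe0052068bf900a01db69401387e3134027078dc0004c068c4c00941db6fe01207e19e802462704b8ada0122fae4b1c15008dbae262ce980461d8224009462087601209b68cc02302a4bc8048d12889,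
  nat_lit 0x653400274d170b2960008690c0c0000d1c3100161e1855001d0a54001850213fb74400246603b4002098d70800223b006e00800011d5bbb1ba38404fa13e00404d8829004b00d60348fd864b3952e54394e6fd25d09833c983f18136fb48dd637693662934656e7427a09f04971b906e512544b000f512801a07df0cd1d917648b960c09d9426640746cd89952b619466516320a4a292369e4d7828c04a00d20338fbc199bb205ce172e180bb264cc00e64d100e2163867619f15b456d95a318d817000041b8c0000302a1fcd9200018131006cf0000c0893c0350000603c9d38dc000301a1fdc6c000180b1006cd8000c048827670000601c9d176a002300a24000d001041854400208a0a60003136d120004055f5500097ff028e1a8004c6907f02f400268884b829a0012ff6209c3100118ce10005d8016d1008c014800b5fdc4a1266006816,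
  nat_lit 0x377c033001ca0d2b04ac02ef42977520bc871b00f77684f37034c0d23c80f1f0559bce12f5b9313202ac0ac63880d4de1852639a80860033cb656497305d247009b0002188166800226c032000041b8d2001157c165c6f71a40017954660000f2a3ca660ca050a380121734002095427d011c02b8dc0010e5a0089f601a5d983f356537654f4302a03f410a489522584992b88abc794c9b80249b546d549ad65900100a30d12280e368b940078512ddc80c2e4e80c6e339b1a9a0bef49969ff27c01f0e6c8b8f66cbb8f4ded896824837ac50684a51b183600180d803800288309f800818815e000e26c04d001841857600308a09f800529edfb800800b12f09e400411415f800626da17000841998e00084ee241c74000027713868d8d6a35a0b78000b4291ac00009ecbd58d4d09057219b8672466119a17993b43fe101cd41849212705a052d94ca1701b9844fb5b40018380da70b7aca946960a4001106c1380000685af6b5c000609e340376da48b72001ba6c73dba4216e14ac447c67,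
  nat_lit 0x6130002036c25000205400200001dbaa6ea915684b3036c000c7a610c000611c50b08ec2400002ac1b300058480c64df12c4000479016d97c17880893d40fef7654f383cddf7404fc565009ccf67295c633458aa274f0acf17c8000616c002012dcb937f4f347530aaf25863c30b4000803cf3995be5de977800b8bdecc1c770001c85177016003820b800413000100c19771aa3ec35aa00042c00b80026b4d96b2e8000b5183300006a2c7d530643c115c459090800293cadbb139e4608bb91d80610a1c2bc0010df232b008424f00028ea22100064f19f96cd400272ce3a366a00080f05c400072c5cb21aa6f69bd80020518dd69438144096afb50e1c0aa9e58ec21f027f3acbeea71e500afb7ae263373626b056a15bc7337b00030a2c24409059f20854216619e3938d40011434c440010a28a2b2e06bab8d00000350a200037295709450001394ac0c0017290d7201650a050a0000c8,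
  nat_lit 0x6b600059e312815780001f9ea07a7c0000c1a4285682a03b66210868c00180464f0958cf4ec84119c3bd01c003f00f43fc0d1000201fe4186840008044ba1da02d2c000190c3380005a523618cc2aa00043285ea434800060001b00140d839c002016005400307600800044d800700080b0002c2c8009071ac7000d857186002800400214b002000126c006800220dac4000000f12e000800a4160004deb80f66643ac2005c82614d85400340006b0a40b58400280cee0280fa4b88384c284806d2400102cda380004d9bd201d807c70080640009ac0209db478fed5f8002031b80203c92da0df30991f80002cc9e8a06e030b7fe03b92d60de0000412357b1f496725d4b3075640038f8c27800e4e339106d2b9506b8187209902900a302ae62a37ea6f682a6e5f1a3867f0060dcc93f20b3b8ea6cc398866292d20dd000400047b,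
  nat_lit 0x2c00065489d001600032a01fda49000194e02837d8000ca613c001c00165284a03e60000160b2dd0c00701f290cf5d00365b4aff0069d0a742c6a801800207e0ad000811415b800e53da2b00180a8d0400281668f400468a80a00140028c4002800429e36280060546cd00081db472000801227067f00081db470001344a241a2300049b0ddc000b3de2406ee000067a12e3770004cf61b119dc005188127800853c6c3000d9e810033980041f82b1000c62061200109b,
  nat_lit 0x170f5c3e016df384b20002ad2d35c3a33a8bfd7b5d3950058e6a749cc6331a1cee37dc647004c0031134a66735c403100843e01b46490266498584611182c5a3bdb223f80d032280240010898532b9ac20108021c706200449c72e8f9bda6e539926e602ab2486450044001112c00129b0e68005139392215b857815d854c15538b203c815c05f8f62187b87e07394d600800d21770afcef888be1c2070401f93844e1c90003c6446f5811e02602542940e5e01cc31a7f7078217ac5dc117c08a38c00860c3438b0ff83bf7348a621126478d2e34c801a0070c86deb022c04b812803407021c108baef78af824d0ace20d861c0473a0c7191bdc6e49b912380bb08e803e0dfc6c82200881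3a1ce8600500eb19059dc6775bd728d5be200340660bac57b77b44770e0438091a18d000a22831400104d81780018830c8c00611426b800a26dc0000100a9b0800185f623830f000c45062200109b70cc00102ae5d000018508c36e4ddc7438e2801e02fd24f5d2029690151b0432c0ca84a6015c0016f58b6c288d9d118c8071449837d0c21c3191800000ac23694f0182b7f218d096e345c8b01602dd00009c600680196324001296a4514be4e2804e73b800a06e0c6402b85b92258c7005c705006002639d800440d4e549109c0000681a1f97b500023e751b00027ce3b84134eca756800037a8182062f05a082809a01e0650a4c50b161ef4cbd34f4dbd38f4e9444083377c48a922c31f0c7a0129ce293fc872c640240b6635014600001b,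
  nat_lit 0x710dc447115c462af9cfd2ad4ea53a8c3e80fa5dce0fb0ad810cdeca2a712412a748bf00048bb22f407b01f251859e190390055d157255f16562a992dc5be1da876abd50f539dd81e707407d91186460000045c117c03d00f72888c20e80ae07735aea000c00022e88b922de5080003f2000445c3ea0005b3657cd72b5cc0000356ccc0026b95680002d7207ce02c06901940000023fe07d20008bca0df3fe60f8824807d01f01b9997cf811e346aa9aae7589aa6204a470459b662d98365e032ca001d005d1a5069700005e402ec2dd0b324f9b8e0040d2c5e82df7fd879c18145f600000e503980e803a64f39b800289d90a1cda736c00406a6e2ba3c7251c0c6f0800026f1482522b44b274340708455d1560b1c7350ab23c60f194b5205950fe05950553096f94553153454c154054f14a4001329cca8938354066a00602ce0038d505120000653c9b3298dde3814e48746c0a30c8c43011dc482788c34f0d383920e4c00404e8dbe395cf8d7460dd70068a24288e4d343e0019b14cb5a1f0009cb15a0000b960e6980b138da1c0000009b08e93831c0b1800c286bfdcff795a8256c993604005687510b940002343a5c5d0e727c0038582031dcc0000006000936617e81027064983b953827b40d44350837b0e7a04e813cf4d7614f383ad9e883ad09eb6edc2e71c047281d4074f01dc0023efe4b80020ab02aeeff1ff208485f217b8ed43b61dca4e8b75e85da82d01b1548e639a0429f9622587154455093632585067f9cad780684a60e1c047031464837ec0f604a812803c0000006c4033041c9d32a04b81a880080568d7992a00d08040418c9a04e00045a8000412f494,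
  nat_lit 0x27c404004ad0ab8fa01f0532d640057becb477c780623140020f14d5e0c500000e30d5c98d018c6960038355117a57b44e0518000f7d0ebad5400d6f8ecae0009aa21dc806801a8077262c98c003a56800218a05e65c1ef60001aa19581890002f7b2e10bbc2f000011c8f12000b22e5e9ab200002ec2e2000b564d589703931dd62d28b4927ec07c01ec09000042c164559160b682cc0b280123f2008e005c4f213ccaec14c86cf0d62558efc34301a01b811c603d011e00005812a82d7000408f3f217785dc0001d9779400d0bb4b700001d4868e0ade00000009465a0003bfceff80b1ba400822ac00c003c4ea02ec0b602d6549a984f8800a37eb5c01fa07ea3fe06241e713ec4fb970070a40c5031a86292b0a6a2ac966e2b28f6c2aa86432a077a000077a0720000b2a224867805e0174356898e0004a7773000163e588bb94ee580000d42ab7560aab2a3c6f900049e927dca022a7253000003780da3748a322f88bf23040036d008ba7bd92d67c712dd51b61194b417de4b3d2d77bd8a970e407f52b68adf6b646f694a4510006d9d917a45e1174001367e18286141c607401cd873874412b6dcb12c04a319f61c63cb01e4bbe63704a4,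
  nat_lit 0x295e4600008b000c06481cc57606ea07a1c260268dbb2e800503284d34fd407905440e71380518972c7480020f18e900001db90e095021c0628004c73cb800042c000048a0000c8e003c2840f41a9498975101ce787572d81241d436b8b357bc02472ac01e833c1d24389412b72d01162f99f3d2b49f197c607ac1eb58e663958e496e3d58000c73865000033100806431ccc72800a3d28f460218da6f1d146a4a30022008018a07801e60b9386434fb47234d9cb8067b8f018b00012d98e400140041e89d1e37f8e6f756ce23010d1e30e100d3041c1180d98b4672600c50331cb20c0c2ff0c5031596ac7180063d0808a2798b821a200fc03e4b463880021e7c32b1c200031c2180003001000338a002000426d8dd000441800600001a636c0020c102db64882e364c1931000a598002191000242c0000c080188581800608e36069ae2d0b2842a12d827e0f566ed255af9aa7b41d895e422e407a8ff0a183730a9a1b686a0e5406961930648c6d31b2c6c4b277b4022000200800649bbb0eec405a055000224d000215e000926821386b0001b8e24b41cb71a4b097485d3174f04a41267901666a0223a07291ca20cb3c40f318374e9799222310942f1d89ca27231ab2c43220c840000923b1801618f068605c81640000f183c5cb0,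
  nat_lit 0x13a7c0010be00002a8e6d8377619d8539d1d523396059095425c0975f172d68dd307401d140d010175b014204240437cf5f3e28fca3b2908a4300119056411903640a630008528bec2fb014b20498c00f3989c22034c5000ca507d81f5f02e43030c15dbd15144029880011e1eedd8a884f80a2a5d61540070b25330c00147540010800003e7651f0507ce9299244c0592465b96245c0d301688f9033c01b005403d03806d32ed9e283b8824708581ec3b25d8239040850e2813c038801f64026100023de00021980006b7c0385d400400080f18fd000c418006001016000c00107600180001f98fa0034038000e6080041a532a255800163fd8fe0c8000002ec7e9970d1c32f0cb032b0c6c31c051c0fb346422308a0d7001d81310e4120e01f0e36050414204f013d00198f663d660060cca78000ab400300a84b865242f76b50323654194f97e0010586082020a0080010c8b818f2f80013374001228000389ce268a10b001042651d5806e1e635cee0403334cff07d807037e5d343f91e092dc1ae61ecc6bb694c6be05440d73959d8939a5d4d2df5e1b63c65e8006d720078d720f666f10322e96cbc00087b400084e80020188636d840001ebdf200e0d700f6601c80742808dce5ea0a4458d8ac237f070e02c83720dd83d0ebf1bb80c680a836fa06e00080060024bb,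
  nat_lit 0x26e100021c833973bc0000cac8b8000fba94d4fa88f66027007ac91007601e06a4e5a021674c1d340458a784bd13604da0b0c1df8714e76ccf2991f517d407e400e001d00703480d1c00699c00286ce0029ef01b434900102632e2001b22688405b0cd00026fe0100002c88ae065803320000deb22000814bafb6bed8fb5800a00501041d7b5406001826fa10e1e03d9c7e3eb80ae18c0646caf86621a032dd3340882f5ca3970c457d26ac9a725c40430004009057415e05601590089912004c010004404a01240c87da80059980041ca204b87560968caa71c80e8293ccb001c0710d443a60408e8d0200531010665000057d80000033b1a0ee9bfc74fcc90015d8c0770dfd3a79e290171e2a990c8380020f190700001d808a09401247258004c82cc7]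
theorem S0_c : blocks (facts 12 5 17 29 4095 131071 536870911 14 16383 11 2047 A R 32) 32 JS0 2467 = true := by decide +kernel
theorem S0 : On (Step.{u} RG LW par A) 2467 8899 :=
  steps_of_blocks hpar hR S0_c (by decide +kernel)
theorem D0_c : allB (defOK 12 17 29 4095 536870911 2463 A K) 18 2 = true := by decide +kernel
theorem D0 : On (fun r => defOK par.W par.WL par.E par.mW par.mE 2463 A K r = true) 256 2560 :=
  On.of_allB D0_c
noncomputable def JW0 : List ℕ := [nat_lit 0x135ea8ab4c32986e1b126254d84965d8fac37d6444a8414f0b1e2497a6290c53419331506250c5521f843fa87cdec721fb43bef64d318af395e6f056d0ff21a25ddc974d2ea25b9576d0cf92b4a5d84c7ef6513212b7586a4ab121aaa5435eaabd620972f578244bd6931aaef36366c6f9859b1bc615c987e1bfc37c6446a8b131231ea4acea83e1a7b1f6548095a18f725015ebcbd720c92f56315cbd6d2dbaf3b4b70c85e1a9b218615e96ae0cc321a637ec88190f43794b26a8ae1a7438154d0c8658f825558334c87190b322186f70de1294b23e64710e0191d437a6478934e1c332406484c9119233248,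
  nat_lit 0x125fc191831c9301e5036da2d7c897512f3b2c7b5a5b2842396c73c82759cc539e4277447911dd2a26c2d72792913098a97b7e89b90f019ff318af63cd00bb94341a87680b921dd3c36f60d0ef3cfc4b4a5bc41dcc15a34250574d04a1af060486610cd3d7d4346f3f90f621ef43e482c90f8bd864290992d3262f3683128519ec02efc4cbef519321a5cf867eab4a19e26e14252ab815ba2b6855c4add927396c1313104bcc4d188d315693acc4f2ef43112623a091989043ee87d10a5bd4443fe84cdec925b35de2bbb607ba1fa7998bbbd32daf016364c6e132e31b44bb29b65100a6dc8328c2ca1abc354,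
  nat_lit 0xfd708d131327e29e1f3c6577488cf0b5d1f5046a2626d1aa226f44ee627513a3dc344f889e113d23a67bf88d68c443e2f31188ea909a1a052b72f514d0b9e3d341884c0210208e3c74f4e509903eb4a9e5b94b8040f6342103e4d0420840908820d040042f799af3290a121454294f3610a3a0914292971d2e42eec824a87c1e9e2efd4dd6f64136ea6554cbb0cea19ea73f4da68b460caaf4a5e8caddd39db1cc4e790d65854435654dc9c1545626934d06a2a1344a8a04dfea29d44ebf285146a1ddf9ca7237e6c9ae5395436353f90d8138aa6a94d369a7538c2fa84d86985530b26184c350cbd4f0261c,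
  nat_lit 0x125a96dc167e5b82087c10c2dda48ac1db03b823fc0d1c1b383bc46105b682883dde3426f784d0725f70602a194b0a9f497e36fc61342834150c82049f8ba688786094fc18905524337057e0ae031443580d31071034e7af884b9ebfa0e0060c838c18420e44114f3fd05f1737064a82cc1c9032b2e80875c0bda1dc065282c1ec3bd844b7a58801fe418828ce837cb0da1ab0684866506e20e57b02f5f92e6a07f55b0973a117afca523a9b4536a41bb8370a5294a72126423c8495090bd1b4244793d093a6397b80ab8618c2afe55e48b39255c12d825492b0b6589eb2d7e808cb6108d5131ef285e4f16c6,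
  nat_lit 0x885070f21a02b0c46fb6db6db08968add9d277b586125ed7891040d0616c421084424ec211838925052d4d063e0c608d96d605af4eb59d68765aeca8b5990e811b67920b569e4b3c9aee8cf271e4745468a55eeb22604524f76514ba26544d2848113122667b7c89ad0f1bd8d7b142660cfc19fa33ea7491d859d267358686c4551a03344e62f0c6203273086e458ade9c0c33ec6104e009a0005ec681d33d817750ea7979f8fa876785c97d40bca87450e07c39f91bf203c3805c0b111e1a0636ee55dc921d9055882bc124bd820862f61505c8174415c04fd05883e979fa94dd29c4175433905c854596d9,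
  nat_lit 0x12b0961d2dfb049021d1bef2c3484a821b208237d80f9de9ebd3a4ca28116181a654528a996148e22f745a48b41165a2d645be8b3d3a6aa364e9d0cd584f433254709d1d527a73d8670c26219daa904ed28ea11d043584628bd1d458267f24e258b1341081e103849b933b92570f58fca492a1e6124d69d753af299f4e5706f94a327664d569ab1431beea5144a105450a6a75148a0e4ddea8a977c4fce13a9bf3c4e22a15538cc35e86c29a4543726923254982df8d26964d169a3144e287350c0fc8941da6b34d6c9ae14eb432e53b10cc534cbede4d349a7134f30ba4c3a93741dac17449825adc56296d4,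
  nat_lit 0xaeb898b2b700e25c80b8fe2b78754cd053902764a6859d911a0642aa107d0aba1667aba85650b1a48f086aa35546d28dc829aa2f8f1c03d42b6c78ec1c99e3c071e84b4236208908dcf4e1097bd3b3ae075cceaf3b2707cc0fa01f524f549ed0444568c10e15b25b6126f96e62dd02ed20b9c1702dd88fa1f3817017ce6148429983bd39ca5b5c2673aeb342269d4d07a4810906a35146b414f8298a2cd124047142acf66d1252158448e93f427704f0410303ee07c04f63ab87584eafbb1b085c10c0219208709ac822026d3cc84116f32d049886b070ef364b9583e02e828230239208f084af3250480433,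
  nat_lit 0x13159f7552a506e60db29513efe9b1443ba94c83af07514a7a6ca423a7de8c69bd1a3ef8f474fbf26cd4c7706e93672948837a89a92d7a0a355b30c6618b2aea523492ccb7fc110495a2b2053496d548269cc53edbe652acc27a93eea0631318245c4c709901216244526196ae825704a0b5909692d78809046908d42d3a2361e4f88da3e9c5aa0fa89f53787e7d50f232527447b07c11a8295a83e68a5920e956b4f5e9635f7623554e728c4518b3dfa7b848c55187231246bc8b691ada36246c8f1911b3277b86b49eee1aebe2e50a4a2b909bbd43308ef4d8d0d1a1c33e871a8dfb091637f067e44129a02,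
  nat_lit 0x8b6035217b245645ee879a17a6938c187855306c505781b34161290a4750931834f06e60f001d8a5f3060a7d183fdbf163520fc64fa2034b3e8e20c0fa41bbe78624ddc5e5835606120d681ae03154182f3d5e543cf2106c20e0ba19d6c76506bd9d95972f10322100aed832206480c99c7e8dd771f474c80a48dd4065074d01953b0f4ab306290c9418d43283bb4b0c1e5709262985dd69650775458791f0040407fa47fc24ebe7b08105194a35946208de51981e0843e41b40ea01d520dd075c83781d81de73bc4ee0c2151de47700775903c207d40f6f2aceea39f040809595db52aba846308b955e2abe,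
  nat_lit 0xa57822d155a1e7dc4a0b2c712e459011809df66002b05b898ab334500534b11816c7228e45c2fc9b7404540c60112031a73960c70eac02461bb60921d8fbb1c761c7c5809c9f04120a7c3cf3f3c2f4bda0aacf8289447e3ca0f9f909e1f045017f009f3b90063cee4d0db840343268674a16084f15aa39280970e47109ad5985453569375c12cdd0796e120b62f005e1248702a62d283c5410a821a2c251f80519167c2d005648e7c16848c2d1861ddb7bbe76d5cf51d2c460e14e02889b3f068cf781ef19e800e2e7a0cb0a3bdf3d08e548def16982ac8204cb4a881d11026b081888bf21792e5a45deb966,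
  nat_lit 0x12ff92722c5afbac93b885e24de434808710d11dd42379b58888521ca1c444218714103e43a4389a11a2cd87d68f261f637a387d6511da23e7b3af669122215c448693bd27843125654a2da18aa24245488a41eebbdd4451c8019144a2a02f267ffd131bddb7bb08a610de0a2214482665eb63d6f145471b84b8097212e823b4cfd897635f84e34d7bb9ad2e962120ba313fc27fe228c9fd1404115650050f218be7b16f6204c889f5309a9015f5c18407d766109a8f15b03b6676e5d6c1c003b68ed70edb10be0ede09dc136876a05ee42bcf2e01c70e62797ddd39e6030c48ed01270a2c50e2fbddf7a1936,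
  nat_lit 0x13baa7e14ff2a151f76a8534ece9dbd8aca74f86b8c2721afaa52476664e1b3628723278fbd4ca0260f3ceaa6a54ebc1f452b098491d8285f50c464ad4309e854d2e981d304283838ca9829f6e283a4e16a1b538827124d3f0cce19823040a34133c25c85202be6f7891f585372dd2f9b8b5b0b6116864a78086810603f4dddc0fcb77425441c340ef377003baddcc0f21dfc04ba39185611829158877f8886811011062399b6b08ea6db25750ad7b90371c4e401a8615b1480c5700c233eb630906128c26129525164a11bbf1279020a49d52f7bf112c7afc3894001f824fa896445008a2108a224ded73db1,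
  nat_lit 0xee81dd33bb0111ceea9ca23bae80f1021a03f79127795dab20414b867786119c2305288aa5955fa5c140af0c091652942860aa46d37aa6694df10cd147e26fc52189b9e19b2649867299bd32ca910473c8d651d0a39545b88b791d125e77e4efc9143ca5ea079a4978d3b926024c40f1dca8841024b2842839707ad0e54f4bc6243d2c4386493c50488fb24aaf5a492915622ad2559445f156710be504d20a28355066fab4a0888eb4fb89c6d38e299e5ec307554d027204e5e51c94a6a734837f06f139c260312787a0845fbed95080e870ddc1268147a6ef0936ba1124d479e04d51e7737746a5ddf1bbe0,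
  nat_lit 0x122d971f5e1aa35e0a32f0e517490fc2768a6f82d0414e0b58d2436be138c5a9b9de1a4c2e5882aa300169e13c427fbde90a6454dd25c848a0918123a07d049081fa756cce913a576346771d8e99d048ba13560a128c54497051545924af3acabc55595c14e5e2c8918ff5104d2a66136c275835d09ee8251e6bbcd4798c5cb83ff974239160f4c411969c106e242842095dc07080e181c4038a71f0e3eceb7972c273cec98b95031f071c78ccce015c9084867281f099d14a170498567c1292ca22384b0ca1bb28d250984baa1957adc587d1f394292df8f9c8280be7508126fa824a16fa37da10ecdf7043f,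
  nat_lit 0x12c5b8ea52be96320fac1f24b208bbd16cbdfb45a88b7517422e447b48e953dd278d46ca9ed53dc21023362f4d1e9b8a03142a28ace3b076d34422619d4e1a1d115870401bb882237f25d2441217473c0a781cea43b243a62ee20edb9d54049a373cea81d357646ec810af1c9b42dc859deaa215d42c057601bc15b706f4e3f1c7f837c498a75d578a2a2551bb04f10b1246908d7050d46dbd5c5e1ea2fcf338acc159c2b41de2bbc215a879b0f3999097782569456c187736ce141c5f10bb517765d7c5e1a4a316ba2d7c5d1416e82e22dc4e941d2b3a5eeba8e981ce33a5a69c0144846234e61190d3a3931,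
  nat_lit 0x102f9f7312e627c1e6189f43eee966c4b7a9534b3907760ed18db4b3e7dc14aa9f03836f06d118e141910f021e8418887e7090220131393f983b307590eaa950457e817102c3cc53c22f30841c9f6c418c8290b26b8be4156f3b0fbb1e53775c6348c6a18d631b0636924d9f9f83c07bf0fbec1e3463a8f44b81be604d9e8c69f31a2993c267861dc104e93c2e1384f0aa09c414281e9e67a09f3c1a81512a4a2c75576acc218bc31454c68fd0c8319087cc855f0534191348309b1d3ed3e972d2825a13f8a4c92d0ea594fa941a783487d612bea22a83e307b94ae296045109080b4ba7ae4a369eccfaaa6cb,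
  nat_lit 0x112b088e11201c55ed988187b60811c190bca9409a5d2040a174447700950523165d2f90fbedf7c0dd2043e37540b6b50b1bacd42077400fc10963bac3e18eec10b27950b25164c7758593dc1f09773cb006f432813e52ca4eeaddd41e6409f229805313bc40caa299122b8acb28c7059024e0411093c84341d38a3c147c2901e953d2d42120dac50414e37a5cf4c450523df24a00eac1b1a5eb7cf449612bb872d7e4aa1e01d7962806ea77a023e047e08561135dc0bb7e40e85e0ccda3caa2ee0f2b4bb91b80065c6dfcdbe02e373e20bbd28ea51e86270c4145a2abd44828935edea0a87b7482a844b9f6d,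
  nat_lit 0x12b6bb8a54470c461872a97444a77bceee1dda094e7259dbd9d7836a81420da31b3e3550e7adcf424250e327a58f4c3e557ca47a6921909a93d54f91df221eac3d5c79ec49b1e7c1270ef78f3fbbe12b4e56b0ad48bc82b562e5cad11b6009526d05cef8bba177841749c21387163e45609c48b2d2714361c3b907a50f3c1d383cd8736239c47488e809d914822154505a0d606d80db81b803722c520dd0d490930352a1fe8d4b1a9172a66f004d81a9413686f08ddfba1d358a2f585ec0bda17b8e591cb39ac106182fcc5d5b9682eb62f49253835506ae0f181adc16382c0830905320a979e659384441f68,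
  nat_lit 0x1220c166284f05a4a168a7614ca72c40951ca900eceb48172bad5387604b0dfe839b387a70e1d46a0ec009021284263d11109cf43872681271c9c2a0dab38af215e839240948e441c7c2869ab5b568356212a8d4f04ae35526a702581b570968112c25c04ba3694e7a4ec4bb4d741ced28b3b16782ec290f60811056820a41685cd105c39b60588e6b016475b47375d6e9c6602a870c80ab1c683696ea3c85002cd16ea1e2c3a80bc116f291840ac8ada0f45042c56e41082adc048c73a156c160ce35c5841d8d31f6ed245a098316ae05c2c73c813d16961e39ab60e7d6ade88d1106a171443af6811102222,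
  nat_lit 0x33e065c0cbccc0433186580cb447c48fb095b1f582741b890955258e05a85560e82148a2ab852c9b26018627784f039bf2c24e6f0d158243063200c5c8a8df37224748011e02e9044a7488e6e3b0936e61de414881650ed6e728b9323b7048a2708432bef61296fbe46ec82221bb409e013d0ddd6a12755c12802170550ec781653b213788063805b09042ca62418c319cc2026e2a604a297c932be64dd2c389b83cfa26f1f6c283f7db652b009d149c293c2b01c4cb89629600304a520fd8712ae248559060a028817f413c85f604fe17e0f10022f2bdc7829dc89e22063a8f9027d16fb09fc1401f3a049f,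
  nat_lit 0x114eb84243508729159bdc871347bb9c223bf8300a5358c049ed029245254a4b3840280a219ca079432286c22449fd940a109250010f3a1ea151cf624c18183230ae9008c1d183d7d745d51f5e958a446eed790b7a2127b42f67911225dd7618a4bded5430f8618888ce569c9c75b270f8e4bbad6393271e83bb083a2cb82310be2ba9b1bde0a0413b0dec6a38d47c1291db004d472ac1361bfe76baed68e11876804b009683b382cb215c8f1c0df14fa0346fc19f8481c247860644bd88df70316fc09f828c5802f81cc03948a851892c998f2d8725183c261ddd30a147752472010d8a2d0e504730521b739,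
  nat_lit 0x94b070b250addfc940810424e8960df74963c4b0849e093d127c3e626058be7978930342ae4c0e1d062cd673d5d7e9670713059b92359d3a835706a0fb1296a44fc88e11143d9c44268899ecfa240454e661cfadbdd545566365140240930a02b91f5b97097d68615900697943ffc6355e42a00740028a7d0f41ffa7bbaf769145228d2b042884ac638e32b12083cac5a3c013f65ee1f8017557e065d49073a03a144a2a51e8a0a772e3886fc4d009a21348f5b43e2bd6a49aa7e6a0f0c1de31aea5b918f205b31a2f311e6388ec102a7da49e0138e273ee0b41c5827e06fa825c1c1bcd579a45d283b81745,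
  nat_lit 0x11ea986f7d489c4df97a6fd4c2669bc167046302aee4ccaf9393047d85c105af3e6f2e102d80b85206f020000940fd82bf30bef2c095292a603a8ddc40eb01d803b476bc1321ca804b6ed60eddbb5b380e0978dfe026037fe6a75d39a40a04d2393cc1b98287d6afac920701161c8a239df58beae3bfe37440a88dce0590d429a868214347809d0d101836114e612c48a23cc2c84fc31f8794ff30bc53a50e3889f4352872d0d3a1c832f07bc447abbf93dba5f78f5c1ed3419c5f6ca4bbce41124f39c44a129d0210041c922377624f60794950811203be07980ee37726eea444008588821c74db5c8890884,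
  nat_lit 0x10e009fc13fc26045013d687ad69044c8718737d585e6df57991248369eb54193ee110fe444d3f823d271d88cf939abf2e7cc49645213093b3d2e7b70f6f3e533dae7b945179eab2ffaf014f569ed43532e55c1b7837172a00f3092fa0d12c4a4745e72926c1dc4494cddb892612506eec45dba1012585058a0a087b136a5041c249412483e9fcd3fc3ea34f649ed13909f1e3e1a7c19e1217f529be5fc12989b1c836494d0e8c41b53d50404080b366d0e56404c52110043a246528a87994c327aebc4ca826a1320aa6a17b0419f53549a90e301c5c200c7190d8dba77328296245181e7638c46f0df6ebeda,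
  nat_lit 0x124584e409cc13a027540ff81f88058f1897c1134a670c44d99cc44a28129edca04c7b6c1ff8cdf15df2b8a57201bd95c371f24e9d04d99c9335ef338ce59e2333aa8f74b4f16387d2c4c6447014ef3bd61110d4f844676f870e5dbf9cb2023a72981cd3ad33946ea3101c17752f72f220bab3c8b2ee675f806e9cd43aec70d5dabbb5445f68b24eec848f413c76fcf0a205040a680f9e519e1675bc81552aebb8e8464a9814a1c23554c48f5d3c2a6f94f188e1d3c5a7884ce6bda5f15420651faf88948526674cd50c290c3a66e861aa411323a7874c908e51494c304522c895447b08f811f4f6c9eda8895,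
  nat_lit 0xdcb812416e855b5d02167916f06e6c17c87440d461d45d003a0339bc0480e709a7275b67389d471efe2e42efc4f811efb3e027be52298afc151e2a54581416a82da76445360a6e13e229c8c198a743b2a2d405a90b2f16a8ecf856fa2ff2a761234257bde82bec41ac66d028e19ba337c232849105168948cef19e01300f6ddeda19cd4130f341dc63cd333842258cdf93bf276e4e91c1613a81bb84e9902419cf2f7cf288cee838033a8910cb912f0c5189051e0a228bb49da666e09dab3151c6bc5d4640d2a1a4634a45318d271a0c349521d848920a10410829410720a891f4a98153282ca419e0b11536,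
  nat_lit 0xd66877401cc05743b303812e4e71e43bd886210c8ea744333a9a27d41d909f393e4118ae0fc4569d463a9a7525d889d4b371a7260f01023737147544e91bb89770c85b4eef217042d4f5550b921744a1e753d5112a24526708d10b0a509334304e9530a8e2827aa324f3414f72c72ef00991bbc329e05678ad0958117b6569056e95a341e661c0c393d0b2b54d5a8c3b244917be11fe08004bb09c012c51e70b5a7cc29675193a3364000802857d9ffb3ff0f210ffe3c873be6128c5f18ba32eb25d78bb0247915ee2b94574c16f15e705b0ec517977690ed2c581b8d616e07614ebd9d2e769c7529da89d79,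
  nat_lit 0x10e908c93fa27f4d0ea1d1c439e7838cd53b8d3c205f0c44499bc2a82550c69438bf16aa284453aa0c901d44f98507bcea79da2454f7b172477e07bf4f7d3bf33df091bdc0629713db707960f118014640613df1023184636f88d1461e08046a6df8f05bb853c18ec21198979d467e8cb91992337467455e0abd9580164255f4742957f3a8274f1d8b977b2ce2e2c0c0e9cba2d0aeb21d65981b171059bd249981052cd06a60d3296944fe9484cbda96483df07b14b1a2814a32272e0d1251a4577069515f25f971c0a57a0d0c19e52c28cecd18099f336ae43cac400722ea6841503b3d3515d0f4c8543971d,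
  nat_lit 0x8001003200e28fc8040aa8200a8438a7609297a505409e9593252a242938a7014e213a2e2c5c5721062eec27fcbbd3d337a605df0e82847b20aeebf0b3b967e2d007618b48044a769e11301fb845041d05e104d197887a2af448bbe9d452f485635d88177129aa5db8d71832d0e921aec3a7b98a731a6b7c0770732293ee638b3f873740e60b6192c1b7d795ef2b01609b0f0e9a0b81ccd82e205c80b98dd1873405d0e7ec17502ec05dc8938bddbdb87b7659783b899bd4a5a7dad4aa41df83b8a55d18f9d0e12b025684ae3af52c26ebc89fa13f71290e104466894a129896644e9c1d8465e7f560eda2a9,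
  nat_lit 0xa8a89d412922761c5609dc715e7cd80e7085010a4619442a1781486e24bcf52a4757c8af908f4da422126a7b6129abe543e007abcf7109af3d48f01de021e9f3dac7bd44db9ed93db47b7ddf91ed5358c09003d207a30e96e594b4613dc27c24f7c5d5138317124e2ce5c84433680eb28bac175a2d026cc844694da29b85f7cbf49979492e693e0f43c06434d07acf6923bb2f985f39f7e97d27df45f589818219148e2ad9be20ab86f8e534007d021029a6075ca6a01f3295603fc027124503e253340ed9b0b73381ef83e007c20f881f1871b07261c7238ec42b0e3c10b0193807c86510ca602c832a32e9,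
  nat_lit 0x107781d11c7038fcc323d0c7a1e340c08d0a0d0ca4286c6838af536d808ec39987830e822e6cb469cd802b473540ae1c6975beeb7122281610db01e08583c1068212760409a9cd7008aed48176bb5538600518e1983f238680fd9d3a8e7e02602b6c741b56d1d081b2c73b01321cea1e3c36735716adc88bcc7122144438f6a510b22113bd81290da384a676faede8228a42a1636600cf4cbe4c3d727aed21899497c92f918bfa17f63d524c7498b132112724c60483892d3b2c5e7cad43b3c2f34ecfcabf1f29701c6008c023c1d30106028d460b1c163c2c80d470aaf16448444fae8aa37a524e205549380,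
  nat_lit 0x307021d042c024413db2c8042a780411f02e10552ee10edd3b871ee01f440bf0199031403100e1a3c4019200e80653f070078fc1005a0034016e02e405980ba64ce4c400e48a990170df1498a373838982c3858809bd16286579d3c0fd4017c3f587ec87011fb4196ca5994a1294ce240804b89329466c940a0149d0d98e6f8cc68a5836520508a5297e01488e6e9cde9a2c044c57bc03a85f77220e44c03c007b00fa01dd92f808900fc171c0e602110592ca7810700810098011c027b25064a60140025a0eb01081efc55bbd107a265e0066a00f4183e2a085420a8665d072b808f9caa1fbe70f1d6bbad4,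
  nat_lit 0x11de15c72f80fbf0be117c42f8c8328074883b0f82f3ac44d3ce84802095c7ee8ded01a2faf1f5f861101d8096406602136592094d1e4150429fa5481f85bf0829ea37d414180e71bec08486fcb51b406605bca7d962e007058cde47203701ee5ec0ebbbc8d791400d87e201a01ef80689b0e81a46c343f207c10f806c2c066db0c81921fa006547da009a0cc4d844381a29b6e8cf71d15ca2c143927f5c7dc0f9e1f4c3eb47c506591e7854584a8150c12a4e2b5c5509540036009800f8030649e00f40151b9c04641d1dcff0740740259a06f802860520032da8e8df26a344c1011009c310a647344eeb7c6,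
  nat_lit 0x11e598697e1a58d9f85002129d480bc49294fc2c6053f8b1914c3419a0a104318ec1114cf399e74a07001ca08000f3bcae03b2f2c51fb163a7d8c9614a6514cc29d091349f1a96c83cf07914b5980b3b8c6620e7a3b6532ea6630cc7244f3a7306a922822aa835a8a1528b98e146e4f7720ffa8f446f28efdf7f17bf7e024ea46fc17bc493a2c354b841b1835ca5bcf5aa2b612aef71915c22ba7b928738a6c143529b65374a6b94de713691b5c3f41e983cc8ac94b41ed1280c502447c89cf2816271ca07222c31d48839ed5bda8430088412b59d7d525ca4c1499292b42ea70dcc63183c387e5d5db21176f,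
  nat_lit 0xf9090153e0ef094bf917e82fd89364a54c1b383607ea94ab1ea72a32542ca8738a82024e2aca511d1111945434ca308cc75e0ebcce8d1c5e3a2e7478e8c9d1d2fe26ca8bf794a72fc46c69cdd995138962a805511c63351ee9d9d3ca3d8321afa95f5123334f149a94dcc028c0e8a1b41d02967374041a7808186730d441a6c350869935ce0b5c35c39890d841b103600023005e0091928b24e004000a0dd006bf003ce7e815f0042058017200e901d503feca7d94e004a34d80be866e0261726457dc1451dbc0526729c66f3b593b7ce9c9206826314182839f580a107d669058a6096487dc022e871e94ee,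
  nat_lit 0x121a99a27c82933d1439e9e45068fe4f353ec72c6efb1002894eb263c4c9899037d7264402ec99220f029e45925e8515037a1a53c51918af87c428c911932328790c76080a71ce007e6ed4dda83a74397a65f1d648b2e2fa62cc0cc79c8027566785d58965f138c5f1d21c199c7c8091451433e4345047714ee0105176c829cd9900ade48ca29ac273c10120cd03f88351a2f335866b9c8715c272225ef52f1a14d46f5081d472237751ec86090a7a184430c85410c0a15247328e09f15a384470c8ca51c425db47030c2d49329285254a408f9317f82ff45ff1e0e17f730003afc0e588511d80215c77187c7,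
  nat_lit 0xa5f932c298a52f0a658ff0298491c4cb2a96d48e906be0d61eba3b32659c9ef3b3d162a2cc45919fcd6c887458e8f9fab78885fb521715117c907a8cbf9be4b3d4c1bbc35ab30e0d74026036286b736181d60043399a03e002200f91ae00e7c1d1837eb98f2ce4e630fe7094f3fa07f48fea3c453fac4df09bf8b116fac4e0898a93814a2663a51ba231983fc8dd91bc1d3e7632ec59d58197432ec5f5d26597cb52ce933a0f6c1ea450874344e614e1139cebd0cbb894d4af229360d1c1a04580a589154007000d4c96403a006f00e600acd7202390e90e6203a5398b2cd26e200a51b8b29a40bacdc602e7,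
  nat_lit 0x347801d0d20198597786770d261bd008a06ae0ce0cc2d9840679373ee7f0348b9ff0d341a803608fcb6c28031db0b80d0018a03547e381961efc06600cd36186c363f0c05e0f841f0cd8707c781931f9e067c7d936130e00d84038114b41e6c52e1c488f8b1fb63e20029325700ac016002d005c00bc1bc006c330f6618029c35886b247fc033c03e00cd7d820239f5f0fe901263fa87f6325e1fe2d8fd01a00b102fe03c9e460fe7791e3f8c06f8fdc1fbcd901b21807f0118020c043809064a4023c0400040006600ec0220039008600dc36f81190db21b34367b3210d9490b454f97fb3d44f935f251eb4,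
  nat_lit 0xa5bb88f2974531c7c60f8e1f203d81b008f301e643cfc0d48f381f98034c02bb6120df0c99004ba3fd01283fac7c3bec07d86035005000a264c60290053005d00be1bdc06db3060cc0016d98486b31fc8015006300f06c823f99b1f151a1e765421c548f440e123e24346002d0ce419c597706760cf01bcc03606b9661acc2835806920dd6038c35786d10d861b2034c05cb01c008040ff006e653a00a437d00d6660e1bf037c86c90d6c8fe899414c4298cfb15f6114f4013e0275931009b0132c99404b0fbb6c4e3e487ca0f8d03503ce4a8eb8a72a0c548479f01a51f223d7c7a30f4e12a63d143840f3d]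
theorem W0_c : blocks (rows 12 5 17 29 4095 131071 536870911 15 32767 105 A 8899 702 cols 18) 18 JW0 0 = true := by decide +kernel
theorem W0 : On (Row.{u} RG LW par A 8899 702 cols) 0 702 :=
  rows_of_blocks hpar (by decide) hcols W0_c (by decide +kernel)
theorem idx : Idx.{u} RG [[0], [2], [4], [6], [8], [10], [12]] [[0], [2], [4], [6], [8]] 702 :=
  idx_of_cert hpar hR (K := K) (by decide +kernel) (T := 2463) (T' := 2560) (by decide) D0
    (subs := [1,2,3,4,5]) (by decide +kernel) (T1 := 2467) (by decide) (N := 8899) S0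
    (by decide) (n' := 702) (by decide) W0 (by decide +kernel) (by decide +kernel)
end T0
namespace T1
noncomputable def A_0 : List (ℕ) := [nat_lit 0x1c29188c4461c10e06e22c1b90dc54a371028b04442c1710e44482e1118884422218a8a06042718289c362150a8228360891308783c8260f28984642d1588845642b0fa8ac342240ca8903861c0a08703281309984c1a2130888645481f0f907c4022a1510a82e4200b885c302180c02201e20f07821c2e61743aa202881d0a9074364250aa86c2441a08a8682ca210898581a8110a18501aa140698341ea18082040184100808401880c0918301220c0708481260e04a024124090508281620802881c0e08605981c0c20602080c0e08503020c060800120080807f0101f8fc0823f99f8fc0843f82041080b422a11062834122080e40a0318180ca06029014fea7f0228100640301a80c0440201280802a0100a00400a0000200000600000800fa4793c99c8e6662390988f887a3d09d4f68753a91c4e265f3c19c12e66f4b1978c224b2688f0aa4423599a4d2a6a3521dcee2763b2990c82743a218cc6a542a110c824332710f4c484b2620ecbea703811809665c2e09bcde45d2f11b89243a1e10bc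d8666330944808361b08a4a0a4321a15caea582c1910da85a2d1918baa6e37096c9e83d252980c066532894cac645229164b286733914ca6a3f2da1a0d0a522918fc8e6384a88e0888342122506a82828a0f87e8314a08a12623149209d2283019989c7a6301918f87c4311a10a05241e2418e47462d4808e51e22d1d98b85e6234708b91a2232320dc7082b4620911681c1b98b0588391ca8b45ca2311285c5061d1898944e21d1808944c61b0f18551421b4488545a82111a0605662412107038a130990643261f0f8858546201020582e80f4408610e20f0ea8944a81a0da0482a80e0d1884424180b103c2240b0a10381a4080c18401e60a08282818a0709282c1ca0804a814166850418150c20542a1fd0867f4191fd04a7e4099f81480603a0100c4044008100a8033f880cfc8020218080660101080402400,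
  nat_lit 0x3e99f4fa27d3ea9f4fa87d3989e4f28793ca9e4c287239a1cce647339a9cce44723929c8f847a3e29e8f627c3b99f0e867a3aa9ecec67b3c11ecc86753889e0de66130825c9a84d2f19349a0963c21c4f0a714b22592e4974b2a5cc246126a9849a44d351954d225535a954828553589a8d68762b11aca88692b91a4b046a3611dce8a773291d8c884e279190cc474319950a046327098c822542719049ca41312988984622609309864c262930be27024a17c9445f2f21c07644b1e292cb886f24117092a5c2f29bc9225e1e19247883c362998ce26c2c21b0a08662010d880a36281900642402198d87c2501a090cb265722095cb2258369168ba26d3699b4b6a6d2409688ea5a242174ba65d3719b8c086e1f893c9464f32a93c9483a290928d02602b21948a2562129586aa4529a11488a5928999ca2a6734194cb665b23916ca44681c89188c0901688e07008f1682547424723a1486a4441a89086223d1e824c848331408cc488300e209c660941802304e08b120244380924a1a2c6a6421f914526a944892487aa331920a44c43214a8c868a3e1498d074a4847aa407623b17a8ec5c22e170238462231182345e22f17a0bd1aa8e]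
noncomputable def A : List (List (ℕ)) := [A_0]
noncomputable def K_0 : List (ℕ) := [nat_lit 0xc662eb353a9546a147a350e853f9f4ca6325924421f0e86c32170782c132d92c86472b8dc260f1f81ca64f1d79bb59ed572c3e170d5cafdc6c782c05f31564bd5d6d177aeda6c16bb658b117faf56eab6eb35f7137bbc596e949ad506c358b6d5efd70aa5329d73a2d2277409edbead4ba7d366f35a24ea613c974a295389b4d2452d97ce63d2794cce472c90c7e551993476411b95c5639178c45235168942a271184c220d03814060000]
noncomputable def K : List (List (ℕ)) := [K_0]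
noncomputable def R_0 : List (Rule) := [Rule.mk (nat_lit 4) (nat_lit 38) (Steps.bwd (nat_lit 2) (Steps.fwd (nat_lit 2048) (Steps.fwd (nat_lit 1024) Steps.nil))) (nat_lit 16) (nat_lit 0),
  Rule.mk (nat_lit 5) (nat_lit 38) (Steps.bwd (nat_lit 2) (Steps.fwd (nat_lit 2560) (Steps.fwd (nat_lit 1024) Steps.nil))) (nat_lit 18) (nat_lit 0),
  Rule.mk (nat_lit 5) (nat_lit 38) (Steps.bwd (nat_lit 1) (Steps.fwd (nat_lit 2560) (Steps.fwd (nat_lit 512) Steps.nil))) (nat_lit 12) (nat_lit 0),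
  Rule.mk (nat_lit 2) (nat_lit 58) (Steps.bwd (nat_lit 1) (Steps.bwd (nat_lit 2) (Steps.fwd (nat_lit 512) (Steps.fwd (nat_lit 1024) (Steps.fwd (nat_lit 512) Steps.nil))))) (nat_lit 10) (nat_lit 0),
  Rule.mk (nat_lit 5) (nat_lit 38) (Steps.bwd (nat_lit 3) (Steps.fwd (nat_lit 2560) (Steps.fwd (nat_lit 1536) Steps.nil))) (nat_lit 22) (nat_lit 0),
  Rule.mk (nat_lit 2) (nat_lit 58) (Steps.bwd (nat_lit 3) (Steps.bwd (nat_lit 2) (Steps.fwd (nat_lit 1536) (Steps.fwd (nat_lit 1024) (Steps.fwd (nat_lit 1536) Steps.nil))))) (nat_lit 14) (nat_lit 1),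
  Rule.mk (nat_lit 2) (nat_lit 38) (Steps.bwd (nat_lit 4) (Steps.fwd (nat_lit 1024) (Steps.fwd (nat_lit 2048) Steps.nil))) (nat_lit 16) (nat_lit 1),
  Rule.mk (nat_lit 3) (nat_lit 58) (Steps.bwd (nat_lit 2) (Steps.bwd (nat_lit 3) (Steps.fwd (nat_lit 1024) (Steps.fwd (nat_lit 1536) (Steps.fwd (nat_lit 1024) Steps.nil))))) (nat_lit 14) (nat_lit 0),
  Rule.mk (nat_lit 2) (nat_lit 38) (Steps.bwd (nat_lit 4) (Steps.bwd (nat_lit 2) (Steps.fwd (nat_lit 2048) Steps.nil))) (nat_lit 16) (nat_lit 1),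
  Rule.mk (nat_lit 4) (nat_lit 58) (Steps.bwd (nat_lit 5) (Steps.bwd (nat_lit 4) (Steps.fwd (nat_lit 2560) (Steps.fwd (nat_lit 2048) (Steps.fwd (nat_lit 2560) Steps.nil))))) (nat_lit 24) (nat_lit 1),
  Rule.mk (nat_lit 1) (nat_lit 58) (Steps.bwd (nat_lit 2) (Steps.bwd (nat_lit 1) (Steps.fwd (nat_lit 1024) (Steps.fwd (nat_lit 512) (Steps.fwd (nat_lit 1024) Steps.nil))))) (nat_lit 10) (nat_lit 1),
  Rule.mk (nat_lit 4) (nat_lit 88) (Steps.bwd (nat_lit 3) (Steps.bwd (nat_lit 4) (Steps.bwd (nat_lit 1) (Steps.bwd (nat_lit 3) (Steps.fwd (nat_lit 2048) (Steps.fwd (nat_lit 1536) (Steps.fwd (nat_lit 2048) (Steps.fwd (nat_lit 1536) Steps.nil)))))))) (nat_lit 21) (nat_lit 6),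
  Rule.mk (nat_lit 0) (nat_lit 98) (Steps.bwd (nat_lit 3) (Steps.bwd (nat_lit 4) (Steps.bwd (nat_lit 1) (Steps.fwd (nat_lit 1536) (Steps.fwd (nat_lit 2048) (Steps.fwd (nat_lit 1536) (Steps.bwd (nat_lit 4) (Steps.bwd (nat_lit 3) (Steps.bwd (nat_lit 4) Steps.nil))))))))) (nat_lit 21) (nat_lit 6),
  Rule.mk (nat_lit 0) (nat_lit 38) (Steps.bwd (nat_lit 3) (Steps.bwd (nat_lit 0) (Steps.bwd (nat_lit 3) Steps.nil))) (nat_lit 54) (nat_lit 0),
  Rule.mk (nat_lit 3) (nat_lit 28) (Steps.bwd (nat_lit 0) (Steps.bwd (nat_lit 3) Steps.nil)) (nat_lit 54) (nat_lit 0),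
  Rule.mk (nat_lit 0) (nat_lit 48) (Steps.bwd (nat_lit 5) (Steps.bwd (nat_lit 0) (Steps.fwd (nat_lit 2560) (Steps.fwd (nat_lit 0) Steps.nil)))) (nat_lit 54) (nat_lit 0),
  Rule.mk (nat_lit 0) (nat_lit 48) (Steps.bwd (nat_lit 0) (Steps.fwd (nat_lit 2048) (Steps.fwd (nat_lit 0) (Steps.bwd (nat_lit 4) Steps.nil)))) (nat_lit 54) (nat_lit 0),
  Rule.mk (nat_lit 0) (nat_lit 38) (Steps.bwd (nat_lit 3) (Steps.fwd (nat_lit 0) (Steps.fwd (nat_lit 1536) Steps.nil))) (nat_lit 54) (nat_lit 0),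
  Rule.mk (nat_lit 4) (nat_lit 28) (Steps.bwd (nat_lit 0) (Steps.bwd (nat_lit 4) Steps.nil)) (nat_lit 54) (nat_lit 0),
  Rule.mk (nat_lit 0) (nat_lit 38) (Steps.bwd (nat_lit 1) (Steps.bwd (nat_lit 0) (Steps.bwd (nat_lit 1) Steps.nil))) (nat_lit 54) (nat_lit 0),
  Rule.mk (nat_lit 0) (nat_lit 38) (Steps.bwd (nat_lit 2) (Steps.fwd (nat_lit 0) (Steps.fwd (nat_lit 1024) Steps.nil))) (nat_lit 54) (nat_lit 0),
  Rule.mk (nat_lit 0) (nat_lit 38) (Steps.bwd (nat_lit 4) (Steps.fwd (nat_lit 0) (Steps.fwd (nat_lit 2048) Steps.nil))) (nat_lit 54) (nat_lit 0),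
  Rule.mk (nat_lit 1) (nat_lit 28) (Steps.bwd (nat_lit 0) (Steps.bwd (nat_lit 1) Steps.nil)) (nat_lit 54) (nat_lit 0),
  Rule.mk (nat_lit 1) (nat_lit 38) (Steps.bwd (nat_lit 0) (Steps.fwd (nat_lit 512) (Steps.fwd (nat_lit 0) Steps.nil))) (nat_lit 54) (nat_lit 0),
  Rule.mk (nat_lit 3) (nat_lit 28) (Steps.bwd (nat_lit 0) (Steps.fwd (nat_lit 1536) Steps.nil)) (nat_lit 54) (nat_lit 0),
  Rule.mk (nat_lit 0) (nat_lit 98) (Steps.bwd (nat_lit 1) (Steps.bwd (nat_lit 4) (Steps.bwd (nat_lit 3) (Steps.fwd (nat_lit 2048) (Steps.fwd (nat_lit 1536) (Steps.fwd (nat_lit 2048) (Steps.fwd (nat_lit 1536) (Steps.bwd (nat_lit 4) (Steps.bwd (nat_lit 3) Steps.nil))))))))) (nat_lit 20) (nat_lit 0),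
  Rule.mk (nat_lit 1) (nat_lit 88) (Steps.bwd (nat_lit 4) (Steps.bwd (nat_lit 3) (Steps.bwd (nat_lit 4) (Steps.bwd (nat_lit 3) (Steps.fwd (nat_lit 2048) (Steps.fwd (nat_lit 1536) (Steps.fwd (nat_lit 2048) (Steps.fwd (nat_lit 1536) Steps.nil)))))))) (nat_lit 20) (nat_lit 1),
  Rule.mk (nat_lit 1) (nat_lit 58) (Steps.fwd (nat_lit 1024) (Steps.fwd (nat_lit 512) (Steps.fwd (nat_lit 1024) (Steps.bwd (nat_lit 1) (Steps.bwd (nat_lit 2) Steps.nil))))) (nat_lit 10) (nat_lit 1),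
  Rule.mk (nat_lit 2) (nat_lit 38) (Steps.bwd (nat_lit 5) (Steps.fwd (nat_lit 1024) (Steps.fwd (nat_lit 2560) Steps.nil))) (nat_lit 18) (nat_lit 1),
  Rule.mk (nat_lit 3) (nat_lit 38) (Steps.bwd (nat_lit 5) (Steps.bwd (nat_lit 3) (Steps.fwd (nat_lit 2560) Steps.nil))) (nat_lit 22) (nat_lit 1),
  Rule.mk (nat_lit 1) (nat_lit 38) (Steps.bwd (nat_lit 5) (Steps.bwd (nat_lit 1) (Steps.fwd (nat_lit 2560) Steps.nil))) (nat_lit 12) (nat_lit 1),
  Rule.mk (nat_lit 1) (nat_lit 38) (Steps.bwd (nat_lit 5) (Steps.fwd (nat_lit 512) (Steps.fwd (nat_lit 2560) Steps.nil))) (nat_lit 12) (nat_lit 1),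
  Rule.mk (nat_lit 3) (nat_lit 38) (Steps.bwd (nat_lit 5) (Steps.fwd (nat_lit 1536) (Steps.fwd (nat_lit 2560) Steps.nil))) (nat_lit 22) (nat_lit 1),
  Rule.mk (nat_lit 5) (nat_lit 38) (Steps.bwd (nat_lit 3) (Steps.bwd (nat_lit 5) (Steps.fwd (nat_lit 1536) Steps.nil))) (nat_lit 22) (nat_lit 0),
  Rule.mk (nat_lit 5) (nat_lit 38) (Steps.bwd (nat_lit 2) (Steps.bwd (nat_lit 5) (Steps.fwd (nat_lit 1024) Steps.nil))) (nat_lit 18) (nat_lit 0),
  Rule.mk (nat_lit 3) (nat_lit 58) (Steps.bwd (nat_lit 2) (Steps.fwd (nat_lit 1536) (Steps.fwd (nat_lit 1024) (Steps.bwd (nat_lit 3) (Steps.fwd (nat_lit 1024) Steps.nil))))) (nat_lit 14) (nat_lit 0),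
  Rule.mk (nat_lit 2) (nat_lit 58) (Steps.bwd (nat_lit 3) (Steps.bwd (nat_lit 2) (Steps.bwd (nat_lit 3) (Steps.fwd (nat_lit 1024) (Steps.fwd (nat_lit 1536) Steps.nil))))) (nat_lit 14) (nat_lit 1),
  Rule.mk (nat_lit 5) (nat_lit 58) (Steps.bwd (nat_lit 4) (Steps.bwd (nat_lit 5) (Steps.fwd (nat_lit 2048) (Steps.fwd (nat_lit 2560) (Steps.fwd (nat_lit 2048) Steps.nil))))) (nat_lit 24) (nat_lit 0),
  Rule.mk (nat_lit 4) (nat_lit 58) (Steps.bwd (nat_lit 5) (Steps.bwd (nat_lit 4) (Steps.fwd (nat_lit 2560) (Steps.fwd (nat_lit 2048) (Steps.bwd (nat_lit 5) Steps.nil))))) (nat_lit 24) (nat_lit 1),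
  Rule.mk (nat_lit 3) (nat_lit 88) (Steps.bwd (nat_lit 4) (Steps.bwd (nat_lit 3) (Steps.fwd (nat_lit 512) (Steps.bwd (nat_lit 4) (Steps.fwd (nat_lit 1536) (Steps.fwd (nat_lit 2048) (Steps.fwd (nat_lit 1536) (Steps.fwd (nat_lit 2048) Steps.nil)))))))) (nat_lit 20) (nat_lit 7),
  Rule.mk (nat_lit 0) (nat_lit 98) (Steps.bwd (nat_lit 1) (Steps.fwd (nat_lit 2048) (Steps.fwd (nat_lit 1536) (Steps.bwd (nat_lit 4) (Steps.bwd (nat_lit 3) (Steps.bwd (nat_lit 4) (Steps.fwd (nat_lit 1536) (Steps.fwd (nat_lit 2048) (Steps.fwd (nat_lit 1536) Steps.nil))))))))) (nat_lit 20) (nat_lit 0),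
  Rule.mk (nat_lit 0) (nat_lit 38) (Steps.fwd (nat_lit 2560) (Steps.fwd (nat_lit 0) (Steps.bwd (nat_lit 5) Steps.nil))) (nat_lit 54) (nat_lit 0),
  Rule.mk (nat_lit 1) (nat_lit 88) (Steps.bwd (nat_lit 4) (Steps.bwd (nat_lit 3) (Steps.bwd (nat_lit 4) (Steps.fwd (nat_lit 1536) (Steps.fwd (nat_lit 2048) (Steps.fwd (nat_lit 1536) (Steps.fwd (nat_lit 2048) (Steps.fwd (nat_lit 1536) Steps.nil)))))))) (nat_lit 20) (nat_lit 1),
  Rule.mk (nat_lit 2) (nat_lit 58) (Steps.bwd (nat_lit 3) (Steps.fwd (nat_lit 1024) (Steps.fwd (nat_lit 1536) (Steps.bwd (nat_lit 2) (Steps.fwd (nat_lit 1536) Steps.nil))))) (nat_lit 14) (nat_lit 1),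
  Rule.mk (nat_lit 1) (nat_lit 88) (Steps.bwd (nat_lit 3) (Steps.bwd (nat_lit 4) (Steps.fwd (nat_lit 1536) (Steps.fwd (nat_lit 2048) (Steps.fwd (nat_lit 1536) (Steps.bwd (nat_lit 4) (Steps.bwd (nat_lit 3) (Steps.fwd (nat_lit 2048) Steps.nil)))))))) (nat_lit 21) (nat_lit 0),
  Rule.mk (nat_lit 4) (nat_lit 88) (Steps.bwd (nat_lit 1) (Steps.fwd (nat_lit 1536) (Steps.fwd (nat_lit 2048) (Steps.fwd (nat_lit 1536) (Steps.bwd (nat_lit 4) (Steps.bwd (nat_lit 3) (Steps.fwd (nat_lit 2048) (Steps.fwd (nat_lit 1536) Steps.nil)))))))) (nat_lit 21) (nat_lit 8),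
  Rule.mk (nat_lit 1) (nat_lit 88) (Steps.bwd (nat_lit 3) (Steps.fwd (nat_lit 2048) (Steps.bwd (nat_lit 3) (Steps.bwd (nat_lit 4) (Steps.fwd (nat_lit 1536) (Steps.fwd (nat_lit 2048) (Steps.fwd (nat_lit 1536) (Steps.bwd (nat_lit 4) Steps.nil)))))))) (nat_lit 21) (nat_lit 0),
  Rule.mk (nat_lit 1) (nat_lit 58) (Steps.bwd (nat_lit 2) (Steps.fwd (nat_lit 512) (Steps.bwd (nat_lit 2) (Steps.bwd (nat_lit 1) (Steps.fwd (nat_lit 1024) Steps.nil))))) (nat_lit 10) (nat_lit 1),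
  Rule.mk (nat_lit 4) (nat_lit 88) (Steps.fwd (nat_lit 1536) (Steps.fwd (nat_lit 512) (Steps.bwd (nat_lit 4) (Steps.bwd (nat_lit 3) (Steps.fwd (nat_lit 2048) (Steps.fwd (nat_lit 1536) (Steps.bwd (nat_lit 4) (Steps.fwd (nat_lit 1536) Steps.nil)))))))) (nat_lit 20) (nat_lit 8),
  Rule.mk (nat_lit 1) (nat_lit 38) (Steps.bwd (nat_lit 5) (Steps.fwd (nat_lit 512) (Steps.bwd (nat_lit 5) Steps.nil))) (nat_lit 12) (nat_lit 1),
  Rule.mk (nat_lit 5) (nat_lit 38) (Steps.bwd (nat_lit 2) (Steps.bwd (nat_lit 5) (Steps.bwd (nat_lit 2) Steps.nil))) (nat_lit 18) (nat_lit 0),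
  Rule.mk (nat_lit 1) (nat_lit 58) (Steps.bwd (nat_lit 2) (Steps.fwd (nat_lit 512) (Steps.bwd (nat_lit 2) (Steps.bwd (nat_lit 1) (Steps.bwd (nat_lit 2) Steps.nil))))) (nat_lit 10) (nat_lit 1),
  Rule.mk (nat_lit 5) (nat_lit 38) (Steps.bwd (nat_lit 3) (Steps.fwd (nat_lit 2560) (Steps.bwd (nat_lit 3) Steps.nil))) (nat_lit 22) (nat_lit 0),
  Rule.mk (nat_lit 1) (nat_lit 38) (Steps.fwd (nat_lit 2560) (Steps.fwd (nat_lit 512) (Steps.bwd (nat_lit 5) Steps.nil))) (nat_lit 12) (nat_lit 1),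
  Rule.mk (nat_lit 4) (nat_lit 88) (Steps.bwd (nat_lit 3) (Steps.bwd (nat_lit 4) (Steps.bwd (nat_lit 3) (Steps.fwd (nat_lit 512) (Steps.fwd (nat_lit 2048) (Steps.bwd (nat_lit 3) (Steps.fwd (nat_lit 2048) (Steps.fwd (nat_lit 1536) Steps.nil)))))))) (nat_lit 20) (nat_lit 6),
  Rule.mk (nat_lit 0) (nat_lit 98) (Steps.bwd (nat_lit 1) (Steps.fwd (nat_lit 1536) (Steps.bwd (nat_lit 4) (Steps.bwd (nat_lit 3) (Steps.bwd (nat_lit 4) (Steps.bwd (nat_lit 3) (Steps.fwd (nat_lit 2048) (Steps.fwd (nat_lit 1536) (Steps.fwd (nat_lit 2048) Steps.nil))))))))) (nat_lit 21) (nat_lit 8),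
  Rule.mk (nat_lit 5) (nat_lit 38) (Steps.bwd (nat_lit 1) (Steps.bwd (nat_lit 5) (Steps.fwd (nat_lit 512) Steps.nil))) (nat_lit 12) (nat_lit 0),
  Rule.mk (nat_lit 2) (nat_lit 58) (Steps.bwd (nat_lit 1) (Steps.fwd (nat_lit 1024) (Steps.fwd (nat_lit 512) (Steps.bwd (nat_lit 2) (Steps.fwd (nat_lit 512) Steps.nil))))) (nat_lit 10) (nat_lit 0),
  Rule.mk (nat_lit 5) (nat_lit 58) (Steps.bwd (nat_lit 4) (Steps.bwd (nat_lit 5) (Steps.bwd (nat_lit 4) (Steps.fwd (nat_lit 2560) (Steps.fwd (nat_lit 2048) Steps.nil))))) (nat_lit 24) (nat_lit 0),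
  Rule.mk (nat_lit 1) (nat_lit 38) (Steps.fwd (nat_lit 2560) (Steps.bwd (nat_lit 1) (Steps.bwd (nat_lit 5) Steps.nil))) (nat_lit 12) (nat_lit 1),
  Rule.mk (nat_lit 5) (nat_lit 58) (Steps.bwd (nat_lit 4) (Steps.fwd (nat_lit 2560) (Steps.bwd (nat_lit 4) (Steps.bwd (nat_lit 5) (Steps.fwd (nat_lit 2048) Steps.nil))))) (nat_lit 24) (nat_lit 0),
  Rule.mk (nat_lit 4) (nat_lit 88) (Steps.bwd (nat_lit 3) (Steps.bwd (nat_lit 4) (Steps.bwd (nat_lit 3) (Steps.fwd (nat_lit 512) (Steps.fwd (nat_lit 2048) (Steps.fwd (nat_lit 1536) (Steps.fwd (nat_lit 2048) (Steps.fwd (nat_lit 1536) Steps.nil)))))))) (nat_lit 20) (nat_lit 6),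
  Rule.mk (nat_lit 1) (nat_lit 88) (Steps.fwd (nat_lit 2048) (Steps.bwd (nat_lit 3) (Steps.bwd (nat_lit 4) (Steps.bwd (nat_lit 3) (Steps.fwd (nat_lit 2048) (Steps.fwd (nat_lit 1536) (Steps.fwd (nat_lit 2048) (Steps.fwd (nat_lit 1536) Steps.nil)))))))) (nat_lit 20) (nat_lit 1),
  Rule.mk (nat_lit 0) (nat_lit 98) (Steps.bwd (nat_lit 1) (Steps.fwd (nat_lit 1536) (Steps.fwd (nat_lit 2048) (Steps.bwd (nat_lit 3) (Steps.bwd (nat_lit 4) (Steps.bwd (nat_lit 3) (Steps.fwd (nat_lit 2048) (Steps.fwd (nat_lit 1536) (Steps.fwd (nat_lit 2048) Steps.nil))))))))) (nat_lit 21) (nat_lit 8)]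
noncomputable def R_1 : List (Rule) := [Rule.mk (nat_lit 0) (nat_lit 38) (Steps.fwd (nat_lit 2560) (Steps.fwd (nat_lit 0) (Steps.fwd (nat_lit 2560) Steps.nil))) (nat_lit 54) (nat_lit 0),
  Rule.mk (nat_lit 4) (nat_lit 38) (Steps.bwd (nat_lit 2) (Steps.bwd (nat_lit 4) (Steps.bwd (nat_lit 2) Steps.nil))) (nat_lit 16) (nat_lit 0),
  Rule.mk (nat_lit 3) (nat_lit 88) (Steps.bwd (nat_lit 4) (Steps.bwd (nat_lit 1) (Steps.bwd (nat_lit 3) (Steps.fwd (nat_lit 2048) (Steps.fwd (nat_lit 1536) (Steps.bwd (nat_lit 4) (Steps.fwd (nat_lit 1536) (Steps.fwd (nat_lit 2048) Steps.nil)))))))) (nat_lit 21) (nat_lit 7),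
  Rule.mk (nat_lit 3) (nat_lit 88) (Steps.bwd (nat_lit 4) (Steps.fwd (nat_lit 512) (Steps.fwd (nat_lit 1536) (Steps.bwd (nat_lit 4) (Steps.fwd (nat_lit 1536) (Steps.fwd (nat_lit 2048) (Steps.bwd (nat_lit 3) (Steps.bwd (nat_lit 4) Steps.nil)))))))) (nat_lit 21) (nat_lit 7),
  Rule.mk (nat_lit 0) (nat_lit 98) (Steps.bwd (nat_lit 4) (Steps.bwd (nat_lit 1) (Steps.fwd (nat_lit 1536) (Steps.fwd (nat_lit 2048) (Steps.bwd (nat_lit 3) (Steps.bwd (nat_lit 4) (Steps.bwd (nat_lit 3) (Steps.bwd (nat_lit 4) (Steps.fwd (nat_lit 1536) Steps.nil))))))))) (nat_lit 21) (nat_lit 7),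
  Rule.mk (nat_lit 0) (nat_lit 38) (Steps.bwd (nat_lit 4) (Steps.bwd (nat_lit 0) (Steps.bwd (nat_lit 4) Steps.nil))) (nat_lit 54) (nat_lit 0),
  Rule.mk (nat_lit 4) (nat_lit 28) (Steps.bwd (nat_lit 0) (Steps.fwd (nat_lit 2048) Steps.nil)) (nat_lit 54) (nat_lit 0),
  Rule.mk (nat_lit 0) (nat_lit 38) (Steps.bwd (nat_lit 5) (Steps.fwd (nat_lit 0) (Steps.fwd (nat_lit 2560) Steps.nil))) (nat_lit 54) (nat_lit 0),
  Rule.mk (nat_lit 1) (nat_lit 88) (Steps.bwd (nat_lit 4) (Steps.bwd (nat_lit 3) (Steps.fwd (nat_lit 2048) (Steps.fwd (nat_lit 1536) (Steps.bwd (nat_lit 4) (Steps.fwd (nat_lit 1536) (Steps.fwd (nat_lit 2048) (Steps.fwd (nat_lit 1536) Steps.nil)))))))) (nat_lit 20) (nat_lit 1),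
  Rule.mk (nat_lit 1) (nat_lit 88) (Steps.bwd (nat_lit 4) (Steps.bwd (nat_lit 3) (Steps.bwd (nat_lit 4) (Steps.bwd (nat_lit 3) (Steps.bwd (nat_lit 4) (Steps.bwd (nat_lit 3) (Steps.fwd (nat_lit 2048) (Steps.fwd (nat_lit 1536) Steps.nil)))))))) (nat_lit 20) (nat_lit 1),
  Rule.mk (nat_lit 0) (nat_lit 98) (Steps.bwd (nat_lit 1) (Steps.fwd (nat_lit 1536) (Steps.bwd (nat_lit 4) (Steps.bwd (nat_lit 3) (Steps.bwd (nat_lit 4) (Steps.bwd (nat_lit 3) (Steps.bwd (nat_lit 4) (Steps.bwd (nat_lit 3) (Steps.fwd (nat_lit 2048) Steps.nil))))))))) (nat_lit 21) (nat_lit 8),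
  Rule.mk (nat_lit 2) (nat_lit 318) (Steps.bwd (nat_lit 5) (Steps.fwd (nat_lit 2048) (Steps.bwd (nat_lit 3) (Steps.fwd (nat_lit 1024) (Steps.bwd (nat_lit 5) (Steps.bwd (nat_lit 4) (Steps.bwd (nat_lit 3) (Steps.fwd (nat_lit 1024) (Steps.bwd (nat_lit 5) (Steps.bwd (nat_lit 4) (Steps.bwd (nat_lit 3) (Steps.fwd (nat_lit 1024) (Steps.fwd (nat_lit 2560) (Steps.fwd (nat_lit 2048) (Steps.fwd (nat_lit 1536) (Steps.bwd (nat_lit 2) (Steps.fwd (nat_lit 2560) (Steps.fwd (nat_lit 2048) (Steps.fwd (nat_lit 1536) (Steps.bwd (nat_lit 2) (Steps.fwd (nat_lit 2560) (Steps.fwd (nat_lit 2048) (Steps.fwd (nat_lit 1536) (Steps.fwd (nat_lit 1024) (Steps.bwd (nat_lit 5) (Steps.bwd (nat_lit 4) (Steps.bwd (nat_lit 3) (Steps.bwd (nat_lit 2) (Steps.fwd (nat_lit 2560) (Steps.fwd (nat_lit 2048) (Steps.fwd (nat_lit 1536) Steps.nil))))))))))))))))))))))))))))))) (nat_lit 27) (nat_lit 0),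
  Rule.mk (nat_lit 3) (nat_lit 58) (Steps.fwd (nat_lit 1024) (Steps.bwd (nat_lit 3) (Steps.fwd (nat_lit 1024) (Steps.fwd (nat_lit 1536) (Steps.bwd (nat_lit 2) Steps.nil))))) (nat_lit 14) (nat_lit 0),
  Rule.mk (nat_lit 3) (nat_lit 58) (Steps.bwd (nat_lit 2) (Steps.fwd (nat_lit 1536) (Steps.fwd (nat_lit 1024) (Steps.bwd (nat_lit 3) (Steps.bwd (nat_lit 2) Steps.nil))))) (nat_lit 14) (nat_lit 0),
  Rule.mk (nat_lit 5) (nat_lit 58) (Steps.bwd (nat_lit 4) (Steps.fwd (nat_lit 2560) (Steps.bwd (nat_lit 4) (Steps.fwd (nat_lit 2560) (Steps.fwd (nat_lit 2048) Steps.nil))))) (nat_lit 24) (nat_lit 0),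
  Rule.mk (nat_lit 1) (nat_lit 88) (Steps.bwd (nat_lit 3) (Steps.fwd (nat_lit 2048) (Steps.fwd (nat_lit 1536) (Steps.fwd (nat_lit 2048) (Steps.fwd (nat_lit 1536) (Steps.bwd (nat_lit 4) (Steps.bwd (nat_lit 3) (Steps.bwd (nat_lit 4) Steps.nil)))))))) (nat_lit 21) (nat_lit 0),
  Rule.mk (nat_lit 4) (nat_lit 88) (Steps.bwd (nat_lit 1) (Steps.fwd (nat_lit 1536) (Steps.fwd (nat_lit 2048) (Steps.fwd (nat_lit 1536) (Steps.bwd (nat_lit 4) (Steps.bwd (nat_lit 3) (Steps.bwd (nat_lit 4) (Steps.fwd (nat_lit 1536) Steps.nil)))))))) (nat_lit 21) (nat_lit 8),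
  Rule.mk (nat_lit 1) (nat_lit 88) (Steps.bwd (nat_lit 3) (Steps.fwd (nat_lit 2048) (Steps.bwd (nat_lit 3) (Steps.fwd (nat_lit 2048) (Steps.fwd (nat_lit 1536) (Steps.fwd (nat_lit 2048) (Steps.fwd (nat_lit 1536) (Steps.bwd (nat_lit 4) Steps.nil)))))))) (nat_lit 21) (nat_lit 0),
  Rule.mk (nat_lit 4) (nat_lit 88) (Steps.bwd (nat_lit 3) (Steps.bwd (nat_lit 4) (Steps.fwd (nat_lit 1536) (Steps.fwd (nat_lit 2048) (Steps.fwd (nat_lit 1536) (Steps.fwd (nat_lit 2048) (Steps.fwd (nat_lit 1536) (Steps.bwd (nat_lit 1) Steps.nil)))))))) (nat_lit 20) (nat_lit 2),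
  Rule.mk (nat_lit 5) (nat_lit 58) (Steps.bwd (nat_lit 4) (Steps.bwd (nat_lit 5) (Steps.fwd (nat_lit 2048) (Steps.bwd (nat_lit 5) (Steps.bwd (nat_lit 4) Steps.nil))))) (nat_lit 24) (nat_lit 0),
  Rule.mk (nat_lit 3) (nat_lit 88) (Steps.bwd (nat_lit 4) (Steps.bwd (nat_lit 3) (Steps.bwd (nat_lit 1) (Steps.bwd (nat_lit 4) (Steps.bwd (nat_lit 3) (Steps.fwd (nat_lit 2048) (Steps.fwd (nat_lit 1536) (Steps.fwd (nat_lit 2048) Steps.nil)))))))) (nat_lit 20) (nat_lit 7),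
  Rule.mk (nat_lit 1) (nat_lit 88) (Steps.bwd (nat_lit 4) (Steps.bwd (nat_lit 3) (Steps.fwd (nat_lit 2048) (Steps.fwd (nat_lit 1536) (Steps.fwd (nat_lit 2048) (Steps.fwd (nat_lit 1536) (Steps.bwd (nat_lit 4) (Steps.bwd (nat_lit 3) Steps.nil)))))))) (nat_lit 20) (nat_lit 1),
  Rule.mk (nat_lit 4) (nat_lit 88) (Steps.bwd (nat_lit 1) (Steps.fwd (nat_lit 1536) (Steps.bwd (nat_lit 4) (Steps.bwd (nat_lit 3) (Steps.bwd (nat_lit 4) (Steps.fwd (nat_lit 1536) (Steps.bwd (nat_lit 4) (Steps.fwd (nat_lit 1536) Steps.nil)))))))) (nat_lit 21) (nat_lit 8),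
  Rule.mk (nat_lit 3) (nat_lit 88) (Steps.fwd (nat_lit 2048) (Steps.bwd (nat_lit 3) (Steps.fwd (nat_lit 2048) (Steps.bwd (nat_lit 3) (Steps.fwd (nat_lit 2048) (Steps.fwd (nat_lit 1536) (Steps.fwd (nat_lit 2048) (Steps.fwd (nat_lit 512) Steps.nil)))))))) (nat_lit 21) (nat_lit 1),
  Rule.mk (nat_lit 4) (nat_lit 58) (Steps.bwd (nat_lit 5) (Steps.fwd (nat_lit 2048) (Steps.fwd (nat_lit 2560) (Steps.bwd (nat_lit 4) (Steps.bwd (nat_lit 5) Steps.nil))))) (nat_lit 24) (nat_lit 1),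
  Rule.mk (nat_lit 1) (nat_lit 88) (Steps.bwd (nat_lit 3) (Steps.bwd (nat_lit 4) (Steps.bwd (nat_lit 3) (Steps.bwd (nat_lit 4) (Steps.fwd (nat_lit 1536) (Steps.bwd (nat_lit 4) (Steps.fwd (nat_lit 1536) (Steps.fwd (nat_lit 2048) Steps.nil)))))))) (nat_lit 21) (nat_lit 0),
  Rule.mk (nat_lit 3) (nat_lit 88) (Steps.bwd (nat_lit 4) (Steps.bwd (nat_lit 3) (Steps.fwd (nat_lit 512) (Steps.fwd (nat_lit 2048) (Steps.fwd (nat_lit 1536) (Steps.fwd (nat_lit 2048) (Steps.fwd (nat_lit 1536) (Steps.fwd (nat_lit 2048) Steps.nil)))))))) (nat_lit 20) (nat_lit 7),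
  Rule.mk (nat_lit 1) (nat_lit 88) (Steps.bwd (nat_lit 4) (Steps.bwd (nat_lit 3) (Steps.bwd (nat_lit 4) (Steps.bwd (nat_lit 3) (Steps.bwd (nat_lit 4) (Steps.fwd (nat_lit 1536) (Steps.bwd (nat_lit 4) (Steps.fwd (nat_lit 1536) Steps.nil)))))))) (nat_lit 20) (nat_lit 1),
  Rule.mk (nat_lit 2) (nat_lit 38) (Steps.fwd (nat_lit 2560) (Steps.bwd (nat_lit 2) (Steps.bwd (nat_lit 5) Steps.nil))) (nat_lit 18) (nat_lit 1),
  Rule.mk (nat_lit 1) (nat_lit 88) (Steps.bwd (nat_lit 3) (Steps.bwd (nat_lit 4) (Steps.fwd (nat_lit 1536) (Steps.fwd (nat_lit 2048) (Steps.bwd (nat_lit 3) (Steps.fwd (nat_lit 2048) (Steps.bwd (nat_lit 3) (Steps.fwd (nat_lit 2048) Steps.nil)))))))) (nat_lit 21) (nat_lit 0),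
  Rule.mk (nat_lit 3) (nat_lit 38) (Steps.bwd (nat_lit 5) (Steps.bwd (nat_lit 3) (Steps.bwd (nat_lit 5) Steps.nil))) (nat_lit 22) (nat_lit 1),
  Rule.mk (nat_lit 1) (nat_lit 88) (Steps.bwd (nat_lit 4) (Steps.fwd (nat_lit 1536) (Steps.bwd (nat_lit 4) (Steps.fwd (nat_lit 1536) (Steps.bwd (nat_lit 4) (Steps.fwd (nat_lit 1536) (Steps.bwd (nat_lit 4) (Steps.bwd (nat_lit 3) Steps.nil)))))))) (nat_lit 20) (nat_lit 1),
  Rule.mk (nat_lit 3) (nat_lit 88) (Steps.bwd (nat_lit 1) (Steps.fwd (nat_lit 2048) (Steps.bwd (nat_lit 3) (Steps.fwd (nat_lit 2048) (Steps.bwd (nat_lit 3) (Steps.fwd (nat_lit 2048) (Steps.bwd (nat_lit 3) (Steps.fwd (nat_lit 2048) Steps.nil)))))))) (nat_lit 20) (nat_lit 0),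
  Rule.mk (nat_lit 1) (nat_lit 88) (Steps.bwd (nat_lit 4) (Steps.fwd (nat_lit 1536) (Steps.bwd (nat_lit 4) (Steps.fwd (nat_lit 1536) (Steps.bwd (nat_lit 4) (Steps.fwd (nat_lit 1536) (Steps.bwd (nat_lit 4) (Steps.fwd (nat_lit 1536) Steps.nil)))))))) (nat_lit 20) (nat_lit 1),
  Rule.mk (nat_lit 3) (nat_lit 88) (Steps.bwd (nat_lit 4) (Steps.fwd (nat_lit 1536) (Steps.bwd (nat_lit 4) (Steps.fwd (nat_lit 1536) (Steps.bwd (nat_lit 4) (Steps.fwd (nat_lit 1536) (Steps.bwd (nat_lit 4) (Steps.bwd (nat_lit 1) Steps.nil)))))))) (nat_lit 21) (nat_lit 1),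
  Rule.mk (nat_lit 5) (nat_lit 38) (Steps.fwd (nat_lit 1536) (Steps.fwd (nat_lit 2560) (Steps.bwd (nat_lit 3) Steps.nil))) (nat_lit 22) (nat_lit 0),
  Rule.mk (nat_lit 2) (nat_lit 58) (Steps.bwd (nat_lit 1) (Steps.bwd (nat_lit 2) (Steps.fwd (nat_lit 512) (Steps.bwd (nat_lit 2) (Steps.bwd (nat_lit 1) Steps.nil))))) (nat_lit 10) (nat_lit 0),
  Rule.mk (nat_lit 4) (nat_lit 88) (Steps.bwd (nat_lit 1) (Steps.bwd (nat_lit 3) (Steps.fwd (nat_lit 2048) (Steps.bwd (nat_lit 3) (Steps.fwd (nat_lit 2048) (Steps.bwd (nat_lit 3) (Steps.fwd (nat_lit 2048) (Steps.fwd (nat_lit 1536) Steps.nil)))))))) (nat_lit 21) (nat_lit 8),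
  Rule.mk (nat_lit 4) (nat_lit 88) (Steps.bwd (nat_lit 3) (Steps.bwd (nat_lit 1) (Steps.bwd (nat_lit 4) (Steps.fwd (nat_lit 1536) (Steps.bwd (nat_lit 4) (Steps.bwd (nat_lit 3) (Steps.fwd (nat_lit 2048) (Steps.fwd (nat_lit 1536) Steps.nil)))))))) (nat_lit 20) (nat_lit 8),
  Rule.mk (nat_lit 1) (nat_lit 88) (Steps.bwd (nat_lit 3) (Steps.fwd (nat_lit 2048) (Steps.bwd (nat_lit 3) (Steps.bwd (nat_lit 4) (Steps.fwd (nat_lit 1536) (Steps.bwd (nat_lit 4) (Steps.fwd (nat_lit 1536) (Steps.bwd (nat_lit 4) Steps.nil)))))))) (nat_lit 21) (nat_lit 0),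
  Rule.mk (nat_lit 5) (nat_lit 38) (Steps.bwd (nat_lit 1) (Steps.bwd (nat_lit 5) (Steps.bwd (nat_lit 1) Steps.nil))) (nat_lit 12) (nat_lit 0),
  Rule.mk (nat_lit 2) (nat_lit 58) (Steps.bwd (nat_lit 1) (Steps.bwd (nat_lit 2) (Steps.bwd (nat_lit 1) (Steps.bwd (nat_lit 2) (Steps.fwd (nat_lit 512) Steps.nil))))) (nat_lit 10) (nat_lit 0),
  Rule.mk (nat_lit 4) (nat_lit 38) (Steps.bwd (nat_lit 2) (Steps.fwd (nat_lit 2048) (Steps.bwd (nat_lit 2) Steps.nil))) (nat_lit 16) (nat_lit 0),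
  Rule.mk (nat_lit 2) (nat_lit 58) (Steps.bwd (nat_lit 3) (Steps.fwd (nat_lit 1024) (Steps.bwd (nat_lit 3) (Steps.fwd (nat_lit 1024) (Steps.fwd (nat_lit 1536) Steps.nil))))) (nat_lit 14) (nat_lit 1),
  Rule.mk (nat_lit 4) (nat_lit 38) (Steps.bwd (nat_lit 2) (Steps.bwd (nat_lit 4) (Steps.fwd (nat_lit 1024) Steps.nil))) (nat_lit 16) (nat_lit 0),
  Rule.mk (nat_lit 2) (nat_lit 38) (Steps.bwd (nat_lit 5) (Steps.bwd (nat_lit 2) (Steps.fwd (nat_lit 2560) Steps.nil))) (nat_lit 18) (nat_lit 1),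
  Rule.mk (nat_lit 4) (nat_lit 58) (Steps.bwd (nat_lit 5) (Steps.fwd (nat_lit 2048) (Steps.bwd (nat_lit 5) (Steps.fwd (nat_lit 2048) (Steps.fwd (nat_lit 2560) Steps.nil))))) (nat_lit 24) (nat_lit 1),
  Rule.mk (nat_lit 1) (nat_lit 58) (Steps.bwd (nat_lit 2) (Steps.fwd (nat_lit 512) (Steps.fwd (nat_lit 1024) (Steps.bwd (nat_lit 1) (Steps.bwd (nat_lit 2) Steps.nil))))) (nat_lit 10) (nat_lit 1),
  Rule.mk (nat_lit 5) (nat_lit 58) (Steps.bwd (nat_lit 4) (Steps.fwd (nat_lit 2560) (Steps.fwd (nat_lit 2048) (Steps.bwd (nat_lit 5) (Steps.fwd (nat_lit 2048) Steps.nil))))) (nat_lit 24) (nat_lit 0),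
  Rule.mk (nat_lit 3) (nat_lit 88) (Steps.bwd (nat_lit 4) (Steps.bwd (nat_lit 3) (Steps.fwd (nat_lit 512) (Steps.fwd (nat_lit 2048) (Steps.fwd (nat_lit 1536) (Steps.bwd (nat_lit 4) (Steps.fwd (nat_lit 1536) (Steps.fwd (nat_lit 2048) Steps.nil)))))))) (nat_lit 20) (nat_lit 7),
  Rule.mk (nat_lit 3) (nat_lit 58) (Steps.bwd (nat_lit 2) (Steps.bwd (nat_lit 3) (Steps.fwd (nat_lit 1024) (Steps.fwd (nat_lit 1536) (Steps.bwd (nat_lit 2) Steps.nil))))) (nat_lit 14) (nat_lit 0),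
  Rule.mk (nat_lit 2) (nat_lit 38) (Steps.bwd (nat_lit 4) (Steps.fwd (nat_lit 1024) (Steps.bwd (nat_lit 4) Steps.nil))) (nat_lit 16) (nat_lit 1),
  Rule.mk (nat_lit 2) (nat_lit 58) (Steps.bwd (nat_lit 1) (Steps.fwd (nat_lit 1024) (Steps.bwd (nat_lit 1) (Steps.fwd (nat_lit 1024) (Steps.bwd (nat_lit 1) Steps.nil))))) (nat_lit 10) (nat_lit 0),
  Rule.mk (nat_lit 4) (nat_lit 58) (Steps.bwd (nat_lit 5) (Steps.bwd (nat_lit 4) (Steps.fwd (nat_lit 2560) (Steps.bwd (nat_lit 4) (Steps.bwd (nat_lit 5) Steps.nil))))) (nat_lit 24) (nat_lit 1),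
  Rule.mk (nat_lit 2) (nat_lit 58) (Steps.bwd (nat_lit 3) (Steps.fwd (nat_lit 1024) (Steps.fwd (nat_lit 1536) (Steps.fwd (nat_lit 1024) (Steps.fwd (nat_lit 1536) Steps.nil))))) (nat_lit 14) (nat_lit 1),
  Rule.mk (nat_lit 4) (nat_lit 38) (Steps.fwd (nat_lit 1024) (Steps.fwd (nat_lit 2048) (Steps.bwd (nat_lit 2) Steps.nil))) (nat_lit 16) (nat_lit 0),
  Rule.mk (nat_lit 3) (nat_lit 58) (Steps.bwd (nat_lit 2) (Steps.fwd (nat_lit 1536) (Steps.bwd (nat_lit 2) (Steps.fwd (nat_lit 1536) (Steps.bwd (nat_lit 2) Steps.nil))))) (nat_lit 14) (nat_lit 0),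
  Rule.mk (nat_lit 4) (nat_lit 318) (Steps.bwd (nat_lit 5) (Steps.fwd (nat_lit 1024) (Steps.bwd (nat_lit 3) (Steps.fwd (nat_lit 2048) (Steps.fwd (nat_lit 2560) (Steps.bwd (nat_lit 2) (Steps.bwd (nat_lit 3) (Steps.bwd (nat_lit 4) (Steps.fwd (nat_lit 2560) (Steps.bwd (nat_lit 2) (Steps.bwd (nat_lit 3) (Steps.bwd (nat_lit 4) (Steps.fwd (nat_lit 2560) (Steps.bwd (nat_lit 2) (Steps.bwd (nat_lit 3) (Steps.fwd (nat_lit 2048) (Steps.fwd (nat_lit 2560) (Steps.fwd (nat_lit 1024) (Steps.fwd (nat_lit 1536) (Steps.fwd (nat_lit 2048) (Steps.fwd (nat_lit 2560) (Steps.bwd (nat_lit 2) (Steps.fwd (nat_lit 1536) (Steps.fwd (nat_lit 2048) (Steps.fwd (nat_lit 2560) (Steps.bwd (nat_lit 2) (Steps.fwd (nat_lit 1536) (Steps.bwd (nat_lit 4) (Steps.bwd (nat_lit 5) (Steps.fwd (nat_lit 1024) (Steps.fwd (nat_lit 1536) Steps.nil))))))))))))))))))))))))))))))) (nat_lit 26) (nat_lit 3),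
  Rule.mk (nat_lit 4) (nat_lit 88) (Steps.bwd (nat_lit 3) (Steps.bwd (nat_lit 1) (Steps.fwd (nat_lit 2048) (Steps.fwd (nat_lit 1536) (Steps.fwd (nat_lit 2048) (Steps.bwd (nat_lit 3) (Steps.bwd (nat_lit 4) (Steps.fwd (nat_lit 1536) Steps.nil)))))))) (nat_lit 20) (nat_lit 8),
  Rule.mk (nat_lit 0) (nat_lit 98) (Steps.fwd (nat_lit 2048) (Steps.bwd (nat_lit 3) (Steps.bwd (nat_lit 4) (Steps.fwd (nat_lit 1536) (Steps.bwd (nat_lit 4) (Steps.bwd (nat_lit 3) (Steps.fwd (nat_lit 2048) (Steps.fwd (nat_lit 1536) (Steps.fwd (nat_lit 512) Steps.nil))))))))) (nat_lit 20) (nat_lit 1),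
  Rule.mk (nat_lit 4) (nat_lit 38) (Steps.bwd (nat_lit 0) (Steps.fwd (nat_lit 2048) (Steps.fwd (nat_lit 0) Steps.nil))) (nat_lit 54) (nat_lit 0),
  Rule.mk (nat_lit 1) (nat_lit 88) (Steps.bwd (nat_lit 4) (Steps.bwd (nat_lit 3) (Steps.fwd (nat_lit 2048) (Steps.fwd (nat_lit 1536) (Steps.fwd (nat_lit 2048) (Steps.bwd (nat_lit 3) (Steps.bwd (nat_lit 4) (Steps.fwd (nat_lit 1536) Steps.nil)))))))) (nat_lit 20) (nat_lit 1),
  Rule.mk (nat_lit 3) (nat_lit 58) (Steps.bwd (nat_lit 2) (Steps.bwd (nat_lit 3) (Steps.fwd (nat_lit 1024) (Steps.bwd (nat_lit 3) (Steps.bwd (nat_lit 2) Steps.nil))))) (nat_lit 14) (nat_lit 0),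
  Rule.mk (nat_lit 3) (nat_lit 88) (Steps.bwd (nat_lit 4) (Steps.fwd (nat_lit 1536) (Steps.bwd (nat_lit 1) (Steps.bwd (nat_lit 4) (Steps.bwd (nat_lit 3) (Steps.bwd (nat_lit 4) (Steps.fwd (nat_lit 1536) (Steps.bwd (nat_lit 4) Steps.nil)))))))) (nat_lit 20) (nat_lit 7)]
noncomputable def R_2 : List (Rule) := [Rule.mk (nat_lit 5) (nat_lit 318) (Steps.fwd (nat_lit 1024) (Steps.bwd (nat_lit 3) (Steps.fwd (nat_lit 2048) (Steps.bwd (nat_lit 5) (Steps.bwd (nat_lit 2) (Steps.fwd (nat_lit 1536) (Steps.fwd (nat_lit 2048) (Steps.fwd (nat_lit 2560) (Steps.fwd (nat_lit 1024) (Steps.fwd (nat_lit 1536) (Steps.fwd (nat_lit 2048) (Steps.bwd (nat_lit 5) (Steps.fwd (nat_lit 1024) (Steps.bwd (nat_lit 3) (Steps.fwd (nat_lit 2048) (Steps.bwd (nat_lit 5) (Steps.bwd (nat_lit 2) (Steps.fwd (nat_lit 1536) (Steps.bwd (nat_lit 4) (Steps.bwd (nat_lit 5) (Steps.fwd (nat_lit 1024) (Steps.bwd (nat_lit 3) (Steps.bwd (nat_lit 4) (Steps.bwd (nat_lit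 5) (Steps.fwd (nat_lit 1024) (Steps.fwd (nat_lit 1536) (Steps.fwd (nat_lit 2048) (Steps.fwd (nat_lit 2560) (Steps.bwd (nat_lit 2) (Steps.bwd (nat_lit 3) (Steps.bwd (nat_lit 4) Steps.nil))))))))))))))))))))))))))))))) (nat_lit 26) (nat_lit 0),
  Rule.mk (nat_lit 3) (nat_lit 88) (Steps.bwd (nat_lit 1) (Steps.fwd (nat_lit 2048) (Steps.fwd (nat_lit 1536) (Steps.fwd (nat_lit 2048) (Steps.bwd (nat_lit 3) (Steps.fwd (nat_lit 2048) (Steps.fwd (nat_lit 1536) (Steps.fwd (nat_lit 2048) Steps.nil)))))))) (nat_lit 20) (nat_lit 0),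
  Rule.mk (nat_lit 3) (nat_lit 88) (Steps.bwd (nat_lit 4) (Steps.fwd (nat_lit 1536) (Steps.fwd (nat_lit 512) (Steps.bwd (nat_lit 4) (Steps.bwd (nat_lit 3) (Steps.bwd (nat_lit 4) (Steps.fwd (nat_lit 1536) (Steps.bwd (nat_lit 4) Steps.nil)))))))) (nat_lit 20) (nat_lit 7),
  Rule.mk (nat_lit 1) (nat_lit 88) (Steps.bwd (nat_lit 4) (Steps.fwd (nat_lit 1536) (Steps.bwd (nat_lit 4) (Steps.bwd (nat_lit 3) (Steps.bwd (nat_lit 4) (Steps.fwd (nat_lit 1536) (Steps.bwd (nat_lit 4) (Steps.bwd (nat_lit 3) Steps.nil)))))))) (nat_lit 20) (nat_lit 1),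
  Rule.mk (nat_lit 2) (nat_lit 58) (Steps.bwd (nat_lit 1) (Steps.bwd (nat_lit 2) (Steps.bwd (nat_lit 1) (Steps.bwd (nat_lit 2) (Steps.bwd (nat_lit 1) Steps.nil))))) (nat_lit 10) (nat_lit 0),
  Rule.mk (nat_lit 4) (nat_lit 88) (Steps.bwd (nat_lit 3) (Steps.bwd (nat_lit 4) (Steps.bwd (nat_lit 3) (Steps.bwd (nat_lit 1) (Steps.fwd (nat_lit 2048) (Steps.fwd (nat_lit 1536) (Steps.fwd (nat_lit 2048) (Steps.fwd (nat_lit 1536) Steps.nil)))))))) (nat_lit 20) (nat_lit 6),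
  Rule.mk (nat_lit 4) (nat_lit 88) (Steps.bwd (nat_lit 1) (Steps.fwd (nat_lit 1536) (Steps.fwd (nat_lit 2048) (Steps.bwd (nat_lit 3) (Steps.bwd (nat_lit 4) (Steps.bwd (nat_lit 3) (Steps.bwd (nat_lit 4) (Steps.bwd (nat_lit 3) Steps.nil)))))))) (nat_lit 21) (nat_lit 8),
  Rule.mk (nat_lit 4) (nat_lit 88) (Steps.bwd (nat_lit 3) (Steps.bwd (nat_lit 1) (Steps.bwd (nat_lit 4) (Steps.bwd (nat_lit 3) (Steps.bwd (nat_lit 4) (Steps.bwd (nat_lit 3) (Steps.bwd (nat_lit 4) (Steps.fwd (nat_lit 1536) Steps.nil)))))))) (nat_lit 20) (nat_lit 8),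
  Rule.mk (nat_lit 1) (nat_lit 88) (Steps.fwd (nat_lit 2048) (Steps.bwd (nat_lit 3) (Steps.fwd (nat_lit 2048) (Steps.fwd (nat_lit 1536) (Steps.fwd (nat_lit 2048) (Steps.fwd (nat_lit 1536) (Steps.fwd (nat_lit 2048) (Steps.fwd (nat_lit 1536) Steps.nil)))))))) (nat_lit 20) (nat_lit 1),
  Rule.mk (nat_lit 1) (nat_lit 58) (Steps.bwd (nat_lit 2) (Steps.fwd (nat_lit 512) (Steps.fwd (nat_lit 1024) (Steps.bwd (nat_lit 1) (Steps.fwd (nat_lit 1024) Steps.nil))))) (nat_lit 10) (nat_lit 1)]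
noncomputable def R : List (List (Rule)) := [R_0, R_1, R_2]
def LW : List Word := [[], [0], [2], [4], [6], [8], [0], [1], [4], [5], [6], [7], [8], [9]]
def par : Par := ⟨9, 4, 13, 22, 511, 8191, 4194303⟩
theorem hpar : par.ok := by decide
theorem hR0_0 : lall (R) (fun l => lall l (ruleOK RG LW par)) = true := by decide +kernel
theorem hR0 : lall (R) (fun l => lall l (ruleOK RG LW par)) = true := hR0_0
theorem hR : RulesOK RG LW par R := rulesOK_of rfl hR0
def cols : List (ℕ × ℕ) := [(512, 1), (1024, 2), (1536, 3), (2048, 4), (2560, 5)]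
theorem hcols : lall cols (colOK RG LW par) = true := by decide +kernel
noncomputable def JS0 : List ℕ := [nat_lit 0x22c0b6020b62c00203c6ca80005c00034a62c4b5070b52c4a71a29002190080d00860ad0085caa00ca4162a80229454ac004aa142b001132b00000848aa00007000440101001284409e0003ca00009d0e26c9800099290a82a4a627c349828ca7038a72909a25c309a0189a05268a201ca22682c9a288092889a0a2709d26c249c284062849c0826c0226c089c0089c07270022700c9d00c9d052749f01c9f274189c0089c052709d0189d270109b0009b0326c0126c089a0049a01,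
  nat_lit 0x2ccbc2c824042c8c033833338c02c8acb20005c10004032a2c400172f0ca0bcca2f0ae000ae2c0a4ad2ecc90b8c9060bb2b4a0ae030ad0302407010af2b89c01000ad1d2b8012b41cae2e8242e4ad26030092d0af2b89401000ad052b8052b408ae04c242c8ad082bc1f2b404ad0280c028ad242b4b32b08cac2d4232d4ac082b4ae2b088ad2e8202e8ad0a2b41d2b074ab01cab202acb8080b82ac28ab024aa212b0062a480aa010a91f2a8ac2a478a92d81d2d8a90a2a0182a0741400417004141c,
  nat_lit 0xd1000bc053442c320bd2f0ec01000bb072f00c2ec74bc33c2f318bb0a2ec202ec84ba068ba202eccf2e888bc08401080bb3a2eccd2e8e4bd0005cbd000bc143302c0ac2c330b9004ba2f0e0b832c2b0a82b32cb80006cb832c2d0b82b0a8ca2dcdcb706cb6052e8cb2e424012fc1c362e4ba00cba2e418bc004b83505c26328022e0d0b92e0b7332dc022dc841a008b6322dc032e4ba0581700400312d4b600cb62d420c5094c3000b43005017050132dcb6000b42f2d4b60481305813048b42e2ccbf018bf2cc10b40401105011040b42ccb4b200006000b22c,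
  nat_lit 0x3280101048c8004d9463180136518e900005150c4d7000be004bf374df31114bd000be3704212c3135910bd36c411284136cc02f10cbe318bd092fc1e2f80cc0078bf073041e3001400088c4423643d358c13009401000bf05300182fc8cc035c39348bf08304ce30088c2334c13900005000d8c2330c12230800173280101104c10005cd33a43d3a4d32f8012f8c0402f4d23a03c3a0d22f4003f2f0d139c3b0f4e7344bc3e2f4c52f0e4be05c20010bd3d2f0022f01cbc050bc070041f008f0bd00805008bd2c,
  nat_lit 0x13c50946917410eb34d54030141a0a0d254000dc38d004551841cef5336800344c8d8024d80200434c0034548d200c0735c0835c073454402018d601cd601802345401e000d03503c0134008d1340cf4235c233680133d3c1b34c04004cf4e068cf338ccd0344ce21000d10b8d10013407000cd07338d50d8de0781a070df3d9094550f1885f1705b1a06744c83445033c0313b0e80a82c33c0633530e10005c280041e2a38000173300037c50f4415023b4d032401328cb4b36cf3411013b0cf320004a320e23d0063b4eb338c73e32cd6324240c008d10143c014d100924cd0005c0e0100c483180347324021737002133700213,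
  nat_lit 0x1a38dac1704c14388e16a004003800ce13b8e023384310a8ee3802ce14406a430e008380523800400090e1693c4093900638404004df68394f81144140cfb37cde67008df010e201cef080de66008401850437d940037c0264008f7074ec010df004dc633f8f6070eb00cde000db62374023a81b3d4fd0ecdb610f40036cc83d0e4fb3cc193a00036d8017370db5f0580036880e5058f03e0360e8ed3697802064045d014043e90741902368d95c360d94050541819364d85b390e50780135d3c01008013dd0440cff35d68e5100d6050d0063640235964d5000d521354df03c0b36807360005835c063640a038de03cd45737c17380fa4301e3b0d456,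
  nat_lit 0x183215c583c4d003114f0333e4593bdb401109150c0041c00040019e11244c2c004ed773ccf200cee3b5d906000ec1d080003b01c1e4450d004ec753b4ec3ada435004eb1d001073c1ac31164fb000ea7506c013a9d0000741b07ceb733ecea3a5b802000e8203a44a4701e3a0c0e94607445ce8083a05539c08e802410024e8713a00739c1c0039d1d1b06d1b11d39d24e64706b1b06b16d1c399c8e51645f164e571004280d429399c00601007004e46f3e0e438db8e7080e36d458644480238db005008e205,
  nat_lit 0x104004110fd21475064122103015030503c3d47d1b40c0040d04874091a4783c47d1e4690286404310cc31404b1000bd00054002f0c02f400e8ff0b4ff030040602102402140000cff6900c194201b0910e004fd8442413058270810c000fc83430220650605c013f4fc823f000074534993e2689b1c15e290a52b9642c953259470c0310e037460821344e458350bcff0060415410170810a424013ee00073ecfa090704f0acfb3e9fcfa0a4330d0330a4fa015f8fb0003c09008072a00404005f4f90003cfa0b8243d4003d8263e0027c3d4253dc013dc25088f47b3d1073cc88f542d181053722546545672f16a5dd7d388e333d7d5e0dc5d96858cb45413843028098f4000017a3cd09105093cc18f309cf2053cc211d4213cce8f3084f2033c9081e5083c8100843c58198f279,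
  nat_lit 0x4210902909420210700807009078a41803418090500505014191e48840048024140089]
theorem S0_c : blocks (facts 9 4 13 22 511 8191 4194303 10 1023 8 255 A R 32) 32 JS0 410 = true := by decide +kernel
theorem S0 : On (Step.{u} RG LW par A) 410 698 :=
  steps_of_blocks hpar hR S0_c (by decide +kernel)
theorem D0_c : allB (defOK 9 13 22 511 4194303 407 A K) 2 2 = true := by decide +kernel
theorem D0 : On (fun r => defOK par.W par.WL par.E par.mW par.mE 407 A K r = true) 256 512 :=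
  On.of_allB D0_c
noncomputable def JW0 : List ℕ := [nat_lit 0x1e862cd0d9c1c4604ca4e61c1384775931de676c88ebb3561c74cca1e43a27899f9af6386c0d931f368d2d991f33b27d8ed9e03becf4dbb473d4d08f61ee3d2ca1a2b3a390d359a1f867c7dcf29e13ccd04dab493e07c8f69f469488103b3c402d19b0b444507f9a79fa3f27f0fab4c442d4da0200690d8d032294048b1b022a6ca821a73696a48b901a326c4dbdb220b46cda1b8a344148e90936e470dcd1e23e6e0dd5b9240484911ba246,
  nat_lit 0x18f598c1d6e1353264f16c19161659cb92ed51c5c1809885d461cb42fe62ab90d0127304bf57d1842f86997a31934868cc09b964a6f8de15b2ac57d70a9631cb2182ade2766489f2d6320c24cf19c61a564cdb2e662c18ea30a3544f58c31b350c018baec3425b181989314614c61dc628cd99c9a2306c9d921c037a69cdc320374c8ccf99d61eb80cd32f3a0c10e930863a4fcd631a35c75999b0c3aa654ed33066e760d49ab362c858f1b6,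
  nat_lit 0x2ab20a4045c90618a2dc6528d1925807bae31863cc7a92f58247c961765e6a88bc122220449582b321a45562a9e26039d4c29b1be9d87110f272531321321502145327914a3654a8da1ae3715c2cd57c53c7f95c594b696e8e12aaaa16ca7a2682fc660cb51e988b327e5d62f4b2161208b954612d5febf1711862465dd7aac02f4498c02f25f65f8be8d85283786b297222b24a69312665756215e5be38caa1385ae9e09d15a2aeb6cac0dd,
  nat_lit 0x2754e427c500a21549f5260ac49c1e8228640f0985550fd55aa088428116c9605c0b518e2ec35a8b190a947b0f85103b4620c1508309438f15764708f2a61e8a81518ea1e44515a8e55643a54e0d353e2447429d534390478e621c42d5888b2182084207e4ca2013a08d13c9dc522b92264695b2ae5784b95f92120e4656591729ca494c8d51b6284701025524004d8fe15226053a7b1461ec3406a0f898c5927f1602b4570be4f8a145e260,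
  nat_lit 0x534a2158288540b49542e05e0aa149280580a094c210404969201f0710de96c2f8621289a82b8924da9bc4405d12c9b02da540c095d290954e61644e2700941192684807e1382224a09893c3806e4b295831a80174969418b418c30032a8950ca907e0fa514a9c782a11dc3ac760cf1a4a44498d01062253388a10e9a13587f1202193488c4cc23840abd57446c90109230ad08b2b71a23386a29013aa4c8190a55825d57a6e1321844d271,
  nat_lit 0x3a0780d924838]
theorem W0_c : blocks (rows 9 4 13 22 511 8191 4194303 11 2047 55 A 698 126 cols 25) 25 JW0 0 = true := by decide +kernel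
theorem W0 : On (Row.{u} RG LW par A 698 126 cols) 0 150 :=
  rows_of_blocks hpar (by decide) hcols W0_c (by decide +kernel)
theorem idx : Idx.{u} RG [[0], [2], [4], [6], [8]] [[0], [4], [6], [8]] 126 :=
  idx_of_cert hpar hR (K := K) (by decide +kernel) (T := 407) (T' := 512) (by decide) D0
    (subs := [1,3,4,5]) (by decide +kernel) (T1 := 410) (by decide) (N := 698) S0
    (by decide) (n' := 150) (by decide) W0 (by decide +kernel) (by decide +kernel)
end T1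
namespace T2
noncomputable def A_0 : List (ℕ) := [nat_lit 0x1820d0788381e80e06903c1660d0590241080b0320281260902a0240e6070208141020601880806803009804064010080400261001200802801002000006000798381c40c06a0301860a0588281440704881c0e80408100c06605029020106060310100860201100002200]
noncomputable def A : List (List (ℕ)) := [A_0]
noncomputable def K_0 : List (ℕ) := [nat_lit 0x10787c3a1b0c85c2a13048440e0b02834060000]
noncomputable def K : List (List (ℕ)) := [K_0]
noncomputable def R_0 : List (Rule) := [Rule.mk (nat_lit 4) (nat_lit 32) (Steps.bwd (nat_lit 1) (Steps.fwd (nat_lit 2048) (Steps.fwd (nat_lit 512) Steps.nil))) (nat_lit 12) (nat_lit 0),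
  Rule.mk (nat_lit 4) (nat_lit 32) (Steps.bwd (nat_lit 2) (Steps.fwd (nat_lit 2048) (Steps.fwd (nat_lit 1024) Steps.nil))) (nat_lit 22) (nat_lit 0),
  Rule.mk (nat_lit 3) (nat_lit 77) (Steps.bwd (nat_lit 2) (Steps.bwd (nat_lit 3) (Steps.bwd (nat_lit 2) (Steps.bwd (nat_lit 3) (Steps.bwd (nat_lit 2) (Steps.bwd (nat_lit 3) (Steps.bwd (nat_lit 2) (Steps.fwd (nat_lit 512) Steps.nil)))))))) (nat_lit 20) (nat_lit 2),
  Rule.mk (nat_lit 0) (nat_lit 86) (Steps.bwd (nat_lit 2) (Steps.bwd (nat_lit 3) (Steps.bwd (nat_lit 2) (Steps.bwd (nat_lit 3) (Steps.bwd (nat_lit 2) (Steps.bwd (nat_lit 3) (Steps.bwd (nat_lit 2) (Steps.fwd (nat_lit 1536) (Steps.fwd (nat_lit 512) Steps.nil))))))))) (nat_lit 21) (nat_lit 0),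
  Rule.mk (nat_lit 2) (nat_lit 23) (Steps.bwd (nat_lit 0) (Steps.bwd (nat_lit 2) Steps.nil)) (nat_lit 54) (nat_lit 0),
  Rule.mk (nat_lit 3) (nat_lit 23) (Steps.bwd (nat_lit 0) (Steps.fwd (nat_lit 1536) Steps.nil)) (nat_lit 54) (nat_lit 0),
  Rule.mk (nat_lit 1) (nat_lit 77) (Steps.fwd (nat_lit 1536) (Steps.fwd (nat_lit 1024) (Steps.fwd (nat_lit 1536) (Steps.fwd (nat_lit 1024) (Steps.fwd (nat_lit 1536) (Steps.bwd (nat_lit 2) (Steps.fwd (nat_lit 1536) (Steps.fwd (nat_lit 1024) Steps.nil)))))))) (nat_lit 20) (nat_lit 1),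
  Rule.mk (nat_lit 1) (nat_lit 77) (Steps.fwd (nat_lit 1536) (Steps.fwd (nat_lit 1024) (Steps.fwd (nat_lit 1536) (Steps.bwd (nat_lit 2) (Steps.fwd (nat_lit 1536) (Steps.fwd (nat_lit 1024) (Steps.bwd (nat_lit 3) (Steps.bwd (nat_lit 2) Steps.nil)))))))) (nat_lit 20) (nat_lit 1),
  Rule.mk (nat_lit 1) (nat_lit 77) (Steps.fwd (nat_lit 1536) (Steps.bwd (nat_lit 2) (Steps.fwd (nat_lit 1536) (Steps.fwd (nat_lit 1024) (Steps.bwd (nat_lit 3) (Steps.bwd (nat_lit 2) (Steps.bwd (nat_lit 3) (Steps.bwd (nat_lit 2) Steps.nil)))))))) (nat_lit 20) (nat_lit 1),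
  Rule.mk (nat_lit 3) (nat_lit 50) (Steps.bwd (nat_lit 4) (Steps.bwd (nat_lit 3) (Steps.fwd (nat_lit 2048) (Steps.fwd (nat_lit 1536) (Steps.fwd (nat_lit 2048) Steps.nil))))) (nat_lit 24) (nat_lit 1),
  Rule.mk (nat_lit 4) (nat_lit 32) (Steps.bwd (nat_lit 1) (Steps.bwd (nat_lit 4) (Steps.bwd (nat_lit 1) Steps.nil))) (nat_lit 12) (nat_lit 0),
  Rule.mk (nat_lit 3) (nat_lit 50) (Steps.fwd (nat_lit 2048) (Steps.fwd (nat_lit 1536) (Steps.fwd (nat_lit 2048) (Steps.bwd (nat_lit 3) (Steps.bwd (nat_lit 4) Steps.nil))))) (nat_lit 24) (nat_lit 1),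
  Rule.mk (nat_lit 4) (nat_lit 32) (Steps.bwd (nat_lit 2) (Steps.bwd (nat_lit 4) (Steps.fwd (nat_lit 1024) Steps.nil))) (nat_lit 22) (nat_lit 0),
  Rule.mk (nat_lit 2) (nat_lit 32) (Steps.fwd (nat_lit 2048) (Steps.bwd (nat_lit 2) (Steps.bwd (nat_lit 4) Steps.nil))) (nat_lit 22) (nat_lit 1),
  Rule.mk (nat_lit 3) (nat_lit 50) (Steps.bwd (nat_lit 4) (Steps.bwd (nat_lit 3) (Steps.fwd (nat_lit 2048) (Steps.fwd (nat_lit 1536) (Steps.bwd (nat_lit 4) Steps.nil))))) (nat_lit 24) (nat_lit 1),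
  Rule.mk (nat_lit 2) (nat_lit 77) (Steps.bwd (nat_lit 3) (Steps.bwd (nat_lit 2) (Steps.bwd (nat_lit 3) (Steps.bwd (nat_lit 2) (Steps.fwd (nat_lit 512) (Steps.fwd (nat_lit 1536) (Steps.fwd (nat_lit 1024) (Steps.bwd (nat_lit 3) Steps.nil)))))))) (nat_lit 20) (nat_lit 5),
  Rule.mk (nat_lit 4) (nat_lit 32) (Steps.bwd (nat_lit 2) (Steps.fwd (nat_lit 2048) (Steps.bwd (nat_lit 2) Steps.nil))) (nat_lit 22) (nat_lit 0)]
noncomputable def R : List (List (Rule)) := [R_0]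
def LW : List Word := [[], [0], [4], [6], [8], [6], [7], [8], [9]]
def par : Par := ⟨9, 4, 13, 22, 511, 8191, 4194303⟩
theorem hpar : par.ok := by decide
theorem hR0_0 : lall (R) (fun l => lall l (ruleOK RG LW par)) = true := by decide +kernel
theorem hR0 : lall (R) (fun l => lall l (ruleOK RG LW par)) = true := hR0_0
theorem hR : RulesOK RG LW par R := rulesOK_of rfl hR0
def cols : List (ℕ × ℕ) := [(512, 1), (1024, 2), (1536, 3), (2048, 4)]
theorem hcols : lall cols (colOK RG LW par) = true := by decide +kernel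
noncomputable def JS0 : List ℕ := [nat_lit 0x170b00806040381006900808060601808021540002c15880002040c8602c1409c0021d0105428f0006c06e028002810d85828d0005c0a170030021409ac26190406426a0b8582a140200c0814485026030100c26140aa004010104826140a858e010280440200981c002850081309044200f0703481309044200f070341830880422208800221]
theorem S0_c : blocks (facts 9 4 13 22 511 8191 4194303 9 511 5 31 A R 32) 32 JS0 273 = true := by decide +kernel
theorem S0 : On (Step.{u} RG LW par A) 273 305 :=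
  steps_of_blocks hpar hR S0_c (by decide +kernel)
theorem D0_c : allB (defOK 9 13 22 511 4194303 272 A K) 1 2 = true := by decide +kernel
theorem D0 : On (fun r => defOK par.W par.WL par.E par.mW par.mE 272 A K r = true) 256 384 :=
  On.of_allB D0_c
noncomputable def JW0 : List ℕ := [nat_lit 0x6c45070190684411c181241e074161204b118170881f0844d0904a13c4c0a0260805108c5b1602f14c2a138500945a1742e0a4561642c1485f1702d0c8570dc310f05e184300f8340d8631004218062]
theorem W0_c : blocks (rows 9 4 13 22 511 8191 4194303 10 1023 40 A 305 16 cols 32) 32 JW0 0 = true := by decide +kernel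
theorem W0 : On (Row.{u} RG LW par A 305 16 cols) 0 32 :=
  rows_of_blocks hpar (by decide) hcols W0_c (by decide +kernel)
theorem idx : Idx.{u} RG [[0], [4], [6], [8]] [[6], [8]] 16 :=
  idx_of_cert hpar hR (K := K) (by decide +kernel) (T := 272) (T' := 384) (by decide) D0
    (subs := [3,4]) (by decide +kernel) (T1 := 273) (by decide) (N := 305) S0
    (by decide) (n' := 32) (by decide) W0 (by decide +kernel) (by decide +kernel)
end T2
namespace T3
noncomputable def A_0 : List (ℕ) := [nat_lit 0x240502a030220201c010140000a00]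
noncomputable def A : List (List (ℕ)) := [A_0]
noncomputable def K_0 : List (ℕ) := [nat_lit 0x20903814060000]
noncomputable def K : List (List (ℕ)) := [K_0]
noncomputable def R_0 : List (Rule) := [Rule.mk (nat_lit 2) (nat_lit 46) (Steps.bwd (nat_lit 1) (Steps.bwd (nat_lit 2) (Steps.bwd (nat_lit 1) (Steps.fwd (nat_lit 1024) (Steps.fwd (nat_lit 512) Steps.nil))))) (nat_lit 24) (nat_lit 0)]
noncomputable def R : List (List (Rule)) := [R_0]
def LW : List Word := [[], [6], [8]]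
def par : Par := ⟨9, 2, 11, 20, 511, 2047, 1048575⟩
theorem hpar : par.ok := by decide
theorem hR0_0 : lall (R) (fun l => lall l (ruleOK RG LW par)) = true := by decide +kernel
theorem hR0 : lall (R) (fun l => lall l (ruleOK RG LW par)) = true := hR0_0
theorem hR : RulesOK RG LW par R := rulesOK_of rfl hR0
def cols : List (ℕ × ℕ) := [(512, 1), (1024, 2)]
theorem hcols : lall cols (colOK RG LW par) = true := by decide +kernel
noncomputable def JS0 : List ℕ := [nat_lit 0x2030200801]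
theorem S0_c : blocks (facts 9 2 11 20 511 2047 1048575 9 511 1 1 A R 32) 32 JS0 260 = true := by decide +kernel
theorem S0 : On (Step.{u} RG LW par A) 260 292 :=
  steps_of_blocks hpar hR S0_c (by decide +kernel)
theorem D0_c : allB (defOK 9 11 20 511 1048575 261 A K) 1 2 = true := by decide +kernel
theorem D0 : On (fun r => defOK par.W par.WL par.E par.mW par.mE 261 A K r = true) 256 384 :=
  On.of_allB D0_c
noncomputable def JW0 : List ℕ := [nat_lit 0xf8410fc431144011c421104911848]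
theorem W0_c : blocks (rows 9 2 11 20 511 2047 1048575 10 1023 20 A 292 6 cols 64) 64 JW0 0 = true := by decide +kernel
theorem W0 : On (Row.{u} RG LW par A 292 6 cols) 0 64 :=
  rows_of_blocks hpar (by decide) hcols W0_c (by decide +kernel)
theorem idx : Idx.{u} RG [[6], [8]] [] 6 :=
  idx_of_cert hpar hR (K := K) (by decide +kernel) (T := 261) (T' := 384) (by decide) D0
    (subs := []) (by decide +kernel) (T1 := 260) (by decide) (N := 292) S0
    (by decide) (n' := 64) (by decide) W0 (by decide +kernel) (by decide +kernel)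
end T3
def t0 : Net := [(nat_lit 0x510410510415500055115445150051545405514115140444100110415104411101110441010015504541414005505410141515144140510040400110505545554504504505550001451411555415105500000000140000, nat_lit 1),
  (nat_lit 0x1101103122012312030303311231133112220130123033211230122323311132212212122210223231133000230231312002033302221210000000100313220222012312232301031223323010000110203330010110110, nat_lit 2),
  (nat_lit 0xb080c020002010d08080f0300060c0e0503070f060e0a03080404030d0d0b03090a0605070109040e0d010c0a080e0c080707070f080f070f0c0a0506030f03040f0b07000c040b08020d09000b0e010f0c0000020304, nat_lit 4),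
  (nat_lit 0x22008b00a80078009a0024008b008b007000f600e0004c00e300c00077009900300014000e00bc009c003b001d0058006d008e00ae00f20062006d00aa00a800c80028009f00180002000900390025000b004b00cb0030, nat_lit 8),
  (nat_lit 0x3ffb0000be6700002c7300008e060000ee6d00001ed6000081c7000084f7000026e0000056d80000a6b600004aab0000edb40000d59e0000b928000016b200005863000023e7000068240000dcd900006f2f0000cb00, nat_lit 16),
  (nat_lit 0x109a17100000000298b79b1000000008b3e5107000000004d212dda00000000098d2651000000006b1bd7ef00000000770e5c820000000050746d0300000000d8084760000000008d1b68340000000024ab0000, nat_lit 32),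
  (nat_lit 0x7cd2fffd7b042c6f00000000000000003f5f8b50e736d2af00000000000000003838502b990457870000000000000000f966d36051befb230000000000000000c04074d912400488, nat_lit 64),
  (nat_lit 0x115fe5fdf8fe7e07000000000000000000000000000000000051e3511c215519fff670f3aa4bac7700000000000000000000000000000000028108062ca593530000000002000488, nat_lit 128),
  (nat_lit 0x25240401d24044ac77d47cbfaebe99e9d7c1afd5f97b5541ac20100208008100, nat_lit 256),
  (nat_lit 0x1040040806380089c7c1afd5797b5541ac20100208008100, nat_lit 512),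
  (nat_lit 0x1040040806380089c7c1afd5797b5541ac20100208008100, nat_lit 256),
  (nat_lit 0x184004080218800900000000000000000000000000000000e3250804700b552066902897a80290400000000000000000000000000000000000000000000000000000000000000000, nat_lit 128),
  (nat_lit 0xff37ddc4a176b643000000000000000072133625fe06388c000000000000000019141903c2000d040000000000000000000108042086970a00000000000000000000000002000488, nat_lit 64),
  (nat_lit 0x91d016100000000389041140000000078d2a159000000004610956e000000000c6dd2f100000000457008bb000000001f465c8a00000000245530020000000088000e4800000000c00020100000000000000000, nat_lit 32),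
  (nat_lit 0x400005e790000b15600000cb000001b480000a551000001da0000e1dd00004348000003000000498000005f8b000032d50000f5960000bc0000004a1b0000404b0000234f00000024000090580000242b00000000, nat_lit 16),
  (nat_lit 0x80064000b00a8009b00ef00520045007b00d0008b002e0038009900c70019003800d60064008d00ec0028001500b40069008400e200d200620068008200a900e0002d009a00300006000900110020000b004b00cb0000, nat_lit 8),
  (nat_lit 0x10c080b0a08000d0300060a0a01020f0d01040507040509090e04070c0c0b0b09080d0706030b060c0c09060a050608080705040f080f070f0c0a0506010f030c0f0b07000c040b08020d09000b0e010f0c0000020300, nat_lit 4),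
  (nat_lit 0x201222002012313030223311031333112023300310030311212302321031132012220020210001213313002230003131002003302221010000000020313020200012312232201031221323010000110103330010110110, nat_lit 2),
  (nat_lit 0x410010000455105055115041150451545005554110141444100110415114411101110441000015504541414005505410141515144140510040400110505544554504504505550001451511555415105000000000140000, nat_lit 1)]
def t1 : Net := [(nat_lit 0x14455000415001414001510410040111500014545144440514404554554115504151141155150145051150551400011005044440014004115441151414554515440415405401001400405050105101054004401000151014, nat_lit 1),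
  (nat_lit 0x3013231030211133133323021202102033230313011120122203033200000220212000012332203011021133033332313022222302033122002233213002023312113101003022103011331030321131002020000202012, nat_lit 2),
  (nat_lit 0x30b00030e01010d0308020d0e06000e0f000d000b0d030d05000c0f080e04040c060f060f0405070f070a0105070d0b06050206020e00010804070709010500030d0707030a0c000c0d0e080608020c07000a00040004, nat_lit 4),
  (nat_lit 0x38006a00d4002500db00b7000200cd008400ea005700c9000300a700d400fd009000d4007900960010002a0035008300d700e900a1007b00b700b7002f006e004b002500a900ac00c700cf00e2006d00040088008d0080, nat_lit 8),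
  (nat_lit 0x3d7b0000d77f00009676000070c200006774000048d40000b6340000ad380000598300008c3f0000509e00008dac000048f70000bd07000018eb0000d1570000b92900004d19000048fb000030550000448a0000d500, nat_lit 16),
  (nat_lit 0x286c02e600000000adcbb26900000000a8ef77c40000000067747e93000000006548564e000000000623b4e6000000003edde5e000000000462147540000000077e32efa0000000046dd010d0000000008be8000, nat_lit 32),
  (nat_lit 0x2dd8ec8e348f1ad50000000000000000b2a429ad5fd4bb0b0000000000000000597c08eeb02196a00000000000000000a3a40b49e3e03e7a000000000000000076a87f0d21008000, nat_lit 64),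
  (nat_lit 0x3c6cc8a2b1f2f98100000000000000000000000000000000117f070aa9e273a5daafe97ffdfdbf5f00000000000000000000000000000000a852c4b048d022be5429008201000000, nat_lit 128),
  (nat_lit 0x50ac388bb70bc948b6567c15deffdedc7f39c74ff7a675d3609212445a1c0810, nat_lit 256),
  (nat_lit 0x4000000022090007739c70ff7a675d3409212445a1c0810, nat_lit 512),
  (nat_lit 0x4000000022090007739c70ff7a675d3409212445a1c0810, nat_lit 256),
  (nat_lit 0x400000010309800000000000000000000000000000000005badc98be3012cd9105664141c1f4a840000000000000000000000000000000010000000800000000000000000000000, nat_lit 128),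
  (nat_lit 0x6e9b880efce6c5d000000000000000003822a92d573ee941000000000000000040a848ceb40082d800000000000000003c70c400210262a200000000000000002028000001000000, nat_lit 64),
  (nat_lit 0x82c402200000000cd1a751100000000e8bc321500000000b227b823000000002718d31200000000c670591600000000f605a0c00000000004e9434400000000b12366e20000000082800d050000000000000000, nat_lit 32),
  (nat_lit 0x30c00000d3fd000004e4000060500000e4ed0000cc44000036270000a609000043990000852e0000568f0000051c0000c46e0000fe15000010f20000954a0000bd3000000101000004eb0000e48d0000088200008000, nat_lit 16),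
  (nat_lit 0x1200e200c500b5005300320001004e000f004b00d7004000800016004400740013005600d00017009200a900b6000300570068002a00f3003f003600af00c6008900ad002800a400480047002200a1000c000000050000, nat_lit 8),
  (nat_lit 0x2090100030601010d0300020d0e06000e0f000d000b0d010d05000c0f080e04040c060f060f0005070f070a0105060d0b06050206020e00010804070709010500030d0707030a0c000c0d0e080608020c07000a00040000, nat_lit 4),
  (nat_lit 0x3003231030201133133323021202102033230313011120122203033200000220212000012332203011021133033332313022222302033122002233213002023312113101003022103011331030321131002020000202010, nat_lit 2),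
  (nat_lit 0x14455000415001414001510410040111500014545144440514404554554115504151141155150145051150551400011005044440014004115441151414554515440415405401001400405050105101054004401000151014, nat_lit 1)]
def t2 : Net := [(nat_lit 0x1405055050000050141104550555544040041550540001411145500450414451440544505445100410500441010504154051550415441140115154405505004044154104455151454450101010151100050554515040000, nat_lit 1),
  (nat_lit 0x3012301213211212023300301012312000323210003121112011312303200111301103212022113113102110002132013313311313011011130002010032001313221120332020211133100102200013021303200100310, nat_lit 2),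
  (nat_lit 0x1020b030b000c0d0c080d0906080c0602070e0c010f0a090e0e070d0f0006060a090001090900070600080e00050009050b09090109030c080e0004000e08080600020c0604030208090009090102060306080c04020304, nat_lit 4),
  (nat_lit 0x1d009f00ef00c8009e00b500b2004b0084006e004b0041005f00ad002f00b80005002300580068004400a00089007800930035005d00e60009007100a900000012003400fe000c000d001200300030006000dc004e0030, nat_lit 8),
  (nat_lit 0x3e1b000072aa0000043400001b31000064b90000a7a0000042e800001fb7000032240000e7770000da060000791700008f0e0000eec20000714000007fed000079790000f7df0000d9f10000fda500005c6e0000cb00, nat_lit 16),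
  (nat_lit 0x766f18e00000000fc74636e00000000b2f908f00000000096c0545a00000000344df9bd00000000f6c514ab000000009a2032d6000000000c85c4a800000000a83de73d0000000001a8d8e10000000084ec8000, nat_lit 32),
  (nat_lit 0xac844de7ba69cc98000000000000000043fe986ee38fb77c0000000000000000ad0aef254826ffd200000000000000004300e33194d150ff00000000000000003b046a5134000651, nat_lit 64),
  (nat_lit 0x710abebfa919ba5000000000000000000000000000000002f2ba7e54c8fdf45d5f4fd3f75c85f9e0000000000000000000000000000000084038ca44af5e18a0811000080000650, nat_lit 128),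
  (nat_lit 0x7bf8505aa10a8675c7d6afefbd75ddd9c7dbc7f73fc7f3cfd8271410290e084b, nat_lit 256),
  (nat_lit 0x1203018000145047dbc7f73fc7f3cfd8271410290e084a, nat_lit 512),
  (nat_lit 0x1203018000145047dbc7f73fc7f3cfd8271410290e084a, nat_lit 256),
  (nat_lit 0x3413010008141000000000000000000000000000000000c72bc2b88c87a767c5c42cce292489080000000000000000000000000000000000000000000000000000000000000000, nat_lit 128),
  (nat_lit 0xc8e449429399e0ae00000000000000003fe601932d0bef5200000000000000002c8ad850082e834000000000000000000a2008c04865844b00000000000000000000800080000651, nat_lit 64),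
  (nat_lit 0x626b42a00000000c81433da000000001f15451400000000ab98156a0000000008b5c98500000000d308112b00000000ec04222a00000000004590ac0000000048154b9100000000090480410000000000000000, nat_lit 32),
  (nat_lit 0x3840000612e0000100000000aa10000692900008c040000f74000009e3900004a9c000033cb00001b920000b4bb000003b6000052220000c9d800008b750000a0c500000b7b00005051000031150000946800000000, nat_lit 16),
  (nat_lit 0x23008300fb00f400a2009100ae004f0080003a007f0035004300890013008400790047006c004c0078008400bd0024000f0041001100a2001d0005008d0020003e0030008a0008000900160010003c006000d8004a0000, nat_lit 8),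
  (nat_lit 0x30801030b08080d0c00050106080c0602070e0c000f0a09020e070d0b0006060a090001010900070608080e00050001080301090009030808060004000e0c08060002040a0403020c0100090d01020e0302080804020300, nat_lit 4),
  (nat_lit 0x2012300213211212023300301210312000323010003121112011312303000111301103212022113131102110002110033313311313011213112002010032001333221320132000211112100102200013021303200100310, nat_lit 2),
  (nat_lit 0x405011050000050141104550155444040041550500001411144500450414451400504505445000400500441010504154051550414441100115054405505004044154104415151410450101010051100010454111040000, nat_lit 1)]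
def t3 : Net := [(nat_lit 0x14400550150550414011550114054100550115401014554501510544054055550411154501040551444045405410004114554445151501411001050510041014444001410001040040044401045405501405001001504010, nat_lit 1),
  (nat_lit 0x2322130312312022133131211132022031013233121131011202011111223011321303210310101200203013233002322331331201311203123123020110200100203213320012230122200110102212000300003001012, nat_lit 2),
  (nat_lit 0x10a010e050909030e060d0106000101060c090c050a0308020c0d0e020e0a080208080f0c0b050a020503020f070306080b0e000707000802090203060e080a0a040d010f00030f0305020b07000c01090f040e02040204, nat_lit 4),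
  (nat_lit 0x2b002700a8007c00b100d400d300280011004e005100fa0039000000e5004d00520040001c00fc006d000a003f00e6009a003d002e00ea00d80090002b0030008a00660039002b00b60013001e003e000700f000050030, nat_lit 8),
  (nat_lit 0x3ed300002371000011620000104f0000222e0000adb80000042200004fd40000ad5200009b24000092a2000016ce000045580000ee4f00005d9a0000f289000000450000159800009038000072fd0000016a00008f00, nat_lit 16),
  (nat_lit 0x32a3b2f4000000007762870000000000e7d9b50600000000d1e1f62300000000d6d26290000000008a205677000000001da78b45000000002029d115000000005d7bab4f0000000001b140190000000070f70000, nat_lit 32),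
  (nat_lit 0xa826ded7b88f28b0000000000000000084177e3d9df0023500000000000000002e1bd1a2e6411eda000000000000000010070220a67b3f9f0000000000000000c90cdfbd50000201, nat_lit 64),
  (nat_lit 0x12b4b2de2597a525000000000000000000000000000000000b5ba78ea3e71fff274afeff95f6726d00000000000000000000000000000000b6f2204afffffdfe4d08804200000201, nat_lit 128),
  (nat_lit 0x90f9db501010201faf57dbbbbeefdfefab37dddd9e8c8014e475d114b4442c8, nat_lit 256),
  (nat_lit 0x15000200800000fab37ddd99e8c8014e435d114b4442c8, nat_lit 512),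
  (nat_lit 0x15000200800000fab37ddd99e8c8014e435d114b4442c8, nat_lit 256),
  (nat_lit 0x10020180020000000000000000000000000000000000a097242c49618201fae07d99294cd1620000000000000000000000000000000008030100000000000000000000000000, nat_lit 128),
  (nat_lit 0xa024d1d1310ba22c00000000000000007f89911d4514c2310000000000000000a08350844341bbd00000000000000000c9b9810c7e4d9d9300000000000000001004000000000201, nat_lit 64),
  (nat_lit 0x32b5307000000000d1e02f02000000004629bf8000000000296d38ad00000000203a011c0000000009045cf100000000e80e2a4b0000000059905011000000008c468b4b000000005000d0010000000000000000, nat_lit 32),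
  (nat_lit 0x950000a1e300000b760000308b00002aae000063340000aa1a000060dc000006540000b8b000009422000037620000ccdc0000496f0000541e00005085000002c100009494000011380000d2710000806200000000, nat_lit 16),
  (nat_lit 0x280005002000b400b3001c0049000a001300e60099001e005300a0006500cf0050008a009600dc006f00080035006e009000f3000c004a0058001000a100120080006e0029000b00260093002400360007006000050000, nat_lit 8),
  (nat_lit 0x108010e050909030e04080b0e0000010e0c09060d080e0e0a0c0d0e020a02080208080f05020a020a05020004070b08000b0a0e0f0700080009020b020601020a040f030704030f030702030f000401090f040602040200, nat_lit 4),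
  (nat_lit 0x2302130312112222113113013112020231012213121331011002011111223011321323210112123200001031223022202331331221311203223123020110002100221313300012230102200112100012000300003001010, nat_lit 2),
  (nat_lit 0x14440550150551410011400104054100510015441014154511510544054454550411154501040551404045405410000414554444151501411001050510041014444001110001040040044401045405401405001001504010, nat_lit 1)]
def t4 : Net := [(nat_lit 0x10500504540514054155411110054505004101405005445500011450114405500154114505404044514440504445405400550511410551115501054105015004014501440001504150144045011510100041101005400, nat_lit 1),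
  (nat_lit 0x122301120201210303103333200303030210202033231111123323210023102330010200231313131013130020333201222123223100130002301231321232331213231313302310202010130301200021022101020000, nat_lit 2),
  (nat_lit 0x20008010408000a0e020c080b0e07040c0c010f0b0903080b0b0301040a070002090b040c020d09030b0d04070d090b0303070b0606070408030a0f03090f0b050a050801080e0003010d08050708080900000c09000008, nat_lit 4),
  (nat_lit 0x2d00a2004400c4003600de0096006100e3002100f2001600f600ae009a00c800f5005200be005800cf0061001f0047002200920090009a00b2000400b900ca00ab002a00fa001900ed005800400020003f007400030020, nat_lit 8),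
  (nat_lit 0xfe000034a30000a48f0000589b0000732100007c600000672a00000f8f00001f20000051de0000be1f000077c100007e8d00006b5800000dac0000d3ff00006bd1000095cb0000e18300003fd30000803c00009700, nat_lit 16),
  (nat_lit 0x2cd3f02e000000002eb6bf33000000004252c95b00000000d03ce99c000000004ab764a900000000b046629b000000002e8ff90200000000cbd0425500000000b77d70bc00000000002075b30000000040bf4000, nat_lit 32),
  (nat_lit 0xb4a8c4fe560c8260000000000000000a65bb77bd22a139900000000000000002f81e158620758630000000000000000080062d3e4d3623d00000000000000008701bfd328280011, nat_lit 64),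
  (nat_lit 0xc2d26a37200a12000000000000000000000000000000008e81904c2a05a591fa9c3dfbff7fbef00000000000000000000000000000000041e2c00c8054d9a6b441002c00280011, nat_lit 128),
  (nat_lit 0xb61d3f617fab26596fbde9c7ec74efa7d96f103f9bbf98371481ac91c87adca1, nat_lit 256),
  (nat_lit 0x2401000400000103d96f103f9bbf98171481ac91c87adca1, nat_lit 512),
  (nat_lit 0x2401000400000103d96f103f9bbf98171481ac91c87adca1, nat_lit 256),
  (nat_lit 0x20002004c028008200000000000000000000000000000000f8053258ee973a5d43bc89010824cca00000000000000000000000000000000000000000000000000000000000000000, nat_lit 128),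
  (nat_lit 0x1d46c4dba5fe5c260000000000000000769992ad93fa0d1f0000000000000000dc03ad82c7d702c500000000000000008521c0001250c01400000000000000000001000000280011, nat_lit 64),
  (nat_lit 0x24c3f02e000000006eba943300000000a7f8049c0000000041030dd10000000023118a2500000000d74ca09400000000590d3460000000004dd3247300000000715f883e00000000000035b30000000000000000, nat_lit 32),
  (nat_lit 0x500000d4280000640100009c180000b7810000b8e00000e5910000a8600000baa20000937c0000509d0000f1610000fa000000b3a30000e84b0000505c0000c15200003168000054200000bdd30000003c00000000, nat_lit 16),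
  (nat_lit 0x2c00a2006000e8003200d600d2006100c7000100cf003e00d200d200ea006800f5003a00b2000800830061003b006f000a00b200f800c60022004000d400da00ab000200da003500f1004900000020001b007400030000, nat_lit 8),
  (nat_lit 0x20008010408000e0a020c080b0e07040c0c010f0a0803080b0b0601050a0700020d0b040c020d08030b0d04070d090b0203070b0603070408030a0a03080f0a040a050801080e0003010c09050708000900000c09000000, nat_lit 4),
  (nat_lit 0x122201120201210303103333200303030210202033231111123223200023102330110200231313131013130020333201222133222010130002301321331232331203230312302211213011130300200020022101020000, nat_lit 2),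
  (nat_lit 0x10500504540514054155411110054505004101405005445500011450114405500144114505404044514440504445404000550511410511105501054105015004014501440001504150144045001500100041101005400, nat_lit 1)]
def t5 : Net := [(nat_lit 0x5111141155401510454444441105000441445415441110051505155050111501105105141040415155115444514501554455000544051541104451010110010141511410405041151505111150454501445505145410101, nat_lit 1),
  (nat_lit 0x230320233011103020222012203332031220230211020102211122113023033202323130110110102122320121021212220113311013001031112102102322123201011311211320211123233113313110111221012211, nat_lit 2),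
  (nat_lit 0x2000a0a040d020d0e0501090107080709040d0d0e0a0e0908010c06020d0e04090e0a0b0906000309080e0c050908020c0c01040d060e0a000807040e0f0a08030c09090b0c0e060f000d0409030d04040c0a0b080f0701, nat_lit 4),
  (nat_lit 0x2b007000470094000c00270089009600550004007800d3008900e500830085000c00740056007f002000d00058006a005b001a008a006d00ee00b1003b00fc00140034009900ee001400f600b8000800200086001300e8, nat_lit 8),
  (nat_lit 0x31630000119e0000decf00005ada000051f300003e510000adba0000522c0000e3b2000002ff0000885c0000f9610000d82b000094cf0000e20600008f960000ac830000894c00001e360000fd7a0000f1a700009720, nat_lit 16),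
  (nat_lit 0x2e0c38540000000051606c1e00000000fb7ae74e00000000ffedd73b00000000280310fe0000000064ba8cc6000000005cc2e3c900000000a605ab02000000003cfec9ff00000000150a89a40000000042cf0400, nat_lit 32),
  (nat_lit 0x5c4257e3f79094f10000000000000000a58d34a913ff12a10000000000000000fb458485045bfb3d0000000000000000c1d9aa1eeee1bd4600000000000000007180dbeb2854c000, nat_lit 64),
  (nat_lit 0x3e8e6cf8f2f102b500000000000000000000000000000000080a0459dd81fe1593559ffe9f3711bb000000000000000000000000000000000a464530970117db358020410040c000, nat_lit 128),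
  (nat_lit 0xd5e922c248fec024325d9fbcfd43f1ff859f7d7f7345bd4fc5949316150e2889, nat_lit 256),
  (nat_lit 0x100000a02040c000859f7d7f7345bd4fc1149316150e2889, nat_lit 512),
  (nat_lit 0x100000a02040c000859f7d7f7345bd4fc1149316150e2889, nat_lit 256),
  (nat_lit 0x110010a03006c0810000000000000000000000000000000080dd664a48e9280f62c51718150200b90000000000000000000000000000000000000000000000000000000000000000, nat_lit 128),
  (nat_lit 0x99954d0e02f603380000000000000000ed9e5236141fe4a3000000000000000010c844c2449820b90000000000000000200a4161d001c2450000000000000000058020100040c000, nat_lit 64),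
  (nat_lit 0x2798fc7800000000576b792800000000971d2234000000005eb85a8400000000d72d031e00000000aca5434100000000624e489900000000808101a100000000cc827339000000004000b2100000000000000000, nat_lit 32),
  (nat_lit 0xe9400008f760000dad800000744000071050000d6ab0000b9de000084110000643900006f820000a80a000038b100001e18000034c2000007120000617d0000a030000099b10000a80700002e9900000ad100000000, nat_lit 16),
  (nat_lit 0x5007200b4005d00170094003900cd0052008600cf003a00eb00a30085003a008b0008007700e30088005800a1004400790090009900aa00c900d7004700d200900068006f00be005b002100ec008600c200c300940000, nat_lit 8),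
  (nat_lit 0x20302060c03010e0e060c020a000708090b0c03000c0106070d050309060f0b050f0e0d010c09050a0706050b020d0e030b060902030107010904040105040108030304020e0b0109060b0506040408040406090c080400, nat_lit 4),
  (nat_lit 0x1031322323311331022101303222223003021132333133013012331302221032300321120031301102231032301233011130010310110323222310212212000123313230301102013100033223302002201312221022231, nat_lit 2),
  (nat_lit 0x15045044401101555111040004154154015414511500051540105155150141415541444450014141400040551444515444555051455151154001450501051511055540010150441450140401541501011550440055115100, nat_lit 1)]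
def t6 : Net := []
def C : Ctx := ⟨702, 10, [t0, t1, t2, t3, t4, t5, t6]⟩
theorem hC : C.ok = true := by decide +kernel
noncomputable def lk : ℕ → ℕ → ℕ := look C 256
theorem hlk : Good C lk := good_look hC (by decide +kernel)
def gens : List Word := [[0], [2], [4], [6], [8], [10], [12]]
def low_w3 : List Word := [[4,6,4,6,2,0,4,2]]
theorem low_3 : Low (C.grp low_w3) 3 [2] :=
  low_orb hC hlk 2 (by decide) [(2,0), (2,1)] (m := 3) (grp_mono _ (by decide +kernel))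
    (by decide +kernel) (by decide +kernel) (low_nil C) (by decide)
def low_w2 : List Word := [[4,6,4,6,2,0,4,2], [0], [8], [6,4,6]]
theorem low_2 : Low (C.grp low_w2) 192 [75,2] :=
  low_orb hC hlk 75 (by decide) [(75,2), (75,4), (75,6), (172,0), (172,1), (172,4), (172,6), (177,0), (177,1), (177,6), (175,4), (176,4), (176,6), (343,4), (343,6), (344,0), (344,1), (344,6), (152,4), (364,2), (364,4), (364,6), (650,2), (650,4), (562,4), (355,0), (355,6), (262,4), (564,1), (564,6), (350,4), (572,4), (572,6), (618,4), (669,4), (302,0), (573,4), (573,6), (587,0), (587,1), (587,6), (698,4), (511,1), (526,0), (363,4), (561,4), (690,4), (616,4), (668,6), (591,4), (410,1), (671,0), (671,6), (680,4), (339,4), (552,4), (340,4), (586,6), (551,4), (442,4), (558,4), (440,4), (642,4)] (m := 64) (grp_mono _ (by decide +kernel))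
    (by decide +kernel) (by decide +kernel) low_3 (by decide)
def low_w1 : List Word := [[4,6,4,6,2,0,4,2], [0], [8], [6,4,6], [2]]
theorem low_1 : Low (C.grp low_w1) 12096 [1,75,2] :=
  low_orb hC hlk 1 (by decide) [(1,8), (2,0), (2,1), (2,2), (130,4), (24,2), (24,4), (4,0), (268,0), (268,1), (268,6), (42,4), (56,0), (101,4), (193,2), (193,4), (193,8), (453,2), (453,8), (433,4), (433,8), (104,0), (104,1), (454,8), (192,4), (192,8), (390,0), (390,8), (261,0), (261,2), (478,8), (244,1), (244,2), (228,8), (230,2), (251,8), (632,4), (632,8), (289,0), (289,8), (275,2), (371,1), (371,2), (259,2), (105,2), (139,0), (434,8), (596,8), (144,0), (144,1), (144,2), (144,6), (19,4), (323,1), (634,0), (634,1), (12,4), (43,4), (25,4), (7,4), (102,4), (3,1)] (m := 63) (grp_mono _ (by decide +kernel))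
    (by decide +kernel) (by decide +kernel) low_2 (by decide)
theorem low : Low (C.grp gens) 8491392 [0,1,75,2] :=
  low_clo hC hlk 0 (by decide) [10,2,6,10,0,8,4,6,2,10,4,8,2,6,10,0,4,8] (m := 702) (le_of_subst _ [[4,6,4,6,2,0,4,2], [0], [8], [6,4,6], [2]] (by decide +kernel))
    (by decide +kernel) (by decide +kernel) low_1 (by decide)
theorem b6 : Bound.{u} RG [[6],[8]] 6 := .of_idx T3.idx (.nil _) (by decide)
theorem b96 : Bound.{u} RG [[0],[4],[6],[8]] 96 := .of_idx T2.idx b6 (by decide)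
theorem bU : Bound.{u} RG [[0],[2],[4],[6],[8]] 12096 := .of_idx T1.idx b96 (by decide)
theorem bG : Bound.{u} RG gens 8491392 := .of_idx T0.idx bU (by decide)
theorem hrel : ∀ r ∈ RG, C.ev r = 1 := rels_of_eqW hC (by decide +kernel)
theorem der : Der.{u} RG (subst gens [12]) :=
  Der.of_bound bG hrel low.1 _ (Ctx.eq_of_eqW hC (v := []) (by decide +kernel))
def σ : List Word := [[0], [2], [4], [6], [8], [14], [7,15,6,3,5,1,2,7,14,6,3,0,4,2,5,9,7,15,6,3,5,1,2,9,15]]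
theorem r33 {G : Type} [Group G] {g : ℕ → G} (h : ∀ j < 33, ev g (nth ThRel.rels [] j) = 1)
    (hz : ev g (nth ThRel.rels [] 33) ∈ Subgroup.center G) : ev g (nth ThRel.rels [] 33) = 1 := by
  have := der.{0} G (fun i => ev g (nth σ [] i)) fun r hr => by
    rw [← ev_subst]
    rcases (by decide +kernel : ∀ r ∈ RG, (∃ j < 33, subst σ r = nth ThRel.rels [] j) ∨
      subst σ r = nth ThRel.rels [] 33 ++ winv (nth ThRel.rels [] 33) ∨ ∃ w ∈ σ, subst σ r =
        nth ThRel.rels [] 33 ++ w ++ winv (nth ThRel.rels [] 33) ++ winv w) r hr with ⟨j, hj, e⟩ | e | ⟨w, -, e⟩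
    · rw [e, h j hj]
    · rw [e, ev_append, ev_winv, mul_inv_cancel]
    · rw [e, ev_append, ev_append, ev_append, ev_winv, ev_winv, ← Subgroup.mem_center_iff.1 hz,
        mul_inv_cancel_right, mul_inv_cancel]
  rwa [← ev_subst, show subst σ (subst gens [12]) = nth ThRel.rels [] 33 by decide +kernel] at this
end
end CA.ThT2
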