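import Cfsg.Agent.Lib.Spor.ThRel
import Cfsg.Agent.Lib.Comp.CTodd

/-! Three hand computations for central extensions of the Thompson group presentation. -/

set_option autoImplicit false
set_option linter.all false
set_option maxRecDepth 100000

namespace CA.ThU
open CA.CNet CA.CWord CA.CTodd CA.CPres Subgroup

theorem key {G : Type} [Group G] {U w E S x y y' z : G} (hy : y ∈ center G) (hy' : y' ∈ center G) (hz : z ∈ center G)
    (h : U⁻¹ * w * U * w * E = z) (h1 : w * w = 1) (h2 : w * E = E * w) (h3 : w * x = x * w) (h4 : w * S = S * w)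
    (h5 : E * E = 1) (h6 : U * U = y * x) (h7 : (U * S) ^ 3 = y' * x) :
    z ^ 2 = 1 ∧ E * U * E = U ∧ (S⁻¹ * E * S) * ((U * S)⁻¹ * (S⁻¹ * E * S) * (U * S)) *
      ((U * S)⁻¹ * ((U * S)⁻¹ * (S⁻¹ * E * S) * (U * S)) * (U * S)) * z = 1 := by
  have cz := mem_center_iff.1 hz
  have wi : w⁻¹ = w := inv_eq_of_mul_eq_one_right h1
  have Ei : E⁻¹ = E := inv_eq_of_mul_eq_one_right h5
  have fx : ∀ {p q : G}, p * q = q * p → MulAut.conj p q = q := fun {p q} e => by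
    rw [MulAut.conj_apply, e, mul_inv_cancel_right]
  have e : MulAut.conj w U = U * E * z :=
    calc _ = U * (U⁻¹ * w * U * w * E) * E⁻¹ := by rw [MulAut.conj_apply, wi]; group
      _ = _ := by rw [h, Ei, mul_assoc, ← cz E, mul_assoc]
  have z2 : z ^ 2 = 1 := by
    have a : MulAut.conj w (MulAut.conj w U) = U := by
      rw [← MulAut.mul_apply, ← map_mul, h1, map_one, MulAut.one_apply]
    rw [e, map_mul, map_mul, e, fx h2, fx (cz w), mul_assoc (U * E) z E, ← cz E,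
      show U * E * (E * z) * z = U * (E * E) * z ^ 2 by simp only [pow_two, mul_assoc], h5, mul_one] at a
    exact mul_eq_left.1 a
  refine ⟨z2, ?_, ?_⟩
  · have a : MulAut.conj w (U * U) = U * U := by
      rw [h6, map_mul, fx h3, fx (mem_center_iff.1 hy w)]
    rw [map_mul, e, mul_assoc (U * E) z, ← mul_assoc z, ← cz (U * E),
      show U * E * (U * E * z * z) = U * (E * U * E) * z ^ 2 by simp only [pow_two, mul_assoc], z2, mul_one] at a
    exact mul_left_cancel a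
  · have b : U⁻¹ * w * U = w * E * z :=
      calc _ = (U⁻¹ * w * U * w * E) * E⁻¹ * w⁻¹ := by group
        _ = _ := by rw [h, Ei, wi, mul_assoc, ← h2, cz]
    have c : MulAut.conj (U * S)⁻¹ w = w * (S⁻¹ * E * S) * z :=
      calc _ = S⁻¹ * (U⁻¹ * w * U) * S := by rw [MulAut.conj_apply]; group
        _ = S⁻¹ * (w * S) * (S⁻¹ * E * (z * S)) := by rw [b]; group
        _ = _ := by rw [h4, ← cz S]; group
    have a : MulAut.conj (U * S)⁻¹ (MulAut.conj (U * S)⁻¹ (MulAut.conj (U * S)⁻¹ w)) = w := by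
      rw [← MulAut.mul_apply, ← MulAut.mul_apply, ← map_mul, ← map_mul,
        show (U * S)⁻¹ * (U * S)⁻¹ * (U * S)⁻¹ = ((U * S) ^ 3)⁻¹ by rw [← inv_pow, pow_three'], h7]
      refine fx (Commute.inv_left ?_)
      exact Commute.mul_left (mem_center_iff.1 hy' w).symm h3.symm
    simp only [c, map_mul, fx (cz _)] at a
    simp only [← map_mul] at a
    simp only [MulAut.conj_apply, inv_inv] at a
    generalize S⁻¹ * E * S = F at a ⊢
    generalize (U * S)⁻¹ * F * (U * S) = F' at a ⊢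
    generalize (U * S)⁻¹ * F' * (U * S) = F'' at a ⊢
    rw [mul_assoc _ z F', ← cz F', mul_assoc _ z F'', ← cz F'', ← mul_assoc, ← mul_assoc, mul_assoc _ z F'', ← cz F'',
      show w * F * F' * (F'' * z) * z * z = w * (F * F' * F'' * z * z ^ 2) by simp only [pow_two, mul_assoc], z2, mul_one] at a
    exact mul_eq_left.1 a

def X : Word := [11,8,10] ++ [11,15,11,8,10,14,10] ++ [11,15,11,15,11,8,10,14,10,14,10]

theorem hand {G : Type} [Group G] {g : ℕ → G} (hc : ∀ j, ev g (nth ThRel.rels [] j) ∈ center G)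
    (h : ∀ j < 27, ev g (nth ThRel.rels [] j) = 1) :
    ev g (nth ThRel.rels [] 32) ^ 2 = 1 ∧ ev g (nth ThRel.rels [] 30) = 1 ∧
      ev g X * ev g (nth ThRel.rels [] 32) = 1 := by
  have h0 : g 0 * (g 0 * 1) = 1 := h 0 (by decide)
  have h1 : g 1 * (g 1 * 1) = 1 := h 1 (by decide)
  have h2 : g 2 * (g 2 * 1) = 1 := h 2 (by decide)
  have h4 : g 4 * (g 4 * 1) = 1 := h 4 (by decide)
  have h5 : g 0 * (g 1 * (g 0 * (g 1 * (g 0 * (g 1 * 1))))) = 1 := h 5 (by decide)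
  have h6 : g 0 * (g 4 * (g 0 * (g 4 * 1))) = 1 := h 6 (by decide)
  have h7 : g 1 * (g 2 * (g 1 * (g 2 * (g 1 * (g 2 * 1))))) = 1 := h 7 (by decide)
  have h9 : g 1 * (g 4 * (g 1 * (g 4 * 1))) = 1 := h 9 (by decide)
  have h10 : g 0 * ((g 3)⁻¹ * ((g 2)⁻¹ * ((g 3)⁻¹ * ((g 2)⁻¹ * ((g 3)⁻¹ * ((g 2)⁻¹ * ((g 3)⁻¹ * ((g 2)⁻¹ * 1)))))))) = 1 :=
    h 10 (by decide)
  have h3 : g 3 * (g 3 * 1) = 1 := h 3 (by decide)
  have h11 : g 2 * (g 4 * (g 2 * (g 4 * 1))) = 1 := h 11 (by decide)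
  have h15 : (g 5)⁻¹ * ((g 0)⁻¹ * (g 5 * (g 0 * 1))) = 1 := h 15 (by decide)
  have h16 : (g 5)⁻¹ * ((g 1)⁻¹ * (g 5 * (g 1 * 1))) = 1 := h 16 (by decide)
  have h17 : (g 5)⁻¹ * ((g 2)⁻¹ * (g 5 * (g 2 * 1))) = 1 := h 17 (by decide)
  have c27 : g 7 * (g 7 * ((g 2)⁻¹ * ((g 0)⁻¹ * 1))) ∈ center G := hc 27
  have c36 : g 0 * (g 2 * ((g 5)⁻¹ * ((g 7)⁻¹ * ((g 5)⁻¹ * ((g 7)⁻¹ * ((g 5)⁻¹ * ((g 7)⁻¹ * 1))))))) ∈ center G := hc 36
  have e32 : ev g (nth ThRel.rels [] 32) = (g 7)⁻¹ * ((g 1)⁻¹ * ((g 2)⁻¹ * ((g 0)⁻¹ * (g 1 * (g 7 * ((g 1)⁻¹ *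
    (g 0 * (g 2 * (g 1 * ((g 4)⁻¹ * 1)))))))))) := rfl
  have e30 : ev g (nth ThRel.rels [] 30) = (g 7)⁻¹ * ((g 4)⁻¹ * (g 7 * (g 4 * 1))) := rfl
  have eX : ev g X = ((g 5)⁻¹ * g 4 * g 5) * ((g 7 * g 5)⁻¹ * ((g 5)⁻¹ * g 4 * g 5) * (g 7 * g 5)) *
      ((g 7 * g 5)⁻¹ * ((g 7 * g 5)⁻¹ * ((g 5)⁻¹ * g 4 * g 5) * (g 7 * g 5)) * (g 7 * g 5)) := by
    show (g 5)⁻¹ * (g 4 * (g 5 * ((g 5)⁻¹ * ((g 7)⁻¹ * ((g 5)⁻¹ * (g 4 * (g 5 * (g 7 * (g 5 * ((g 5)⁻¹ * ((g 7)⁻¹ *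
      ((g 5)⁻¹ * ((g 7)⁻¹ * ((g 5)⁻¹ * (g 4 * (g 5 * (g 7 * (g 5 * (g 7 * (g 5 * 1)))))))))))))))))))) = _
    group
  have c32 := hc 32
  rw [eX, e30]
  generalize ev g (nth ThRel.rels [] 32) = z at e32 c32 ⊢
  generalize g 0 = a at *; generalize g 1 = b at *; generalize g 2 = c at *; generalize g 3 = d at *
  generalize g 4 = e at *; generalize g 5 = s at *; generalize g 7 = u at *
  simp only [mul_one] at *
  have ai : a⁻¹ = a := inv_eq_of_mul_eq_one_right h0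
  have bi : b⁻¹ = b := inv_eq_of_mul_eq_one_right h1
  have ci : c⁻¹ = c := inv_eq_of_mul_eq_one_right h2
  have di : d⁻¹ = d := inv_eq_of_mul_eq_one_right h3
  have ei : e⁻¹ = e := inv_eq_of_mul_eq_one_right h4
  have cm : ∀ {p q : G}, p⁻¹ = p → q⁻¹ = q → p * (q * (p * q)) = 1 → Commute p q := fun {p q} hp hq k =>
    calc p * q = (p * q)⁻¹ := eq_inv_of_mul_eq_one_left (by rw [mul_assoc]; exact k)
      _ = q * p := by rw [mul_inv_rev, hp, hq]
  have cs : ∀ {p : G}, s⁻¹ * (p⁻¹ * (s * p)) = 1 → Commute p s := fun {p} k =>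
    calc p * s = p * s * (s⁻¹ * (p⁻¹ * (s * p))) := by rw [k, mul_one]
      _ = s * p := by group
  have br : ∀ {p q : G}, p⁻¹ = p → q⁻¹ = q → p * (q * (p * (q * (p * q)))) = 1 → p * q * p = q * p * q :=
    fun {p q} hp hq k =>
    calc p * q * p = (q * p * q)⁻¹ := eq_inv_of_mul_eq_one_left (by simpa only [mul_assoc] using k)
      _ = q * p * q := by rw [mul_inv_rev, mul_inv_rev, hp, hq, mul_assoc]
  have ac : Commute a c := by
    have ea : a = (c * d) ^ 4 := by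
      rw [eq_inv_of_mul_eq_one_left h10]; simp only [pow_succ, pow_zero, one_mul, mul_inv_rev, inv_inv, mul_assoc]
    have : c * (c * d) ^ 4 * c⁻¹ = ((c * d) ^ 4)⁻¹ := by
      rw [← conj_pow, ← inv_pow, mul_inv_rev, ← mul_assoc, h2, one_mul, di]
    rw [← ea, ai] at this
    show a * c = c * a
    nth_rw 1 [← this]; group
  have ab := br ai bi h5
  have bc := br bi ci h7
  have k := key (U := u) (w := b * a * c * b) (E := e) (S := s) (x := a * c) c27 (inv_mem c36) c32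
    (by rw [e32, ai, bi, ci, ei, mul_assoc b a c, ac.eq, ← mul_assoc a c, ac.eq]; group)
    (calc b * a * c * b * (b * a * c * b) = b * a * c * (b * b) * (a * c) * b := by group
      _ = b * (a * (c * c) * a) * b := by rw [h1, ac.eq]; group
      _ = 1 := by rw [h2, mul_one, h0, mul_one, h1])
    ((((cm bi ei h9).mul_left (cm ai ei h6)).mul_left (cm ci ei h11)).mul_left (cm bi ei h9))
    (calc b * a * c * b * (a * c) = b * (a * c) * b * a * c := by group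
      _ = b * c * (a * b * a) * c := by rw [ac.eq]; group
      _ = (b * c * b) * a * b * c := by rw [ab]; group
      _ = c * b * (c * a) * b * c := by rw [bc]; group
      _ = c * b * a * (c * b * c) := by rw [← ac.eq]; group
      _ = c * (b * a * b) * c * b := by rw [← bc]; group
      _ = (c * a) * b * a * c * b := by rw [← ab]; group
      _ = a * c * (b * a * c * b) := by rw [← ac.eq]; group)
    ((((cs h16).mul_left (cs h15)).mul_left (cs h17)).mul_left (cs h16)) h4 (by group)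
    (by simp only [pow_three]; group)
  refine ⟨k.1, ?_, k.2.2⟩
  rw [ei, ← mul_assoc e, k.2.1, inv_mul_cancel]

end CA.ThU
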