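import Cfsg.Agent.Lib.Spor.ThXE

set_option autoImplicit false
set_option linter.all false
set_option maxRecDepth 100000
set_option Elab.async false

namespace CA.ThX

open CA.CNet CA.CWord CA.CMat CA.PkM CA.PkR

theorem h2_0 : blk 248 R F 62 2 l0 = true := by decide +kernel
theorem h2_1 : blk 248 R F 62 2 l1 = true := by decide +kernel
theorem h2_2 : blk 248 R F 62 2 l2 = true := by decide +kernel
theorem h2_3 : blk 248 R F 62 2 l3 = true := by decide +kernel
theorem h2_4 : blk 248 R F 62 2 l4 = true := by decide +kernel
theorem h2_5 : blk 248 R F 62 2 l5 = true := by decide +kernel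
theorem h2_6 : blk 248 R F 62 2 l6 = true := by decide +kernel
theorem h2_7 : blk 248 R F 62 2 l7 = true := by decide +kernel
theorem h2_8 : blk 248 R F 62 2 l8 = true := by decide +kernel

end CA.ThX
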