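import Cfsg.Agent.Lib.Spor.ThXa
import Cfsg.Agent.Lib.Spor.ThXb
import Cfsg.Agent.Lib.Spor.ThXc
import Cfsg.Agent.Lib.Spor.ThXd
import Cfsg.Agent.Lib.Spor.ThRel

/-! The presented Thompson group has a representation of degree 248 in which `u` is not in the subgroup generated
by the other generators. -/

set_option autoImplicit false
set_option linter.all false
set_option maxRecDepth 100000
set_option Elab.async false

namespace CA.ThX

open CA.CNet CA.CWord CA.CMat CA.PkM CA.PkR CA.CPres Cfsg.Spor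

def W : List Word := l0 ++ (l1 ++ (l2 ++ (l3 ++ (l4 ++ (l5 ++ (l6 ++ (l7 ++ (l8))))))))
def ex : List Word := [[0,1], [2,3], [4,5], [6,7], [8,9], [10,11], [12,13], [14,15], [16,17], [0,16,1,16], [2,16,3,16], [4,16,5,16], [6,16,7,16], [8,16,9,16], [10,16,11,16], [12,16,13,16]]
theorem eqr : W = ThRel.rels ++ ex := by decide +kernel
theorem hW : ∀ j < 4, blk 248 R F 62 j W = true := fun j hj => by
  interval_cases j
  · exact lall_append h0_0 (lall_append h0_1 (lall_append h0_2 (lall_append h0_3 (lall_append h0_4 (lall_append h0_5 (lall_append h0_6 (lall_append h0_7 (h0_8))))))))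
  · exact lall_append h1_0 (lall_append h1_1 (lall_append h1_2 (lall_append h1_3 (lall_append h1_4 (lall_append h1_5 (lall_append h1_6 (lall_append h1_7 (h1_8))))))))
  · exact lall_append h2_0 (lall_append h2_1 (lall_append h2_2 (lall_append h2_3 (lall_append h2_4 (lall_append h2_5 (lall_append h2_6 (lall_append h2_7 (h2_8))))))))
  · exact lall_append h3_0 (lall_append h3_1 (lall_append h3_2 (lall_append h3_3 (lall_append h3_4 (lall_append h3_5 (lall_append h3_6 (lall_append h3_7 (h3_8))))))))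
theorem hw : ∀ w ∈ W, ∀ a ∈ w, a < 2 * 9 := by decide +kernel
theorem all : ∀ w ∈ W, mv 248 F w = 1 :=
  mv_blk (by decide) hR1 hR2 hF (s := 62) (c := 4) (by decide) (by decide) hw hW
theorem ne : mv 248 F [14, 16, 15, 16] ≠ 1 :=
  mv_ne (by decide) hR1 hR2 hF (by decide) ⟨0, by decide⟩ ⟨0, by decide⟩ (by decide +kernel)

theorem abs {G : Type} [Group G] (g : ℕ → G) (h1 : ∀ w ∈ W, ev g w = 1) (h3 : ev g [16] = ev g [17])
    (ne : ev g [14, 16, 15, 16] ≠ 1) : g 7 ∉ grp g [[0], [2], [4], [6], [8], [10], [12]] := fun h => by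
  have e : ∀ i, ev g [2 * i, 16, 2 * i + 1, 16] = g i * (g 8 * ((g i)⁻¹ * g 8)) := fun i => by
    simp [ev, lv, show (2 * i + 1) / 2 = i by omega, show (2 * i + 1) % 2 = 1 by omega]
  have d : g 8 * g 8 = 1 := by
    have h4 : g 8 = (g 8)⁻¹ := by simpa [ev, lv] using h3
    exact eq_inv_iff_mul_eq_one.1 h4
  have h5 : grp g [[0], [2], [4], [6], [8], [10], [12]] ≤ Subgroup.centralizer {g 8} :=
    (grp_le_iff g).2 fun w hw' => by
      obtain ⟨i, hi, rfl⟩ := (by decide +kernel : ∀ w ∈ [[0], [2], [4], [6], [8], [10], [12]], ∃ i < 7, w = [2 * i]) w hw'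
      have h6 := h1 _ ((by decide +kernel : ∀ i < 7, [2 * i, 16, 2 * i + 1, 16] ∈ W) i hi)
      rw [e] at h6
      rw [ev_gen, Subgroup.mem_centralizer_singleton_iff]
      calc g i * g 8 = (g i * (g 8 * ((g i)⁻¹ * g 8))) * ((g 8)⁻¹ * g i) := by group
        _ = g 8 * g i := by rw [h6, one_mul, inv_eq_of_mul_eq_one_right d]
  have h7 := Subgroup.mem_centralizer_singleton_iff.1 (h5 h)
  refine ne ?_
  rw [show [14, 16, 15, 16] = [2 * 7, 16, 2 * 7 + 1, 16] from rfl, e, ← mul_assoc, h7, mul_assoc,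
    mul_inv_cancel_left, d]

theorem eD : mv 248 F [16] = mv 248 F [17] := by
  have : F 16 = F 17 := by decide +kernel
  simp only [mv, List.map, this]

theorem rep : ∃ g : ℕ → GL (Fin 248) (ZMod 3), (∀ r ∈ ThRel.rels, ev g r = 1) ∧
    g 7 ∉ grp g [[0], [2], [4], [6], [8], [10], [12]] := by
  obtain ⟨g, hg⟩ := PkR.exists_gl (n := 248) (F := F) (k := 9) fun i hi =>
    all _ ((by decide +kernel : ∀ i < 9, [2 * i, 2 * i + 1] ∈ W) i hi)
  have h1 : ∀ w ∈ W, ev g w = 1 := fun w h => Units.ext ((hg w (hw w h)).trans (all w h))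
  refine ⟨g, fun r hr => h1 r (by rw [eqr]; exact List.mem_append_left _ hr), abs g h1
    (Units.ext ((hg [16] (by decide)).trans (eD.trans (hg [17] (by decide)).symm))) fun h => ne ?_⟩
  rw [← hg [14, 16, 15, 16] (by decide), h, Units.val_one]

theorem u_not : pg Th.edges Th.extra ThRel.gen 7 ∉
    grp (pg Th.edges Th.extra ThRel.gen) [[0], [2], [4], [6], [8], [10], [12]] := fun h => by
  obtain ⟨g, h1, h2⟩ := rep
  obtain ⟨φ, h5, h6⟩ := ThRel.enc.hom' h1
  refine h2 ?_
  rw [← ev_gen g 7, ← h6 _ (by decide +kernel), ← h5 _ (by decide)]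
  exact Subgroup.mem_map_of_mem φ (ev_gen (pg Th.edges Th.extra ThRel.gen) 7 ▸ h)

end CA.ThX
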