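import Cfsg.Agent.Lib.Spor.PkR
import Cfsg.Agent.Lib.Spor.ThXD

set_option autoImplicit false
set_option linter.all false
set_option maxRecDepth 100000
set_option Elab.async false

namespace CA.ThX

open CA.CNet CA.CWord CA.CMat CA.PkM CA.PkR

noncomputable def R : ℕ := nat_lit 0xb1a5a929afc5df1495287ec69fd562c42c6122ce1ecc1bbde9cd04c5dfbf919892d00594dbf3bff70b9da02f1dd3b5bc209a8718832e31bc11138d39d1b2adfa1ce61bcf34747a73777019d4b92b1cbce5c508280ce177bb8943b65206de0d77e28335e2e06ac86a7f17acec35258b0e23643285dbb4cbe58d9c6c4543ad11e217375fa3ab249dfb675c1a8e065d4e51518d6b9a1c77d6cbb80b57b430871a67435cc7b370adbc8be50ba19762ac96605b8c61fbc4bc0edc29df27de1233a1d61e24e7c0b94995104b7bd4b53cd848e15fcd57b177583b2e46329441341ddca1b9bee18130d8ae068eb98d90e6e205f45d51dfc5502522981c861c2f944a71c77e51ea5d03ab632da98c51e1383110292685dd8be72a976547eb50e8078974cae39a6798002d51bda191979e2cbb935aa0fb32494938c366abcf4857d6c2443abaf0b28916fe043226cd5e9b33ae2d4e9d7405d07fb6777f2175815d67984c38d96e1c0ba131989a902db4781416508851fc0033067b19a7946b6fb4296499c02970d83f1af70b6a6efdc4f2582f791161861ff2d3ad9c336aceaf9b20a001c2bfe870f259b8c7564b00e2eca9297d49b2260b8be6405ce549080db016dd183fcae305c13c78adf1981fe4a51014ced922d13672747fab7b2424477cb6afc49246e648eae18dc300ad7fb2ced6f2adb5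
def l0 : List Word := [[0,0], [2,2], [4,4], [6,6], [8,8], [0,2,0,2,0,2], [0,8,0,8], [2,4,2,4,2,4], [2,6,2,6], [2,8,2,8], [0,7,5,7,5,7,5,7,5]]
def l1 : List Word := [[4,8,4,8], [6,8,6,8,6,8], [2,4,6,8,2,4,6,8,2,4,6,8,2,4,6,8,2,4,6,8,2,4,6,8,2,4,6,8,2,4,6,8]]
def l2 : List Word := [[10,10,10,10,10,10,10], [11,1,10,0], [11,3,10,2], [11,5,10,4], [10,6,10,6], [9,11,8,10,11,11,11,9,10,10,10], [12,12,12], [13,1,12,0], [13,3,12,2]]
def l3 : List Word := [[13,5,12,4], [13,7,12,6], [13,9,12,8], [13,10,12,11,11], [14,14,5,1], [15,1,14,0], [15,5,14,4], [15,9,14,8], [6,8,15,6,14,6,8,15,6,14]]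
def l4 : List Word := [[15,3,5,1,2,14,3,0,4,2,9], [7,15,6,3,5,1,2,7,14,6,3,0,4,2,5,9,7,15,6,3,5,1,2,9,15], [15,12,14,12]]
def l5 : List Word := [[9,11,11,15,10,10,8,11,11,14,10,10], [0,4,11,15,11,15,11,15], [0,4,11,15,10,14,11,15,10,14,11,15,10,14,11,15,10,14]]
def l6 : List Word := [[6,11,11,14,10,10,6,11,11,14,10,10,6,11,11,14,10,10,6,11,11,14,10,10,11,11,9,7,5,6,8,10,10,10,9,7,5,6,8,11,7,5,6,5,1]]
def l7 : List Word := [[0,1], [2,3], [4,5], [6,7], [8,9], [10,11], [12,13], [14,15], [16,17], [0,16,1,16], [2,16,3,16], [4,16,5,16], [6,16,7,16], [8,16,9,16], [10,16,11,16]]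
def l8 : List Word := [[12,16,13,16]]
theorem hR1 : sm 60000 248 R = true := by decide +kernel
theorem hR2 : veq 3 248 R 0 = true := by decide +kernel
theorem hF' : allR 18 (fun i => ok3 248 (F i)) = true := by decide +kernel
theorem hF : ∀ i < 2 * 9, ok 3 248 (F i) = true := fun i hi => ok_of (allR_spec hF' hi)

end CA.ThX
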