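import Mathlib

/-! Automorphisms of a group with an involution centraliser `2^{1+8}.A₉`. -/

set_option autoImplicit false
set_option linter.all false

namespace CA.ThY
open Subgroup Equiv
open scoped commutatorElement Pointwise

variable {G : Type} [Group G]

structure D (a c e s w g g' q0 q1 : G) (Q : Subgroup G) (π : centralizer {a} →* Perm (Fin 9)) (q : Fin 8 → G)
    (τ : Perm (Fin 9)) : Prop where
  a2 : a * a = 1
  le : Q ≤ centralizer {a}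
  ker : ∀ x, π x = 1 ↔ x.1 ∈ Q
  ran : π.range = alternatingGroup (Fin 9)
  cQ : Nat.card Q = 512
  cA : 2 ^ 15 ∣ Nat.card (centralizer {a})
  cG : ¬ 2 ^ 16 ∣ Nat.card G
  aQ : a ∈ Q
  com : ∀ x ∈ Q, ∀ y ∈ Q, ⁅x, y⁆ ∈ zpowers a
  cen : ∀ v ∈ Q, (∀ y ∈ Q, Commute v y) → v ∈ zpowers a
  gen : ∀ S : Subgroup G, (∀ i, q i ∈ S) → Q ≤ S
  qc : ∀ i, ∃ m ∈ centralizer {a}, q i = m * c * m⁻¹
  gA : g ∈ centralizer {a}
  gA' : g' ∈ centralizer {a}
  hG : ∀ S : Subgroup G, a ∈ S → (∀ y ∈ Q, ⁅g, y⁆ ∈ S) → Q ≤ S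
  q0Q : q0 ∈ Q
  q0Z : q0 ∉ zpowers a
  gq : ⁅g', q0⁆ ∈ zpowers a
  tau : τ.sign = -1
  gt : π ⟨g', gA'⟩ = τ * π ⟨g, gA⟩ * τ⁻¹
  eA : e ∈ centralizer {a}
  sA : s ∈ centralizer {a}
  cq : c ∈ Q
  ec : Commute e c
  sc : Commute s c
  q1Q : q1 ∈ Q
  c1 : ¬ Commute c q1
  hM : ∀ S : Subgroup G, a ∈ S → q1 ∈ S → (∀ y ∈ Q, ⁅e, y⁆ ∈ S ∧ ⁅s, y⁆ ∈ S) → Q ≤ S
  we : Commute w e
  ws : Commute w s
  wa : w⁻¹ * a * w = c
  w2 : w * w = 1
  ces : ∀ p : Perm (Fin 9), Commute p (π ⟨e, eA⟩) → Commute p (π ⟨s, sA⟩) → p = 1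
  top : ∀ S : Subgroup G, centralizer {a} ≤ S → w ∈ S → S = ⊤

theorem zp {a x : G} (h : a * a = 1) (hx : x ∈ zpowers a) : x = 1 ∨ x = a := by
  obtain ⟨k, rfl⟩ := mem_zpowers_iff.1 hx
  have h2 : a ^ 2 = 1 := by rw [pow_two, h]
  rw [zpow_eq_zpow_emod' k h2]
  have : k % (2 : ℕ) = 0 ∨ k % (2 : ℕ) = 1 := by omega
  rcases this with h | h <;> rw [h] <;> simp

theorem cz {a x n : G} (hx : x ∈ centralizer {a}) (hn : n ∈ zpowers a) : Commute x n := by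
  obtain ⟨k, rfl⟩ := mem_zpowers_iff.1 hn
  exact Commute.zpow_right (mem_centralizer_singleton_iff.1 hx) k

variable {a c e s w g g' q0 q1 : G} {Q : Subgroup G} {π : centralizer {a} →* Perm (Fin 9)} {q : Fin 8 → G}
  {τ : Perm (Fin 9)} (h : D a c e s w g g' q0 q1 Q π q τ)
include h

theorem D.nrm {x y : G} (hx : x ∈ centralizer {a}) (hy : y ∈ Q) : x * y * x⁻¹ ∈ Q := by
  have := (h.ker (⟨x, hx⟩ * ⟨y, h.le hy⟩ * ⟨x, hx⟩⁻¹)).1 (by
    rw [map_mul, map_mul, (h.ker ⟨y, h.le hy⟩).2 hy, map_inv]; simp)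
  simpa using this

theorem D.fc {x v y : G} (hx : x ∈ centralizer {a}) (hv : v ∈ Q) (hf : ⁅x, v⁆ ∈ zpowers a) (hy : y ∈ Q) :
    Commute v ⁅x, y⁆ := by
  have hy' := h.nrm hx hy
  have n1 := (cz hx (h.com v hv y hy)).eq
  have n2 := (cz (h.le hy') hf).eq
  have n3 := (cz (h.le hy) (h.com v hv y hy)).eq
  have n4 := (cz (h.le hy') (h.com v hv y hy)).eq
  have n5 := (cz (h.le hv) hf).eq
  set z := ⁅x, v⁆ with hz
  set n := ⁅v, y⁆ with hn
  set y' := x * y * x⁻¹ with hy2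
  have e1 : x * v * x⁻¹ = z * v := by rw [hz, commutatorElement_def]; group
  have e2 : v * y * v⁻¹ = n * y := by rw [hn, commutatorElement_def]; group
  have e3 : (x * v * x⁻¹) * y' * (x * v * x⁻¹)⁻¹ = n * y' := by
    calc _ = x * (v * y * v⁻¹) * x⁻¹ := by rw [hy2]; group
      _ = (x * n) * y * x⁻¹ := by rw [e2]; group
      _ = n * y' := by rw [n1, hy2]; group
  have e4 : v * y' * v⁻¹ = n * y' := by
    rw [← e3, e1, ← n5]
    calc v * y' * v⁻¹ = v * (y' * z) * z⁻¹ * v⁻¹ := by group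
      _ = _ := by rw [n2]; group
  have e5 : ⁅x, y⁆ = y' * y⁻¹ := by rw [hy2, commutatorElement_def]
  rw [e5]
  show v * (y' * y⁻¹) = y' * y⁻¹ * v
  calc v * (y' * y⁻¹) = (v * y' * v⁻¹) * (v * y * v⁻¹)⁻¹ * v := by group
    _ = (n * y') * y⁻¹ * n⁻¹ * v := by rw [e4, e2]; group
    _ = y' * (n * y⁻¹ * n⁻¹) * v := by rw [← n4]; group
    _ = y' * (y⁻¹ * (y * n) * y⁻¹ * n⁻¹) * v := by group
    _ = _ := by rw [n3]; group

theorem D.fpf {v : G} (hv : v ∈ Q) (hf : ⁅g, v⁆ ∈ zpowers a) : v ∈ zpowers a :=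
  h.cen v hv fun y hy => (mem_centralizer_singleton_iff.1 (h.hG (centralizer {v})
    (mem_centralizer_singleton_iff.2 (mem_centralizer_singleton_iff.1 (h.le hv)).symm)
    (fun y hy => mem_centralizer_singleton_iff.2 (h.fc h.gA hv hf hy).symm) hy)).symm

theorem D.fx {v : G} (hv : v ∈ Q) (h1 : ⁅e, v⁆ ∈ zpowers a) (h2 : ⁅s, v⁆ ∈ zpowers a) :
    v ∈ zpowers a ∨ v * c⁻¹ ∈ zpowers a := by
  have key : ∀ u ∈ Q, Commute u q1 → (∀ y ∈ Q, Commute u ⁅e, y⁆ ∧ Commute u ⁅s, y⁆) → u ∈ zpowers a :=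
    fun u hu k1 k2 => h.cen u hu fun y hy => (mem_centralizer_singleton_iff.1 (h.hM (centralizer {u})
      (mem_centralizer_singleton_iff.2 (mem_centralizer_singleton_iff.1 (h.le hu)).symm)
      (mem_centralizer_singleton_iff.2 k1.symm)
      (fun y hy => ⟨mem_centralizer_singleton_iff.2 (k2 y hy).1.symm,
        mem_centralizer_singleton_iff.2 (k2 y hy).2.symm⟩) hy)).symm
  have kv : ∀ y ∈ Q, Commute v ⁅e, y⁆ ∧ Commute v ⁅s, y⁆ := fun y hy => ⟨h.fc h.eA hv h1 hy, h.fc h.sA hv h2 hy⟩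
  have kc : ∀ y ∈ Q, Commute c ⁅e, y⁆ ∧ Commute c ⁅s, y⁆ := fun y hy =>
    ⟨h.fc h.eA h.cq (by rw [commutatorElement_eq_one_iff_commute.2 h.ec]; exact one_mem _) hy,
      h.fc h.sA h.cq (by rw [commutatorElement_eq_one_iff_commute.2 h.sc]; exact one_mem _) hy⟩
  rcases zp h.a2 (h.com v hv q1 h.q1Q) with k | k
  · exact Or.inl (key v hv (commutatorElement_eq_one_iff_commute.1 k) kv)
  · refine Or.inr (key _ (mul_mem hv (inv_mem h.cq)) ?_ fun y hy =>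
      ⟨(kv y hy).1.mul_left (kc y hy).1.inv_left, (kv y hy).2.mul_left (kc y hy).2.inv_left⟩)
    have k' := (zp h.a2 (h.com c h.cq q1 h.q1Q)).resolve_left fun k => h.c1 (commutatorElement_eq_one_iff_commute.1 k)
    have e1 : v * q1 * v⁻¹ = c * q1 * c⁻¹ := by
      have := k.trans k'.symm
      simpa only [commutatorElement_def, mul_left_inj] using this
    have e2 : c⁻¹ * q1 * c = v⁻¹ * q1 * v := by
      have n1 := (cz (h.le hv) (mem_zpowers a)).eq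
      have n2 := (cz (h.le h.cq) (mem_zpowers a)).eq
      rw [commutatorElement_def] at k k'
      have f1 : c⁻¹ * q1 * c = a⁻¹ * q1 := by
        calc _ = c⁻¹ * (c * q1 * c⁻¹ * q1⁻¹)⁻¹ * c * q1 := by group
          _ = (a * c)⁻¹ * c * q1 := by rw [k']; group
          _ = _ := by rw [← n2]; group
      have f2 : v⁻¹ * q1 * v = a⁻¹ * q1 := by
        calc _ = v⁻¹ * (v * q1 * v⁻¹ * q1⁻¹)⁻¹ * v * q1 := by group
          _ = (a * v)⁻¹ * v * q1 := by rw [k]; group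
          _ = _ := by rw [← n1]; group
      rw [f1, f2]
    show v * c⁻¹ * q1 = q1 * (v * c⁻¹)
    calc _ = v * (c⁻¹ * q1 * c) * c⁻¹ := by group
      _ = _ := by rw [e2]; group

/-- normal subgroups of `A` -/
theorem D.ns (N : Subgroup (centralizer {a})) (hN : N.Normal) :
    (∀ x ∈ N, x.1 ∈ Q) ∨ ∀ x : centralizer {a}, ∃ n ∈ N, ∃ y ∈ Q, x.1 = n.1 * y := by
  haveI : IsSimpleGroup π.range := h.ran ▸ alternatingGroup.isSimpleGroup (by simp)
  rcases (hN.map π.rangeRestrict π.rangeRestrict_surjective).eq_bot_or_eq_top with k | k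
  · refine Or.inl fun x hx => (h.ker x).1 ?_
    have : π.rangeRestrict x ∈ N.map π.rangeRestrict := mem_map_of_mem _ hx
    rw [k, mem_bot] at this
    exact congrArg Subtype.val this
  · refine Or.inr fun x => ?_
    obtain ⟨n, hn, e⟩ : π.rangeRestrict x ∈ N.map π.rangeRestrict := k ▸ mem_top _
    have e' : π n = π x := congrArg Subtype.val e
    exact ⟨n, hn, (n⁻¹ * x).1, (h.ker _).1 (by rw [map_mul, map_inv, e', inv_mul_cancel]), by simp⟩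

theorem D.cq' {x : G} (hx : x ∈ centralizer {a}) (hc : ∀ y ∈ Q, Commute x y) : x ∈ zpowers a := by
  let N : Subgroup (centralizer {a}) := (centralizer (Q : Set G)).subgroupOf _
  have hN : N.Normal := ⟨fun n hn m => by
    refine mem_subgroupOf.2 (mem_centralizer_iff.2 fun y hy => ?_)
    have := mem_centralizer_iff.1 (mem_subgroupOf.1 hn) _ (h.nrm (inv_mem m.2) hy)
    show y * (m.1 * n.1 * m.1⁻¹) = m.1 * n.1 * m.1⁻¹ * y
    calc _ = m.1 * (m.1⁻¹ * y * m.1⁻¹⁻¹ * n.1) * m.1⁻¹ := by group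
      _ = _ := by rw [this]; group⟩
  rcases h.ns N hN with k | k
  · exact h.cen x (k ⟨x, hx⟩ (mem_subgroupOf.2 (mem_centralizer_iff.2 fun y hy => (hc y hy).symm))) hc
  · obtain ⟨n, hn, y, hy, e⟩ := k ⟨g, h.gA⟩
    refine absurd (h.fpf h.q0Q ?_) h.q0Z
    have e : g = n.1 * y := e
    have k1 := mem_centralizer_iff.1 (mem_subgroupOf.1 hn) _ h.q0Q
    have k2 := h.com y hy q0 h.q0Q
    have : ⁅g, q0⁆ = n.1 * ⁅y, q0⁆ * (q0 * n.1⁻¹ * q0⁻¹) := by rw [e]; simp only [commutatorElement_def]; group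
    rw [this, (cz n.2 k2).eq, show q0 * n.1⁻¹ * q0⁻¹ = q0 * (q0 * n.1)⁻¹ by group, k1]
    simpa using k2

end CA.ThY
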