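import Cfsg.Agent.Lib.Spor.ThY1
import Cfsg.Agent.Lib.Spor.LyU1
import Cfsg.Agent.Lib.Perm.AutAn

/-! Automorphisms of a group with an involution centraliser `2^{1+8}.A₉` are inner. -/

set_option autoImplicit false
set_option linter.all false

namespace CA.ThY
open Subgroup Equiv
open scoped commutatorElement Pointwise

variable {G : Type} [Group G]

def Inn (β : G ≃* G) : Prop := ∃ x, ∀ y, β y = x * y * x⁻¹

theorem Inn.red {β : G ≃* G} (m : G) (h : Inn (β.trans (MulAut.conj m))) : Inn β := by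
  obtain ⟨x, hx⟩ := h
  refine ⟨m⁻¹ * x, fun y => ?_⟩
  have : m * β y * m⁻¹ = x * y * x⁻¹ := hx y
  calc β y = m⁻¹ * (m * β y * m⁻¹) * m := by group
    _ = _ := by rw [this]; group

theorem mapA {a x : G} {β : G ≃* G} (ha : β a = a) (hx : x ∈ centralizer {a}) : β x ∈ centralizer {a} := by
  rw [mem_centralizer_singleton_iff] at hx ⊢
  have := congrArg β hx
  rwa [map_mul, map_mul, ha] at this

theorem mapZ {a x : G} {β : G ≃* G} (ha : β a = a) (hx : x ∈ zpowers a) : β x ∈ zpowers a := by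
  obtain ⟨k, rfl⟩ := mem_zpowers_iff.1 hx
  rw [map_zpow, ha]; exact zpow_mem_zpowers _ _

theorem symA {a : G} {β : G ≃* G} (ha : β a = a) : β.symm a = a := β.symm_apply_eq.2 ha.symm

theorem cjZ {a x n : G} (hx : x ∈ centralizer {a}) (hn : n ∈ zpowers a) : x * n * x⁻¹ = n := by
  rw [(cz hx hn).eq, mul_inv_cancel_right]

variable {a c e s w g g' q0 q1 : G} {Q : Subgroup G} {π : centralizer {a} →* Perm (Fin 9)} {q : Fin 8 → G}
  {τ : Perm (Fin 9)} (h : D a c e s w g g' q0 q1 Q π q τ)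
include h

theorem D.a1 : a ≠ 1 := fun k => h.c1 (commutatorElement_eq_one_iff_commute.1 (by
  simpa [k] using h.com c h.cq q1 h.q1Q))

theorem D.cZ : c ∉ zpowers a := fun k => h.c1 (cz (h.le h.q1Q) k).symm

theorem D.sur {p : Perm (Fin 9)} (hp : p.sign = 1) : ∃ m, π m = p := by
  have : p ∈ π.range := h.ran ▸ Perm.mem_alternatingGroup.2 hp
  exact this

theorem D.no2 : ¬ ∀ x, π x ^ 512 = 1 := fun k => by
  obtain ⟨m, hm⟩ := h.sur (p := swap 0 1 * swap 1 2) (by simp [Perm.sign_swap])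
  have k1 := k m
  rw [hm, show 512 = 3 * 170 + 2 by rfl, pow_add, pow_mul,
    (by decide : (swap 0 1 * swap 1 2 : Perm (Fin 9)) ^ 3 = 1), one_pow, one_mul] at k1
  exact absurd k1 (by decide)

theorem D.last {β : G ≃* G} (hA : ∀ x ∈ centralizer {a}, β x = x) : Inn β := by
  have wi : w⁻¹ = w := inv_eq_of_mul_eq_one_right h.w2
  have key : ∀ r ∈ centralizer {a}, w⁻¹ * r * w ∈ centralizer {a} → Commute (β w * w⁻¹) r := fun r h1 h2 => by
    have := hA _ h2
    rw [map_mul, map_mul, map_inv, hA r h1] at this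
    show β w * w⁻¹ * r = r * (β w * w⁻¹)
    calc _ = β w * (w⁻¹ * r * w) * w⁻¹ := by group
      _ = _ := by rw [← this]; group
  have aA : a ∈ centralizer {a} := mem_centralizer_singleton_iff.2 rfl
  have yA : β w * w⁻¹ ∈ centralizer {a} := mem_centralizer_singleton_iff.2 (key a aA (h.wa ▸ h.le h.cq))
  have ye := key e h.eA (by rw [mul_assoc, ← h.we.eq, inv_mul_cancel_left]; exact h.eA)
  have ys := key s h.sA (by rw [mul_assoc, ← h.ws.eq, inv_mul_cancel_left]; exact h.sA)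
  have yQ : β w * w⁻¹ ∈ Q := (h.ker ⟨_, yA⟩).1 (h.ces _
    (Commute.map (show Commute (⟨_, yA⟩ : centralizer {a}) ⟨e, h.eA⟩ from Subtype.ext ye.eq) π)
    (Commute.map (show Commute (⟨_, yA⟩ : centralizer {a}) ⟨s, h.sA⟩ from Subtype.ext ys.eq) π))
  have fin : ∀ x ∈ centralizer {a}, (∀ y ∈ centralizer {a}, Commute x y) → β w = x * w * x⁻¹ → Inn β :=
    fun x hx hc hw => ⟨x, fun y => by
      have : y ∈ β.toMonoidHom.eqLocus (MulAut.conj x).toMonoidHom := by
        rw [h.top (β.toMonoidHom.eqLocus (MulAut.conj x).toMonoidHom) (fun y hy => ?_) hw]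
        · exact mem_top _
        · show β y = x * y * x⁻¹
          rw [hA y hy, (hc y hy).eq, mul_inv_cancel_right]
      exact this⟩
  have b2 : β w * β w = 1 := by rw [← map_mul, h.w2, map_one]
  have wa : w * a * w = c := by rw [← h.wa, wi]
  have ai : a⁻¹ = a := inv_eq_of_mul_eq_one_right h.a2
  have wc : w * c * w = a := by
    rw [← wa]
    calc _ = (w * w) * a * (w * w) := by group
      _ = a := by rw [h.w2]; simp
  have ca : c ≠ a := fun k => h.cZ (k ▸ mem_zpowers a)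
  rcases h.fx yQ (by rw [commutatorElement_eq_one_iff_commute.2 ye.symm]; exact one_mem _)
    (by rw [commutatorElement_eq_one_iff_commute.2 ys.symm]; exact one_mem _) with k | k
  · rcases zp h.a2 k with k | k
    · exact fin 1 (one_mem _) (fun y _ => Commute.one_left y) (by simpa using mul_inv_eq_one.1 k)
    · rw [mul_inv_eq_iff_eq_mul.1 k] at b2
      refine absurd ?_ ca
      rw [← ai, ← wa]
      exact eq_inv_of_mul_eq_one_right (by rw [← b2]; group)
  · rcases zp h.a2 k with k | k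
    · rw [mul_inv_eq_iff_eq_mul.1 (mul_inv_eq_one.1 k)] at b2
      refine absurd ?_ ca
      rw [← ai]
      exact eq_inv_of_mul_eq_one_left (by rw [← wc, ← b2]; group)
    · refine fin a aA (fun y hy => (mem_centralizer_singleton_iff.1 hy).symm) ?_
      rw [mul_inv_eq_iff_eq_mul.1 (mul_inv_eq_iff_eq_mul.1 k), ai, ← wa]
      calc _ = a * w * a * (w * w) := by group
        _ = _ := by rw [h.w2, mul_one]

theorem D.s4 {β : G ≃* G} (ha : β a = a) (hQ : ∀ y ∈ Q, β y = y) : Inn β := by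
  refine h.last ?_
  have hz : ∀ x ∈ centralizer {a}, x⁻¹ * β x ∈ zpowers a := fun x hx =>
    h.cq' (mul_mem (inv_mem hx) (mapA ha hx)) fun y hy => by
      have := hQ _ (h.nrm hx hy)
      rw [map_mul, map_mul, map_inv, hQ y hy] at this
      show x⁻¹ * β x * y = y * (x⁻¹ * β x)
      calc _ = x⁻¹ * (β x * y * (β x)⁻¹) * β x := by group
        _ = _ := by rw [this]; group
  let N : Subgroup (centralizer {a}) := (β.toMonoidHom.eqLocus (MonoidHom.id G)).subgroupOf _
  have mN : ∀ x : centralizer {a}, x ∈ N ↔ β x.1 = x.1 := fun x => Iff.rfl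
  have hN : N.Normal := ⟨fun n hn m => (mN _).2 (by
    show β (m.1 * n.1 * m.1⁻¹) = m.1 * n.1 * m.1⁻¹
    rw [map_mul, map_mul, map_inv, (mN n).1 hn]
    calc _ = m.1 * ((m.1⁻¹ * β m.1) * n.1) * (β m.1)⁻¹ := by group
      _ = _ := by rw [← (cz n.2 (hz _ m.2)).eq]; group)⟩
  rcases h.ns N hN with k | k
  · refine absurd (fun x => ?_) h.no2
    have : π (x * x) = 1 := (h.ker _).2 (k _ ((mN _).2 (by
      show β (x.1 * x.1) = x.1 * x.1
      rw [map_mul]
      rcases zp h.a2 (hz _ x.2) with k | k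
      · rw [← inv_mul_eq_one.1 k]
      · rw [inv_mul_eq_iff_eq_mul.1 k]
        calc _ = x.1 * (a * x.1) * a := by group
          _ = x.1 * x.1 * (a * a) := by rw [← (cz x.2 (mem_zpowers a)).eq]; group
          _ = _ := by rw [h.a2, mul_one])))
    rw [show 512 = 2 * 256 by rfl, pow_mul, pow_two, ← map_mul, this, one_pow]
  · intro x hx
    obtain ⟨n, hn, y, hy, e⟩ := k ⟨x, hx⟩
    have e : x = n.1 * y := e
    rw [e, map_mul, (mN n).1 hn, hQ y hy]

theorem D.s3 [Finite G] {β : G ≃* G} (ha : β a = a) (hq : ∀ i, β (q i) * (q i)⁻¹ ∈ zpowers a) : Inn β := by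
  have qQ : ∀ i, q i ∈ Q := fun i => by
    obtain ⟨m, hm, e⟩ := h.qc i
    rw [e]; exact h.nrm hm h.cq
  have c2 : Nat.card (zpowers a) = 2 := by
    rw [Nat.card_zpowers]; exact orderOf_eq_prime (by rw [pow_two, h.a2]) h.a1
  let F : Q →* (Fin 8 → zpowers a) := MonoidHom.mk' (fun r i => ⟨⁅r.1, q i⁆, h.com _ r.2 _ (qQ i)⟩) fun r r' => by
    funext i
    refine Subtype.ext ?_
    show ⁅r.1 * r'.1, q i⁆ = ⁅r.1, q i⁆ * ⁅r'.1, q i⁆
    rw [(cz (h.le (zpowers_le.2 h.aQ (h.com _ r.2 _ (qQ i)))) (h.com _ r'.2 _ (qQ i))).eq,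
      ← cjZ (h.le r.2) (h.com _ r'.2 _ (qQ i))]
    simp only [commutatorElement_def]; group
  have k1 : Nat.card F.ker ≤ 2 := by
    rw [← c2]
    refine Nat.card_le_card_of_injective (fun x => (⟨x.1.1, h.cen _ x.1.2 fun y hy => ?_⟩ : zpowers a))
      fun x y e => Subtype.ext (Subtype.ext (Subtype.mk.inj e))
    have : Q ≤ centralizer {x.1.1} := by
      refine h.gen _ fun i => ?_
      exact mem_centralizer_singleton_iff.2 (commutatorElement_eq_one_iff_commute.1
        (congrArg Subtype.val (congrFun (MonoidHom.mem_ker.1 x.2) i))).symm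
    exact (mem_centralizer_singleton_iff.1 (this hy)).symm
  have k2 := F.ker.card_mul_index
  rw [index_ker, h.cQ] at k2
  have k3 : F.range = ⊤ := eq_top_of_le_card _ (by
    rw [Nat.card_fun, c2, Nat.card_fin]
    have := Nat.mul_le_mul_right (Nat.card F.range) k1
    omega)
  obtain ⟨r, hr⟩ : (fun i => ⟨_, hq i⟩ : Fin 8 → zpowers a) ∈ F.range := k3 ▸ mem_top _
  refine Inn.red r.1⁻¹ (h.s4 ?_ fun y hy => ?_)
  · show r.1⁻¹ * β a * r.1⁻¹⁻¹ = a
    rw [ha]; exact cjZ (inv_mem (h.le r.2)) (mem_zpowers a)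
  · have : Q ≤ (β.trans (MulAut.conj r.1⁻¹)).toMonoidHom.eqLocus (MonoidHom.id G) := by
      refine h.gen _ fun i => ?_
      have e : ⁅r.1, q i⁆ = β (q i) * (q i)⁻¹ := congrArg Subtype.val (congrFun hr i)
      rw [commutatorElement_def, mul_left_inj] at e
      show r.1⁻¹ * β (q i) * r.1⁻¹⁻¹ = q i
      rw [← e]; group
    exact this hy

theorem D.fm {x y v : G} (hx : x ∈ centralizer {a}) (hy : y ∈ Q) (hv : v ∈ Q) (hf : ⁅x, v⁆ ∈ zpowers a) :
    ⁅x * y, v⁆ ∈ zpowers a := by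
  have : ⁅x * y, v⁆ = x * ⁅y, v⁆ * x⁻¹ * ⁅x, v⁆ := by simp only [commutatorElement_def]; group
  rw [this, cjZ hx (h.com y hy v hv)]
  exact mul_mem (h.com y hy v hv) hf

theorem D.s2 [Finite G] {β : G ≃* G} (ha : β a = a) (hb : ∀ x ∈ centralizer {a}, x⁻¹ * β x ∈ Q) : Inn β := by
  have bc : β c ∈ Q := by simpa using mul_mem h.cq (hb c (h.le h.cq))
  have k : ∀ x ∈ centralizer {a}, Commute x c → ⁅x, β c⁆ ∈ zpowers a := fun x hx hc => by
    have := h.fm (mapA ha hx) (inv_mem (hb x hx)) bc (by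
      rw [commutatorElement_eq_one_iff_commute.2 (hc.map β)]; exact one_mem _)
    simpa using this
  have hc := (h.fx bc (k e h.eA h.ec) (k s h.sA h.sc)).resolve_left fun k => h.cZ (by simpa using mapZ (symA ha) k)
  refine h.s3 ha fun i => ?_
  obtain ⟨m, hm, e⟩ := h.qc i
  have k1 := h.com _ (hb m hm) _ bc
  have : β (q i) * (q i)⁻¹ = m * (⁅m⁻¹ * β m, β c⁆ * (β c * c⁻¹)) * m⁻¹ := by
    rw [e, map_mul, map_mul, map_inv]; simp only [commutatorElement_def]; group
  rw [this, cjZ hm (mul_mem k1 hc)]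
  exact mul_mem k1 hc

theorem D.mapQ [Finite G] {β : G ≃* G} (ha : β a = a) {y : G} (hy : y ∈ Q) : β y ∈ Q := by
  let N : Subgroup (centralizer {a}) := (Q.comap β.symm.toMonoidHom).subgroupOf _
  have mN : ∀ x : centralizer {a}, x ∈ N ↔ β.symm x.1 ∈ Q := fun x => Iff.rfl
  have hN : N.Normal := ⟨fun n hn m => (mN _).2 (by
    show β.symm (m.1 * n.1 * m.1⁻¹) ∈ Q
    rw [map_mul, map_mul, map_inv]
    exact h.nrm (mapA (symA ha) m.2) ((mN n).1 hn))⟩
  rcases h.ns N hN with k | k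
  · exact k ⟨_, mapA ha (h.le hy)⟩ ((mN _).2 (by simpa using hy))
  · refine absurd (fun x => ?_) h.no2
    obtain ⟨n, hn, y, hy, e⟩ := k x
    have e1 : x = n * ⟨y, h.le hy⟩ := Subtype.ext e
    have e2 : (β.symm n.1) ^ 512 = 1 := by
      have := pow_card_eq_one' (x := (⟨_, (mN n).1 hn⟩ : Q))
      rw [h.cQ] at this
      exact congrArg Subtype.val this
    have e3 : n ^ 512 = 1 := Subtype.ext (β.symm.injective (by simpa using e2))
    rw [e1, map_mul, (h.ker ⟨y, h.le hy⟩).2 hy, mul_one, ← map_pow, e3, map_one]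

theorem D.s1 [Finite G] {β : G ≃* G} (ha : β a = a) : Inn β := by
  let p : centralizer {a} →* alternatingGroup (Fin 9) := π.codRestrict _ fun x => h.ran ▸ ⟨x, rfl⟩
  have ps : Function.Surjective p := fun y => (h.sur (Perm.mem_alternatingGroup.1 y.2)).imp fun _ e => Subtype.ext e
  let b : centralizer {a} →* centralizer {a} := (β.toMonoidHom.comp (centralizer {a}).subtype).codRestrict _ fun x => mapA ha x.2
  let f : alternatingGroup (Fin 9) →* alternatingGroup (Fin 9) := p.liftOfSurjective ps ⟨p.comp b, fun x hx =>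
    Subtype.ext ((h.ker (b x)).2 (h.mapQ ha ((h.ker x).1 (congrArg Subtype.val hx))))⟩
  have hf : ∀ x, f (p x) = p (b x) := fun x => p.liftOfRightInverse_comp_apply _ _ _ x
  have fs : Function.Surjective f := fun y => by
    obtain ⟨x, rfl⟩ := ps y
    exact ⟨p ⟨_, mapA (symA ha) x.2⟩, (hf _).trans (congrArg p (Subtype.ext (β.apply_symm_apply _)))⟩
  obtain ⟨σ, hσ⟩ := AutAn.exists_conj (by simp) (by simp) (MulEquiv.ofBijective f (Finite.surjective_iff_bijective.1 fs))
  have k : ∀ x, π (b x) = σ * π x * σ⁻¹ := fun x => by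
    have := congrArg (fun t : MulAut (alternatingGroup (Fin 9)) => (t (p x)).1) hσ
    simp only [MulAut.conjNormal_apply, MulEquiv.ofBijective_apply, hf] at this
    exact this.symm
  rcases Int.units_eq_one_or σ.sign with k1 | k1
  · obtain ⟨m, rfl⟩ := h.sur k1
    refine Inn.red m.1⁻¹ (h.s2 ?_ fun x hx => ?_)
    · show m.1⁻¹ * β a * m.1⁻¹⁻¹ = a
      rw [ha]; exact cjZ (inv_mem m.2) (mem_zpowers a)
    · exact (h.ker ((⟨x, hx⟩ : centralizer {a})⁻¹ * (m⁻¹ * b ⟨x, hx⟩ * m⁻¹⁻¹))).1 (by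
        simp only [map_mul, map_inv, k]; group)
  · exfalso
    obtain ⟨m, hm⟩ := h.sur (p := σ * τ⁻¹) (by simp [k1, h.tau])
    have k2 : (m.1 * g' * m.1⁻¹)⁻¹ * β g ∈ Q := (h.ker ((m * ⟨g', h.gA'⟩ * m⁻¹)⁻¹ * b ⟨g, h.gA⟩)).1 (by
      simp only [map_mul, map_inv, k, hm, h.gt]; group)
    have k3 := h.fm (mul_mem (mul_mem m.2 h.gA') (inv_mem m.2)) k2 (h.nrm m.2 h.q0Q) (by
      rw [← conjugate_commutatorElement, cjZ m.2 h.gq]; exact h.gq)
    have k4 := h.fpf (h.mapQ (symA ha) (h.nrm m.2 h.q0Q)) (by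
      have := mapZ (symA ha) k3
      rwa [mul_inv_cancel_left, map_commutatorElement, β.symm_apply_apply] at this)
    have k5 := mapZ ha k4
    rw [β.apply_symm_apply] at k5
    have k6 := cjZ (inv_mem m.2) k5
    rw [← k6] at k5
    exact h.q0Z (by simpa [mul_assoc] using k5)

theorem D.inner [Finite G] (α : G ≃* G) : Inn α := by
  haveI : Fact (Nat.Prime 2) := ⟨by decide⟩
  have pQ : IsPGroup 2 Q := IsPGroup.of_card (n := 9) h.cQ
  obtain ⟨P0, h0⟩ := (pQ.comap_of_injective (centralizer {a}).subtype (subtype_injective _)).exists_le_sylow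
  let P : Subgroup G := (P0 : Subgroup (centralizer {a})).map (centralizer {a}).subtype
  have pP : IsPGroup 2 P := P0.isPGroup'.map _
  have PA : P ≤ centralizer {a} := map_subtype_le _
  have QP : Q ≤ P := fun y hy => ⟨⟨y, h.le hy⟩, h0 hy, rfl⟩
  obtain ⟨m, -, hm⟩ := LyU.syl (p := 2) (n := 15) (M := ⊤) (P := P) (X := P.map α.toMonoidHom) le_top le_top pP (pP.map _)
    (by
      rw [card_map_of_injective (subtype_injective _)]
      exact Nat.le_of_dvd Nat.card_pos (P0.pow_dvd_card_of_pow_dvd_card h.cA)) (by rw [card_top]; exact h.cG)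
  let f : P → P := fun x => ⟨m⁻¹ * α x.1 * m, hm _ ⟨x.1, x.2, rfl⟩⟩
  have fs : Function.Surjective f := Finite.surjective_of_injective fun x y e => Subtype.ext (α.injective (by
    simpa [f] using congrArg Subtype.val e))
  have k := h.cq' (PA (f ⟨a, QP h.aQ⟩).2) fun y hy => by
    obtain ⟨x, e⟩ := fs ⟨y, QP hy⟩
    have e : m⁻¹ * α x.1 * m = y := congrArg Subtype.val e
    have := ((cz (PA x.2) (mem_zpowers a)).symm.map α).map (MulAut.conj m⁻¹)
    rw [← e]
    simpa [f] using this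
  refine Inn.red m⁻¹ (h.s1 ?_)
  rcases zp h.a2 k with k | k
  · have k : m⁻¹ * α a * m = 1 := k
    refine absurd (α.injective ?_) h.a1
    rw [map_one]
    calc α a = m * (m⁻¹ * α a * m) * m⁻¹ := by group
      _ = 1 := by rw [k]; group
  · simpa [f] using k

end CA.ThY
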