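import Cfsg.Agent.Lib.Spor.ThY2
import Cfsg.Agent.Lib.Spor.ThQ
import Cfsg.Agent.Lib.Spor.ThT

/-! Every automorphism of the Thompson group is inner. -/

set_option autoImplicit false
set_option linter.all false
set_option maxRecDepth 100000

namespace CA.ThY
open CA.CWord CA.ThQ Subgroup Equiv
open scoped commutatorElement

def ms : List Word := [[], [6], [8, 6], [10, 8, 6], [11, 8, 6], [8, 10, 8, 6], [8, 11, 8, 6], [10, 10, 8, 6]]
noncomputable def cj (m x : Word) : Word := lapp (lapp m x) (winv m)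
noncomputable def cm (x y : Word) : Word := lapp (cj x y) (winv y)
noncomputable def qw : List Word := ms.map (cj · [4])
noncomputable def dn (w : Word) : Word := w.map fun a => if a < 2 then a else a - 2
def KW : List Word := [[8], [6, 4, 6], [10, 10, 8, 11, 11]]
def KU : List Word := [[8], [6, 4, 6, 2, 4, 6, 0, 2, 4, 6, 8, 6, 4, 6, 2, 4, 0, 2, 0], [10, 10, 8, 11, 11]]
def kq : Word := [0, 2, 0, 4, 2, 4]
noncomputable def GG : List Word := [0] :: qw.map (cm [6, 8, 10])
noncomputable def GM : List Word := [0] :: [6, 4, 7] :: (qw.map (cm [8]) ++ qw.map (cm [10]))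

variable {G : Type} [Group G] {g : ℕ → G}

theorem ev_cj (m x : Word) : ev g (cj m x) = ev g m * ev g x * (ev g m)⁻¹ := by rw [cj, ev_lapp, ev_lapp, ev_winv]
theorem ev_cm (x y : Word) : ev g (cm x y) = ⁅ev g x, ev g y⁆ := by rw [cm, ev_lapp, ev_cj, ev_winv]; rfl

theorem uK (hr : ∀ r ∈ ThRel.rels, ev g r = 1) (v : Word) :
    g 7 * ev g (subst KW v) * (g 7)⁻¹ = ev g (subst KU v) := by
  rw [ev_subst, ev_subst]
  refine (map_ev (MulAut.conj (g 7)).toMonoidHom _ v).trans (congrArg (ev · v) (funext fun i => ?_))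
  show g 7 * _ * (g 7)⁻¹ = _
  match i with
  | 0 =>
    have := hr [15, 9, 14, 8] (by decide +kernel)
    simp only [ev_cons, ev_nil, lv, Nat.reduceMod, Nat.reduceDiv, if_true, one_ne_zero, if_false, mul_one] at this
    show g 7 * ev g [2 * 4] * (g 7)⁻¹ = ev g [2 * 4]
    rw [ev_gen]
    calc _ = g 4 * g 7 * ((g 7)⁻¹ * ((g 4)⁻¹ * (g 7 * g 4))) * (g 7)⁻¹ := by group
      _ = _ := by rw [this]; group
  | 1 =>
    have := ThT.tw hr
    rw [show ([14, 6, 4, 6, 15] : Word) = cj [2 * 7] [6, 4, 6] by decide +kernel, ev_cj, ev_gen] at this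
    exact this
  | 2 =>
    have := hr [9, 11, 11, 15, 10, 10, 8, 11, 11, 14, 10, 10] (by decide +kernel)
    show g 7 * ev g [10, 10, 8, 11, 11] * (g 7)⁻¹ = ev g [10, 10, 8, 11, 11]
    simp only [ev_cons, ev_nil, lv, Nat.reduceMod, Nat.reduceDiv, if_true, one_ne_zero, if_false, mul_one] at this ⊢
    calc _ = g 7 * g 5 * g 5 * g 4 * 1⁻¹ * (g 5)⁻¹ * (g 5)⁻¹ * (g 7)⁻¹ := by group
      _ = _ := by
        have h2 : (g 7)⁻¹ * g 5 * g 5 * g 4 * (g 5)⁻¹ * (g 5)⁻¹ * g 7 = g 5 * g 5 * g 4 * (g 5)⁻¹ * (g 5)⁻¹ := by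
          calc _ = g 5 * g 5 * g 4 * ((g 4)⁻¹ * ((g 5)⁻¹ * ((g 5)⁻¹ * ((g 7)⁻¹ * (g 5 * (g 5 * (g 4 * ((g 5)⁻¹ *
              ((g 5)⁻¹ * (g 7 * (g 5 * g 5))))))))))) * (g 5)⁻¹ * (g 5)⁻¹ := by group
            _ = _ := by rw [this]; group
        calc _ = g 7 * (g 5 * g 5 * g 4 * (g 5)⁻¹ * (g 5)⁻¹) * (g 7)⁻¹ := by group
          _ = _ := by rw [← h2]; group
  | i + 3 => show g 7 * 1 * (g 7)⁻¹ = 1; group

theorem ces (p : Perm (Fin 9)) (h1 : Commute p (ev ThQb.π [8])) (h2 : Commute p (ev ThQb.π [10])) : p = 1 := by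
  have k1 : ∀ i, p (ev ThQb.π [8] i) = ev ThQb.π [8] (p i) := fun i => congrArg (· i) h1.eq
  have k2 : ∀ i, p (ev ThQb.π [10] i) = ev ThQb.π [10] (p i) := fun i => congrArg (· i) h2.eq
  have e8 : p 8 = 8 := (by decide +kernel : ∀ j, j = ev ThQb.π [8] j → j = 8) _ (k1 8)
  have e0 : p 0 = 0 := ((by decide +kernel : ∀ j, j = ev ThQb.π [10] j → j = 0 ∨ j = 8) _ (k2 0)).resolve_right
    fun k => absurd (p.injective (k.trans e8.symm)) (by decide)
  have e1 : p 1 = 1 := (k1 0).trans (by rw [e0]; decide +kernel)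
  have e3 : p 3 = 3 := (k2 1).trans (by rw [e1]; decide +kernel)
  have e5 : p 5 = 5 := (k2 3).trans (by rw [e3]; decide +kernel)
  have e4 : p 4 = 4 := (k2 5).trans (by rw [e5]; decide +kernel)
  have e7 : p 7 = 7 := (k2 4).trans (by rw [e4]; decide +kernel)
  have e2 : p 2 = 2 := (k2 7).trans (by rw [e7]; decide +kernel)
  have e6 : p 6 = 6 := (k2 2).trans (by rw [e2]; decide +kernel)
  ext i
  fin_cases i <;> simp [e0, e1, e2, e3, e4, e5, e6, e7, e8]

theorem inner [Finite G] (hr : ∀ r ∈ ThRel.rels, ev g r = 1) (hz : g 0 ≠ 1) (ht : grp g ThRel.gens = ⊤)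
    (hG : Nat.card G = 90745943887872000) (hC : Nat.card (centralizer {g 0}) ≤ 92897280) (α : G ≃* G) :
    ∃ x, ∀ y, α y = x * y * x⁻¹ := by
  obtain ⟨h1, h2, -⟩ := struct0 g hr hz
  obtain ⟨f, fk, fr, fv⟩ := exists_pi g hr hz
  obtain ⟨⟨⟨-, -, x2⟩, x3⟩, x4⟩ := extra hr hz
  have hA : grp g gensA = centralizer {g 0} := eq_of_le_of_card_ge (cen hr) (h1 ▸ hC)
  have e0 : ev g [0] = g 0 := ev_gen g 0
  set Q := grp g ([0] :: es) with hQ
  let π : centralizer {g 0} →* Perm (Fin 9) := f.comp (MulEquiv.subgroupCongr hA.symm).toMonoidHom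
  have mA : ∀ w, subst gensA (dn w) = w → ev g w ∈ centralizer {g 0} := fun w e =>
    hA ▸ e ▸ subst_mem_grp g gensA _
  have πv : ∀ w (e : subst gensA (dn w) = w), π ⟨ev g w, mA w e⟩ = ev ThQb.π w := fun w e => by
    exact (congrArg f (Subtype.ext (congrArg (ev g) e.symm))).trans ((fv (dn w)).trans (congrArg _ e))
  have ker : ∀ x, π x = 1 ↔ x.1 ∈ Q := fun x => by
    show (MulEquiv.subgroupCongr hA.symm) x ∈ f.ker ↔ _
    rw [fk]; rfl
  have mQ : ∀ w, subst gensA (dn w) = w ∧ ev ThQb.π w = 1 → ev g w ∈ Q := fun w e =>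
    (ker ⟨_, mA w e.1⟩).1 ((πv w e.1).trans e.2)
  have aQ : g 0 ∈ Q := e0 ▸ mem_grp g (by decide)
  have a2 : g 0 * g 0 = 1 := by rw [← e0, ← ev_lapp]; exact hr _ (by decide +kernel)
  have QA : Q ≤ centralizer {g 0} := hA ▸ h2
  have hZ : center Q = (zpowers (g 0)).subgroupOf Q := by
    refine (eq_of_le_of_card_ge (fun x hx => mem_center_iff.2 fun y => Subtype.ext (cz (QA y.2) hx).eq) ?_).symm
    rw [x3, Nat.card_congr (subgroupOfEquivOfLe (zpowers_le.2 aQ)).toEquiv, Nat.card_zpowers,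
      orderOf_eq_prime (p := 2) (by rw [pow_two, a2]) hz]
  have qm : ∀ w ∈ qw, ev g w ∈ Q := fun w hw => mQ w ((by decide +kernel : ∀ w ∈ qw,
    subst gensA (dn w) = w ∧ ev ThQb.π w = 1) w hw)
  have gen : ∀ S : Subgroup G, (∀ w ∈ qw, ev g w ∈ S) → Q ≤ S := fun S hS => (grp_le_iff g).2 fun w hw => by
    obtain ⟨v, -, e⟩ := (by decide +kernel : ∀ w ∈ [0] :: es, ∃ v ∈ [[0, 2, 0, 2], [0], [2], [0, 2, 4], [0, 2, 8], [6, 12],
      [6, 10], [0, 2, 4, 6, 8, 10, 12], [6, 10, 14, 12]], chk w (subst qw v) = true) w hw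
    rw [eqG hr e]
    exact (grp_le_iff g).2 hS (subst_mem_grp g qw v)
  have cmm : ∀ u v, chk (lapp u v) (lapp v u) = true → Commute (ev g u) (ev g v) := fun u v e => by
    have := eqG hr e
    rwa [ev_lapp, ev_lapp] at this
  refine D.inner (a := g 0) (c := ev g [4]) (e := ev g [8]) (s := ev g [10]) (w := ev g [2, 0, 4, 2])
    (g := ev g [6, 8, 10]) (g' := ev g [6, 8, 11, 11, 14]) (q0 := ev g (subst KW kq)) (q1 := ev g [6, 4, 7])
    (Q := Q) (π := π) (q := fun i => ev g (nth qw [] i)) (τ := swap 3 7 * swap 7 4 * swap 5 6)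
    { a2 := a2, le := QA, ker := ker, cQ := x4, aQ := aQ
      ran := by
        rw [MonoidHom.range_comp, MonoidHom.range_eq_top.2 (MulEquiv.subgroupCongr hA.symm).surjective,
          ← MonoidHom.range_eq_map, fr]
      cA := by rw [← hA, h1]; decide
      cG := by rw [hG]; decide
      com := fun x hx y hy => by
        have : (⁅(⟨x, hx⟩ : Q), ⟨y, hy⟩⁆ : Q) ∈ (zpowers (g 0)).subgroupOf Q := by
          rw [← hZ, ← x2]; exact commutator_mem_commutator (mem_top _) (mem_top _)
        exact this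
      cen := fun v hv h => by
        have : (⟨v, hv⟩ : Q) ∈ (zpowers (g 0)).subgroupOf Q := by
          rw [← hZ]; exact mem_center_iff.2 fun y => Subtype.ext (h y y.2).eq.symm
        exact this
      gen := fun S hS => gen S fun w hw => by
        obtain ⟨i, e⟩ := (by decide +kernel : ∀ w ∈ qw, ∃ i : Fin 8, nth qw [] i = w) w hw
        exact e ▸ hS i
      qc := fun i => by
        obtain ⟨m, -, e1, e2⟩ := (by decide +kernel : ∀ i : Fin 8, ∃ m ∈ ms,
          subst gensA (dn m) = m ∧ nth qw [] i = cj m [4]) i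
        exact ⟨ev g m, mA m e1, by rw [e2, ev_cj]⟩
      gA := mA _ (by decide +kernel)
      gA' := mA _ (by decide +kernel)
      hG := fun S ha hS => gen S fun w hw => by
        obtain ⟨v, -, e⟩ := (by decide +kernel : ∀ w ∈ qw, ∃ v ∈ [[2, 6, 8, 10, 13], [6, 8, 10, 12], [4, 6, 8, 10, 12],
          [2, 6, 12, 14], [2, 6, 8, 12], [4, 8, 10, 12, 17], [2, 6, 8, 12, 14], [4, 8, 10, 12]],
          chk w (subst GG v) = true) w hw
        rw [eqG hr e]
        refine (grp_le_iff g).2 (fun u hu => ?_) (subst_mem_grp g GG v)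
        rcases List.mem_cons.1 hu with rfl | hu
        · exact e0 ▸ ha
        · obtain ⟨y, hy, rfl⟩ := List.mem_map.1 hu
          rw [ev_cm]; exact hS _ (qm y hy)
      q0Q := mQ _ (by decide +kernel)
      q0Z := fun k => hz (by
        have e : ev g (subst KW kq) * ev g (subst KW kq) = g 0 := by
          rw [← ev_lapp, ← e0]; exact eqG hr (by decide +kernel)
        rcases zp a2 k with k | k <;> rw [← e, k]
        exacts [mul_one _, a2])
      gq := by
        have e : ev g [6, 8, 11, 11, 14] * ev g (subst KW kq) * (ev g [6, 8, 11, 11, 14])⁻¹ = ev g (subst KW kq) := by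
          rw [show ([6, 8, 11, 11, 14] : Word) = lapp [6, 8, 11, 11] [2 * 7] by decide +kernel, ev_lapp, ev_gen]
          calc _ = ev g [6, 8, 11, 11] * (g 7 * ev g (subst KW kq) * (g 7)⁻¹) * (ev g [6, 8, 11, 11])⁻¹ := by group
            _ = _ := by rw [uK hr, ← ev_cj]; exact eqG hr (by decide +kernel)
        rw [commutatorElement_def, e, mul_inv_cancel]; exact one_mem _
      tau := by decide +kernel
      gt := by rw [πv _ (by decide +kernel), πv _ (by decide +kernel)]; decide +kernel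
      eA := mA _ (by decide +kernel)
      sA := mA _ (by decide +kernel)
      cq := mQ _ (by decide +kernel)
      ec := cmm _ _ (by decide +kernel)
      sc := cmm _ _ (by decide +kernel)
      q1Q := mQ _ (by decide +kernel)
      c1 := fun k => hz (by
        rw [← e0, ← commutatorElement_eq_one_iff_commute.2 k, ← ev_cm]; exact eqG hr (by decide +kernel))
      hM := fun S ha h1 hS => gen S fun w hw => by
        obtain ⟨v, -, e⟩ := (by decide +kernel : ∀ w ∈ qw, ∃ v ∈ [[6, 10, 12, 19], [2], [2, 7], [2, 6, 24], [2, 6, 29],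
          [2, 6, 10, 24], [2, 6, 12, 29], [2, 6, 24, 27]], chk w (subst GM v) = true) w hw
        rw [eqG hr e]
        refine (grp_le_iff g).2 (fun u hu => ?_) (subst_mem_grp g GM v)
        rcases List.mem_cons.1 hu with rfl | hu
        · exact e0 ▸ ha
        rcases List.mem_cons.1 hu with rfl | hu
        · exact h1
        rcases List.mem_append.1 hu with hu | hu <;> obtain ⟨y, hy, rfl⟩ := List.mem_map.1 hu <;> rw [ev_cm]
        exacts [(hS _ (qm y hy)).1, (hS _ (qm y hy)).2]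
      we := cmm _ _ (by decide +kernel)
      ws := cmm _ _ (by decide +kernel)
      wa := by rw [← e0, ← ev_winv, ← ev_lapp, ← ev_lapp]; exact eqG hr (by decide +kernel)
      w2 := by rw [← ev_lapp]; exact eqG hr (v := []) (by decide +kernel)
      ces := fun p h1 h2 => ces p (πv [8] (by decide +kernel) ▸ h1) (πv [10] (by decide +kernel) ▸ h2)
      top := fun S hS hw => by
        rw [eq_top_iff, ← ht, grp_le_iff]
        intro u hu
        rcases (by decide +kernel : ∀ u ∈ ThRel.gens, subst gensA (dn u) = u ∨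
          chk u (subst [[4], [6], [2, 0, 4, 2]] [0, 2, 4, 2, 4, 2, 4, 2, 0]) = true) u hu with e | e
        · exact hS (mA u e)
        · rw [eqG hr e]
          refine (grp_le_iff g).2 (fun u hu => ?_) (subst_mem_grp g _ _)
          simp only [List.mem_cons, List.not_mem_nil, or_false] at hu
          rcases hu with rfl | rfl | rfl
          exacts [hS (mA _ (by decide +kernel)), hS (mA _ (by decide +kernel)), hw] } α

end CA.ThY
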