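import Cfsg.Agent.Lib.Spor.Tr3E
import Cfsg.Agent.Lib.Spor.Tr3U5TC
import Cfsg.Agent.Lib.Lin.SmallF

/-! Centreless 3-transposition groups over `SU₅(2)` split. -/

set_option autoImplicit false
set_option linter.unusedVariables false
set_option linter.unusedSectionVars false
open Cfsg

namespace CA.Tr3U5
open CA.Tr3Basic CA.Tr3Block CA.Tr3Prim CA.Tr3Rank CA.Tr3Iso CA.Tr3Ext CA.Fis CA.CForm CA.CForm.Form CA.SmallF CA.CWord CA.CTodd CA.Tr3E Subgroup

abbrev V := Fin 5 → F4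
def bf (x y : V) : F4 := x 0 * x 0 * y 0 + x 1 * x 1 * y 1 + x 2 * x 2 * y 2 + x 3 * x 3 * y 3 + x 4 * x 4 * y 4
def tv (x y : V) : V := fun i => y i + bf x y * x i
def gv : ℕ → V
  | 0 => ![⟨1, 0⟩, ⟨1, 1⟩, ⟨1, 1⟩, ⟨0, 0⟩, ⟨1, 0⟩]
  | 1 => ![⟨1, 0⟩, ⟨1, 1⟩, ⟨1, 1⟩, ⟨1, 0⟩, ⟨0, 0⟩]
  | 2 => ![⟨0, 0⟩, ⟨1, 0⟩, ⟨1, 0⟩, ⟨1, 0⟩, ⟨1, 1⟩]
  | 3 => ![⟨1, 0⟩, ⟨0, 1⟩, ⟨0, 0⟩, ⟨0, 1⟩, ⟨1, 1⟩]
  | _ => ![⟨0, 0⟩, ⟨1, 0⟩, ⟨0, 1⟩, ⟨1, 0⟩, ⟨1, 0⟩]
def cd (a : F4) : ℕ := a.re.val + 2 * a.im.val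
def rk (p : V) : ℕ := 0x70009000d9a6000050007000bb890000400050005a99068b0699067a00004000200080008a580000900050005aab0000a000a000365409aa05420a9a000050005000500079bb0000a000800073630000a000b000468704640a7a088b0000864807ba08a900005998053309a900007545097808480000a000a000a000474400005000a000a977000070006000498b0000800090006626098804520bb8000060006000700019890000e0007000978b0000c000600079b80a9809890a79000050004000a000973700009000300099870000400060006cba0aa80a890565000065650563079600009a8b05750a8900005aa8098a04540000700070008000a58500006000700099ca0000a000600094540000800090005497054509990a9b0000600050008000a5650000a0002000ba690000500060005ca908ab09870537000050006000b000658800004000200068a700008000e0006b990aa70ab7098500001430078a08bb00008988076506460000aa980aa705630000400070005000974706760aa90aaa00004896054506c900007633097606760000a000b000b00036560474047405a80000aba906560aa700004b9a077b0341000080005000b000b67405220987089800008a69073706360000b89b09c906530000500090002000c7570000d0009000687900006000c0008a96000090005000d79b0a880a7a079800000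 >>>
  (4 * (cd (p 0) + 4 * cd (p 1) + 16 * cd (p 2) + 64 * cd (p 3) + 256 * cd (p 4))) % 16
def cw : List ℕ → ℕ → Word
  | [], i => [2 * i]
  | a :: w, i => 2 * a :: cw w i ++ [2 * a]
def cv : List ℕ → ℕ → V
  | [], i => gv i
  | a :: w, i => tv (gv a) (cv w i)
def tr : List (List ℕ × ℕ × ℕ) := [([], 0, 1), ([], 0, 2), ([], 0, 3), ([], 0, 4), ([], 1, 2), ([], 1, 3), ([], 1, 4),
  ([], 2, 3), ([], 2, 4), ([], 3, 4), ([2], 1, 0), ([3], 2, 0), ([0, 3], 2, 1)]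

theorem rels_eq : Tr3U5TC.R.rels = (List.range 5).map (fun i => [2 * i, 2 * i]) ++ tr.map fun t =>
    wpow (cw t.1 t.2.1 ++ [2 * t.2.2]) (if bf (cv t.1 t.2.1) (gv t.2.2) = 0 then 2 else 3) := by decide +kernel

theorem desc : ∀ a b c d e : F4, bf ![a, b, c, d, e] ![a, b, c, d, e] = 0 → ![a, b, c, d, e] = 0 ∨
    ![a, b, c, d, e] = gv 0 ∨ ∃ i < 5, rk (tv (gv i) ![a, b, c, d, e]) < rk ![a, b, c, d, e] := by decide +kernel

theorem hF4 : Fintype.card F4 = 2 ^ 2 := card_F4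

theorem B_eq (x y : V) : (hermStd hF4 5).B x y = bf x y := by
  rw [hermStd_B]; simp only [hermForm, Fin.sum_univ_five, bf]; ring

theorem tv_eq (x y : V) : y + (1 * (hermStd hF4 5).B x y) • x = tv x y := by
  rw [one_mul, B_eq]; rfl

theorem pt_iff {p : V} : Pt (hermStd hF4 5) 0 p ↔ p ≠ 0 ∧ bf p p = 0 := by
  rw [Fis.Pt, ← herm_B_self, B_eq]

theorem pt_gv : ∀ i, Pt (hermStd hF4 5) 0 (gv i)
  | 0 | 1 | 2 | 3 => pt_iff.2 (by decide)
  | _ + 4 => (pt_iff (p := gv 4)).2 (by decide)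

variable {G Γ : Type*} [Group G] [Group Γ] [Finite G] [Finite Γ] {D : Set G} {π : G →* Γ}

theorem split (h : Ex D π) (u : IsU hF4 5 (π '' D)) (hc : Nat.card Γ = 13685760) {l : List Γ} (l1 : Odd l.length)
    (l2 : ∀ x ∈ l, x ∈ π '' D) (l3 : l.prod = 1) : ∃ K : Subgroup G, (∀ k ∈ K, π k = 1 → k = 1) ∧ K.map π = ⊤ := by
  obtain ⟨τ, c⟩ := u
  choose d hd e using fun i => c.mem (pt_gv i)
  let g : ℕ → G × ℤˣ := fun i => (d i, -1)
  let R : G × ℤˣ → V → Prop := fun x p => x.1 ∈ D ∧ x.2 = -1 ∧ Pt (hermStd hF4 5) 0 p ∧ π x.1 = τ p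
  have r0 : ∀ i, R (g i) (gv i) := fun i => ⟨hd i, rfl, pt_gv i, e i⟩
  have r1 : ∀ {x p}, R x p → x * x = 1 := fun {x p} a => Prod.ext (sq h.cls.1 a.1) (by simp [a.2.1])
  have r2 : ∀ {x p y q}, R x p → R y q → R (x * y * x⁻¹) (tv p q) := fun {x p y q} a b =>
    ⟨class_conj h.cls _ _ b.1, by simp [a.2.1, b.2.1], tv_eq p q ▸ c.cl a.2.2.1 b.2.2.1, by
      rw [← tv_eq, ← c.conj a.2.2.1 b.2.2.1, ← a.2.2.2, ← b.2.2.2]; simp [tw]⟩
  have r3 : ∀ w i, R (ev g (cw w i)) (cv w i) := fun w i => by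
    induction w with
    | nil => exact ev_gen g i ▸ r0 i
    | cons a w ih =>
      have := r2 (r0 a) ih
      rwa [inv_of_mul_self (r1 (r0 a)), ← ev_gen g a, ← ev_append, ← ev_append] at this
  have r4 : ∀ {x p y q}, R x p → R y q → (x * y) ^ (if bf p q = 0 then 2 else 3) = 1 := fun {x p y q} a b => by
    have k := c.comm0 (fun p hp => B_self_of_Q _ hp) a.2.2.1 b.2.2.1
    rw [B_eq, ← a.2.2.2, ← b.2.2.2] at k
    refine Prod.ext ?_ (by rw [Prod.pow_snd]; simp [a.2.1, b.2.1])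
    split_ifs with n
    · exact sq_of_commute (sq h.cls.1 a.1) (sq h.cls.1 b.1) (h.lift a.1 b.1 (k.2 n))
    · exact cube h.cls.1 a.1 b.1 fun m => n (k.1 (m.map π))
  obtain ⟨f1, f2⟩ := Tr3U5TC.bound _ g fun r hr => by
    rw [rels_eq, List.mem_append, List.mem_map, List.mem_map] at hr
    rcases hr with ⟨i, -, rfl⟩ | ⟨t, -, rfl⟩
    · rw [ev_cons, ev_gen, lv_even]; exact r1 (r0 i)
    · rw [ev_wpow, ev_append, ev_gen]; exact r4 (r3 _ _) (r0 _)
  set L := grp g [[0], [2], [4], [6], [8]]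
  have gl : ∀ i < 5, g i ∈ L := fun i hi => ev_gen g i ▸ mem_grp g (by interval_cases i <;> simp)
  have k : ∀ n p, rk p = n → Pt (hermStd hF4 5) 0 p → ∃ x ∈ L, R x p := fun n => by
    induction n using Nat.strong_induction_on with | _ n ih =>
    rintro p rfl hp
    have q : p = ![p 0, p 1, p 2, p 3, p 4] := by ext1 i; fin_cases i <;> rfl
    have := desc (p 0) (p 1) (p 2) (p 3) (p 4)
    rw [← q] at this
    rcases this (pt_iff.1 hp).2 with z | z | ⟨i, hi, z⟩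
    · exact absurd z hp.1
    · exact ⟨_, gl 0 (by omega), z ▸ r0 0⟩
    obtain ⟨x, hx, a⟩ := ih _ z _ rfl (tv_eq _ p ▸ c.cl (pt_gv i) hp)
    have b := r2 (r0 i) a
    refine ⟨_, mul_mem (mul_mem (gl i hi) hx) (inv_mem (gl i hi)), b.1, b.2.1, hp, b.2.2.2.trans ?_⟩
    rw [← tv_eq, ← c.conj (pt_gv i) a.2.2.1, ← tv_eq, ← c.conj (pt_gv i) hp, c.fs.tt (c.mem (pt_gv i))]
  let φ := π.prodMap (MonoidHom.id ℤˣ)
  have m1 : ∀ y ∈ π '' D, (y, -1) ∈ L.map φ := fun y hy => by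
    obtain ⟨p, hp, rfl⟩ := c.surj hy
    obtain ⟨x, hx, a⟩ := k _ p rfl hp
    exact ⟨x, hx, Prod.ext a.2.2.2 a.2.1⟩
  have m2 : ∀ l : List Γ, (∀ x ∈ l, x ∈ π '' D) → (l.prod, (-1) ^ l.length) ∈ L.map φ := fun l hl => by
    induction l with
    | nil => exact one_mem _
    | cons a l ih =>
      simpa [pow_succ'] using mul_mem (m1 a (hl a (by simp))) (ih fun x hx => hl x (by simp [hx]))
  have m3 := m2 l l2
  rw [l3, l1.neg_one_pow] at m3
  have m4 : ∀ y, (y, 1) ∈ L.map φ := fun y => (h.cls'.2.2.ge.trans ((closure_le ((L.map φ).comap (MonoidHom.inl Γ ℤˣ))).2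
    fun y hy => by simpa using mul_mem (m1 y hy) m3)) (mem_top y)
  have m5 : L.map φ = ⊤ := eq_top_iff.2 fun ⟨y, t⟩ _ => by
    rcases Int.units_eq_one_or t with rfl | rfl
    exacts [m4 y, by simpa using mul_mem (m4 y) m3]
  refine ⟨L.comap (MonoidHom.inl G ℤˣ), fun x hx e => congrArg Prod.fst (inj_of_card φ (f2.trans ?_) hx
    (Prod.ext e rfl)), eq_top_iff.2 fun y _ => ?_⟩
  · rw [m5, card_top, Nat.card_prod, hc, Nat.card_eq_fintype_card, Fintype.card_units_int]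
  · obtain ⟨⟨x, t⟩, hx, a⟩ := m4 y
    obtain rfl : t = 1 := congrArg Prod.snd a
    exact ⟨x, hx, congrArg Prod.fst a⟩

theorem five {F : Type} [Field F] [Fintype F] (hF : Fintype.card F = 2 ^ 2) (hD : IsThreeTranspositionClass D)
    (hZ : center G = ⊥) (e : G ⧸ pCore 2 G ≃* SU 5 F 2) :
    IsElementaryAbelian 2 (pCore 2 G) ∧ ∃ K : Subgroup G, (pCore 2 G).IsComplement' K := by
  obtain ⟨h, P, u, z, c⟩ := setup hF (a := 10) (b := 5) (u := 55) hD hZ (by omega) (by decide) e (card5 hF)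
    (by decide) (nsq (k := 3) (by decide) (by decide))
    (nsq (k := 2) (by decide) (by decide)) (fun m q => tri_eq (by omega) q) hF4
  obtain ⟨d, hd⟩ := class_nonempty hD
  obtain ⟨l, l1, l2, l3⟩ := odd_rel hF4 u P z ⟨d, hd, rfl⟩
  obtain ⟨K, k1, k2⟩ := split h u c l1 (fun x hx => (l2 x hx).1) l3
  have := h.elem P hd (K := K) (fun k hk e => k1 k hk e ▸ one_mem _) (by rw [k2, index_top]; exact odd_one) l1 l2 l3
  rw [QuotientGroup.ker_mk'] at this
  refine ⟨this, K, isComplement'_of_disjoint_and_mul_eq_univ (disjoint_def.2 fun {x} a b =>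
    k1 x b ((QuotientGroup.eq_one_iff x).2 a)) (Set.eq_univ_of_forall fun x => ?_)⟩
  obtain ⟨k, hk, e⟩ := k2.ge (mem_top (QuotientGroup.mk' _ x))
  exact ⟨x * k⁻¹, (QuotientGroup.eq_one_iff _).1 (by
    rw [← QuotientGroup.mk'_apply, map_mul, map_inv, e, mul_inv_cancel]), k, hk, by simp⟩

end CA.Tr3U5
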