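import Cfsg.Agent.Lib.Comp.CMat
import Cfsg.Agent.Lib.Comp.CTodd
import Cfsg.Prelude.Def_KGroupFacts

/-! Certificates for Reidemeister-Schreier rewriting followed by Tietze transformations; small perfect
extensions of a group with trivial multiplier. -/

set_option autoImplicit false
set_option linter.all false

namespace CA.TzDer

open CA.CNet CA.CWord CA.CLevel CA.CMat CA.CTodd

universe u

/-- replace the letter `a` by `u` and its inverse by `v` -/
noncomputable def rep (a : ℕ) (u v w : Word) : Word :=
  List.rec (motive := fun _ => Word) [] (fun b _ ih =>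
    Bool.rec (Bool.rec (b :: ih) (lapp v ih) (Nat.beq b (Nat.xor a 1))) (lapp u ih) (Nat.beq b a)) w

/-- eliminate the first letter of the relator `v` -/
noncomputable def sb (v w : Word) : Word :=
  List.rec (motive := fun _ => Word) w (fun a v' _ => rep a (winv v') v' w) v

/-- rotate, multiply by a relator, or substitute -/
noncomputable def step (L : List Word) (w : Word) (t : ℕ × ℕ × ℕ) : Word :=
  red 0 (Nat.rec (motive := fun _ => Word) (lapp (ldrop w t.2.2) (ltake w t.2.2))
    (fun o _ => Nat.rec (motive := fun _ => Word) (lapp (rot L t.2.1 t.2.2) w)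
      (fun _ _ => sb (rot L t.2.1 t.2.2) w) o) t.1)

noncomputable def run (L : List Word) (ts : List (ℕ × ℕ × ℕ)) : Word → (Word → Bool) → Bool :=
  List.rec (motive := fun _ => Word → (Word → Bool) → Bool) (fun w k => k w)
    (fun t _ ih w k => forceL (step L w t) fun w' => ih w' k) ts

noncomputable def der (ds : List (ℕ × List (ℕ × ℕ × ℕ))) : List Word → (List Word → Bool) → Bool :=
  List.rec (motive := fun _ => List Word → (List Word → Bool) → Bool) (fun L k => k L)
    (fun d _ ih L k => run L d.2 (nth L [] d.1) fun w => ih (w :: L) k) ds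

variable {P : Type u} [Group P] {g : ℕ → P}

theorem ev_rep {a : ℕ} {u v : Word} (h1 : ev g u = lv g a) (h2 : ev g v = (lv g a)⁻¹) (w : Word) :
    ev g (rep a u v w) = ev g w := by
  induction w with
  | nil => rfl
  | cons b w ih =>
    show ev g (Bool.rec (Bool.rec (b :: rep a u v w) (lapp v (rep a u v w)) (Nat.beq b (Nat.xor a 1)))
      (lapp u (rep a u v w)) (Nat.beq b a)) = _
    cases e : Nat.beq b a
    · cases e' : Nat.beq b (Nat.xor a 1)
      · show ev g (b :: rep a u v w) = _
        rw [ev_cons, ev_cons, ih]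
      · show ev g (lapp v (rep a u v w)) = _
        rw [ev_lapp, ev_cons, ih, h2, Nat.eq_of_beq_eq_true e', lv_xor]
    · show ev g (lapp u (rep a u v w)) = _
      rw [ev_lapp, ev_cons, ih, h1, Nat.eq_of_beq_eq_true e]

theorem ev_sb {v : Word} (h : ev g v = 1) (w : Word) : ev g (sb v w) = ev g w := by
  cases v with
  | nil => rfl
  | cons a v =>
    rw [ev_cons] at h
    exact ev_rep (by rw [ev_winv]; exact (eq_inv_of_mul_eq_one_left h).symm) (eq_inv_of_mul_eq_one_right h) w

theorem ev_step {L : List Word} (hL : ∀ r ∈ L, ev g r = 1) {w : Word} (hw : ev g w = 1) (t : ℕ × ℕ × ℕ) :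
    ev g (step L w t) = 1 := by
  obtain ⟨o, k, s⟩ := t
  unfold step
  rw [ev_red (by simp)]
  rcases o with _ | _ | o
  · show ev g (lapp (ldrop w s) (ltake w s)) = 1
    rw [← ltake_append_ldrop w s, ev_append] at hw
    rw [ev_lapp]
    exact mul_eq_one_comm.1 hw
  · show ev g (lapp (rot L k s) w) = 1
    rw [ev_lapp, ev_rot hL, hw, one_mul]
  · show ev g (sb (rot L k s) w) = 1
    rw [ev_sb (ev_rot hL k s), hw]

theorem run_spec {L : List Word} (hL : ∀ r ∈ L, ev g r = 1) (ts : List (ℕ × ℕ × ℕ)) : ∀ {w : Word} {k : Word → Bool},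
    ev g w = 1 → run L ts w k = true → ∃ w', ev g w' = 1 ∧ k w' = true := by
  induction ts with
  | nil => exact fun hw h => ⟨_, hw, h⟩
  | cons t ts ih => exact fun hw h => ih (ev_step hL hw t) ((forceL_eq _ _).symm.trans h)

theorem der_spec (ds : List (ℕ × List (ℕ × ℕ × ℕ))) : ∀ {L : List Word} {k : List Word → Bool},
    (∀ r ∈ L, ev g r = 1) → der ds L k = true → ∃ L', (∀ r ∈ L', ev g r = 1) ∧ k L' = true := by
  induction ds with
  | nil => exact fun hL h => ⟨_, hL, h⟩
  | cons d ds ih =>
    intro L k hL h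
    obtain ⟨w, h1, h2⟩ := run_spec hL d.2 (w := nth L [] d.1)
      ((nth_mem_or L [] d.1).elim (hL _) fun e => by rw [e]; rfl) h
    exact ih (List.forall_mem_cons.2 ⟨h1, hL⟩) h2

/-- the rewritten relator `b.1` is the relator number `b.2.1 / 2` conjugated by `b.2.2` -/
noncomputable def baseOK (rels σ : List Word) (b : Word × ℕ × Word) : Bool :=
  isNil (red 0 (lapp (subst σ b.1) (lapp (winv b.2.2) (lapp (rot rels b.2.1 0) b.2.2))))

/-- the targets are among the derived words -/
noncomputable def hits (T : List (Word × ℕ)) (L : List Word) : Bool := lall T fun q => triv L q.1 q.2 0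

theorem der_of {rels σ : List Word} {B : List (Word × ℕ × Word)} (hB : lall B (baseOK rels σ) = true)
    {ds : List (ℕ × List (ℕ × ℕ × ℕ))} {T : List (Word × ℕ)} (h : der ds (lmap Prod.fst B) (hits T) = true)
    {R : List Word} (hR : R = lmap Prod.fst T) : ∀ r ∈ R, Der.{u} rels (subst σ r) := by
  intro r hr P _ g hg
  obtain ⟨L, h1, h2⟩ := der_spec (g := fun i => ev g (nth σ [] i)) ds (fun r hr => by
    rw [lmap_eq] at hr
    obtain ⟨b, hb, rfl⟩ := List.mem_map.1 hr
    have := ev_of_isNil (g := g) (lall_iff.1 hB b hb)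
    rw [ev_red (by simp), ev_lapp, ev_lapp, ev_lapp, ev_rot hg, ev_winv, ev_subst] at this
    simpa using this) h
  rw [hR, lmap_eq] at hr
  obtain ⟨q, hq, rfl⟩ := List.mem_map.1 hr
  rw [ev_subst]
  exact ev_of_triv h1 (lall_iff.1 h2 q hq)

/-- a perfect extension with kernel of order at most three of a group with trivial multiplier -/
theorem inj_of_mult {Γ A : Type} [Group Γ] [Group A] [Finite Γ] (f : Γ →* A) (hf : Function.Surjective f)
    (hc : Nat.card Γ ≤ 3 * Nat.card A) (hp : commutator Γ = ⊤) (hm : Cfsg.HasCyclicSchurMultiplier A 1) :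
    Function.Injective f := by
  haveI : Finite A := Finite.of_surjective f hf
  have h1 : Nat.card Γ = Nat.card A * Nat.card f.ker := by
    rw [Subgroup.card_eq_card_quotient_mul_card_subgroup f.ker,
      Nat.card_congr (QuotientGroup.quotientKerEquivOfSurjective f hf).toEquiv]
  have h2 : Nat.card f.ker ≤ 3 := by
    rw [h1, mul_comm 3] at hc
    exact Nat.le_of_mul_le_mul_left hc Nat.card_pos
  have h3 : 0 < Nat.card f.ker := Nat.card_pos
  haveI : IsCyclic f.ker := by
    have : Nat.card f.ker = 1 ∨ Nat.card f.ker = 2 ∨ Nat.card f.ker = 3 := by omega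
    rcases this with h | h | h
    · haveI := (Nat.card_eq_one_iff_unique.1 h).1
      infer_instance
    · haveI : Fact (Nat.Prime 2) := ⟨by decide⟩
      exact isCyclic_of_prime_card h
    · haveI : Fact (Nat.Prime 3) := ⟨by decide⟩
      exact isCyclic_of_prime_card h
  have h4 : f.ker ≤ Subgroup.center Γ := fun n hn => Subgroup.mem_center_iff.2 fun x => by
    have h5 := Abelianization.commutator_subset_ker
      ((IsCyclic.mulAutMulEquiv f.ker).toMonoidHom.comp (MulAut.conjNormal (H := f.ker))) (hp ▸ Subgroup.mem_top x)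
    have h6 : MulAut.conjNormal (H := f.ker) x = 1 := (IsCyclic.mulAutMulEquiv f.ker).injective (by
      rw [map_one]; exact h5)
    have h7 := congrArg Subtype.val (congrArg (fun φ : MulAut f.ker => φ ⟨n, hn⟩) h6)
    simp only [MulAut.conjNormal_apply, MulAut.one_apply] at h7
    exact mul_inv_eq_iff_eq_mul.1 h7
  obtain ⟨π, hπ⟩ := hm.2 Γ f ⟨hf, h4, hp ▸ le_top⟩
  refine (MonoidHom.ker_eq_bot_iff f).1 (eq_bot_iff.2 fun n hn => ?_)
  obtain ⟨z, hz⟩ := hπ ⟨n, hn⟩
  rw [Subsingleton.elim z 1, map_one] at hz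
  exact (congrArg Subtype.val hz).symm

end CA.TzDer
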