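import Cfsg.Agent.Lib.Spor.U6U4c

/-! Subgroups `U₄(3)` of `U₆(2)`: certificates. -/

set_option autoImplicit false
set_option Elab.async false
set_option maxRecDepth 100000
set_option linter.all false

namespace CA.U6U4
open Cfsg CA.CNet CA.CWord CA.CLevel CA.H27Pres CA.CSimple CA.CPoint CA.CLow CA.Fi CA.CBack CA.GBack CA.GOut

noncomputable def ty3 : Tr := (.pl [] 0 (.fx [0] (.cons [0,6,4,3] (.pl [] 0 (.fx [0] (.cons [0,11,1] (.pl [] 0 (.fx [0] (.cons [1,2] (.pl [] 0 (.cons [] (.pl [] 0 (.cons [] (.pl [] 0 (.bulk [([0], 0, 0)] [0x1, 0x201, 0x101] .nil))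
  (.cons [0] (.pl [] 0 (.bulk [([0], 0, 0)] [0x1, 0x201, 0x101] .nil))
  .nil)))
  (.cons [3] (.pl [] 0 (.cons [] (.pl [] 0 (.bulk [([0], 0, 0)] [0x1, 0x201, 0x101] .nil))
  (.cons [0] (.pl [] 0 (.bulk [([0], 0, 0)] [0x1, 0x201, 0x101] .nil))
  .nil)))
  (.cons [0] (.pl [] 0 (.cons [] (.pl [] 0 (.bulk [([0], 0, 0)] [0x1, 0x201, 0x101] .nil))
  (.cons [0] (.pl [] 0 (.bulk [([0], 0, 0)] [0x1, 0x201, 0x101] .nil))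
  .nil)))
  .nil))))
  (.cons [1,3] (.pl [] 0 (.cons [] (.pl [] 0 (.cons [] (.pl [] 0 (.bulk [([0], 0, 0)] [0x1, 0x201, 0x101] .nil))
  (.cons [0] (.pl [] 0 (.bulk [([0], 0, 0)] [0x1, 0x201, 0x101] .nil))
  .nil)))
  (.cons [3] (.pl [] 0 (.cons [] (.pl [] 0 (.bulk [([0], 0, 0)] [0x1, 0x201, 0x101] .nil))
  (.cons [0] (.pl [] 0 (.bulk [([0], 0, 0)] [0x1, 0x201, 0x101] .nil))
  .nil)))
  (.cons [0] (.pl [] 0 (.cons [] (.pl [] 0 (.bulk [([0], 0, 0)] [0x1, 0x201, 0x101] .nil))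
  (.cons [0] (.pl [] 0 (.bulk [([0], 0, 0)] [0x1, 0x201, 0x101] .nil))
  .nil)))
  .nil))))
  .nil))))
  (.cons [3] (.pl [] 0 (.fx [0] (.cons [0,0,2] (.pl [] 0 (.cons [] (.pl [] 0 (.cons [] (.pl [] 0 (.cons [] (.lf 2)
  (.cons [1] (.lf 2)
  (.cons [0] (.lf 2)
  .nil))))
  (.cons [0] (.pl [] 0 (.cons [] (.lf 2)
  (.cons [1] (.lf 2)
  (.cons [0] (.lf 2)
  .nil))))
  .nil)))
  (.cons [3] (.pl [] 0 (.cons [] (.pl [] 0 (.cons [] (.lf 2)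
  (.cons [1] (.lf 2)
  (.cons [0] (.lf 2)
  .nil))))
  (.cons [0] (.pl [] 0 (.cons [] (.lf 2)
  (.cons [1] (.lf 2)
  (.cons [0] (.lf 2)
  .nil))))
  .nil)))
  (.cons [0] (.pl [] 0 (.cons [] (.pl [] 0 (.cons [] (.lf 2)
  (.cons [1] (.lf 2)
  (.cons [0] (.lf 2)
  .nil))))
  (.cons [0] (.pl [] 0 (.cons [] (.lf 2)
  (.cons [1] (.lf 2)
  (.cons [0] (.lf 2)
  .nil))))
  .nil)))
  .nil))))
  (.cons [4,1] (.pl [] 0 (.cons [] (.pl [] 0 (.cons [] (.pl [] 0 (.cons [] (.lf 2)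
  (.cons [1] (.lf 2)
  (.cons [0] (.lf 2)
  .nil))))
  (.cons [0] (.pl [] 0 (.cons [] (.lf 2)
  (.cons [1] (.lf 2)
  (.cons [0] (.lf 2)
  .nil))))
  .nil)))
  (.cons [3] (.pl [] 0 (.cons [] (.pl [] 0 (.cons [] (.lf 2)
  (.cons [1] (.lf 2)
  (.cons [0] (.lf 2)
  .nil))))
  (.cons [0] (.pl [] 0 (.cons [] (.lf 2)
  (.cons [1] (.lf 2)
  (.cons [0] (.lf 2)
  .nil))))
  .nil)))
  (.cons [0] (.pl [] 0 (.cons [] (.pl [] 0 (.cons [] (.lf 2)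
  (.cons [1] (.lf 2)
  (.cons [0] (.lf 2)
  .nil))))
  (.cons [0] (.pl [] 0 (.cons [] (.lf 2)
  (.cons [1] (.lf 2)
  (.cons [0] (.lf 2)
  .nil))))
  .nil)))
  .nil))))
  .nil))))
  (.cons [1,1] (.pl [] 0 (.fx [0] (.cons [6,1] (.pl [] 0 (.cons [] (.pl [] 0 (.cons [] (.pl [] 0 (.bulk [([0], 0, 0)] [0x1, 0x201, 0x101] .nil))
  (.cons [0] (.pl [] 0 (.bulk [([0], 0, 0)] [0x1, 0x201, 0x101] .nil))
  .nil)))
  (.cons [3] (.pl [] 0 (.cons [] (.pl [] 0 (.bulk [([0], 0, 0)] [0x1, 0x201, 0x101] .nil))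
  (.cons [0] (.pl [] 0 (.bulk [([0], 0, 0)] [0x1, 0x201, 0x101] .nil))
  .nil)))
  (.cons [0] (.pl [] 0 (.cons [] (.pl [] 0 (.bulk [([0], 0, 0)] [0x1, 0x201, 0x101] .nil))
  (.cons [0] (.pl [] 0 (.bulk [([0], 0, 0)] [0x1, 0x201, 0x101] .nil))
  .nil)))
  .nil))))
  (.cons [0,7,0] (.pl [] 0 (.cons [] (.pl [] 0 (.cons [] (.pl [] 0 (.bulk [([0], 0, 0)] [0x1, 0x201, 0x101] .nil))
  (.cons [0] (.pl [] 0 (.bulk [([0], 0, 0)] [0x1, 0x201, 0x101] .nil))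
  .nil)))
  (.cons [3] (.pl [] 0 (.cons [] (.pl [] 0 (.bulk [([0], 0, 0)] [0x1, 0x201, 0x101] .nil))
  (.cons [0] (.pl [] 0 (.bulk [([0], 0, 0)] [0x1, 0x201, 0x101] .nil))
  .nil)))
  (.cons [0] (.pl [] 0 (.cons [] (.pl [] 0 (.bulk [([0], 0, 0)] [0x1, 0x201, 0x101] .nil))
  (.cons [0] (.pl [] 0 (.bulk [([0], 0, 0)] [0x1, 0x201, 0x101] .nil))
  .nil)))
  .nil))))
  .nil))))
  (.cons [6,2] (.pl [] 0 (.fx [0] (.cons [0,0,2] (.pl [] 0 (.cons [] (.pl [] 0 (.cons [] (.pl [] 0 (.cons [] (.lf 2)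
  (.cons [1] (.lf 2)
  (.cons [0] (.lf 2)
  .nil))))
  (.cons [0] (.pl [] 0 (.cons [] (.lf 2)
  (.cons [1] (.lf 2)
  (.cons [0] (.lf 2)
  .nil))))
  .nil)))
  (.cons [3] (.pl [] 0 (.cons [] (.pl [] 0 (.cons [] (.lf 2)
  (.cons [1] (.lf 2)
  (.cons [0] (.lf 2)
  .nil))))
  (.cons [0] (.pl [] 0 (.cons [] (.lf 2)
  (.cons [1] (.lf 2)
  (.cons [0] (.lf 2)
  .nil))))
  .nil)))
  (.cons [0] (.pl [] 0 (.cons [] (.pl [] 0 (.cons [] (.lf 2)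
  (.cons [1] (.lf 2)
  (.cons [0] (.lf 2)
  .nil))))
  (.cons [0] (.pl [] 0 (.cons [] (.lf 2)
  (.cons [1] (.lf 2)
  (.cons [0] (.lf 2)
  .nil))))
  .nil)))
  .nil))))
  (.cons [4,1] (.pl [] 0 (.cons [] (.pl [] 0 (.cons [] (.pl [] 0 (.cons [] (.lf 2)
  (.cons [1] (.lf 2)
  (.cons [0] (.lf 2)
  .nil))))
  (.cons [0] (.pl [] 0 (.cons [] (.lf 2)
  (.cons [1] (.lf 2)
  (.cons [0] (.lf 2)
  .nil))))
  .nil)))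
  (.cons [3] (.pl [] 0 (.cons [] (.pl [] 0 (.cons [] (.lf 2)
  (.cons [1] (.lf 2)
  (.cons [0] (.lf 2)
  .nil))))
  (.cons [0] (.pl [] 0 (.cons [] (.lf 2)
  (.cons [1] (.lf 2)
  (.cons [0] (.lf 2)
  .nil))))
  .nil)))
  (.cons [0] (.pl [] 0 (.cons [] (.pl [] 0 (.cons [] (.lf 2)
  (.cons [1] (.lf 2)
  (.cons [0] (.lf 2)
  .nil))))
  (.cons [0] (.pl [] 0 (.cons [] (.lf 2)
  (.cons [1] (.lf 2)
  (.cons [0] (.lf 2)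
  .nil))))
  .nil)))
  .nil))))
  .nil))))
  (.cons [13,2] (.pl [] 0 (.fx [0] (.cons [1,2] (.pl [] 0 (.cons [] (.pl [] 0 (.cons [] (.pl [] 0 (.bulk [([0], 0, 0)] [0x1, 0x201, 0x101] .nil))
  (.cons [0] (.pl [] 0 (.bulk [([0], 0, 0)] [0x1, 0x201, 0x101] .nil))
  .nil)))
  (.cons [3] (.pl [] 0 (.cons [] (.pl [] 0 (.bulk [([0], 0, 0)] [0x1, 0x201, 0x101] .nil))
  (.cons [0] (.pl [] 0 (.bulk [([0], 0, 0)] [0x1, 0x201, 0x101] .nil))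
  .nil)))
  (.cons [0] (.pl [] 0 (.cons [] (.pl [] 0 (.bulk [([0], 0, 0)] [0x1, 0x201, 0x101] .nil))
  (.cons [0] (.pl [] 0 (.bulk [([0], 0, 0)] [0x1, 0x201, 0x101] .nil))
  .nil)))
  .nil))))
  (.cons [1,3] (.pl [] 0 (.cons [] (.pl [] 0 (.cons [] (.pl [] 0 (.bulk [([0], 0, 0)] [0x1, 0x201, 0x101] .nil))
  (.cons [0] (.pl [] 0 (.bulk [([0], 0, 0)] [0x1, 0x201, 0x101] .nil))
  .nil)))
  (.cons [3] (.pl [] 0 (.cons [] (.pl [] 0 (.bulk [([0], 0, 0)] [0x1, 0x201, 0x101] .nil))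
  (.cons [0] (.pl [] 0 (.bulk [([0], 0, 0)] [0x1, 0x201, 0x101] .nil))
  .nil)))
  (.cons [0] (.pl [] 0 (.cons [] (.pl [] 0 (.bulk [([0], 0, 0)] [0x1, 0x201, 0x101] .nil))
  (.cons [0] (.pl [] 0 (.bulk [([0], 0, 0)] [0x1, 0x201, 0x101] .nil))
  .nil)))
  .nil))))
  .nil))))
  (.cons [0,4,0] (.pl [] 0 (.fx [0] (.cons [7,3] (.pl [] 0 (.cons [] (.pl [] 0 (.cons [] (.pl [] 0 (.cons [] (.lf 2)
  (.cons [1] (.lf 2)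
  (.cons [0] (.lf 2)
  .nil))))
  (.cons [0] (.pl [] 0 (.cons [] (.lf 2)
  (.cons [1] (.lf 2)
  (.cons [0] (.lf 2)
  .nil))))
  .nil)))
  (.cons [3] (.pl [] 0 (.cons [] (.pl [] 0 (.cons [] (.lf 2)
  (.cons [1] (.lf 2)
  (.cons [0] (.lf 2)
  .nil))))
  (.cons [0] (.pl [] 0 (.cons [] (.lf 2)
  (.cons [1] (.lf 2)
  (.cons [0] (.lf 2)
  .nil))))
  .nil)))
  (.cons [0] (.pl [] 0 (.cons [] (.pl [] 0 (.cons [] (.lf 2)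
  (.cons [1] (.lf 2)
  (.cons [0] (.lf 2)
  .nil))))
  (.cons [0] (.pl [] 0 (.cons [] (.lf 2)
  (.cons [1] (.lf 2)
  (.cons [0] (.lf 2)
  .nil))))
  .nil)))
  .nil))))
  (.cons [7,2] (.pl [] 0 (.cons [] (.pl [] 0 (.cons [] (.pl [] 0 (.cons [] (.lf 2)
  (.cons [1] (.lf 2)
  (.cons [0] (.lf 2)
  .nil))))
  (.cons [0] (.pl [] 0 (.cons [] (.lf 2)
  (.cons [1] (.lf 2)
  (.cons [0] (.lf 2)
  .nil))))
  .nil)))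
  (.cons [3] (.pl [] 0 (.cons [] (.pl [] 0 (.cons [] (.lf 2)
  (.cons [1] (.lf 2)
  (.cons [0] (.lf 2)
  .nil))))
  (.cons [0] (.pl [] 0 (.cons [] (.lf 2)
  (.cons [1] (.lf 2)
  (.cons [0] (.lf 2)
  .nil))))
  .nil)))
  (.cons [0] (.pl [] 0 (.cons [] (.pl [] 0 (.cons [] (.lf 2)
  (.cons [1] (.lf 2)
  (.cons [0] (.lf 2)
  .nil))))
  (.cons [0] (.pl [] 0 (.cons [] (.lf 2)
  (.cons [1] (.lf 2)
  (.cons [0] (.lf 2)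
  .nil))))
  .nil)))
  .nil))))
  .nil))))
  .nil))))))))
  (.cons [0,13,0] (.pl [] 0 (.fx [0] (.cons [0,6,3] (.pl [] 0 (.fx [0] (.cons [4,3] (.pl [] 0 (.cons [] (.pl [] 0 (.cons [] (.pl [] 0 (.cons [] (.lf 2)
  (.cons [1] (.lf 2)
  (.cons [0] (.lf 2)
  .nil))))
  (.cons [0] (.pl [] 0 (.cons [] (.lf 2)
  (.cons [1] (.lf 2)
  (.cons [0] (.lf 2)
  .nil))))
  .nil)))
  (.cons [3] (.pl [] 0 (.cons [] (.pl [] 0 (.cons [] (.lf 2)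
  (.cons [1] (.lf 2)
  (.cons [0] (.lf 2)
  .nil))))
  (.cons [0] (.pl [] 0 (.cons [] (.lf 2)
  (.cons [1] (.lf 2)
  (.cons [0] (.lf 2)
  .nil))))
  .nil)))
  (.cons [0] (.pl [] 0 (.cons [] (.pl [] 0 (.cons [] (.lf 2)
  (.cons [1] (.lf 2)
  (.cons [0] (.lf 2)
  .nil))))
  (.cons [0] (.pl [] 0 (.cons [] (.lf 2)
  (.cons [1] (.lf 2)
  (.cons [0] (.lf 2)
  .nil))))
  .nil)))
  .nil))))
  (.cons [4,2] (.pl [] 0 (.cons [] (.pl [] 0 (.cons [] (.pl [] 0 (.cons [] (.lf 4)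
  (.cons [1] (.lf 0)
  (.cons [0] (.lf 0)
  .nil))))
  (.cons [0] (.pl [] 0 (.cons [] (.lf 2)
  (.cons [1] (.lf 2)
  (.cons [0] (.lf 2)
  .nil))))
  .nil)))
  (.cons [3] (.pl [] 0 (.cons [] (.pl [] 0 (.cons [] (.lf 4)
  (.cons [1] (.lf 0)
  (.cons [0] (.lf 0)
  .nil))))
  (.cons [0] (.pl [] 0 (.cons [] (.lf 2)
  (.cons [1] (.lf 2)
  (.cons [0] (.lf 2)
  .nil))))
  .nil)))
  (.cons [0] (.pl [] 0 (.cons [] (.pl [] 0 (.cons [] (.lf 2)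
  (.cons [1] (.lf 2)
  (.cons [0] (.lf 2)
  .nil))))
  (.cons [0] (.pl [] 0 (.cons [] (.lf 4)
  (.cons [1] (.lf 4)
  (.cons [0] (.lf 4)
  .nil))))
  .nil)))
  .nil))))
  .nil))))
  (.cons [2] (.pl [] 0 (.fx [0] (.cons [0,4,3] (.pl [] 0 (.cons [] (.pl [] 0 (.cons [] (.pl [] 0 (.bulk [([0], 0, 0)] [0x1, 0x201, 0x101] .nil))
  (.cons [0] (.pl [] 0 (.bulk [([0], 0, 0)] [0x1, 0x201, 0x101] .nil))
  .nil)))
  (.cons [3] (.pl [] 0 (.cons [] (.pl [] 0 (.bulk [([0], 0, 0)] [0x1, 0x201, 0x101] .nil))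
  (.cons [0] (.pl [] 0 (.bulk [([0], 0, 0)] [0x1, 0x201, 0x101] .nil))
  .nil)))
  (.cons [0] (.pl [] 0 (.cons [] (.pl [] 0 (.bulk [([0], 0, 0)] [0x1, 0x201, 0x101] .nil))
  (.cons [0] (.pl [] 0 (.bulk [([0], 0, 0)] [0x1, 0x201, 0x101] .nil))
  .nil)))
  .nil))))
  (.cons [8,0] (.pl [] 0 (.cons [] (.pl [] 0 (.cons [] (.pl [] 0 (.bulk [([0], 0, 0)] [0x1, 0x201, 0x101] .nil))
  (.cons [0] (.pl [] 0 (.bulk [([0], 0, 0)] [0x1, 0x201, 0x101] .nil))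
  .nil)))
  (.cons [3] (.pl [] 0 (.cons [] (.pl [] 0 (.bulk [([0], 0, 0)] [0x1, 0x201, 0x101] .nil))
  (.cons [0] (.pl [] 0 (.bulk [([0], 0, 0)] [0x1, 0x201, 0x101] .nil))
  .nil)))
  (.cons [0] (.pl [] 0 (.cons [] (.pl [] 0 (.bulk [([0], 0, 0)] [0x1, 0x201, 0x101] .nil))
  (.cons [0] (.pl [] 0 (.bulk [([0], 0, 0)] [0x1, 0x201, 0x101] .nil))
  .nil)))
  .nil))))
  .nil))))
  (.cons [13,2] (.pl [] 0 (.fx [0] (.cons [6,1] (.pl [] 0 (.cons [] (.pl [] 0 (.cons [] (.pl [] 0 (.bulk [([0], 0, 0)] [0x1, 0x201, 0x101] .nil))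
  (.cons [0] (.pl [] 0 (.bulk [([0], 0, 0)] [0x1, 0x201, 0x101] .nil))
  .nil)))
  (.cons [3] (.pl [] 0 (.cons [] (.pl [] 0 (.bulk [([0], 0, 0)] [0x1, 0x201, 0x101] .nil))
  (.cons [0] (.pl [] 0 (.bulk [([0], 0, 0)] [0x1, 0x201, 0x101] .nil))
  .nil)))
  (.cons [0] (.pl [] 0 (.cons [] (.pl [] 0 (.bulk [([0], 0, 0)] [0x1, 0x201, 0x101] .nil))
  (.cons [0] (.pl [] 0 (.bulk [([0], 0, 0)] [0x1, 0x201, 0x101] .nil))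
  .nil)))
  .nil))))
  (.cons [0,7,0] (.pl [] 0 (.cons [] (.pl [] 0 (.cons [] (.pl [] 0 (.bulk [([0], 0, 0)] [0x1, 0x201, 0x101] .nil))
  (.cons [0] (.pl [] 0 (.bulk [([0], 0, 0)] [0x1, 0x201, 0x101] .nil))
  .nil)))
  (.cons [3] (.pl [] 0 (.cons [] (.pl [] 0 (.bulk [([0], 0, 0)] [0x1, 0x201, 0x101] .nil))
  (.cons [0] (.pl [] 0 (.bulk [([0], 0, 0)] [0x1, 0x201, 0x101] .nil))
  .nil)))
  (.cons [0] (.pl [] 0 (.cons [] (.pl [] 0 (.bulk [([0], 0, 0)] [0x1, 0x201, 0x101] .nil))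
  (.cons [0] (.pl [] 0 (.bulk [([0], 0, 0)] [0x1, 0x201, 0x101] .nil))
  .nil)))
  .nil))))
  .nil))))
  (.cons [0,3,0] (.pl [] 0 (.fx [0] (.cons [1,2] (.pl [] 0 (.cons [] (.pl [] 0 (.cons [] (.pl [] 0 (.cons [] (.lf 2)
  (.cons [1] (.lf 2)
  (.cons [0] (.lf 2)
  .nil))))
  (.cons [0] (.pl [] 0 (.cons [] (.lf 2)
  (.cons [1] (.lf 2)
  (.cons [0] (.lf 2)
  .nil))))
  .nil)))
  (.cons [3] (.pl [] 0 (.cons [] (.pl [] 0 (.cons [] (.lf 2)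
  (.cons [1] (.lf 2)
  (.cons [0] (.lf 2)
  .nil))))
  (.cons [0] (.pl [] 0 (.cons [] (.lf 2)
  (.cons [1] (.lf 2)
  (.cons [0] (.lf 2)
  .nil))))
  .nil)))
  (.cons [0] (.pl [] 0 (.cons [] (.pl [] 0 (.cons [] (.lf 2)
  (.cons [1] (.lf 2)
  (.cons [0] (.lf 2)
  .nil))))
  (.cons [0] (.pl [] 0 (.cons [] (.lf 2)
  (.cons [1] (.lf 2)
  (.cons [0] (.lf 2)
  .nil))))
  .nil)))
  .nil))))
  (.cons [1,3] (.pl [] 0 (.cons [] (.pl [] 0 (.cons [] (.pl [] 0 (.cons [] (.lf 2)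
  (.cons [1] (.lf 2)
  (.cons [0] (.lf 2)
  .nil))))
  (.cons [0] (.pl [] 0 (.cons [] (.lf 4)
  (.cons [1] (.lf 4)
  (.cons [0] (.lf 4)
  .nil))))
  .nil)))
  (.cons [3] (.pl [] 0 (.cons [] (.pl [] 0 (.cons [] (.lf 2)
  (.cons [1] (.lf 2)
  (.cons [0] (.lf 2)
  .nil))))
  (.cons [0] (.pl [] 0 (.cons [] (.lf 0)
  (.cons [1] (.lf 0)
  (.cons [0] (.lf 4)
  .nil))))
  .nil)))
  (.cons [0] (.pl [] 0 (.cons [] (.pl [] 0 (.cons [] (.lf 0)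
  (.cons [1] (.lf 4)
  (.cons [0] (.lf 0)
  .nil))))
  (.cons [0] (.pl [] 0 (.cons [] (.lf 2)
  (.cons [1] (.lf 2)
  (.cons [0] (.lf 2)
  .nil))))
  .nil)))
  .nil))))
  .nil))))
  (.cons [6,1] (.pl [] 0 (.fx [0] (.cons [0,7,2] (.pl [] 0 (.cons [] (.pl [] 0 (.cons [] (.pl [] 0 (.bulk [([0], 0, 0)] [0x1, 0x201, 0x101] .nil))
  (.cons [0] (.pl [] 0 (.bulk [([0], 0, 0)] [0x1, 0x201, 0x101] .nil))
  .nil)))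
  (.cons [3] (.pl [] 0 (.cons [] (.pl [] 0 (.bulk [([0], 0, 0)] [0x1, 0x201, 0x101] .nil))
  (.cons [0] (.pl [] 0 (.bulk [([0], 0, 0)] [0x1, 0x201, 0x101] .nil))
  .nil)))
  (.cons [0] (.pl [] 0 (.cons [] (.pl [] 0 (.bulk [([0], 0, 0)] [0x1, 0x201, 0x101] .nil))
  (.cons [0] (.pl [] 0 (.bulk [([0], 0, 0)] [0x1, 0x201, 0x101] .nil))
  .nil)))
  .nil))))
  (.cons [7,1] (.pl [] 0 (.cons [] (.pl [] 0 (.cons [] (.pl [] 0 (.bulk [([0], 0, 0)] [0x1, 0x201, 0x101] .nil))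
  (.cons [0] (.pl [] 0 (.bulk [([0], 0, 0)] [0x1, 0x201, 0x101] .nil))
  .nil)))
  (.cons [3] (.pl [] 0 (.cons [] (.pl [] 0 (.bulk [([0], 0, 0)] [0x1, 0x201, 0x101] .nil))
  (.cons [0] (.pl [] 0 (.bulk [([0], 0, 0)] [0x1, 0x201, 0x101] .nil))
  .nil)))
  (.cons [0] (.pl [] 0 (.cons [] (.pl [] 0 (.bulk [([0], 0, 0)] [0x1, 0x201, 0x101] .nil))
  (.cons [0] (.pl [] 0 (.bulk [([0], 0, 0)] [0x1, 0x201, 0x101] .nil))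
  .nil)))
  .nil))))
  .nil))))
  (.cons [9,1] (.pl [] 0 (.fx [0] (.cons [1,2] (.pl [] 0 (.cons [] (.pl [] 0 (.cons [] (.pl [] 0 (.cons [] (.lf 2)
  (.cons [1] (.lf 2)
  (.cons [0] (.lf 2)
  .nil))))
  (.cons [0] (.pl [] 0 (.cons [] (.lf 2)
  (.cons [1] (.lf 2)
  (.cons [0] (.lf 2)
  .nil))))
  .nil)))
  (.cons [3] (.pl [] 0 (.cons [] (.pl [] 0 (.cons [] (.lf 2)
  (.cons [1] (.lf 2)
  (.cons [0] (.lf 2)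
  .nil))))
  (.cons [0] (.pl [] 0 (.cons [] (.lf 2)
  (.cons [1] (.lf 2)
  (.cons [0] (.lf 2)
  .nil))))
  .nil)))
  (.cons [0] (.pl [] 0 (.cons [] (.pl [] 0 (.cons [] (.lf 2)
  (.cons [1] (.lf 2)
  (.cons [0] (.lf 2)
  .nil))))
  (.cons [0] (.pl [] 0 (.cons [] (.lf 2)
  (.cons [1] (.lf 2)
  (.cons [0] (.lf 2)
  .nil))))
  .nil)))
  .nil))))
  (.cons [1,3] (.pl [] 0 (.cons [] (.pl [] 0 (.cons [] (.pl [] 0 (.cons [] (.lf 0)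
  (.cons [1] (.lf 0)
  (.cons [0] (.lf 4)
  .nil))))
  (.cons [0] (.pl [] 0 (.cons [] (.lf 2)
  (.cons [1] (.lf 2)
  (.cons [0] (.lf 2)
  .nil))))
  .nil)))
  (.cons [3] (.pl [] 0 (.cons [] (.pl [] 0 (.cons [] (.lf 0)
  (.cons [1] (.lf 0)
  (.cons [0] (.lf 4)
  .nil))))
  (.cons [0] (.pl [] 0 (.cons [] (.lf 2)
  (.cons [1] (.lf 2)
  (.cons [0] (.lf 2)
  .nil))))
  .nil)))
  (.cons [0] (.pl [] 0 (.cons [] (.pl [] 0 (.cons [] (.lf 2)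
  (.cons [1] (.lf 2)
  (.cons [0] (.lf 2)
  .nil))))
  (.cons [0] (.pl [] 0 (.cons [] (.lf 4)
  (.cons [1] (.lf 4)
  (.cons [0] (.lf 4)
  .nil))))
  .nil)))
  .nil))))
  .nil))))
  .nil))))))))
  .nil))))
theorem hy3 : Dd C [[36]] [[36]] Q (tl d) (lapp [] (subst (gsOf d) [0,0,8,1])) (full C.n) :=
  brY ty3 (step0 0).1 (step0 0).2.1 (by decide +kernel)

noncomputable def ty4 : Tr := (.pl [] 0 (.fx [0] (.cons [2,15,1] (.pl [] 0 (.fx [0] (.cons [0,6,3] (.pl [] 0 (.fx [0] (.cons [5,3] (.pl [] 0 (.cons [] (.pl [] 0 (.cons [] (.pl [] 0 (.bulk [([0], 0, 0)] [0x1, 0x201, 0x101] .nil))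
  (.cons [0] (.pl [] 0 (.bulk [([0], 0, 0)] [0x1, 0x201, 0x101] .nil))
  .nil)))
  (.cons [3] (.pl [] 0 (.cons [] (.pl [] 0 (.bulk [([0], 0, 0)] [0x1, 0x201, 0x101] .nil))
  (.cons [0] (.pl [] 0 (.bulk [([0], 0, 0)] [0x1, 0x201, 0x101] .nil))
  .nil)))
  (.cons [0] (.pl [] 0 (.cons [] (.pl [] 0 (.bulk [([0], 0, 0)] [0x1, 0x201, 0x101] .nil))
  (.cons [0] (.pl [] 0 (.bulk [([0], 0, 0)] [0x1, 0x201, 0x101] .nil))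
  .nil)))
  .nil))))
  (.cons [0,0] (.pl [] 0 (.cons [] (.pl [] 0 (.cons [] (.pl [] 0 (.bulk [([0], 0, 0)] [0x1, 0x201, 0x101] .nil))
  (.cons [0] (.pl [] 0 (.bulk [([0], 0, 0)] [0x1, 0x201, 0x101] .nil))
  .nil)))
  (.cons [3] (.pl [] 0 (.cons [] (.pl [] 0 (.bulk [([0], 0, 0)] [0x1, 0x201, 0x101] .nil))
  (.cons [0] (.pl [] 0 (.bulk [([0], 0, 0)] [0x1, 0x201, 0x101] .nil))
  .nil)))
  (.cons [0] (.pl [] 0 (.cons [] (.pl [] 0 (.bulk [([0], 0, 0)] [0x1, 0x201, 0x101] .nil))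
  (.cons [0] (.pl [] 0 (.bulk [([0], 0, 0)] [0x1, 0x201, 0x101] .nil))
  .nil)))
  .nil))))
  .nil))))
  (.cons [1,1] (.pl [] 0 (.fx [0] (.cons [5,3] (.pl [] 0 (.cons [] (.pl [] 0 (.cons [] (.pl [] 0 (.bulk [([0], 0, 0)] [0x1, 0x201, 0x101] .nil))
  (.cons [0] (.pl [] 0 (.bulk [([0], 0, 0)] [0x1, 0x201, 0x101] .nil))
  .nil)))
  (.cons [3] (.pl [] 0 (.cons [] (.pl [] 0 (.bulk [([0], 0, 0)] [0x1, 0x201, 0x101] .nil))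
  (.cons [0] (.pl [] 0 (.bulk [([0], 0, 0)] [0x1, 0x201, 0x101] .nil))
  .nil)))
  (.cons [0] (.pl [] 0 (.cons [] (.pl [] 0 (.bulk [([0], 0, 0)] [0x1, 0x201, 0x101] .nil))
  (.cons [0] (.pl [] 0 (.bulk [([0], 0, 0)] [0x1, 0x201, 0x101] .nil))
  .nil)))
  .nil))))
  (.cons [0,0] (.pl [] 0 (.cons [] (.pl [] 0 (.cons [] (.pl [] 0 (.bulk [([0], 0, 0)] [0x1, 0x201, 0x101] .nil))
  (.cons [0] (.pl [] 0 (.bulk [([0], 0, 0)] [0x1, 0x201, 0x101] .nil))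
  .nil)))
  (.cons [3] (.pl [] 0 (.cons [] (.pl [] 0 (.bulk [([0], 0, 0)] [0x1, 0x201, 0x101] .nil))
  (.cons [0] (.pl [] 0 (.bulk [([0], 0, 0)] [0x1, 0x201, 0x101] .nil))
  .nil)))
  (.cons [0] (.pl [] 0 (.cons [] (.pl [] 0 (.bulk [([0], 0, 0)] [0x1, 0x201, 0x101] .nil))
  (.cons [0] (.pl [] 0 (.bulk [([0], 0, 0)] [0x1, 0x201, 0x101] .nil))
  .nil)))
  .nil))))
  .nil))))
  (.cons [0] (.pl [] 0 (.fx [0] (.cons [0,0,2] (.pl [] 0 (.cons [] (.pl [] 0 (.cons [] (.pl [] 0 (.bulk [([0], 0, 0)] [0x1, 0x201, 0x101] .nil))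
  (.cons [0] (.pl [] 0 (.bulk [([0], 0, 0)] [0x1, 0x201, 0x101] .nil))
  .nil)))
  (.cons [3] (.pl [] 0 (.cons [] (.pl [] 0 (.bulk [([0], 0, 0)] [0x1, 0x201, 0x101] .nil))
  (.cons [0] (.pl [] 0 (.bulk [([0], 0, 0)] [0x1, 0x201, 0x101] .nil))
  .nil)))
  (.cons [0] (.pl [] 0 (.cons [] (.pl [] 0 (.bulk [([0], 0, 0)] [0x1, 0x201, 0x101] .nil))
  (.cons [0] (.pl [] 0 (.bulk [([0], 0, 0)] [0x1, 0x201, 0x101] .nil))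
  .nil)))
  .nil))))
  (.cons [4,1] (.pl [] 0 (.cons [] (.pl [] 0 (.cons [] (.pl [] 0 (.bulk [([0], 0, 0)] [0x1, 0x201, 0x101] .nil))
  (.cons [0] (.pl [] 0 (.bulk [([0], 0, 0)] [0x1, 0x201, 0x101] .nil))
  .nil)))
  (.cons [3] (.pl [] 0 (.cons [] (.pl [] 0 (.bulk [([0], 0, 0)] [0x1, 0x201, 0x101] .nil))
  (.cons [0] (.pl [] 0 (.bulk [([0], 0, 0)] [0x1, 0x201, 0x101] .nil))
  .nil)))
  (.cons [0] (.pl [] 0 (.cons [] (.pl [] 0 (.bulk [([0], 0, 0)] [0x1, 0x201, 0x101] .nil))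
  (.cons [0] (.pl [] 0 (.bulk [([0], 0, 0)] [0x1, 0x201, 0x101] .nil))
  .nil)))
  .nil))))
  .nil))))
  (.cons [10,1] (.pl [] 0 (.fx [0] (.cons [2] (.pl [] 0 (.cons [] (.pl [] 0 (.cons [] (.pl [] 0 (.cons [] (.lf 2)
  (.cons [1] (.lf 2)
  (.cons [0] (.lf 2)
  .nil))))
  (.cons [0] (.pl [] 0 (.cons [] (.lf 2)
  (.cons [1] (.lf 2)
  (.cons [0] (.lf 2)
  .nil))))
  .nil)))
  (.cons [3] (.pl [] 0 (.cons [] (.pl [] 0 (.cons [] (.lf 2)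
  (.cons [1] (.lf 2)
  (.cons [0] (.lf 2)
  .nil))))
  (.cons [0] (.pl [] 0 (.cons [] (.lf 2)
  (.cons [1] (.lf 2)
  (.cons [0] (.lf 2)
  .nil))))
  .nil)))
  (.cons [0] (.pl [] 0 (.cons [] (.pl [] 0 (.cons [] (.lf 2)
  (.cons [1] (.lf 2)
  (.cons [0] (.lf 2)
  .nil))))
  (.cons [0] (.pl [] 0 (.cons [] (.lf 4)
  (.cons [1] (.lf 4)
  (.cons [0] (.lf 4)
  .nil))))
  .nil)))
  .nil))))
  (.cons [3] (.pl [] 0 (.cons [] (.pl [] 0 (.cons [] (.pl [] 0 (.cons [] (.lf 2)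
  (.cons [1] (.lf 2)
  (.cons [0] (.lf 2)
  .nil))))
  (.cons [0] (.pl [] 0 (.cons [] (.lf 2)
  (.cons [1] (.lf 2)
  (.cons [0] (.lf 2)
  .nil))))
  .nil)))
  (.cons [3] (.pl [] 0 (.cons [] (.pl [] 0 (.cons [] (.lf 2)
  (.cons [1] (.lf 2)
  (.cons [0] (.lf 2)
  .nil))))
  (.cons [0] (.pl [] 0 (.cons [] (.lf 2)
  (.cons [1] (.lf 2)
  (.cons [0] (.lf 2)
  .nil))))
  .nil)))
  (.cons [0] (.pl [] 0 (.cons [] (.pl [] 0 (.cons [] (.lf 4)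
  (.cons [1] (.lf 0)
  (.cons [0] (.lf 4)
  .nil))))
  (.cons [0] (.pl [] 0 (.cons [] (.lf 2)
  (.cons [1] (.lf 2)
  (.cons [0] (.lf 2)
  .nil))))
  .nil)))
  .nil))))
  .nil))))
  (.cons [1,8,3] (.pl [] 0 (.fx [0] (.cons [6,1] (.pl [] 0 (.cons [] (.pl [] 0 (.cons [] (.pl [] 0 (.cons [] (.lf 2)
  (.cons [1] (.lf 2)
  (.cons [0] (.lf 2)
  .nil))))
  (.cons [0] (.pl [] 0 (.cons [] (.lf 2)
  (.cons [1] (.lf 2)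
  (.cons [0] (.lf 2)
  .nil))))
  .nil)))
  (.cons [3] (.pl [] 0 (.cons [] (.pl [] 0 (.cons [] (.lf 4)
  (.cons [1] (.lf 4)
  (.cons [0] (.lf 6)
  .nil))))
  (.cons [0] (.pl [] 0 (.cons [] (.lf 2)
  (.cons [1] (.lf 2)
  (.cons [0] (.lf 2)
  .nil))))
  .nil)))
  (.cons [0] (.pl [] 0 (.cons [] (.pl [] 0 (.cons [] (.lf 2)
  (.cons [1] (.lf 2)
  (.cons [0] (.lf 2)
  .nil))))
  (.cons [0] (.pl [] 0 (.cons [] (.lf 2)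
  (.cons [1] (.lf 2)
  (.cons [0] (.lf 2)
  .nil))))
  .nil)))
  .nil))))
  (.cons [0,7,0] (.pl [] 0 (.cons [] (.pl [] 0 (.cons [] (.pl [] 0 (.cons [] (.lf 2)
  (.cons [1] (.lf 2)
  (.cons [0] (.lf 2)
  .nil))))
  (.cons [0] (.pl [] 0 (.cons [] (.lf 0)
  (.cons [1] (.lf 4)
  (.cons [0] (.lf 0)
  .nil))))
  .nil)))
  (.cons [3] (.pl [] 0 (.cons [] (.pl [] 0 (.cons [] (.lf 2)
  (.cons [1] (.lf 2)
  (.cons [0] (.lf 2)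
  .nil))))
  (.cons [0] (.pl [] 0 (.cons [] (.lf 2)
  (.cons [1] (.lf 2)
  (.cons [0] (.lf 2)
  .nil))))
  .nil)))
  (.cons [0] (.pl [] 0 (.cons [] (.pl [] 0 (.cons [] (.lf 2)
  (.cons [1] (.lf 2)
  (.cons [0] (.lf 2)
  .nil))))
  (.cons [0] (.pl [] 0 (.cons [] (.lf 2)
  (.cons [1] (.lf 2)
  (.cons [0] (.lf 2)
  .nil))))
  .nil)))
  .nil))))
  .nil))))
  (.cons [0,4,0] (.pl [] 0 (.fx [0] (.cons [0,8,2] (.pl [] 0 (.cons [] (.pl [] 0 (.cons [] (.pl [] 0 (.cons [] (.lf 2)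
  (.cons [1] (.lf 2)
  (.cons [0] (.lf 2)
  .nil))))
  (.cons [0] (.pl [] 0 (.cons [] (.lf 2)
  (.cons [1] (.lf 2)
  (.cons [0] (.lf 2)
  .nil))))
  .nil)))
  (.cons [3] (.pl [] 0 (.cons [] (.pl [] 0 (.cons [] (.lf 2)
  (.cons [1] (.lf 2)
  (.cons [0] (.lf 2)
  .nil))))
  (.cons [0] (.pl [] 0 (.cons [] (.lf 4)
  (.cons [1] (.lf 4)
  (.cons [0] (.lf 4)
  .nil))))
  .nil)))
  (.cons [0] (.pl [] 0 (.cons [] (.pl [] 0 (.cons [] (.lf 2)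
  (.cons [1] (.lf 2)
  (.cons [0] (.lf 2)
  .nil))))
  (.cons [0] (.pl [] 0 (.cons [] (.lf 2)
  (.cons [1] (.lf 2)
  (.cons [0] (.lf 2)
  .nil))))
  .nil)))
  .nil))))
  (.cons [1] (.pl [] 0 (.cons [] (.pl [] 0 (.cons [] (.pl [] 0 (.cons [] (.lf 2)
  (.cons [1] (.lf 2)
  (.cons [0] (.lf 2)
  .nil))))
  (.cons [0] (.pl [] 0 (.cons [] (.lf 2)
  (.cons [1] (.lf 2)
  (.cons [0] (.lf 2)
  .nil))))
  .nil)))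
  (.cons [3] (.pl [] 0 (.cons [] (.pl [] 0 (.cons [] (.lf 2)
  (.cons [1] (.lf 2)
  (.cons [0] (.lf 2)
  .nil))))
  (.cons [0] (.pl [] 0 (.cons [] (.lf 2)
  (.cons [1] (.lf 2)
  (.cons [0] (.lf 2)
  .nil))))
  .nil)))
  (.cons [0] (.pl [] 0 (.cons [] (.pl [] 0 (.cons [] (.lf 4)
  (.cons [1] (.lf 4)
  (.cons [0] (.lf 4)
  .nil))))
  (.cons [0] (.pl [] 0 (.cons [] (.lf 2)
  (.cons [1] (.lf 2)
  (.cons [0] (.lf 2)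
  .nil))))
  .nil)))
  .nil))))
  .nil))))
  .nil))))))))
  (.cons [6,5,2] (.pl [] 0 (.fx [0] (.cons [0,11,1] (.pl [] 0 (.fx [0] (.cons [0,2,2] (.pl [] 0 (.cons [] (.pl [] 0 (.cons [] (.pl [] 0 (.cons [] (.lf 2)
  (.cons [1] (.lf 2)
  (.cons [0] (.lf 2)
  .nil))))
  (.cons [0] (.pl [] 0 (.cons [] (.lf 2)
  (.cons [1] (.lf 2)
  (.cons [0] (.lf 2)
  .nil))))
  .nil)))
  (.cons [3] (.pl [] 0 (.cons [] (.pl [] 0 (.cons [] (.lf 2)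
  (.cons [1] (.lf 2)
  (.cons [0] (.lf 2)
  .nil))))
  (.cons [0] (.pl [] 0 (.cons [] (.lf 11)
  (.cons [1] (.lf 0)
  (.cons [0] (.lf 4)
  .nil))))
  .nil)))
  (.cons [0] (.pl [] 0 (.cons [] (.pl [] 0 (.cons [] (.lf 2)
  (.cons [1] (.lf 2)
  (.cons [0] (.lf 2)
  .nil))))
  (.cons [0] (.pl [] 0 (.cons [] (.lf 2)
  (.cons [1] (.lf 2)
  (.cons [0] (.lf 2)
  .nil))))
  .nil)))
  .nil))))
  (.cons [0] (.pl [] 0 (.cons [] (.pl [] 0 (.cons [] (.pl [] 0 (.cons [] (.lf 2)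
  (.cons [1] (.lf 2)
  (.cons [0] (.lf 2)
  .nil))))
  (.cons [0] (.pl [] 0 (.cons [] (.lf 2)
  (.cons [1] (.lf 2)
  (.cons [0] (.lf 2)
  .nil))))
  .nil)))
  (.cons [3] (.pl [] 0 (.cons [] (.pl [] 0 (.cons [] (.lf 0)
  (.cons [1] (.lf 4)
  (.cons [0] (.lf 19)
  .nil))))
  (.cons [0] (.pl [] 0 (.cons [] (.lf 2)
  (.cons [1] (.lf 2)
  (.cons [0] (.lf 2)
  .nil))))
  .nil)))
  (.cons [0] (.pl [] 0 (.cons [] (.pl [] 0 (.cons [] (.lf 2)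
  (.cons [1] (.lf 2)
  (.cons [0] (.lf 2)
  .nil))))
  (.cons [0] (.pl [] 0 (.cons [] (.lf 2)
  (.cons [1] (.lf 2)
  (.cons [0] (.lf 2)
  .nil))))
  .nil)))
  .nil))))
  .nil))))
  (.cons [0,0,2] (.pl [] 0 (.fx [0] (.cons [1,1] (.pl [] 0 (.cons [] (.pl [] 0 (.cons [] (.pl [] 0 (.bulk [([0], 0, 0)] [0x1, 0x201, 0x101] .nil))
  (.cons [0] (.pl [] 0 (.bulk [([0], 0, 0)] [0x1, 0x201, 0x101] .nil))
  .nil)))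
  (.cons [3] (.pl [] 0 (.cons [] (.pl [] 0 (.bulk [([0], 0, 0)] [0x1, 0x201, 0x101] .nil))
  (.cons [0] (.pl [] 0 (.bulk [([0], 0, 0)] [0x1, 0x201, 0x101] .nil))
  .nil)))
  (.cons [0] (.pl [] 0 (.cons [] (.pl [] 0 (.bulk [([0], 0, 0)] [0x1, 0x201, 0x101] .nil))
  (.cons [0] (.pl [] 0 (.bulk [([0], 0, 0)] [0x1, 0x201, 0x101] .nil))
  .nil)))
  .nil))))
  (.cons [8,2] (.pl [] 0 (.cons [] (.pl [] 0 (.cons [] (.pl [] 0 (.bulk [([0], 0, 0)] [0x1, 0x201, 0x101] .nil))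
  (.cons [0] (.pl [] 0 (.bulk [([0], 0, 0)] [0x1, 0x201, 0x101] .nil))
  .nil)))
  (.cons [3] (.pl [] 0 (.cons [] (.pl [] 0 (.bulk [([0], 0, 0)] [0x1, 0x201, 0x101] .nil))
  (.cons [0] (.pl [] 0 (.bulk [([0], 0, 0)] [0x1, 0x201, 0x101] .nil))
  .nil)))
  (.cons [0] (.pl [] 0 (.cons [] (.pl [] 0 (.bulk [([0], 0, 0)] [0x1, 0x201, 0x101] .nil))
  (.cons [0] (.pl [] 0 (.bulk [([0], 0, 0)] [0x1, 0x201, 0x101] .nil))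
  .nil)))
  .nil))))
  .nil))))
  (.cons [0,6,3] (.pl [] 0 (.fx [0] (.cons [7,0] (.pl [] 0 (.cons [] (.pl [] 0 (.cons [] (.pl [] 0 (.cons [] (.lf 2)
  (.cons [1] (.lf 2)
  (.cons [0] (.lf 2)
  .nil))))
  (.cons [0] (.pl [] 0 (.cons [] (.lf 2)
  (.cons [1] (.lf 2)
  (.cons [0] (.lf 2)
  .nil))))
  .nil)))
  (.cons [3] (.pl [] 0 (.cons [] (.pl [] 0 (.cons [] (.lf 2)
  (.cons [1] (.lf 2)
  (.cons [0] (.lf 2)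
  .nil))))
  (.cons [0] (.pl [] 0 (.cons [] (.lf 2)
  (.cons [1] (.lf 2)
  (.cons [0] (.lf 2)
  .nil))))
  .nil)))
  (.cons [0] (.pl [] 0 (.cons [] (.pl [] 0 (.cons [] (.lf 2)
  (.cons [1] (.lf 2)
  (.cons [0] (.lf 2)
  .nil))))
  (.cons [0] (.pl [] 0 (.cons [] (.lf 4)
  (.cons [1] (.lf 0)
  (.cons [0] (.lf 0)
  .nil))))
  .nil)))
  .nil))))
  (.cons [1,6,1] (.pl [] 0 (.cons [] (.pl [] 0 (.cons [] (.pl [] 0 (.cons [] (.lf 2)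
  (.cons [1] (.lf 2)
  (.cons [0] (.lf 2)
  .nil))))
  (.cons [0] (.pl [] 0 (.cons [] (.lf 2)
  (.cons [1] (.lf 2)
  (.cons [0] (.lf 2)
  .nil))))
  .nil)))
  (.cons [3] (.pl [] 0 (.cons [] (.pl [] 0 (.cons [] (.lf 2)
  (.cons [1] (.lf 2)
  (.cons [0] (.lf 2)
  .nil))))
  (.cons [0] (.pl [] 0 (.cons [] (.lf 2)
  (.cons [1] (.lf 2)
  (.cons [0] (.lf 2)
  .nil))))
  .nil)))
  (.cons [0] (.pl [] 0 (.cons [] (.pl [] 0 (.cons [] (.lf 4)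
  (.cons [1] (.lf 4)
  (.cons [0] (.lf 4)
  .nil))))
  (.cons [0] (.pl [] 0 (.cons [] (.lf 2)
  (.cons [1] (.lf 2)
  (.cons [0] (.lf 2)
  .nil))))
  .nil)))
  .nil))))
  .nil))))
  (.cons [11,2] (.pl [] 0 (.fx [0] (.cons [0,8,2] (.pl [] 0 (.cons [] (.pl [] 0 (.cons [] (.pl [] 0 (.cons [] (.lf 4)
  (.cons [1] (.lf 4)
  (.cons [0] (.lf 4)
  .nil))))
  (.cons [0] (.pl [] 0 (.cons [] (.lf 2)
  (.cons [1] (.lf 2)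
  (.cons [0] (.lf 2)
  .nil))))
  .nil)))
  (.cons [3] (.pl [] 0 (.cons [] (.pl [] 0 (.cons [] (.lf 2)
  (.cons [1] (.lf 2)
  (.cons [0] (.lf 2)
  .nil))))
  (.cons [0] (.pl [] 0 (.cons [] (.lf 2)
  (.cons [1] (.lf 2)
  (.cons [0] (.lf 2)
  .nil))))
  .nil)))
  (.cons [0] (.pl [] 0 (.cons [] (.pl [] 0 (.cons [] (.lf 2)
  (.cons [1] (.lf 2)
  (.cons [0] (.lf 2)
  .nil))))
  (.cons [0] (.pl [] 0 (.cons [] (.lf 2)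
  (.cons [1] (.lf 2)
  (.cons [0] (.lf 2)
  .nil))))
  .nil)))
  .nil))))
  (.cons [1] (.pl [] 0 (.cons [] (.pl [] 0 (.cons [] (.pl [] 0 (.cons [] (.lf 2)
  (.cons [1] (.lf 2)
  (.cons [0] (.lf 2)
  .nil))))
  (.cons [0] (.pl [] 0 (.cons [] (.lf 2)
  (.cons [1] (.lf 2)
  (.cons [0] (.lf 2)
  .nil))))
  .nil)))
  (.cons [3] (.pl [] 0 (.cons [] (.pl [] 0 (.cons [] (.lf 2)
  (.cons [1] (.lf 2)
  (.cons [0] (.lf 2)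
  .nil))))
  (.cons [0] (.pl [] 0 (.cons [] (.lf 2)
  (.cons [1] (.lf 2)
  (.cons [0] (.lf 2)
  .nil))))
  .nil)))
  (.cons [0] (.pl [] 0 (.cons [] (.pl [] 0 (.cons [] (.lf 2)
  (.cons [1] (.lf 2)
  (.cons [0] (.lf 2)
  .nil))))
  (.cons [0] (.pl [] 0 (.cons [] (.lf 0)
  (.cons [1] (.lf 4)
  (.cons [0] (.lf 0)
  .nil))))
  .nil)))
  .nil))))
  .nil))))
  (.cons [4,3] (.pl [] 0 (.fx [0] (.cons [1,1] (.pl [] 0 (.cons [] (.pl [] 0 (.cons [] (.pl [] 0 (.bulk [([0], 0, 0)] [0x1, 0x201, 0x101] .nil))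
  (.cons [0] (.pl [] 0 (.bulk [([0], 0, 0)] [0x1, 0x201, 0x101] .nil))
  .nil)))
  (.cons [3] (.pl [] 0 (.cons [] (.pl [] 0 (.bulk [([0], 0, 0)] [0x1, 0x201, 0x101] .nil))
  (.cons [0] (.pl [] 0 (.bulk [([0], 0, 0)] [0x1, 0x201, 0x101] .nil))
  .nil)))
  (.cons [0] (.pl [] 0 (.cons [] (.pl [] 0 (.bulk [([0], 0, 0)] [0x1, 0x201, 0x101] .nil))
  (.cons [0] (.pl [] 0 (.bulk [([0], 0, 0)] [0x1, 0x201, 0x101] .nil))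
  .nil)))
  .nil))))
  (.cons [8,2] (.pl [] 0 (.cons [] (.pl [] 0 (.cons [] (.pl [] 0 (.bulk [([0], 0, 0)] [0x1, 0x201, 0x101] .nil))
  (.cons [0] (.pl [] 0 (.bulk [([0], 0, 0)] [0x1, 0x201, 0x101] .nil))
  .nil)))
  (.cons [3] (.pl [] 0 (.cons [] (.pl [] 0 (.bulk [([0], 0, 0)] [0x1, 0x201, 0x101] .nil))
  (.cons [0] (.pl [] 0 (.bulk [([0], 0, 0)] [0x1, 0x201, 0x101] .nil))
  .nil)))
  (.cons [0] (.pl [] 0 (.cons [] (.pl [] 0 (.bulk [([0], 0, 0)] [0x1, 0x201, 0x101] .nil))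
  (.cons [0] (.pl [] 0 (.bulk [([0], 0, 0)] [0x1, 0x201, 0x101] .nil))
  .nil)))
  .nil))))
  .nil))))
  (.cons [0,4,0] (.pl [] 0 (.fx [0] (.cons [7,0] (.pl [] 0 (.cons [] (.pl [] 0 (.cons [] (.pl [] 0 (.bulk [([0], 0, 0)] [0x1, 0x201, 0x101] .nil))
  (.cons [0] (.pl [] 0 (.bulk [([0], 0, 0)] [0x1, 0x201, 0x101] .nil))
  .nil)))
  (.cons [3] (.pl [] 0 (.cons [] (.pl [] 0 (.bulk [([0], 0, 0)] [0x1, 0x201, 0x101] .nil))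
  (.cons [0] (.pl [] 0 (.bulk [([0], 0, 0)] [0x1, 0x201, 0x101] .nil))
  .nil)))
  (.cons [0] (.pl [] 0 (.cons [] (.pl [] 0 (.bulk [([0], 0, 0)] [0x1, 0x201, 0x101] .nil))
  (.cons [0] (.pl [] 0 (.bulk [([0], 0, 0)] [0x1, 0x201, 0x101] .nil))
  .nil)))
  .nil))))
  (.cons [1,6,1] (.pl [] 0 (.cons [] (.pl [] 0 (.cons [] (.pl [] 0 (.bulk [([0], 0, 0)] [0x1, 0x201, 0x101] .nil))
  (.cons [0] (.pl [] 0 (.bulk [([0], 0, 0)] [0x1, 0x201, 0x101] .nil))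
  .nil)))
  (.cons [3] (.pl [] 0 (.cons [] (.pl [] 0 (.bulk [([0], 0, 0)] [0x1, 0x201, 0x101] .nil))
  (.cons [0] (.pl [] 0 (.bulk [([0], 0, 0)] [0x1, 0x201, 0x101] .nil))
  .nil)))
  (.cons [0] (.pl [] 0 (.cons [] (.pl [] 0 (.bulk [([0], 0, 0)] [0x1, 0x201, 0x101] .nil))
  (.cons [0] (.pl [] 0 (.bulk [([0], 0, 0)] [0x1, 0x201, 0x101] .nil))
  .nil)))
  .nil))))
  .nil))))
  .nil))))))))
  .nil))))
theorem hy4 : Dd C [[36]] [[36]] Q (tl d) (lapp [] (subst (gsOf d) [0,4,16,2])) (full C.n) :=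
  brY ty4 (step0 0).1 (step0 0).2.1 (by decide +kernel)

noncomputable def ty5 : Tr := (.pl [] 0 (.fx [0] (.cons [1,10,0] (.pl [] 0 (.fx [0] (.cons [0,11,1] (.pl [] 0 (.fx [0] (.cons [0,8,2] (.pl [] 0 (.cons [] (.pl [] 0 (.cons [] (.pl [] 0 (.bulk [([0], 0, 0)] [0x1, 0x201, 0x101] .nil))
  (.cons [0] (.pl [] 0 (.bulk [([0], 0, 0)] [0x1, 0x201, 0x101] .nil))
  .nil)))
  (.cons [3] (.pl [] 0 (.cons [] (.pl [] 0 (.bulk [([0], 0, 0)] [0x1, 0x201, 0x101] .nil))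
  (.cons [0] (.pl [] 0 (.bulk [([0], 0, 0)] [0x1, 0x201, 0x101] .nil))
  .nil)))
  (.cons [0] (.pl [] 0 (.cons [] (.pl [] 0 (.bulk [([0], 0, 0)] [0x1, 0x201, 0x101] .nil))
  (.cons [0] (.pl [] 0 (.bulk [([0], 0, 0)] [0x1, 0x201, 0x101] .nil))
  .nil)))
  .nil))))
  (.cons [1] (.pl [] 0 (.cons [] (.pl [] 0 (.cons [] (.pl [] 0 (.bulk [([0], 0, 0)] [0x1, 0x201, 0x101] .nil))
  (.cons [0] (.pl [] 0 (.bulk [([0], 0, 0)] [0x1, 0x201, 0x101] .nil))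
  .nil)))
  (.cons [3] (.pl [] 0 (.cons [] (.pl [] 0 (.bulk [([0], 0, 0)] [0x1, 0x201, 0x101] .nil))
  (.cons [0] (.pl [] 0 (.bulk [([0], 0, 0)] [0x1, 0x201, 0x101] .nil))
  .nil)))
  (.cons [0] (.pl [] 0 (.cons [] (.pl [] 0 (.bulk [([0], 0, 0)] [0x1, 0x201, 0x101] .nil))
  (.cons [0] (.pl [] 0 (.bulk [([0], 0, 0)] [0x1, 0x201, 0x101] .nil))
  .nil)))
  .nil))))
  .nil))))
  (.cons [13,1] (.pl [] 0 (.fx [0] (.cons [0,2] (.pl [] 0 (.cons [] (.pl [] 0 (.cons [] (.pl [] 0 (.cons [] (.lf 2)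
  (.cons [1] (.lf 2)
  (.cons [0] (.lf 2)
  .nil))))
  (.cons [0] (.pl [] 0 (.cons [] (.lf 2)
  (.cons [1] (.lf 2)
  (.cons [0] (.lf 2)
  .nil))))
  .nil)))
  (.cons [3] (.pl [] 0 (.cons [] (.pl [] 0 (.cons [] (.lf 0)
  (.cons [1] (.lf 4)
  (.cons [0] (.lf 0)
  .nil))))
  (.cons [0] (.pl [] 0 (.cons [] (.lf 2)
  (.cons [1] (.lf 2)
  (.cons [0] (.lf 2)
  .nil))))
  .nil)))
  (.cons [0] (.pl [] 0 (.cons [] (.pl [] 0 (.cons [] (.lf 2)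
  (.cons [1] (.lf 2)
  (.cons [0] (.lf 2)
  .nil))))
  (.cons [0] (.pl [] 0 (.cons [] (.lf 2)
  (.cons [1] (.lf 2)
  (.cons [0] (.lf 2)
  .nil))))
  .nil)))
  .nil))))
  (.cons [0,3] (.pl [] 0 (.cons [] (.pl [] 0 (.cons [] (.pl [] 0 (.cons [] (.lf 2)
  (.cons [1] (.lf 2)
  (.cons [0] (.lf 2)
  .nil))))
  (.cons [0] (.pl [] 0 (.cons [] (.lf 2)
  (.cons [1] (.lf 2)
  (.cons [0] (.lf 2)
  .nil))))
  .nil)))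
  (.cons [3] (.pl [] 0 (.cons [] (.pl [] 0 (.cons [] (.lf 2)
  (.cons [1] (.lf 2)
  (.cons [0] (.lf 2)
  .nil))))
  (.cons [0] (.pl [] 0 (.cons [] (.lf 4)
  (.cons [1] (.lf 68)
  (.cons [0] (.lf 0)
  .nil))))
  .nil)))
  (.cons [0] (.pl [] 0 (.cons [] (.pl [] 0 (.cons [] (.lf 2)
  (.cons [1] (.lf 2)
  (.cons [0] (.lf 2)
  .nil))))
  (.cons [0] (.pl [] 0 (.cons [] (.lf 2)
  (.cons [1] (.lf 2)
  (.cons [0] (.lf 2)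
  .nil))))
  .nil)))
  .nil))))
  .nil))))
  (.cons [] (.pl [] 0 (.fx [0] (.cons [0,2] (.pl [] 0 (.cons [] (.pl [] 0 (.cons [] (.pl [] 0 (.bulk [([0], 0, 0)] [0x1, 0x201, 0x101] .nil))
  (.cons [0] (.pl [] 0 (.bulk [([0], 0, 0)] [0x1, 0x201, 0x101] .nil))
  .nil)))
  (.cons [3] (.pl [] 0 (.cons [] (.pl [] 0 (.bulk [([0], 0, 0)] [0x1, 0x201, 0x101] .nil))
  (.cons [0] (.pl [] 0 (.bulk [([0], 0, 0)] [0x1, 0x201, 0x101] .nil))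
  .nil)))
  (.cons [0] (.pl [] 0 (.cons [] (.pl [] 0 (.bulk [([0], 0, 0)] [0x1, 0x201, 0x101] .nil))
  (.cons [0] (.pl [] 0 (.bulk [([0], 0, 0)] [0x1, 0x201, 0x101] .nil))
  .nil)))
  .nil))))
  (.cons [0,3] (.pl [] 0 (.cons [] (.pl [] 0 (.cons [] (.pl [] 0 (.bulk [([0], 0, 0)] [0x1, 0x201, 0x101] .nil))
  (.cons [0] (.pl [] 0 (.bulk [([0], 0, 0)] [0x1, 0x201, 0x101] .nil))
  .nil)))
  (.cons [3] (.pl [] 0 (.cons [] (.pl [] 0 (.bulk [([0], 0, 0)] [0x1, 0x201, 0x101] .nil))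
  (.cons [0] (.pl [] 0 (.bulk [([0], 0, 0)] [0x1, 0x201, 0x101] .nil))
  .nil)))
  (.cons [0] (.pl [] 0 (.cons [] (.pl [] 0 (.bulk [([0], 0, 0)] [0x1, 0x201, 0x101] .nil))
  (.cons [0] (.pl [] 0 (.bulk [([0], 0, 0)] [0x1, 0x201, 0x101] .nil))
  .nil)))
  .nil))))
  .nil))))
  (.cons [0] (.pl [] 0 (.fx [0] (.cons [0,8,2] (.pl [] 0 (.cons [] (.pl [] 0 (.cons [] (.pl [] 0 (.cons [] (.lf 2)
  (.cons [1] (.lf 2)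
  (.cons [0] (.lf 2)
  .nil))))
  (.cons [0] (.pl [] 0 (.cons [] (.lf 4)
  (.cons [1] (.lf 17)
  (.cons [0] (.lf 0)
  .nil))))
  .nil)))
  (.cons [3] (.pl [] 0 (.cons [] (.pl [] 0 (.cons [] (.lf 2)
  (.cons [1] (.lf 2)
  (.cons [0] (.lf 2)
  .nil))))
  (.cons [0] (.pl [] 0 (.cons [] (.lf 2)
  (.cons [1] (.lf 2)
  (.cons [0] (.lf 2)
  .nil))))
  .nil)))
  (.cons [0] (.pl [] 0 (.cons [] (.pl [] 0 (.cons [] (.lf 2)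
  (.cons [1] (.lf 2)
  (.cons [0] (.lf 2)
  .nil))))
  (.cons [0] (.pl [] 0 (.cons [] (.lf 2)
  (.cons [1] (.lf 2)
  (.cons [0] (.lf 2)
  .nil))))
  .nil)))
  .nil))))
  (.cons [1] (.pl [] 0 (.cons [] (.pl [] 0 (.cons [] (.pl [] 0 (.cons [] (.lf 2)
  (.cons [1] (.lf 2)
  (.cons [0] (.lf 2)
  .nil))))
  (.cons [0] (.pl [] 0 (.cons [] (.lf 2)
  (.cons [1] (.lf 2)
  (.cons [0] (.lf 2)
  .nil))))
  .nil)))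
  (.cons [3] (.pl [] 0 (.cons [] (.pl [] 0 (.cons [] (.lf 2)
  (.cons [1] (.lf 2)
  (.cons [0] (.lf 2)
  .nil))))
  (.cons [0] (.pl [] 0 (.cons [] (.lf 2)
  (.cons [1] (.lf 2)
  (.cons [0] (.lf 2)
  .nil))))
  .nil)))
  (.cons [0] (.pl [] 0 (.cons [] (.pl [] 0 (.cons [] (.lf 4)
  (.cons [1] (.lf 68)
  (.cons [0] (.lf 4)
  .nil))))
  (.cons [0] (.pl [] 0 (.cons [] (.lf 2)
  (.cons [1] (.lf 2)
  (.cons [0] (.lf 2)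
  .nil))))
  .nil)))
  .nil))))
  .nil))))
  (.cons [8,1] (.pl [] 0 (.fx [0] (.cons [0,8,2] (.pl [] 0 (.cons [] (.pl [] 0 (.cons [] (.pl [] 0 (.cons [] (.lf 2)
  (.cons [1] (.lf 2)
  (.cons [0] (.lf 2)
  .nil))))
  (.cons [0] (.pl [] 0 (.cons [] (.lf 4)
  (.cons [1] (.lf 4)
  (.cons [0] (.lf 68)
  .nil))))
  .nil)))
  (.cons [3] (.pl [] 0 (.cons [] (.pl [] 0 (.cons [] (.lf 2)
  (.cons [1] (.lf 2)
  (.cons [0] (.lf 2)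
  .nil))))
  (.cons [0] (.pl [] 0 (.cons [] (.lf 2)
  (.cons [1] (.lf 2)
  (.cons [0] (.lf 2)
  .nil))))
  .nil)))
  (.cons [0] (.pl [] 0 (.cons [] (.pl [] 0 (.cons [] (.lf 2)
  (.cons [1] (.lf 2)
  (.cons [0] (.lf 2)
  .nil))))
  (.cons [0] (.pl [] 0 (.cons [] (.lf 2)
  (.cons [1] (.lf 2)
  (.cons [0] (.lf 2)
  .nil))))
  .nil)))
  .nil))))
  (.cons [1] (.pl [] 0 (.cons [] (.pl [] 0 (.cons [] (.pl [] 0 (.cons [] (.lf 2)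
  (.cons [1] (.lf 2)
  (.cons [0] (.lf 2)
  .nil))))
  (.cons [0] (.pl [] 0 (.cons [] (.lf 4)
  (.cons [1] (.lf 4)
  (.cons [0] (.lf 4)
  .nil))))
  .nil)))
  (.cons [3] (.pl [] 0 (.cons [] (.pl [] 0 (.cons [] (.lf 2)
  (.cons [1] (.lf 2)
  (.cons [0] (.lf 2)
  .nil))))
  (.cons [0] (.pl [] 0 (.cons [] (.lf 2)
  (.cons [1] (.lf 2)
  (.cons [0] (.lf 2)
  .nil))))
  .nil)))
  (.cons [0] (.pl [] 0 (.cons [] (.pl [] 0 (.cons [] (.lf 2)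
  (.cons [1] (.lf 2)
  (.cons [0] (.lf 2)
  .nil))))
  (.cons [0] (.pl [] 0 (.cons [] (.lf 2)
  (.cons [1] (.lf 2)
  (.cons [0] (.lf 2)
  .nil))))
  .nil)))
  .nil))))
  .nil))))
  (.cons [0,0] (.pl [] 0 (.fx [0] (.cons [6,1] (.pl [] 0 (.cons [] (.pl [] 0 (.cons [] (.pl [] 0 (.bulk [([0], 0, 0)] [0x1, 0x201, 0x101] .nil))
  (.cons [0] (.pl [] 0 (.bulk [([0], 0, 0)] [0x1, 0x201, 0x101] .nil))
  .nil)))
  (.cons [3] (.pl [] 0 (.cons [] (.pl [] 0 (.bulk [([0], 0, 0)] [0x1, 0x201, 0x101] .nil))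
  (.cons [0] (.pl [] 0 (.bulk [([0], 0, 0)] [0x1, 0x201, 0x101] .nil))
  .nil)))
  (.cons [0] (.pl [] 0 (.cons [] (.pl [] 0 (.bulk [([0], 0, 0)] [0x1, 0x201, 0x101] .nil))
  (.cons [0] (.pl [] 0 (.bulk [([0], 0, 0)] [0x1, 0x201, 0x101] .nil))
  .nil)))
  .nil))))
  (.cons [0,7,0] (.pl [] 0 (.cons [] (.pl [] 0 (.cons [] (.pl [] 0 (.bulk [([0], 0, 0)] [0x1, 0x201, 0x101] .nil))
  (.cons [0] (.pl [] 0 (.bulk [([0], 0, 0)] [0x1, 0x201, 0x101] .nil))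
  .nil)))
  (.cons [3] (.pl [] 0 (.cons [] (.pl [] 0 (.bulk [([0], 0, 0)] [0x1, 0x201, 0x101] .nil))
  (.cons [0] (.pl [] 0 (.bulk [([0], 0, 0)] [0x1, 0x201, 0x101] .nil))
  .nil)))
  (.cons [0] (.pl [] 0 (.cons [] (.pl [] 0 (.bulk [([0], 0, 0)] [0x1, 0x201, 0x101] .nil))
  (.cons [0] (.pl [] 0 (.bulk [([0], 0, 0)] [0x1, 0x201, 0x101] .nil))
  .nil)))
  .nil))))
  .nil))))
  .nil))))))))
  (.cons [0,13,3] (.pl [] 0 (.fx [0] (.cons [0,11,1] (.pl [] 0 (.fx [0] (.cons [0,8,2] (.pl [] 0 (.cons [] (.pl [] 0 (.cons [] (.pl [] 0 (.bulk [([0], 0, 0)] [0x1, 0x201, 0x101] .nil))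
  (.cons [0] (.pl [] 0 (.bulk [([0], 0, 0)] [0x1, 0x201, 0x101] .nil))
  .nil)))
  (.cons [3] (.pl [] 0 (.cons [] (.pl [] 0 (.bulk [([0], 0, 0)] [0x1, 0x201, 0x101] .nil))
  (.cons [0] (.pl [] 0 (.bulk [([0], 0, 0)] [0x1, 0x201, 0x101] .nil))
  .nil)))
  (.cons [0] (.pl [] 0 (.cons [] (.pl [] 0 (.bulk [([0], 0, 0)] [0x1, 0x201, 0x101] .nil))
  (.cons [0] (.pl [] 0 (.bulk [([0], 0, 0)] [0x1, 0x201, 0x101] .nil))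
  .nil)))
  .nil))))
  (.cons [1] (.pl [] 0 (.cons [] (.pl [] 0 (.cons [] (.pl [] 0 (.bulk [([0], 0, 0)] [0x1, 0x201, 0x101] .nil))
  (.cons [0] (.pl [] 0 (.bulk [([0], 0, 0)] [0x1, 0x201, 0x101] .nil))
  .nil)))
  (.cons [3] (.pl [] 0 (.cons [] (.pl [] 0 (.bulk [([0], 0, 0)] [0x1, 0x201, 0x101] .nil))
  (.cons [0] (.pl [] 0 (.bulk [([0], 0, 0)] [0x1, 0x201, 0x101] .nil))
  .nil)))
  (.cons [0] (.pl [] 0 (.cons [] (.pl [] 0 (.bulk [([0], 0, 0)] [0x1, 0x201, 0x101] .nil))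
  (.cons [0] (.pl [] 0 (.bulk [([0], 0, 0)] [0x1, 0x201, 0x101] .nil))
  .nil)))
  .nil))))
  .nil))))
  (.cons [13,1] (.pl [] 0 (.fx [0] (.cons [0,2] (.pl [] 0 (.cons [] (.pl [] 0 (.cons [] (.pl [] 0 (.cons [] (.lf 2)
  (.cons [1] (.lf 2)
  (.cons [0] (.lf 2)
  .nil))))
  (.cons [0] (.pl [] 0 (.cons [] (.lf 2)
  (.cons [1] (.lf 2)
  (.cons [0] (.lf 2)
  .nil))))
  .nil)))
  (.cons [3] (.pl [] 0 (.cons [] (.pl [] 0 (.cons [] (.lf 2)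
  (.cons [1] (.lf 2)
  (.cons [0] (.lf 2)
  .nil))))
  (.cons [0] (.pl [] 0 (.cons [] (.lf 2)
  (.cons [1] (.lf 2)
  (.cons [0] (.lf 2)
  .nil))))
  .nil)))
  (.cons [0] (.pl [] 0 (.cons [] (.pl [] 0 (.cons [] (.lf 4)
  (.cons [1] (.lf 3)
  (.cons [0] (.lf 0)
  .nil))))
  (.cons [0] (.pl [] 0 (.cons [] (.lf 2)
  (.cons [1] (.lf 2)
  (.cons [0] (.lf 2)
  .nil))))
  .nil)))
  .nil))))
  (.cons [0,3] (.pl [] 0 (.cons [] (.pl [] 0 (.cons [] (.pl [] 0 (.cons [] (.lf 2)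
  (.cons [1] (.lf 2)
  (.cons [0] (.lf 2)
  .nil))))
  (.cons [0] (.pl [] 0 (.cons [] (.lf 2)
  (.cons [1] (.lf 2)
  (.cons [0] (.lf 2)
  .nil))))
  .nil)))
  (.cons [3] (.pl [] 0 (.cons [] (.pl [] 0 (.cons [] (.lf 4)
  (.cons [1] (.lf 0)
  (.cons [0] (.lf 4)
  .nil))))
  (.cons [0] (.pl [] 0 (.cons [] (.lf 2)
  (.cons [1] (.lf 2)
  (.cons [0] (.lf 2)
  .nil))))
  .nil)))
  (.cons [0] (.pl [] 0 (.cons [] (.pl [] 0 (.cons [] (.lf 2)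
  (.cons [1] (.lf 2)
  (.cons [0] (.lf 2)
  .nil))))
  (.cons [0] (.pl [] 0 (.cons [] (.lf 2)
  (.cons [1] (.lf 2)
  (.cons [0] (.lf 2)
  .nil))))
  .nil)))
  .nil))))
  .nil))))
  (.cons [] (.pl [] 0 (.fx [0] (.cons [0,2] (.pl [] 0 (.cons [] (.pl [] 0 (.cons [] (.pl [] 0 (.bulk [([0], 0, 0)] [0x1, 0x201, 0x101] .nil))
  (.cons [0] (.pl [] 0 (.bulk [([0], 0, 0)] [0x1, 0x201, 0x101] .nil))
  .nil)))
  (.cons [3] (.pl [] 0 (.cons [] (.pl [] 0 (.bulk [([0], 0, 0)] [0x1, 0x201, 0x101] .nil))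
  (.cons [0] (.pl [] 0 (.bulk [([0], 0, 0)] [0x1, 0x201, 0x101] .nil))
  .nil)))
  (.cons [0] (.pl [] 0 (.cons [] (.pl [] 0 (.bulk [([0], 0, 0)] [0x1, 0x201, 0x101] .nil))
  (.cons [0] (.pl [] 0 (.bulk [([0], 0, 0)] [0x1, 0x201, 0x101] .nil))
  .nil)))
  .nil))))
  (.cons [0,3] (.pl [] 0 (.cons [] (.pl [] 0 (.cons [] (.pl [] 0 (.bulk [([0], 0, 0)] [0x1, 0x201, 0x101] .nil))
  (.cons [0] (.pl [] 0 (.bulk [([0], 0, 0)] [0x1, 0x201, 0x101] .nil))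
  .nil)))
  (.cons [3] (.pl [] 0 (.cons [] (.pl [] 0 (.bulk [([0], 0, 0)] [0x1, 0x201, 0x101] .nil))
  (.cons [0] (.pl [] 0 (.bulk [([0], 0, 0)] [0x1, 0x201, 0x101] .nil))
  .nil)))
  (.cons [0] (.pl [] 0 (.cons [] (.pl [] 0 (.bulk [([0], 0, 0)] [0x1, 0x201, 0x101] .nil))
  (.cons [0] (.pl [] 0 (.bulk [([0], 0, 0)] [0x1, 0x201, 0x101] .nil))
  .nil)))
  .nil))))
  .nil))))
  (.cons [0] (.pl [] 0 (.fx [0] (.cons [0,8,2] (.pl [] 0 (.cons [] (.pl [] 0 (.cons [] (.pl [] 0 (.cons [] (.lf 2)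
  (.cons [1] (.lf 2)
  (.cons [0] (.lf 2)
  .nil))))
  (.cons [0] (.pl [] 0 (.cons [] (.lf 2)
  (.cons [1] (.lf 2)
  (.cons [0] (.lf 2)
  .nil))))
  .nil)))
  (.cons [3] (.pl [] 0 (.cons [] (.pl [] 0 (.cons [] (.lf 5)
  (.cons [1] (.lf 0)
  (.cons [0] (.lf 4)
  .nil))))
  (.cons [0] (.pl [] 0 (.cons [] (.lf 2)
  (.cons [1] (.lf 2)
  (.cons [0] (.lf 2)
  .nil))))
  .nil)))
  (.cons [0] (.pl [] 0 (.cons [] (.pl [] 0 (.cons [] (.lf 2)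
  (.cons [1] (.lf 2)
  (.cons [0] (.lf 2)
  .nil))))
  (.cons [0] (.pl [] 0 (.cons [] (.lf 2)
  (.cons [1] (.lf 2)
  (.cons [0] (.lf 2)
  .nil))))
  .nil)))
  .nil))))
  (.cons [1] (.pl [] 0 (.cons [] (.pl [] 0 (.cons [] (.pl [] 0 (.cons [] (.lf 2)
  (.cons [1] (.lf 2)
  (.cons [0] (.lf 2)
  .nil))))
  (.cons [0] (.pl [] 0 (.cons [] (.lf 2)
  (.cons [1] (.lf 2)
  (.cons [0] (.lf 2)
  .nil))))
  .nil)))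
  (.cons [3] (.pl [] 0 (.cons [] (.pl [] 0 (.cons [] (.lf 6)
  (.cons [1] (.lf 4)
  (.cons [0] (.lf 4)
  .nil))))
  (.cons [0] (.pl [] 0 (.cons [] (.lf 2)
  (.cons [1] (.lf 2)
  (.cons [0] (.lf 2)
  .nil))))
  .nil)))
  (.cons [0] (.pl [] 0 (.cons [] (.pl [] 0 (.cons [] (.lf 2)
  (.cons [1] (.lf 2)
  (.cons [0] (.lf 2)
  .nil))))
  (.cons [0] (.pl [] 0 (.cons [] (.lf 2)
  (.cons [1] (.lf 2)
  (.cons [0] (.lf 2)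
  .nil))))
  .nil)))
  .nil))))
  .nil))))
  (.cons [8,1] (.pl [] 0 (.fx [0] (.cons [0,8,2] (.pl [] 0 (.cons [] (.pl [] 0 (.cons [] (.pl [] 0 (.cons [] (.lf 2)
  (.cons [1] (.lf 2)
  (.cons [0] (.lf 2)
  .nil))))
  (.cons [0] (.pl [] 0 (.cons [] (.lf 2)
  (.cons [1] (.lf 2)
  (.cons [0] (.lf 2)
  .nil))))
  .nil)))
  (.cons [3] (.pl [] 0 (.cons [] (.pl [] 0 (.cons [] (.lf 4)
  (.cons [1] (.lf 4)
  (.cons [0] (.lf 4)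
  .nil))))
  (.cons [0] (.pl [] 0 (.cons [] (.lf 2)
  (.cons [1] (.lf 2)
  (.cons [0] (.lf 2)
  .nil))))
  .nil)))
  (.cons [0] (.pl [] 0 (.cons [] (.pl [] 0 (.cons [] (.lf 2)
  (.cons [1] (.lf 2)
  (.cons [0] (.lf 2)
  .nil))))
  (.cons [0] (.pl [] 0 (.cons [] (.lf 2)
  (.cons [1] (.lf 2)
  (.cons [0] (.lf 2)
  .nil))))
  .nil)))
  .nil))))
  (.cons [1] (.pl [] 0 (.cons [] (.pl [] 0 (.cons [] (.pl [] 0 (.cons [] (.lf 4)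
  (.cons [1] (.lf 0)
  (.cons [0] (.lf 4)
  .nil))))
  (.cons [0] (.pl [] 0 (.cons [] (.lf 2)
  (.cons [1] (.lf 2)
  (.cons [0] (.lf 2)
  .nil))))
  .nil)))
  (.cons [3] (.pl [] 0 (.cons [] (.pl [] 0 (.cons [] (.lf 2)
  (.cons [1] (.lf 2)
  (.cons [0] (.lf 2)
  .nil))))
  (.cons [0] (.pl [] 0 (.cons [] (.lf 2)
  (.cons [1] (.lf 2)
  (.cons [0] (.lf 2)
  .nil))))
  .nil)))
  (.cons [0] (.pl [] 0 (.cons [] (.pl [] 0 (.cons [] (.lf 2)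
  (.cons [1] (.lf 2)
  (.cons [0] (.lf 2)
  .nil))))
  (.cons [0] (.pl [] 0 (.cons [] (.lf 2)
  (.cons [1] (.lf 2)
  (.cons [0] (.lf 2)
  .nil))))
  .nil)))
  .nil))))
  .nil))))
  (.cons [0,0] (.pl [] 0 (.fx [0] (.cons [6,1] (.pl [] 0 (.cons [] (.pl [] 0 (.cons [] (.pl [] 0 (.bulk [([0], 0, 0)] [0x1, 0x201, 0x101] .nil))
  (.cons [0] (.pl [] 0 (.bulk [([0], 0, 0)] [0x1, 0x201, 0x101] .nil))
  .nil)))
  (.cons [3] (.pl [] 0 (.cons [] (.pl [] 0 (.bulk [([0], 0, 0)] [0x1, 0x201, 0x101] .nil))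
  (.cons [0] (.pl [] 0 (.bulk [([0], 0, 0)] [0x1, 0x201, 0x101] .nil))
  .nil)))
  (.cons [0] (.pl [] 0 (.cons [] (.pl [] 0 (.bulk [([0], 0, 0)] [0x1, 0x201, 0x101] .nil))
  (.cons [0] (.pl [] 0 (.bulk [([0], 0, 0)] [0x1, 0x201, 0x101] .nil))
  .nil)))
  .nil))))
  (.cons [0,7,0] (.pl [] 0 (.cons [] (.pl [] 0 (.cons [] (.pl [] 0 (.bulk [([0], 0, 0)] [0x1, 0x201, 0x101] .nil))
  (.cons [0] (.pl [] 0 (.bulk [([0], 0, 0)] [0x1, 0x201, 0x101] .nil))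
  .nil)))
  (.cons [3] (.pl [] 0 (.cons [] (.pl [] 0 (.bulk [([0], 0, 0)] [0x1, 0x201, 0x101] .nil))
  (.cons [0] (.pl [] 0 (.bulk [([0], 0, 0)] [0x1, 0x201, 0x101] .nil))
  .nil)))
  (.cons [0] (.pl [] 0 (.cons [] (.pl [] 0 (.bulk [([0], 0, 0)] [0x1, 0x201, 0x101] .nil))
  (.cons [0] (.pl [] 0 (.bulk [([0], 0, 0)] [0x1, 0x201, 0x101] .nil))
  .nil)))
  .nil))))
  .nil))))
  .nil))))))))
  .nil))))
theorem hy5 : Dd C [[36]] [[36]] Q (tl d) (lapp [] (subst (gsOf d) [13,2])) (full C.n) :=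
  brY ty5 (step0 0).1 (step0 0).2.1 (by decide +kernel)

end CA.U6U4
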