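import Cfsg.Agent.Lib.Spor.U6U4a

/-! Subgroups `U₄(3)` of `U₆(2)`: certificates. -/

set_option autoImplicit false
set_option Elab.async false
set_option maxRecDepth 100000
set_option linter.all false

namespace CA.U6U4
open Cfsg CA.CNet CA.CWord CA.CLevel CA.H27Pres CA.CSimple CA.CPoint CA.CLow CA.Fi CA.CBack CA.GBack CA.GOut

noncomputable def tx : Tr := (.sy [([4], [0])] [0,0,0,0,0,0] (nat_lit 0x8000000100004011002032800805002002012a140912014371f2ced8ea74defacc3fffcdff) (.cons [] (.frc [0] 0 (.cons [] (.frc [0] 0 (.cons [] (.frc [0] 0 (.cons [] (.frc [0] 0 (.cons [] (.lf 0)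
  .nil))
  .nil))
  .nil))
  .nil))
  (.cons [3,16,2] (.frc [0] 0 (.bulk [([0], 0, 0)] [0x3011401] .nil))
  (.cons [3,5,0] (.frc [0] 0 (.bulk [([0,0], 0, 0)] [0x40b0801] .nil))
  (.cons [14,19,2] (.frc [0] 0 (.bulk [([0], 0, 0)] [0x10a0601] .nil))
  (.cons [3,15,2] (.frc [0] 0 (.bulk [([0], 0, 0)] [0x2030a01] .nil))
  (.cons [4,9,3] (.frc [0] 0 (.cons [0,19,1] (.frc [0] 0 (.cons [6,9,2] (.frc [0] 0 (.cons [3] (.frc [0] 0 (.bulk [([0], 0, 0)] [0x201] .nil))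
  .nil))
  .nil))
  .nil))
  (.cons [7,14,3] (.frc [0] 0 (.bulk [([0], 0, 0)] [0x303030101] .nil))
  (.cons [0,14,5] (.frc [0] 0 (.bulk [([0,0], 0, 0)] [0x2080501] .nil))
  (.cons [5,13,0] (.frc [0] 0 (.bulk [([0,0,0], 0, 0)] [0x40b0801] .nil))
  (.cons [0,18,3] (.frc [0] 0 (.cons [3,6,3] (.frc [0] 0 (.cons [2,2] (.frc [0] 0 (.cons [0,10,3] (.frc [0] 0 (.bulk [([0], 0, 0)] [0x801] .nil))
  .nil))
  .nil))
  .nil))
  (.cons [24,2] (.frc [0] 0 (.bulk [([0,0], 0, 0)] [0x4020e01] .nil))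
  (.cons [0,11,3] (.frc [0] 0 (.bulk [([0], 0, 0)] [0x40c0c01] .nil))
  (.cons [4,7,2] (.frc [0] 0 (.bulk [([0,0], 0, 0)] [0x4080401] .nil))
  (.cons [1,17,0] (.frc [0] 0 (.bulk [([0,0], 0, 0)] [0x409040101] .nil))
  (.cons [14,14,3] (.frc [0] 0 (.bulk [([0], 0, 0)] [0x3020801] .nil))
  (.cons [2,11,0] (.frc [0] 0 (.bulk [([0], 0, 0)] [0x10a0601] .nil))
  (.cons [3,5,5] (.frc [0] 0 (.bulk [([0], 0, 0)] [0x40d0701] .nil))
  (.cons [16,14,2] (.frc [0] 0 (.bulk [([0], 0, 0)] [0x3070c0301] .nil))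
  (.cons [8,4,1] (.frc [0] 0 (.bulk [([0], 0, 0)] [0x2030a0101] .nil))
  (.cons [10,3] (.frc [0] 0 (.cons [9,4,2] (.frc [0] 0 (.bulk [([0], 0, 0)] [0x3090101] .nil))
  .nil))
  (.cons [24,3] (.frc [0] 0 (.bulk [([0], 0, 0)] [0x11301] .nil))
  (.cons [6,9,2] (.frc [0] 0 (.bulk [([0], 0, 0)] [0x204050101] .nil))
  (.cons [7,0,5] (.frc [0] 0 (.bulk [([0], 0, 0)] [0x30c1401] .nil))
  (.cons [5,8,1] (.frc [0] 0 (.bulk [([0], 0, 0)] [0x11301] .nil))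
  (.cons [6,3] (.frc [0] 0 (.bulk [([0], 0, 0)] [0x202070101] .nil))
  (.cons [0,2,1] (.frc [0] 0 (.bulk [([0,0,0], 0, 0)] [0x4010d0101] .nil))
  (.cons [11,19,2] (.frc [0] 0 (.bulk [([0], 0, 0)] [0x4040b01] .nil))
  (.cons [13,3] (.frc [0] 0 (.bulk [([0,0], 0, 0)] [0x2140501] .nil))
  (.cons [9,10,2] (.frc [0] 0 (.bulk [([0], 0, 0)] [0x108060101] .nil))
  (.cons [0,5] (.frc [0] 0 (.cons [0,7,1] (.frc [0] 0 (.bulk [([0], 0, 0)] [0x1040101] .nil))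
  .nil))
  (.cons [7,4,2] (.frc [0] 0 (.bulk [([0], 0, 0)] [0x20501] .nil))
  (.cons [11,2] (.frc [0] 0 (.bulk [([0], 0, 0)] [0x4020a01] .nil))
  (.cons [2,1,3] (.frc [0] 0 (.bulk [([0], 0, 0)] [0x1050101] .nil))
  (.cons [1,4] (.frc [0] 0 (.bulk [([0], 0, 0)] [0x20b0501] .nil))
  (.cons [0,6,6,5] (.frc [0] 0 (.bulk [([0], 0, 0)] [0x204060101] .nil))
  (.cons [12,5,5] (.frc [0] 0 (.bulk [([0], 0, 0)] [0x3030101] .nil))
  (.cons [0,6,18,2] (.frc [0] 0 (.bulk [([0], 0, 0)] [0x4070401] .nil))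
  (.cons [0,2] (.frc [0] 0 (.cons [4,1,1] (.frc [0] 0 (.bulk [([0], 0, 0)] [0x4050101] .nil))
  .nil))
  (.cons [7,1] (.frc [0] 0 (.bulk [([0,0,0], 0, 0)] [0x10c0501] .nil))
  (.bulk [([0], 0, 0), ([0,0], 0, 0), ([0,0,0], 0, 0)] [0x5050301, 0x2030501, 0x4040502, 0x40b0303, 0x4060602, 0x4070a01, 0x20f0403, 0x40a0a02, 0x3070e03, 0x5010103, 0x31a0801, 0x40f0501, 0x3080802, 0x40e0802, 0x41201, 0x3130802, 0x30a03, 0x2110402, 0x1050a01, 0x20d0302, 0x31401, 0x30d0403, 0x314010102, 0x30e0401, 0x30e01, 0x20e0501, 0x3130302, 0x30d02, 0x10b0602, 0x30d070203, 0x10502, 0x40b0201, 0x30c0a01, 0x40803, 0x5020c02, 0x3140701, 0x3070501, 0x30f0d01, 0x31001, 0x30b03, 0x6020702, 0x5020901, 0x3140901, 0x3110501, 0x40903, 0x40c0303, 0x4190301, 0x1060803, 0x6080101, 0x6040101, 0x60401, 0x3130703, 0x3060301, 0x3070203, 0x213090101, 0x20f0502, 0x60301, 0x31a0103, 0x10e0102, 0x60e02] .nil)))))))))))))))))))))))))))))))))))))))))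
theorem hx : Dd C [[34]] [[34]] (· ∈ C.grp [[34]]) c [] (full C.n) :=
  chk_cent hC hf c_ch.2 (by decide +kernel) tx (by decide +kernel)
theorem e1 : lall [(wpow [34] 7, []), ([36, 34], [34, 34, 36]), ([38, 34], [34, 34, 34, 38]), ([38, 36], [36, 38])] (eqP C) = true := by
  decide +kernel
theorem e2 : band (mq C lk [[34]] [0] 0) (mq C lk [[34], [36]] [0, 2, 1, 3] 0) = true := by decide +kernel
theorem e3 : ∀ i < 3, C.eqW [38, 40 + 2 * i, 39] (subst (kg i) (nth nm [] i)) = true := by decide +kernel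
theorem e5 : ∀ i < 3, ∀ j < 3, C.eqW (subst (lmap (subst (kg i)) GW) (nth XW [] j)) (nth (kg i) [] j) = true := by
  decide +kernel
theorem e6 : ∀ j < 3, C.inv (kg j) (nth S 0 j) = true ∧ ∀ i < 3, i ≠ j → nth (nth pts [] j) 0 i < 693 ∧
    (nth S 0 j).testBit (nth (nth pts [] j) 0 i) = true ∧
      (nth S 0 j).testBit (im lk [40 + 2 * i] (nth (nth pts [] j) 0 i)) = false := by decide +kernel
theorem u1 : ∀ r ∈ [wpow [0] 7, [2, 0, 3, 1, 1], [4, 2, 5, 3]] ++ rs, U43T.C.eqW (subst XW r) [] = true := by decide +kernel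
theorem u2 : ∀ i < 6, U43T.C.eqW (subst XW (nth GW [] i)) [2 * i] = true := by decide +kernel
theorem u3 : ∀ w ∈ XW, ∀ a ∈ w, a < 2 * 6 := by decide +kernel


theorem brY {ls : List Lev} {P : List ℕ} {u : Word} {T : ℕ} (t : Tr) (hc : Ch C ls) (hP : Fx C ls P)
    (h : chk C lk [[36]] [[36]] [] lf t ls P u T = true) : Dd C [[36]] [[36]] Q ls u T :=
  chk_spec (zs := []) hC hf (fun z hz => by rw [show z = 1 from (grp_nil C.g).le hz]; intro i; simp)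
    (fun z hz g h => by rwa [show z = 1 from (grp_nil C.g).le hz, one_mul] at h) lf_spec t hc hP h
theorem step0 (T : ℕ) : Ch C (tl d) ∧ Fx C (tl d) [pOf d] ∧ ∀ w : Word,
    Dd C [[36]] [[36]] Q (tl d) (lapp [] (subst (gsOf d) w)) (full C.n) →
    Dd C [[36]] [[36]] Q d [] (del T (im lk (subst (gsOf d) w) (pOf d))) → Dd C [[36]] [[36]] Q d [] T :=
  step hf d_ch.2 (by decide +kernel) fx_nil

end CA.U6U4
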